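import Mathlib

/-!
# Basic facts about finite p-groups

Commutators with central values, central and normal subgroups, maximal subgroups, the Frattini
subgroup and self-centralizing normal abelian subgroups.
-/

set_option autoImplicit false

namespace CfsgLib.PGroup

open Subgroup
open scoped commutatorElement

variable {G : Type*} [Group G] {p : ℕ}

/-! ### Commutators with central values -/

theorem comm_mul_left {a b c : G} (h : ⁅b, c⁆ ∈ center G) : ⁅a * b, c⁆ = ⁅a, c⁆ * ⁅b, c⁆ := by
  rw [commutatorElement_mul_left_eq_conj_mul, mem_center_iff.1 h a, mul_assoc ⁅b, c⁆,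
    mul_inv_cancel, mul_one, ← mem_center_iff.1 h]

theorem comm_mul_right {a b c : G} (h : ⁅a, c⁆ ∈ center G) : ⁅a, b * c⁆ = ⁅a, b⁆ * ⁅a, c⁆ := by
  rw [commutatorElement_mul_right_eq_mul_conj, mul_assoc ⁅a, b⁆ b, mem_center_iff.1 h b,
    ← mul_assoc, mul_assoc, mul_inv_cancel, mul_one]

theorem comm_pow_left {a b : G} (h : ⁅a, b⁆ ∈ center G) (n : ℕ) : ⁅a ^ n, b⁆ = ⁅a, b⁆ ^ n := by
  induction n with
  | zero => simp
  | succ n ih => rw [pow_succ, comm_mul_left h, ih, pow_succ]

theorem comm_pow_right {a b : G} (h : ⁅a, b⁆ ∈ center G) (n : ℕ) : ⁅a, b ^ n⁆ = ⁅a, b⁆ ^ n := by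
  induction n with
  | zero => simp
  | succ n ih => rw [pow_succ, comm_mul_right h, ih, pow_succ]

theorem mul_pow_of_comm_mem_center {a b : G} (h : ⁅b, a⁆ ∈ center G) (n : ℕ) :
    (a * b) ^ n = a ^ n * b ^ n * ⁅b, a⁆ ^ n.choose 2 := by
  induction n with
  | zero => simp
  | succ n ih =>
    have hc : ∀ k, ⁅b, a⁆ ^ k ∈ center G := fun k => pow_mem h k
    have hba : b ^ n * a = ⁅b, a⁆ ^ n * a * b ^ n := by
      rw [← comm_pow_left h, commutatorElement_def]; group
    have h2 : (n + 1).choose 2 = n + n.choose 2 := by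
      rw [Nat.choose_succ_succ, Nat.choose_one_right]
    calc (a * b) ^ (n + 1)
        = a ^ n * b ^ n * ⁅b, a⁆ ^ n.choose 2 * (a * b) := by rw [pow_succ, ih]
      _ = a ^ n * (b ^ n * a) * b * ⁅b, a⁆ ^ n.choose 2 := by
          rw [mul_assoc _ (⁅b, a⁆ ^ n.choose 2), ← mem_center_iff.1 (hc (n.choose 2)) (a * b)]
          group
      _ = a ^ n * (a * ⁅b, a⁆ ^ n * b ^ n) * b * ⁅b, a⁆ ^ n.choose 2 := by
          rw [hba, ← mem_center_iff.1 (hc n) a]
      _ = a ^ (n + 1) * ((⁅b, a⁆ ^ n * b ^ (n + 1))) * ⁅b, a⁆ ^ n.choose 2 := by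
          rw [pow_succ, pow_succ]; group
      _ = a ^ (n + 1) * b ^ (n + 1) * ⁅b, a⁆ ^ (n + 1).choose 2 := by
          rw [← mem_center_iff.1 (hc n) (b ^ (n + 1)), h2, pow_add]; group

/-! ### Central and normal subgroups -/

section
variable [Finite G] [hp : Fact p.Prime]

theorem card_eq_pow (hG : IsPGroup p G) : ∃ n, Nat.card G = p ^ n := IsPGroup.iff_card.1 hG

theorem dvd_card_of_ne_bot (hG : IsPGroup p G) {H : Subgroup G} (hH : H ≠ ⊥) :
    p ∣ Nat.card H :=
  (hG.to_subgroup H).card_eq_or_dvd.resolve_left (mt (eq_bot_of_card_eq H) hH)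

theorem exists_orderOf_eq (hG : IsPGroup p G) {H : Subgroup G} (hH : H ≠ ⊥) :
    ∃ x ∈ H, orderOf x = p := by
  obtain ⟨x, hx⟩ := exists_prime_orderOf_dvd_card' p (dvd_card_of_ne_bot hG hH)
  exact ⟨x, x.2, (Subgroup.orderOf_coe x).trans hx⟩

theorem inf_center_ne_bot (hG : IsPGroup p G) (N : Subgroup G) [N.Normal] (hN : N ≠ ⊥) :
    N ⊓ center G ≠ ⊥ := by
  intro hbot
  have := (hG.of_equiv ConjAct.toConjAct).exists_fixed_point_of_prime_dvd_card_of_fixed_point
    N (dvd_card_of_ne_bot hG hN) (a := (1 : N)) (by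
      intro g; apply Subtype.ext; simp [ConjAct.Subgroup.val_conj_smul])
  obtain ⟨b, hb, hne⟩ := this
  have hbc : (b : G) ∈ center G := by
    refine mem_center_iff.2 fun g => ?_
    have h := congrArg Subtype.val (hb (ConjAct.toConjAct g))
    simp only [ConjAct.Subgroup.val_conj_smul, ConjAct.smul_def, ConjAct.ofConjAct_toConjAct] at h
    exact mul_inv_eq_iff_eq_mul.1 h
  have : (b : G) = 1 := by
    rw [← mem_bot, ← hbot]; exact ⟨b.2, hbc⟩
  exact hne (Subtype.ext this.symm)

theorem le_center_of_card_eq (hG : IsPGroup p G) (N : Subgroup G) [N.Normal]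
    (hN : Nat.card N = p) : N ≤ center G := by
  have hne : N ≠ ⊥ := fun h => hp.out.ne_one (hN ▸ card_eq_one.2 h)
  have h1 : Nat.card ↥(N ⊓ center G) ∣ p := hN ▸ card_dvd_of_le inf_le_left
  rcases (Nat.dvd_prime hp.out).1 h1 with h | h
  · exact absurd (eq_bot_of_card_eq _ h) (inf_center_ne_bot hG N hne)
  · exact inf_eq_left.1 (eq_of_le_of_card_ge inf_le_left (by omega))

theorem exists_card_eq_le_center (hG : IsPGroup p G) (N : Subgroup G) [N.Normal] (hN : N ≠ ⊥) :
    ∃ Z : Subgroup G, Z ≤ N ∧ Z ≤ center G ∧ Z.Normal ∧ Nat.card Z = p := by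
  obtain ⟨x, hx, hox⟩ := exists_orderOf_eq hG (inf_center_ne_bot hG N hN)
  refine ⟨zpowers x, zpowers_le.2 hx.1, zpowers_le.2 hx.2, ⟨fun z hz g => ?_⟩, by
    rw [Nat.card_zpowers, hox]⟩
  rwa [mem_center_iff.1 (zpowers_le.2 hx.2 hz) g, mul_inv_cancel_right]

/-! ### Maximal subgroups and the Frattini subgroup -/

theorem normal_of_isCoatom (hG : IsPGroup p G) {M : Subgroup G} (hM : IsCoatom M) : M.Normal :=
  have := hG.isNilpotent
  NormalizerCondition.normal_of_coatom M normalizerCondition_of_isNilpotent hM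

theorem index_of_isCoatom (hG : IsPGroup p G) {M : Subgroup G} (hM : IsCoatom M) :
    M.index = p := by
  have := normal_of_isCoatom hG hM
  have hp' : IsPGroup p (G ⧸ M) := hG.to_quotient M
  obtain ⟨n, hn⟩ := card_eq_pow hp'
  have hne : M.index ≠ 1 := fun h => hM.1 (index_eq_one.1 h)
  have hpos : 1 ≤ n := by
    rcases n with _ | n
    · simp [index_eq_card, hn] at hne
    · omega
  obtain ⟨K, hK⟩ := Sylow.exists_subgroup_card_pow_prime (G := G ⧸ M) p (n := n - 1)
    (hn ▸ pow_dvd_pow p (Nat.sub_le n 1))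
  have hle : M ≤ K.comap (QuotientGroup.mk' M) :=
    le_of_eq_of_le (QuotientGroup.ker_mk' M).symm (ker_le_comap _ _)
  have hidx : (K.comap (QuotientGroup.mk' M)).index = p := by
    rw [index_comap_of_surjective _ (QuotientGroup.mk'_surjective M)]
    have := K.card_mul_index
    rw [hn, hK, ← Nat.sub_add_cancel hpos, Nat.add_sub_cancel, pow_succ] at this
    exact Nat.eq_of_mul_eq_mul_left (pow_pos hp.out.pos _) this
  rcases hle.eq_or_lt with h | h
  · exact h ▸ hidx
  · exact absurd (hM.2 _ h) fun h' => hp.out.ne_one (by rw [← hidx, h', index_top])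

theorem pow_mem_of_isCoatom (hG : IsPGroup p G) {M : Subgroup G} (hM : IsCoatom M) (g : G) :
    g ^ p ∈ M := by
  have := normal_of_isCoatom hG hM
  rw [← index_of_isCoatom hG hM, index_eq_card, ← QuotientGroup.eq_one_iff, QuotientGroup.mk_pow,
    pow_card_eq_one']

theorem commutator_le_of_isCoatom (hG : IsPGroup p G) {M : Subgroup G} (hM : IsCoatom M) :
    _root_.commutator G ≤ M := by
  have := normal_of_isCoatom hG hM
  have hc : IsCyclic (G ⧸ M) := isCyclic_of_prime_card (p := p)
    (by rw [← index_eq_card, index_of_isCoatom hG hM])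
  rw [← QuotientGroup.ker_mk' M, ← (Subgroup.map_eq_bot_iff _), _root_.commutator_def,
    map_commutator, map_top_of_surjective _ (QuotientGroup.mk'_surjective M)]
  exact commutator_eq_bot_iff_le_centralizer.2 fun a _ => mem_centralizer_iff.2 fun b _ => by
    obtain ⟨g, hg⟩ := hc.exists_generator
    obtain ⟨i, rfl⟩ := hg a
    obtain ⟨j, rfl⟩ := hg b
    exact (Commute.zpow_zpow (Commute.refl g) j i).eq

theorem commutator_le_frattini (hG : IsPGroup p G) : _root_.commutator G ≤ frattini G :=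
  le_iInf₂ fun _ hM => commutator_le_of_isCoatom hG hM

theorem pow_mem_frattini (hG : IsPGroup p G) (g : G) : g ^ p ∈ frattini G := by
  rw [frattini, Order.radical]
  simp only [Subgroup.mem_iInf]
  exact fun M hM => pow_mem_of_isCoatom hG hM g

theorem eq_top_of_sup_frattini {H : Subgroup G} (h : H ⊔ frattini G = ⊤) : H = ⊤ :=
  frattini_nongenerating h

theorem frattini_ne_top (hG : IsPGroup p G) [Nontrivial G] : frattini G ≠ ⊤ := fun h =>
  bot_ne_top (α := Subgroup G) (eq_top_of_sup_frattini (by rw [h, sup_top_eq]))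

/-- The Frattini quotient has exponent `p`. -/
theorem quotient_frattini_pow (hG : IsPGroup p G) (x : G ⧸ frattini G) : x ^ p = 1 := by
  induction x using QuotientGroup.induction_on with
  | _ g => rw [← QuotientGroup.mk_pow, QuotientGroup.eq_one_iff]; exact pow_mem_frattini hG g

/-- The Frattini quotient is abelian. -/
theorem quotient_frattini_comm (hG : IsPGroup p G) (x y : G ⧸ frattini G) : x * y = y * x := by
  induction x using QuotientGroup.induction_on with
  | _ a =>
    induction y using QuotientGroup.induction_on with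
    | _ b =>
      rw [← commutatorElement_eq_one_iff_mul_comm]
      show ⁅QuotientGroup.mk' (frattini G) a, QuotientGroup.mk' (frattini G) b⁆ = 1
      rw [← map_commutatorElement]
      exact (QuotientGroup.eq_one_iff _).2
        (commutator_le_frattini hG (commutator_mem_commutator (mem_top a) (mem_top b)))

theorem isCyclic_of_frattini_quotient (h : IsCyclic (G ⧸ frattini G)) : IsCyclic G := by
  obtain ⟨x, hx⟩ := h.exists_generator
  obtain ⟨g, rfl⟩ := QuotientGroup.mk_surjective x
  refine ⟨⟨g, fun y => ?_⟩⟩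
  have h : zpowers g ⊔ frattini G = ⊤ := by
    rw [← QuotientGroup.ker_mk' (frattini G), ← comap_map_eq, eq_top_iff]
    intro y _
    rw [mem_comap, MonoidHom.map_zpowers]
    exact hx _
  have hy : y ∈ zpowers g := by rw [eq_top_of_sup_frattini h]; exact mem_top y
  exact hy

end

/-! ### Self-centralizing normal abelian subgroups -/

/-- A finite `p`-group has, above any abelian normal subgroup, an abelian normal subgroup equal
to its own centralizer. -/
theorem exists_normal_abelian_centralizer_eq [Finite G] [hp : Fact p.Prime] (hG : IsPGroup p G)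
    (U : Subgroup G) (hUn : U.Normal) (hU : ∀ a ∈ U, ∀ b ∈ U, a * b = b * a) :
    ∃ A : Subgroup G, U ≤ A ∧ A.Normal ∧ IsMulCommutative A ∧ centralizer (A : Set G) = A := by
  obtain ⟨A, hUA, ⟨hAn, hA⟩, hmax⟩ := Finite.exists_le_maximal
    (p := fun A : Subgroup G => A.Normal ∧ ∀ a ∈ A, ∀ b ∈ A, a * b = b * a) (a := U) ⟨hUn, hU⟩
  refine ⟨A, hUA, hAn, ⟨⟨fun a b => Subtype.ext (hA a a.2 b b.2)⟩⟩, ?_⟩
  have hAC : A ≤ centralizer (A : Set G) := fun a ha => mem_centralizer_iff.2 fun b hb => hA b hb a ha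
  by_contra hne
  have hlt := lt_of_le_of_ne hAC (Ne.symm hne)
  haveI := hAn
  have hCn : (centralizer (A : Set G)).Normal := inferInstance
  have hbar : (centralizer (A : Set G)).map (QuotientGroup.mk' A) ≠ ⊥ := fun h => by
    rw [Subgroup.map_eq_bot_iff, QuotientGroup.ker_mk'] at h
    exact hlt.not_ge h
  haveI : ((centralizer (A : Set G)).map (QuotientGroup.mk' A)).Normal :=
    hCn.map _ (QuotientGroup.mk'_surjective A)
  obtain ⟨Z, hZC, hZc, hZn, hZcard⟩ :=
    exists_card_eq_le_center (p := p) (hG.to_quotient A) _ hbar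
  have hBC : Z.comap (QuotientGroup.mk' A) ≤ centralizer (A : Set G) := fun b hb => by
    obtain ⟨c, hc, hcb⟩ := hZC hb
    have hca : c⁻¹ * b ∈ A := (QuotientGroup.eq (s := A)).1 hcb
    simpa using mul_mem hc (hAC hca)
  have hcyc : IsCyclic Z := isCyclic_of_prime_card (p := p) hZcard
  obtain ⟨z, hz⟩ := hcyc.exists_generator
  obtain ⟨x, hx⟩ := QuotientGroup.mk'_surjective A (z : G ⧸ A)
  have hxC : x ∈ centralizer (A : Set G) :=
    hBC (show QuotientGroup.mk' A x ∈ Z by rw [hx]; exact z.2)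
  have hdec : ∀ b ∈ Z.comap (QuotientGroup.mk' A), ∃ i : ℤ, ∃ a ∈ A, b = x ^ i * a := by
    intro b hb
    obtain ⟨i, hi⟩ := hz ⟨_, hb⟩
    refine ⟨i, (x ^ i)⁻¹ * b, ?_, by group⟩
    refine (QuotientGroup.eq (s := A)).1 ?_
    show QuotientGroup.mk' A (x ^ i) = QuotientGroup.mk' A b
    rw [map_zpow, hx]
    simpa using congrArg Subtype.val hi
  have hBab : ∀ a ∈ Z.comap (QuotientGroup.mk' A), ∀ b ∈ Z.comap (QuotientGroup.mk' A),
      a * b = b * a := by
    intro a ha b hb
    obtain ⟨i, a', ha', rfl⟩ := hdec a ha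
    obtain ⟨j, b', hb', rfl⟩ := hdec b hb
    have c1 : Commute (x ^ i) b' := (mem_centralizer_iff.1 (zpow_mem hxC i) b' hb').symm
    have c2 : Commute (x ^ j) a' := (mem_centralizer_iff.1 (zpow_mem hxC j) a' ha').symm
    exact (((Commute.zpow_zpow (Commute.refl x) i j).mul_right c1).mul_left
      (c2.symm.mul_right (hA a' ha' b' hb'))).eq
  haveI := hZn
  have hle : Z.comap (QuotientGroup.mk' A) ≤ A :=
    hmax ⟨inferInstance, hBab⟩ (le_of_eq_of_le (QuotientGroup.ker_mk' A).symm (ker_le_comap _ _))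
  have hZbot : Z = ⊥ := by
    rw [← map_comap_eq_self_of_surjective (QuotientGroup.mk'_surjective A) Z, Subgroup.map_eq_bot_iff,
      QuotientGroup.ker_mk']
    exact hle
  exact hp.out.ne_one (by rw [← hZcard, hZbot, card_bot])

end CfsgLib.PGroup
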