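import Mathlib
import Cfsg.Prelude.Def_Transfer
import Cfsg.Prelude.Def_PLocal
import Cfsg.Prelude.Def_CaseTheorems
import Cfsg.Agent.Lib.PGroup.Basic

/-!
# Elementary abelian subgroups, omega and agemo subgroups, p-rank
-/

set_option autoImplicit false

namespace CfsgLib.PGroup

open Subgroup Cfsg
open scoped commutatorElement

variable {G H : Type*} [Group G] [Group H] {p : ℕ}

theorem isElementaryAbelian_mk {A : Subgroup G} (hc : ∀ a ∈ A, ∀ b ∈ A, a * b = b * a)
    (hp : ∀ a ∈ A, a ^ p = 1) : IsElementaryAbelian p A :=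
  ⟨⟨⟨fun a b => Subtype.ext (hc a a.2 b b.2)⟩⟩, hp⟩

theorem elemAb_comm {A : Subgroup G} (hA : IsElementaryAbelian p A) {a b : G} (ha : a ∈ A)
    (hb : b ∈ A) : a * b = b * a :=
  congrArg Subtype.val (hA.1.is_comm.comm (⟨a, ha⟩ : A) ⟨b, hb⟩)

theorem elemAb_mono {A B : Subgroup G} (hB : IsElementaryAbelian p B) (h : A ≤ B) :
    IsElementaryAbelian p A :=
  isElementaryAbelian_mk (fun _ ha _ hb => elemAb_comm hB (h ha) (h hb))
    (fun a ha => hB.2 a (h ha))

theorem elemAb_bot (p : ℕ) : IsElementaryAbelian p (⊥ : Subgroup G) :=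
  isElementaryAbelian_mk (fun a ha b hb => by rw [mem_bot.1 ha, mem_bot.1 hb])
    (fun a ha => by rw [mem_bot.1 ha, one_pow])

theorem elemAb_map {A : Subgroup G} (hA : IsElementaryAbelian p A) (f : G →* H) :
    IsElementaryAbelian p (A.map f) :=
  isElementaryAbelian_mk
    (fun _ ⟨a, ha, ha'⟩ _ ⟨b, hb, hb'⟩ => by
      rw [← ha', ← hb', ← map_mul, elemAb_comm hA ha hb, map_mul])
    (fun _ ⟨a, ha, ha'⟩ => by rw [← ha', ← map_pow, hA.2 a ha, map_one])

theorem elemAb_comap {A : Subgroup H} (hA : IsElementaryAbelian p A) (f : G →* H)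
    (hf : Function.Injective f) : IsElementaryAbelian p (A.comap f) :=
  isElementaryAbelian_mk
    (fun a ha b hb => hf (by rw [map_mul, map_mul, elemAb_comm hA ha hb]))
    (fun a ha => hf (by rw [map_pow, hA.2 _ ha, map_one]))

theorem elemAb_subgroupOf {A K : Subgroup G} (hA : IsElementaryAbelian p A) :
    IsElementaryAbelian p (A.subgroupOf K) :=
  elemAb_comap hA K.subtype K.subtype_injective

theorem elemAb_isPGroup {A : Subgroup G} (hA : IsElementaryAbelian p A) : IsPGroup p A :=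
  fun a => ⟨1, Subtype.ext (by simpa using hA.2 a a.2)⟩

theorem elemAb_card [Finite G] [Fact p.Prime] {A : Subgroup G} (hA : IsElementaryAbelian p A) :
    ∃ n, Nat.card A = p ^ n :=
  IsPGroup.iff_card.1 (elemAb_isPGroup hA)

theorem elemAb_orderOf [Fact p.Prime] {A : Subgroup G} (hA : IsElementaryAbelian p A) {a : G}
    (ha : a ∈ A) (h1 : a ≠ 1) : orderOf a = p :=
  orderOf_eq_prime (hA.2 a ha) h1

theorem elemAb_zpowers {x : G} (hx : x ^ p = 1) : IsElementaryAbelian p (zpowers x) := by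
  refine isElementaryAbelian_mk ?_ ?_
  · rintro _ ⟨i, rfl⟩ _ ⟨j, rfl⟩
    exact (Commute.zpow_zpow (Commute.refl x) i j).eq
  · rintro _ ⟨i, rfl⟩
    show (x ^ i) ^ p = 1
    rw [← zpow_natCast, ← zpow_mul, mul_comm, zpow_mul, zpow_natCast, hx, one_zpow]

theorem elemAb_of_card_eq [hp : Fact p.Prime] {A : Subgroup G} (h : Nat.card A = p) :
    IsElementaryAbelian p A := by
  have hc : IsCyclic A := isCyclic_of_prime_card (p := p) h
  refine isElementaryAbelian_mk (fun a ha b hb => ?_) (fun a ha => ?_)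
  · obtain ⟨g, hg⟩ := hc.exists_generator
    obtain ⟨i, hi⟩ := hg ⟨a, ha⟩
    obtain ⟨j, hj⟩ := hg ⟨b, hb⟩
    have := (Commute.zpow_zpow (Commute.refl g) i j).eq
    simp only [hi, hj] at this
    exact congrArg Subtype.val this
  · have := pow_card_eq_one' (x := (⟨a, ha⟩ : A))
    rw [h] at this
    exact congrArg Subtype.val this

/-- Two elementary abelian subgroups that centralize each other generate one. -/
theorem elemAb_sup {A B : Subgroup G} (hA : IsElementaryAbelian p A)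
    (hB : IsElementaryAbelian p B) (hc : ∀ a ∈ A, ∀ b ∈ B, a * b = b * a) :
    IsElementaryAbelian p (A ⊔ B) := by
  have hBN : B ≤ normalizer (A : Set G) := le_trans
    (fun b hb => mem_centralizer_iff.2 fun a ha => hc a ha b hb) (centralizer_le_normalizer _)
  have hdec : ∀ x ∈ A ⊔ B, ∃ a ∈ A, ∃ b ∈ B, a * b = x := fun x hx => by
    rwa [← SetLike.mem_coe, coe_mul_of_right_le_normalizer_left _ _ hBN, Set.mem_mul] at hx
  refine isElementaryAbelian_mk (fun x hx y hy => ?_) (fun x hx => ?_)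
  · obtain ⟨a, ha, b, hb, rfl⟩ := hdec x hx
    obtain ⟨a', ha', b', hb', rfl⟩ := hdec y hy
    have c1 : Commute a a' := elemAb_comm hA ha ha'
    have c2 : Commute a b' := hc a ha b' hb'
    have c3 : Commute b a' := (hc a' ha' b hb).symm
    have c4 : Commute b b' := elemAb_comm hB hb hb'
    exact ((c1.mul_right c2).mul_left (c3.mul_right c4)).eq
  · obtain ⟨a, ha, b, hb, rfl⟩ := hdec x hx
    rw [Commute.mul_pow (hc a ha b hb), hA.2 a ha, hB.2 b hb, one_mul]

/-! ### Omega and agemo subgroups -/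

theorem mem_omegaOne {K : Subgroup G} {x : G} (hx : x ∈ K) (hxp : x ^ p = 1) :
    x ∈ omegaOne p K :=
  subset_closure ⟨hx, hxp⟩

theorem omegaOne_le (p : ℕ) (K : Subgroup G) : omegaOne p K ≤ K :=
  (closure_le _).2 fun _ h => h.1

theorem omegaOne_mono {K L : Subgroup G} (h : K ≤ L) : omegaOne p K ≤ omegaOne p L :=
  closure_mono fun _ hx => ⟨h hx.1, hx.2⟩

/-- In an abelian subgroup the omega subgroup is the set of elements killed by `p`. -/
theorem mem_omegaOne_iff_of_comm {K : Subgroup G} (hc : ∀ a ∈ K, ∀ b ∈ K, a * b = b * a)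
    {x : G} : x ∈ omegaOne p K ↔ x ∈ K ∧ x ^ p = 1 := by
  refine ⟨fun hx => ⟨omegaOne_le p K hx, ?_⟩, fun hx => mem_omegaOne hx.1 hx.2⟩
  have : omegaOne p K ≤
      ({ carrier := {y | y ∈ K ∧ y ^ p = 1}
         one_mem' := ⟨K.one_mem, one_pow _⟩
         mul_mem' := fun {a b} ha hb => ⟨K.mul_mem ha.1 hb.1, by
           rw [Commute.mul_pow (hc a ha.1 b hb.1), ha.2, hb.2, one_mul]⟩
         inv_mem' := fun {a} ha => ⟨K.inv_mem ha.1, by rw [inv_pow, ha.2, inv_one]⟩ } :
        Subgroup G) :=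
    (closure_le _).2 fun y hy => hy
  exact (this hx).2

theorem elemAb_omegaOne_of_comm {K : Subgroup G} (hc : ∀ a ∈ K, ∀ b ∈ K, a * b = b * a) :
    IsElementaryAbelian p (omegaOne p K) :=
  isElementaryAbelian_mk (fun a ha b hb => hc a (omegaOne_le p K ha) b (omegaOne_le p K hb))
    (fun _ ha => ((mem_omegaOne_iff_of_comm hc).1 ha).2)

theorem map_omegaOne_le (p : ℕ) (f : G →* H) (K : Subgroup G) :
    (omegaOne p K).map f ≤ omegaOne p (K.map f) := by
  rw [omegaOne, MonoidHom.map_closure]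
  refine closure_mono ?_
  rintro _ ⟨x, hx, rfl⟩
  exact ⟨mem_map_of_mem f hx.1, by rw [← map_pow, hx.2, map_one]⟩

theorem omegaOne_characteristic (p : ℕ) (K : Subgroup G) [hK : K.Characteristic] :
    (omegaOne p K).Characteristic :=
  characteristic_iff_map_le.2 fun φ =>
    (map_omegaOne_le p φ.toMonoidHom K).trans_eq
      (by rw [characteristic_iff_map_eq.1 hK φ])

theorem omegaOne_normal (p : ℕ) (K : Subgroup G) [hK : K.Normal] : (omegaOne p K).Normal :=
  ⟨fun x hx g => by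
    have h := map_omegaOne_le p (MulAut.conj g).toMonoidHom K ⟨x, hx, rfl⟩
    have hle : K.map (MulAut.conj g).toMonoidHom ≤ K := by
      rintro _ ⟨k, hk, rfl⟩
      exact hK.conj_mem k hk g
    exact omegaOne_mono hle h⟩

theorem omegaOne_ne_bot [Finite G] [Fact p.Prime] (hG : IsPGroup p G) {K : Subgroup G}
    (hK : K ≠ ⊥) : omegaOne p K ≠ ⊥ := by
  obtain ⟨x, hx, hox⟩ := exists_orderOf_eq hG hK
  intro h
  have := mem_omegaOne (p := p) hx (by rw [← hox, pow_orderOf_eq_one])
  rw [h, mem_bot] at this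
  rw [this, orderOf_one] at hox
  exact (Fact.out : p.Prime).ne_one hox.symm

theorem pow_mem_powerClosure {K : Subgroup G} {x : G} (hx : x ∈ K) (n : ℕ) :
    x ^ p ^ n ∈ powerClosure p n K :=
  subset_closure ⟨x, hx, rfl⟩

theorem powerClosure_le (p n : ℕ) (K : Subgroup G) : powerClosure p n K ≤ K :=
  (closure_le _).2 fun _ ⟨_, hx, h⟩ => h ▸ K.pow_mem hx _

theorem powerClosure_mono {K L : Subgroup G} (n : ℕ) (h : K ≤ L) :
    powerClosure p n K ≤ powerClosure p n L :=
  closure_mono fun _ ⟨x, hx, hy⟩ => ⟨x, h hx, hy⟩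

theorem map_powerClosure (p n : ℕ) (f : G →* H) (K : Subgroup G) :
    (powerClosure p n K).map f = powerClosure p n (K.map f) := by
  rw [powerClosure, powerClosure, MonoidHom.map_closure]
  congr 1
  ext y
  constructor
  · rintro ⟨_, ⟨x, hx, rfl⟩, rfl⟩
    exact ⟨f x, mem_map_of_mem f hx, map_pow f x _⟩
  · rintro ⟨_, ⟨x, hx, rfl⟩, rfl⟩
    exact ⟨x ^ p ^ n, ⟨x, hx, rfl⟩, map_pow f x _⟩

/-! ### p-rank -/

theorem pRankLE_iff {k : ℕ} : PRankLE p k G ↔
    ∀ A : Subgroup G, IsElementaryAbelian p A → Nat.card A ≤ p ^ k :=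
  ⟨fun h A hA => h A hA.1 hA.2, fun h A hc hp => h A ⟨hc, hp⟩⟩

theorem pRankLE_of_injective {k : ℕ} (hH : PRankLE p k H) (f : G →* H)
    (hf : Function.Injective f) : PRankLE p k G :=
  pRankLE_iff.2 fun A hA => by
    rw [← card_map_of_injective hf]
    exact pRankLE_iff.1 hH _ (elemAb_map hA f)

theorem pRankLE_subgroup {k : ℕ} (hG : PRankLE p k G) (K : Subgroup G) : PRankLE p k K :=
  pRankLE_of_injective hG K.subtype K.subtype_injective

theorem pRankLE_subgroup_iff {k : ℕ} (K : Subgroup G) : PRankLE p k K ↔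
    ∀ A : Subgroup G, A ≤ K → IsElementaryAbelian p A → Nat.card A ≤ p ^ k := by
  refine ⟨fun h A hAK hA => ?_, fun h => pRankLE_iff.2 fun A hA => ?_⟩
  · rw [← Nat.card_congr (subgroupOfEquivOfLe hAK).toEquiv]
    exact pRankLE_iff.1 h _ (elemAb_subgroupOf hA)
  · rw [← card_map_of_injective K.subtype_injective]
    exact h _ (map_subtype_le A) (elemAb_map hA _)

theorem pRankLE_mono {k l : ℕ} (hkl : k ≤ l) (hp : 0 < p) (h : PRankLE p k G) : PRankLE p l G :=
  fun A hc he => (h A hc he).trans (Nat.pow_le_pow_right hp hkl)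

end CfsgLib.PGroup
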