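import Mathlib

/-!
# The size of a conjugacy class is the index of the centralizer
-/

set_option autoImplicit false

namespace CfsgLib.PGroup

open Subgroup

variable {G : Type*} [Group G]

/-- `|x^G| = |G : C_G(x)|`. -/
theorem ncard_conjugates_eq_index (x : G) :
    (Set.range fun g : G => g * x * g⁻¹).ncard = (centralizer ({x} : Set G)).index := by
  rw [← Nat.card_coe_set_eq, Subgroup.index]
  refine (Nat.card_congr (Equiv.ofBijective
    (Quotient.lift (fun g : G => (⟨g * x * g⁻¹, g, rfl⟩ : Set.range fun g : G => g * x * g⁻¹)) ?_)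
    ⟨?_, ?_⟩)).symm
  · intro a b h
    have h' : a⁻¹ * b ∈ centralizer ({x} : Set G) := QuotientGroup.leftRel_apply.1 h
    have h2 := mem_centralizer_singleton_iff.1 h'
    refine Subtype.ext ?_
    calc a * x * a⁻¹ = a * (x * (a⁻¹ * b)) * b⁻¹ := by group
      _ = b * x * b⁻¹ := by rw [← h2]; group
  · intro u v
    induction u using Quotient.inductionOn
    induction v using Quotient.inductionOn
    rename_i a b
    intro h
    refine Quotient.sound (QuotientGroup.leftRel_apply.2 (mem_centralizer_singleton_iff.2 ?_))
    have h' : a * x * a⁻¹ = b * x * b⁻¹ := congrArg Subtype.val h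
    calc a⁻¹ * b * x = a⁻¹ * (b * x * b⁻¹) * b := by group
      _ = x * (a⁻¹ * b) := by rw [← h']; group
  · rintro ⟨_, g, rfl⟩
    exact ⟨Quotient.mk'' g, rfl⟩

/-- The stabilizer form: `g x g⁻¹` depends only on the coset of the centralizer. -/
theorem index_centralizer_eq_one_iff (x : G) :
    (centralizer ({x} : Set G)).index = 1 ↔ x ∈ center G := by
  rw [index_eq_one, eq_top_iff, mem_center_iff]
  exact ⟨fun h g => mem_centralizer_singleton_iff.1 (h (mem_top g)),
    fun h g _ => mem_centralizer_singleton_iff.2 (h g)⟩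

end CfsgLib.PGroup
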