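import Cfsg.Agent.Lib.Solvable.Hall
import Cfsg.Agent.Lib.Solvable.CoprimeAction
import Cfsg.Agent.Lib.Solvable.Product
import Cfsg.Prelude

/-!
Hall `π`-subgroups of a solvable subgroup `G` that are invariant under a group `A` of coprime
order normalising `G`: existence, conjugacy under `C_G(A)`, and dominance.
-/

set_option autoImplicit false

open scoped Pointwise commutatorElement

namespace CfsgLib.PGroup

open CfsgLib.Solvable (conj_smul_mono conj_smul_conj_smul card_conj_smul conj_smul_le_iff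
  mem_conj_smul_iff conj_smul_self_of_mem_normalizer mem_normalizer_iff_conj_smul)

variable {π : Set ℕ}

/-- All prime divisors of `n` lie in `π`. -/
def IsPiNum (π : Set ℕ) (n : ℕ) : Prop := ∀ p : ℕ, p.Prime → p ∣ n → p ∈ π

/-- No prime of `π` divides `n`. -/
def IsPiPrimeNum (π : Set ℕ) (n : ℕ) : Prop := ∀ p : ℕ, p.Prime → p ∈ π → ¬ p ∣ n

theorem IsPiNum.of_dvd {m n : ℕ} (h : IsPiNum π n) (hd : m ∣ n) : IsPiNum π m :=
  fun p hp hpm => h p hp (hpm.trans hd)

theorem IsPiPrimeNum.of_dvd {m n : ℕ} (h : IsPiPrimeNum π n) (hd : m ∣ n) : IsPiPrimeNum π m :=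
  fun p hp hpπ hpm => h p hp hpπ (hpm.trans hd)

theorem IsPiPrimeNum.mul {m n : ℕ} (hm : IsPiPrimeNum π m) (hn : IsPiPrimeNum π n) :
    IsPiPrimeNum π (m * n) :=
  fun p hp hpπ h => (hp.dvd_mul.1 h).elim (hm p hp hpπ) (hn p hp hpπ)

theorem IsPiNum.coprime {m n : ℕ} (hm : IsPiNum π m) (hn : IsPiPrimeNum π n) : m.Coprime n :=
  Nat.coprime_of_dvd fun p hp h1 h2 => hn p hp (hm p hp h1) h2

theorem IsPiNum.eq_one {n : ℕ} (hm : IsPiNum π n) (hn : IsPiPrimeNum π n) : n = 1 :=
  (Nat.coprime_self n).1 (hm.coprime hn)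

/-- Every positive integer is a `π`-number times a `π'`-number. -/
theorem exists_pi_factor (π : Set ℕ) : ∀ n : ℕ, 0 < n →
    ∃ m k : ℕ, n = m * k ∧ IsPiNum π m ∧ IsPiPrimeNum π k := by
  classical
  intro n
  induction n using Nat.recOnMul with
  | zero => intro h; omega
  | one =>
    exact fun _ => ⟨1, 1, rfl, fun p hp h => absurd (Nat.eq_one_of_dvd_one h) hp.ne_one,
      fun p hp _ h => absurd (Nat.eq_one_of_dvd_one h) hp.ne_one⟩
  | prime q hq =>
    intro _
    by_cases h : q ∈ π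
    · exact ⟨q, 1, (mul_one q).symm, fun p hp hd => ((Nat.prime_dvd_prime_iff_eq hp hq).1 hd) ▸ h,
        fun p hp _ hd => absurd (Nat.eq_one_of_dvd_one hd) hp.ne_one⟩
    · exact ⟨1, q, (one_mul q).symm, fun p hp hd => absurd (Nat.eq_one_of_dvd_one hd) hp.ne_one,
        fun p hp hpπ hd => h (((Nat.prime_dvd_prime_iff_eq hp hq).1 hd) ▸ hpπ)⟩
  | mul a b iha ihb =>
    intro hab
    obtain ⟨ha, hb⟩ := Nat.mul_ne_zero_iff.1 hab.ne'
    obtain ⟨m₁, k₁, rfl, hm₁, hk₁⟩ := iha (Nat.pos_of_ne_zero ha)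
    obtain ⟨m₂, k₂, rfl, hm₂, hk₂⟩ := ihb (Nat.pos_of_ne_zero hb)
    exact ⟨m₁ * m₂, k₁ * k₂, by ring,
      fun p hp h => (hp.dvd_mul.1 h).elim (hm₁ p hp) (hm₂ p hp), hk₁.mul hk₂⟩

universe u
variable {X : Type u} [Group X] [Finite X]

theorem relIndex_normalized_sup {N H : Subgroup X} (h : H ≤ Subgroup.normalizer (N : Set X)) :
    N.relIndex (N ⊔ H) = N.relIndex H := by
  haveI : (N.subgroupOf (N ⊔ H)).Normal :=
    Subgroup.normal_subgroupOf_of_le_normalizer (CfsgLib.Solvable.sup_le_normalizer h)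
  have e := Subgroup.relIndex_sup_left (H := H.subgroupOf (N ⊔ H)) (K := N.subgroupOf (N ⊔ H))
  rw [← Subgroup.subgroupOf_sup le_sup_left le_sup_right, Subgroup.subgroupOf_self,
    Subgroup.relIndex_top_right, Subgroup.relIndex_subgroupOf le_sup_right] at e
  exact e

theorem relIndex_normalizing_sup {N H : Subgroup X} (h : H ≤ Subgroup.normalizer (N : Set X)) :
    H.relIndex (N ⊔ H) = H.relIndex N := by
  have e := CfsgLib.Solvable.relIndex_eq_index_of_mul
    (H := N.subgroupOf (N ⊔ H)) (K := H.subgroupOf (N ⊔ H)) (fun g => by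
      obtain ⟨n, hn, x, hx, hg⟩ := CfsgLib.Solvable.exists_mul_of_mem_sup h g.2
      exact ⟨⟨n, Subgroup.mem_sup_left hn⟩, hn, ⟨x, Subgroup.mem_sup_right hx⟩, hx, Subtype.ext hg⟩)
  rw [Subgroup.relIndex_subgroupOf le_sup_left] at e
  exact e.symm

theorem isPiHallOf_conj {H L : Subgroup X} (h : Cfsg.IsPiHallOf π H L) {g : X}
    (hg : g ∈ Subgroup.normalizer (L : Set X)) : Cfsg.IsPiHallOf π (MulAut.conj g • H) L := by
  refine ⟨(conj_smul_mono g h.1).trans (conj_smul_self_of_mem_normalizer hg).le, ?_, ?_⟩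
  · rw [card_conj_smul]; exact h.2.1
  · intro p hp hpπ hd
    refine h.2.2 p hp hpπ ?_
    have h1 := Subgroup.relIndex_pointwise_smul (MulAut.conj g) H L
    rw [conj_smul_self_of_mem_normalizer hg] at h1
    rwa [← h1]

/-- A Hall `π`-subgroup of an intermediate subgroup of `π'`-index. -/
theorem isPiHallOf_trans {H L G : Subgroup X} (h : Cfsg.IsPiHallOf π H L) (hLG : L ≤ G)
    (hi : IsPiPrimeNum π (L.relIndex G)) : Cfsg.IsPiHallOf π H G := by
  refine ⟨h.1.trans hLG, h.2.1, ?_⟩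
  rw [← Subgroup.relIndex_mul_relIndex H L G h.1 hLG]
  exact IsPiPrimeNum.mul h.2.2 hi

theorem card_isPiHallOf {H L : Subgroup X} (h : Cfsg.IsPiHallOf π H L) {m k : ℕ}
    (hc : Nat.card L = m * k) (hm : IsPiNum π m) (hk : IsPiPrimeNum π k) : Nat.card H = m := by
  have e : Nat.card H * H.relIndex L = m * k := by
    rw [← hc, ← Subgroup.relIndex_bot_left, ← Subgroup.relIndex_bot_left,
      Subgroup.relIndex_mul_relIndex ⊥ H L bot_le h.1]
  refine Nat.dvd_antisymm ((IsPiNum.coprime h.2.1 hk).dvd_of_dvd_mul_right ⟨_, e.symm⟩) ?_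
  exact (IsPiNum.coprime hm h.2.2).dvd_of_dvd_mul_right ⟨_, e⟩

theorem exists_isPiHallOf (π : Set ℕ) (L : Subgroup X) (hL : Group.IsSolvable L) :
    ∃ H : Subgroup X, Cfsg.IsPiHallOf π H L := by
  haveI := hL
  obtain ⟨m, k, hc, hm, hk⟩ := exists_pi_factor π (Nat.card L) Nat.card_pos
  obtain ⟨H, hH⟩ := CfsgLib.Solvable.exists_hall (G := L) hc (hm.coprime hk)
  refine ⟨H.map L.subtype, Subgroup.map_subtype_le H, ?_, ?_⟩
  · rw [Subgroup.card_map_of_injective L.subtype_injective, hH]; exact hm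
  · intro p hp hpπ hd
    refine hk p hp hpπ ?_
    have e : (H.map L.subtype).relIndex L = k := by
      have e1 : Nat.card (H.map L.subtype) * (H.map L.subtype).relIndex L = m * k := by
        rw [← hc, ← Subgroup.relIndex_bot_left, ← Subgroup.relIndex_bot_left,
          Subgroup.relIndex_mul_relIndex ⊥ _ L bot_le (Subgroup.map_subtype_le H)]
      rw [Subgroup.card_map_of_injective L.subtype_injective, hH] at e1
      refine Nat.eq_of_mul_eq_mul_left ?_ e1
      rw [← hH]; exact Nat.card_pos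
    rwa [← e]

theorem exists_conj_of_isPiHallOf {H₁ H₂ L : Subgroup X} (hL : Group.IsSolvable L)
    (h₁ : Cfsg.IsPiHallOf π H₁ L) (h₂ : Cfsg.IsPiHallOf π H₂ L) :
    ∃ g ∈ L, MulAut.conj g • H₁ = H₂ := by
  haveI := hL
  obtain ⟨m, k, hc, hm, hk⟩ := exists_pi_factor π (Nat.card L) Nat.card_pos
  have e₁ := card_isPiHallOf h₁ hc hm hk
  have e₂ := card_isPiHallOf h₂ hc hm hk
  have s₁ : Nat.card (H₁.subgroupOf L) = m := by
    rw [Nat.card_congr (Subgroup.subgroupOfEquivOfLe h₁.1).toEquiv, e₁]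
  have s₂ : Nat.card (H₂.subgroupOf L) = m := by
    rw [Nat.card_congr (Subgroup.subgroupOfEquivOfLe h₂.1).toEquiv, e₂]
  obtain ⟨g, hg⟩ := CfsgLib.Solvable.exists_conj_eq_hall hc (hm.coprime hk) s₁ s₂
  refine ⟨g, g.2, CfsgLib.Solvable.conj_smul_eq_of_le ?_ (by rw [e₁, e₂])⟩
  rw [conj_smul_le_iff]
  intro x hx
  have h := conj_smul_le_iff.1 hg.le ⟨x, h₁.1 hx⟩ hx
  exact h

variable {A G : Subgroup X}

/-- Existence of an invariant Hall subgroup. -/
theorem exists_invariant_hall (π : Set ℕ) {L : Subgroup X}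
    (hA : A ≤ Subgroup.normalizer (L : Set X)) (hcop : (Nat.card A).Coprime (Nat.card L))
    (hL : Group.IsSolvable L) :
    ∃ H : Subgroup X, Cfsg.IsPiHallOf π H L ∧ A ≤ Subgroup.normalizer (H : Set X) := by
  obtain ⟨H₀, hH₀⟩ := exists_isPiHallOf π L hL
  letI : MulAction X (Subgroup X) := MulAction.compHom _ (MulAut.conj : X →* MulAut X)
  have hx : ∀ a ∈ A, ∃ k ∈ L, a • H₀ = k • H₀ := by
    intro a ha
    obtain ⟨g, hg, e⟩ := exists_conj_of_isPiHallOf hL hH₀ (isPiHallOf_conj hH₀ (hA ha))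
    exact ⟨g, hg, e.symm⟩
  obtain ⟨k, hk, hfix⟩ := CfsgLib.Solvable.exists_fixed_point A L hA hcop (Or.inr hL) H₀ hx
  exact ⟨MulAut.conj k • H₀, isPiHallOf_conj hH₀ (Subgroup.le_normalizer hk),
    fun a ha => mem_normalizer_iff_conj_smul.2 (hfix a ha)⟩

/-- Invariant Hall subgroups are conjugate under the centralizer of `A`. -/
theorem exists_centralizer_conj_hall {L H₁ H₂ : Subgroup X}
    (hA : A ≤ Subgroup.normalizer (L : Set X)) (hcop : (Nat.card A).Coprime (Nat.card L))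
    (hL : Group.IsSolvable L) (h₁ : Cfsg.IsPiHallOf π H₁ L)
    (hA₁ : A ≤ Subgroup.normalizer (H₁ : Set X)) (h₂ : Cfsg.IsPiHallOf π H₂ L)
    (hA₂ : A ≤ Subgroup.normalizer (H₂ : Set X)) :
    ∃ c ∈ L ⊓ Subgroup.centralizer (A : Set X), MulAut.conj c • H₁ = H₂ := by
  obtain ⟨g, hg, e⟩ := exists_conj_of_isPiHallOf hL h₁ h₂
  letI : MulAction X (Subgroup X) := MulAction.compHom _ (MulAut.conj : X →* MulAut X)
  obtain ⟨c, hc, hce⟩ := CfsgLib.Solvable.exists_centralizer_smul_eq A L hA hcop (Or.inr hL) H₁ hg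
    (fun a ha => conj_smul_self_of_mem_normalizer (hA₁ ha))
    (fun a ha => by
      show MulAut.conj a • (MulAut.conj g • H₁) = MulAut.conj g • H₁
      rw [e]; exact conj_smul_self_of_mem_normalizer (hA₂ ha))
  exact ⟨c, hc, (show MulAut.conj c • H₁ = MulAut.conj g • H₁ from hce).trans e⟩

theorem le_normalizer_conj_of_centralizes {H : Subgroup X}
    (hA : A ≤ Subgroup.normalizer (H : Set X)) {c : X}
    (hc : c ∈ Subgroup.centralizer (A : Set X)) :
    A ≤ Subgroup.normalizer ((MulAut.conj c • H : Subgroup X) : Set X) := by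
  intro a ha
  rw [mem_normalizer_iff_conj_smul, conj_smul_conj_smul,
    Subgroup.mem_centralizer_iff.1 hc a ha, ← conj_smul_conj_smul,
    conj_smul_self_of_mem_normalizer (hA ha)]

/-- The property used in the induction: every invariant `π`-subgroup lies, modulo `K`, in an
invariant Hall `π`-subgroup. -/
def DominatesMod (π : Set ℕ) (A G K : Subgroup X) : Prop :=
  ∀ U : Subgroup X, U ≤ G → A ≤ Subgroup.normalizer (U : Set X) → IsPiNum π (Nat.card U) →
    ∃ L : Subgroup X, U ≤ L ∧ K ≤ L ∧ L ≤ G ∧ A ≤ Subgroup.normalizer (L : Set X) ∧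
      IsPiNum π (K.relIndex L) ∧ IsPiPrimeNum π (L.relIndex G)

theorem dominatesMod_pi {K M : Subgroup X} (hKM : K ≤ M) (hi : IsPiNum π (K.relIndex M))
    (h : DominatesMod π A G M) : DominatesMod π A G K := by
  intro U hUG hAU hU
  obtain ⟨L, hUL, hML, hLG, hAL, hm, hi'⟩ := h U hUG hAU hU
  refine ⟨L, hUL, hKM.trans hML, hLG, hAL, ?_, hi'⟩
  rw [← Subgroup.relIndex_mul_relIndex K M L hKM hML]
  exact fun p hp hd => (hp.dvd_mul.1 hd).elim (hi p hp) (hm p hp)

theorem dominatesMod_piPrime (hAG : A ≤ Subgroup.normalizer (G : Set X))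
    (hcop : (Nat.card A).Coprime (Nat.card G)) (hsolv : Group.IsSolvable G)
    {K M : Subgroup X} (hKM : K ≤ M)
    (hAK : A ≤ Subgroup.normalizer (K : Set X)) (hGK : G ≤ Subgroup.normalizer (K : Set X))
    (hAM : A ≤ Subgroup.normalizer (M : Set X)) (hGM : G ≤ Subgroup.normalizer (M : Set X))
    (hi : IsPiPrimeNum π (K.relIndex M))
    (h : DominatesMod π A G M) : DominatesMod π A G K := by
  intro U hUG hAU hU
  obtain ⟨L, hUL, hML, hLG, hAL, hm, hi'⟩ := h U hUG hAU hU
  have hsub : ∀ {S : Subgroup X}, S ≤ G → (Nat.card A).Coprime (Nat.card S) ∧ Group.IsSolvable S :=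
    fun hS => ⟨hcop.coprime_dvd_right (Subgroup.card_dvd_of_le hS),
      CfsgLib.Solvable.isSolvable_of_le hsolv hS⟩
  have hMG : M ≤ G := hML.trans hLG
  have hKG : K ≤ G := hKM.trans hMG
  obtain ⟨H₁, hH₁, hAH₁⟩ := exists_invariant_hall π hAL (hsub hLG).1 (hsub hLG).2
  have hH₁G : H₁ ≤ G := hH₁.1.trans hLG
  have hLeq : L = M ⊔ H₁ := by
    refine le_antisymm (Subgroup.relIndex_eq_one.1 (IsPiNum.eq_one (π := π) ?_ ?_))
      (sup_le hML hH₁.1)
    · exact hm.of_dvd (Subgroup.relIndex_dvd_of_le_left L le_sup_left)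
    · exact IsPiPrimeNum.of_dvd hH₁.2.2 (Subgroup.relIndex_dvd_of_le_left L le_sup_right)
  -- a Hall subgroup of `K ⊔ U` is one of `W = M ⊔ U`
  have hKUG : K ⊔ U ≤ G := sup_le hKG hUG
  have hAKU : A ≤ Subgroup.normalizer ((K ⊔ U : Subgroup X) : Set X) :=
    (le_inf hAK hAU).trans (Subgroup.normalizer_inf_normalizer_le_normalizer_sup K U)
  obtain ⟨Hu, hHu, hAHu⟩ := exists_invariant_hall π hAKU (hsub hKUG).1 (hsub hKUG).2
  set W := M ⊔ U with hW
  have hWL : W ≤ L := sup_le hML hUL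
  have hWG : W ≤ G := hWL.trans hLG
  have hAW : A ≤ Subgroup.normalizer (W : Set X) :=
    (le_inf hAM hAU).trans (Subgroup.normalizer_inf_normalizer_le_normalizer_sup M U)
  have hKUW : K ⊔ U ≤ W := sup_le_sup_right hKM U
  have hHuW : Cfsg.IsPiHallOf π Hu W := by
    refine isPiHallOf_trans hHu hKUW (hi.of_dvd ?_)
    have e : W = (K ⊔ U) ⊔ M := by
      rw [hW, sup_comm K U, sup_assoc, sup_eq_right.2 hKM, sup_comm]
    rw [e, sup_comm (K ⊔ U) M, relIndex_normalizing_sup (hKUG.trans hGM)]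
    exact Subgroup.relIndex_dvd_of_le_left M le_sup_left
  -- `W ⊓ H₁` is a Hall subgroup of `W`
  have hH2 : Cfsg.IsPiHallOf π (W ⊓ H₁) W := by
    refine ⟨inf_le_left, IsPiNum.of_dvd hH₁.2.1 (Subgroup.card_dvd_of_le inf_le_right), ?_⟩
    have hWeq : W = M ⊔ (W ⊓ H₁) := by
      refine le_antisymm (fun w hw => ?_) (sup_le le_sup_left inf_le_left)
      obtain ⟨m, hm', h, hh, rfl⟩ := CfsgLib.Solvable.exists_mul_of_mem_sup
        (hH₁G.trans hGM) (hLeq ▸ hWL hw : w ∈ M ⊔ H₁)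
      refine mul_mem (Subgroup.mem_sup_left hm') (Subgroup.mem_sup_right ⟨?_, hh⟩)
      have := mul_mem (inv_mem (show m ∈ W from Subgroup.mem_sup_left hm')) hw
      simpa using this
    have e : (W ⊓ H₁).relIndex W = H₁.relIndex L := by
      conv_lhs => arg 2; rw [hWeq]
      rw [relIndex_normalizing_sup ((inf_le_right.trans hH₁G).trans hGM), hLeq,
        relIndex_normalizing_sup (hH₁G.trans hGM)]
      rw [← Subgroup.inf_relIndex_right (W ⊓ H₁) M, ← Subgroup.inf_relIndex_right H₁ M]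
      congr 1
      rw [inf_assoc, inf_eq_right]
      exact inf_le_right.trans le_sup_left
    rw [e]; exact hH₁.2.2
  have hA2 : A ≤ Subgroup.normalizer ((W ⊓ H₁ : Subgroup X) : Set X) :=
    CfsgLib.Solvable.le_normalizer_inf hAW hAH₁
  obtain ⟨c, ⟨hcW, hcA⟩, hc⟩ := exists_centralizer_conj_hall hAW (hsub hWG).1 (hsub hWG).2
    hHuW hAHu hH2 hA2
  have hcG : c⁻¹ ∈ G := inv_mem (hWG hcW)
  have hHule : Hu ≤ MulAut.conj c⁻¹ • H₁ := by
    have h1 : MulAut.conj c • Hu ≤ H₁ := hc.trans_le inf_le_right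
    have h2 := conj_smul_mono c⁻¹ h1
    rwa [conj_smul_conj_smul, inv_mul_cancel, map_one, one_smul] at h2
  have hUle : U ≤ K ⊔ Hu := by
    refine le_trans le_sup_right (Subgroup.relIndex_eq_one.1 (IsPiNum.eq_one (π := π) ?_ ?_)
      : K ⊔ U ≤ K ⊔ Hu)
    · refine IsPiNum.of_dvd ?_ (Subgroup.relIndex_dvd_of_le_left (K ⊔ U) le_sup_left)
      rw [relIndex_normalized_sup (hUG.trans hGK)]
      exact hU.of_dvd (Subgroup.relIndex_dvd_card K U)
    · exact IsPiPrimeNum.of_dvd hHu.2.2 (Subgroup.relIndex_dvd_of_le_left _ le_sup_right)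
  have hHc : Cfsg.IsPiHallOf π (MulAut.conj c⁻¹ • H₁) G :=
    isPiHallOf_conj (isPiHallOf_trans hH₁ hLG hi') (Subgroup.le_normalizer hcG)
  refine ⟨K ⊔ MulAut.conj c⁻¹ • H₁, hUle.trans (sup_le_sup_left hHule K), le_sup_left,
    sup_le hKG hHc.1, ?_, ?_, ?_⟩
  · exact (le_inf hAK (le_normalizer_conj_of_centralizes hAH₁ (inv_mem hcA))).trans
      (Subgroup.normalizer_inf_normalizer_le_normalizer_sup _ _)
  · rw [relIndex_normalized_sup (hHc.1.trans hGK)]
    exact IsPiNum.of_dvd hHc.2.1 (Subgroup.relIndex_dvd_card K _)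
  · exact IsPiPrimeNum.of_dvd hHc.2.2 (Subgroup.relIndex_dvd_of_le_left G le_sup_right)

/-- Dominance: every invariant `π`-subgroup is contained in an invariant Hall `π`-subgroup. -/
theorem exists_invariant_hall_ge (hAG : A ≤ Subgroup.normalizer (G : Set X))
    (hcop : (Nat.card A).Coprime (Nat.card G)) (hsolv : Group.IsSolvable G) (π : Set ℕ)
    {U : Subgroup X} (hUG : U ≤ G) (hAU : A ≤ Subgroup.normalizer (U : Set X))
    (hU : IsPiNum π (Nat.card U)) :
    ∃ H : Subgroup X, Cfsg.IsPiHallOf π H G ∧ A ≤ Subgroup.normalizer (H : Set X) ∧ U ≤ H := by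
  set D : ℕ → Subgroup X := fun j => (derivedSeries G j).map G.subtype with hD
  have hD0 : D 0 = G := by
    simp [hD, derivedSeries_zero, ← MonoidHom.range_eq_map]
  have hDs : ∀ j, D (j + 1) = ⁅D j, D j⁆ := fun j => by
    simp only [hD, derivedSeries_succ, Subgroup.map_commutator]
  have hDG : ∀ j, D j ≤ G := fun j => Subgroup.map_subtype_le _
  have hDn : ∀ j, G ⊔ A ≤ Subgroup.normalizer (D j : Set X) := by
    intro j
    induction j with
    | zero => rw [hD0]; exact sup_le Subgroup.le_normalizer hAG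
    | succ j ih =>
      rw [hDs]
      exact (le_inf ih ih).trans (CfsgLib.Solvable.normalizer_le_normalizer_commutator _ _)
  have hdom : ∀ j, DominatesMod π A G (D j) := by
    intro j
    induction j with
    | zero =>
      rw [hD0]
      intro V hVG _ _
      exact ⟨G, hVG, le_rfl, le_rfl, hAG,
        fun p hp h => absurd (Nat.eq_one_of_dvd_one (Subgroup.relIndex_self G ▸ h)) hp.ne_one,
        fun p hp _ h => absurd (Nat.eq_one_of_dvd_one (Subgroup.relIndex_self G ▸ h)) hp.ne_one⟩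
    | succ j ih =>
      set K := D (j + 1) with hK
      set T := D j with hT
      have hKT : K ≤ T := by
        rw [hK, hT, hDs]; exact (Subgroup.commutator_le.2 fun a ha b hb => by
          simp only [commutatorElement_def]; exact mul_mem (mul_mem (mul_mem ha hb) (inv_mem ha)) (inv_mem hb))
      have hAT : A ≤ Subgroup.normalizer (T : Set X) := le_sup_right.trans (hDn j)
      have hTsolv : Group.IsSolvable T := CfsgLib.Solvable.isSolvable_of_le hsolv (hDG j)
      have hTcop : (Nat.card A).Coprime (Nat.card T) :=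
        hcop.coprime_dvd_right (Subgroup.card_dvd_of_le (hDG j))
      obtain ⟨Ht, hHt⟩ := exists_isPiHallOf π T hTsolv
      set M := K ⊔ Ht with hM
      have hMT : M ≤ T := sup_le hKT hHt.1
      have hTn : T ≤ Subgroup.normalizer (M : Set X) := by
        refine CfsgLib.Solvable.le_normalizer_of_conj_mem fun t ht x hx => ?_
        have : ⁅t, x⁆ ∈ M := Subgroup.mem_sup_left (by
          rw [hK, hDs]; exact Subgroup.commutator_mem_commutator ht (hMT hx))
        simpa [commutatorElement_def] using mul_mem this hx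
      have hnM : G ⊔ A ≤ Subgroup.normalizer (M : Set X) := by
        intro g hg
        refine CfsgLib.Solvable.mem_normalizer_of_conj_mem ?_
        rw [← conj_smul_le_iff, hM, Subgroup.smul_sup]
        refine sup_le ((conj_smul_self_of_mem_normalizer (hDn (j + 1) hg)).le.trans le_sup_left) ?_
        obtain ⟨t, ht, e⟩ := exists_conj_of_isPiHallOf hTsolv hHt (isPiHallOf_conj hHt (hDn j hg))
        rw [← e]
        exact (conj_smul_mono t le_sup_right).trans (conj_smul_self_of_mem_normalizer (hTn ht)).le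
      have h1 : DominatesMod π A G M :=
        dominatesMod_piPrime hAG hcop hsolv hMT (le_sup_right.trans hnM) (le_sup_left.trans hnM)
          hAT (le_sup_left.trans (hDn j))
          (IsPiPrimeNum.of_dvd hHt.2.2 (Subgroup.relIndex_dvd_of_le_left T le_sup_right)) ih
      refine dominatesMod_pi le_sup_left ?_ h1
      rw [relIndex_normalized_sup
        ((hHt.1.trans ((hDG j).trans le_sup_left)).trans (hDn (j + 1)))]
      exact IsPiNum.of_dvd hHt.2.1 (Subgroup.relIndex_dvd_card K Ht)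
  obtain ⟨n, hn⟩ := (Group.isSolvable_def G).1 hsolv
  obtain ⟨L, hUL, -, hLG, hAL, hm, hi⟩ := hdom n U hUG hAU hU
  have hbot : D n = ⊥ := by simp [hD, hn]
  rw [hbot, Subgroup.relIndex_bot_left] at hm
  exact ⟨L, ⟨hLG, hm, hi⟩, hAL, hUL⟩

end CfsgLib.PGroup
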