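import Mathlib
import Cfsg.Prelude.Def_Transfer
import Cfsg.Agent.Lib.PGroup.Basic
import Cfsg.Agent.Lib.PGroup.ElemAbelian

/-!
# Special and extraspecial p-groups
-/

set_option autoImplicit false

namespace CfsgLib.PGroup

open Subgroup Cfsg
open scoped commutatorElement

variable {G H : Type*} [Group G] [Group H] {p : ℕ}

/-! ### Centralizers when commutators lie in a central subgroup of prime order -/

/-- The homomorphism `h ↦ ⁅h, x⁆` when these commutators lie in a central subgroup `Z`. -/
def commHom (Z : Subgroup G) (hZ : Z ≤ center G) (K : Subgroup G) (x : G)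
    (hx : ∀ k ∈ K, ⁅k, x⁆ ∈ Z) : K →* Z where
  toFun k := ⟨⁅(k : G), x⁆, hx k k.2⟩
  map_one' := by ext; simp
  map_mul' a b := by
    ext
    exact comm_mul_left (hZ (hx b b.2))

@[simp] theorem commHom_coe (Z : Subgroup G) (hZ : Z ≤ center G) (K : Subgroup G) (x : G)
    (hx : ∀ k ∈ K, ⁅k, x⁆ ∈ Z) (k : K) : ((commHom Z hZ K x hx k : Z) : G) = ⁅(k : G), x⁆ := rfl

/-- If `⁅K, x⁆` lies in a central subgroup of order `p` and is nontrivial, the centralizer of `x`
in `K` has index `p`. -/
theorem card_inf_centralizer_mul [Finite G] [hp : Fact p.Prime] {Z : Subgroup G}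
    (hZ : Z ≤ center G) (hZp : Nat.card Z = p) {K : Subgroup G} {x : G}
    (hx : ∀ k ∈ K, ⁅k, x⁆ ∈ Z) (hne : ¬ K ≤ centralizer ({x} : Set G)) :
    Nat.card ↥(K ⊓ centralizer ({x} : Set G)) * p = Nat.card K := by
  have hker : (commHom Z hZ K x hx).ker.map K.subtype = K ⊓ centralizer ({x} : Set G) := by
    ext k
    simp only [mem_map, MonoidHom.mem_ker, mem_inf, mem_centralizer_singleton_iff]
    constructor
    · rintro ⟨k, hk, rfl⟩
      exact ⟨k.2, commutatorElement_eq_one_iff_mul_comm.1 (congrArg Subtype.val hk)⟩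
    · rintro ⟨hkK, hk⟩
      exact ⟨⟨k, hkK⟩, Subtype.ext (commutatorElement_eq_one_iff_mul_comm.2 hk), rfl⟩
  have hrange : (commHom Z hZ K x hx).range ≠ ⊥ := by
    intro h
    refine hne fun k hk => mem_centralizer_singleton_iff.2
      (commutatorElement_eq_one_iff_mul_comm.1 ?_)
    have : commHom Z hZ K x hx ⟨k, hk⟩ = 1 := by
      rw [← mem_bot, ← h]; exact ⟨_, rfl⟩
    exact congrArg Subtype.val this
  have hidx : (commHom Z hZ K x hx).ker.index = p := by
    rw [index_ker]
    refine ((Nat.dvd_prime hp.out).1 ?_).resolve_left (mt (eq_bot_of_card_eq _) hrange)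
    conv_rhs => rw [← hZp]
    exact card_subgroup_dvd_card _
  rw [← hker, card_map_of_injective K.subtype_injective]
  conv_lhs => rw [← hidx]
  exact card_mul_index _

/-- A subgroup `K` above a central `Z` of order `p`, with commutators in `Z` and centre `Z`,
has order `p ^ (2 n + 1)`. -/
theorem exists_card_eq_of_center_inf [Finite G] [hp : Fact p.Prime] (hG : IsPGroup p G)
    {Z : Subgroup G} (hZ : Z ≤ center G) (hZp : Nat.card Z = p)
    (hcomm : ∀ a b : G, ⁅a, b⁆ ∈ Z) (K : Subgroup G) (hZK : Z ≤ K)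
    (hK : K ⊓ centralizer (K : Set G) = Z) : ∃ n, Nat.card K = p ^ (2 * n + 1) := by
  induction hc : Nat.card K using Nat.strong_induction_on generalizing K with
  | _ c ih =>
    subst hc
    rcases hZK.eq_or_lt with h | h
    · exact ⟨0, by rw [← h, hZp]; simp⟩
    obtain ⟨x, hxK, hxZ⟩ := SetLike.exists_of_lt h
    have hne1 : ¬ K ≤ centralizer ({x} : Set G) := fun hle => hxZ <| by
      rw [← hK]
      exact ⟨hxK, mem_centralizer_iff.2 fun k hk => mem_centralizer_singleton_iff.1 (hle hk)⟩
    obtain ⟨y, hyK, hy⟩ := SetLike.not_le_iff_exists.1 hne1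
    have hxy : ¬ K ⊓ centralizer ({x} : Set G) ≤ centralizer ({y} : Set G) := fun hle =>
      hy <| mem_centralizer_singleton_iff.2
        (mem_centralizer_singleton_iff.1 (hle ⟨hxK, mem_centralizer_singleton_iff.2 rfl⟩)).symm
    have e1 := card_inf_centralizer_mul hZ hZp (fun k _ => hcomm k x) hne1
    have e2 := card_inf_centralizer_mul hZ hZp (fun k _ => hcomm k y) hxy
    set K' := K ⊓ centralizer ({x} : Set G) ⊓ centralizer ({y} : Set G) with hK'
    have hZK' : Z ≤ K' := fun z hz =>
      ⟨⟨hZK hz, mem_centralizer_singleton_iff.2 (mem_center_iff.1 (hZ hz) x).symm⟩,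
        mem_centralizer_singleton_iff.2 (mem_center_iff.1 (hZ hz) y).symm⟩
    have hlt : Nat.card K' < Nat.card K := by
      rw [← e1, ← e2, mul_assoc]
      have := hp.out.two_le
      exact lt_mul_of_one_lt_right Nat.card_pos (by nlinarith)
    have hxy0 : ⁅y, x⁆ ≠ 1 := fun h =>
      hy (mem_centralizer_singleton_iff.2 (commutatorElement_eq_one_iff_mul_comm.1 h))
    suffices hcen : K' ⊓ centralizer (K' : Set G) ≤ Z by
      obtain ⟨n, hn⟩ := ih _ hlt K' hZK' (le_antisymm hcen
        (fun z hz => ⟨hZK' hz, mem_centralizer_iff.2 fun b _ => mem_center_iff.1 (hZ hz) b⟩)) rfl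
      exact ⟨n + 1, by rw [← e1, ← e2, hn]; ring⟩
    intro w hw
    obtain ⟨⟨⟨hwK, hwx⟩, hwy⟩, hwc⟩ := hw
    rw [← hK]
    refine ⟨hwK, mem_centralizer_iff.2 fun k hk => ?_⟩
    -- `k` agrees with an element of `⟨x, y⟩` modulo `K'`
    have hcz : ∀ c ∈ Z, ∀ d : G, d ∈ Z → d ≠ 1 → ∃ i : ℕ, d ^ i = c := by
      intro c hc d hd hd1
      have hz : zpowers d = Z := by
        refine eq_of_le_of_card_ge (zpowers_le.2 hd) ?_
        rw [hZp, Nat.card_zpowers]
        exact ((Nat.dvd_prime hp.out).1 (hZp ▸ orderOf_dvd_natCard Z hd)).elim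
          (fun h => absurd (orderOf_eq_one_iff.1 h) hd1) (fun h => h.ge)
      rw [← hz] at hc
      exact ((isOfFinOrder_of_finite d).mem_powers_iff_mem_zpowers.2 hc)
    obtain ⟨i, hi⟩ := hcz (⁅k, x⁆)⁻¹ (Z.inv_mem (hcomm k x)) _ (hcomm y x) hxy0
    obtain ⟨j, hj⟩ := hcz (⁅k * y ^ i, y⁆)⁻¹ (Z.inv_mem (hcomm _ y)) ⁅x, y⁆ (hcomm x y)
      (by rw [← commutatorElement_inv]; exact inv_ne_one.2 hxy0)
    have h1 : ⁅k * y ^ i * x ^ j, x⁆ = 1 := by
      rw [comm_mul_left (hZ (hcomm _ _)), comm_mul_left (hZ (hcomm _ _)),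
        comm_pow_left (hZ (hcomm _ _)), comm_pow_left (hZ (hcomm _ _)), hi, mul_inv_cancel,
        commutatorElement_self, one_pow, mul_one]
    have h2 : ⁅k * y ^ i * x ^ j, y⁆ = 1 := by
      rw [comm_mul_left (hZ (hcomm _ _)), comm_pow_left (hZ (hcomm _ _)), hj, mul_inv_cancel]
    have hkK' : k * y ^ i * x ^ j ∈ K' :=
      ⟨⟨K.mul_mem (K.mul_mem hk (K.pow_mem hyK i)) (K.pow_mem hxK j),
        mem_centralizer_singleton_iff.2 (commutatorElement_eq_one_iff_mul_comm.1 h1)⟩,
        mem_centralizer_singleton_iff.2 (commutatorElement_eq_one_iff_mul_comm.1 h2)⟩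
    have c0 : Commute w (k * y ^ i * x ^ j) := (mem_centralizer_iff.1 hwc _ hkK').symm
    have cy : Commute w y := mem_centralizer_singleton_iff.1 hwy
    have cx : Commute w x := mem_centralizer_singleton_iff.1 hwx
    have c1 : Commute w ((y ^ i * x ^ j)⁻¹) := ((cy.pow_right i).mul_right (cx.pow_right j)).inv_right
    have : Commute w k := by simpa [mul_assoc] using c0.mul_right c1
    exact this.eq.symm

/-! ### Special groups -/

section
variable [Finite G] [hp : Fact p.Prime]

omit [Finite G] hp in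
theorem special_comm_mem_center (hG : IsSpecial p G) (a b : G) : ⁅a, b⁆ ∈ center G :=
  hG.2.2 ▸ commutator_mem_commutator (mem_top a) (mem_top b)

theorem special_pow_mem_center (hG : IsSpecial p G) (a : G) : a ^ p ∈ center G :=
  hG.2.1 ▸ pow_mem_frattini hG.1 a

theorem special_center_pow (hG : IsSpecial p G) {z : G} (hz : z ∈ center G) : z ^ p = 1 := by
  rw [← hG.2.2, commutator_eq_closure] at hz
  induction hz using closure_induction with
  | mem x hx =>
    obtain ⟨a, b, rfl⟩ := hx
    rw [← comm_pow_left (special_comm_mem_center hG a b)]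
    exact commutatorElement_eq_one_iff_mul_comm.2
      (mem_center_iff.1 (special_pow_mem_center hG a) b).symm
  | one => exact one_pow p
  | mul a b ha _ iha ihb =>
    have ha' : a ∈ center G := by rw [← hG.2.2, commutator_eq_closure]; exact ha
    rw [(Commute.mul_pow (mem_center_iff.1 ha' b).symm p), iha, ihb, one_mul]
  | inv a _ iha => rw [inv_pow, iha, inv_one]

theorem special_pow_sq (hG : IsSpecial p G) (a : G) : a ^ p ^ 2 = 1 := by
  rw [sq, pow_mul]; exact special_center_pow hG (special_pow_mem_center hG a)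

theorem special_elemAb_center (hG : IsSpecial p G) : IsElementaryAbelian p (center G) :=
  isElementaryAbelian_mk (fun _ _ b hb => mem_center_iff.1 hb _)
    (fun _ ha => special_center_pow hG ha)

/-! ### Extraspecial groups -/

theorem extraspecial_not_comm (hG : IsExtraspecial p G) : ¬ IsMulCommutative G := fun h => by
  have h1 : _root_.commutator G = ⊥ := by
    rw [_root_.commutator_def, eq_bot_iff, commutator_le]
    exact fun a _ b _ => mem_bot.2 (commutatorElement_eq_one_iff_mul_comm.2 (h.is_comm.comm a b))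
  have h2 := hG.2
  rw [← hG.1.2.2, h1, card_bot] at h2
  exact hp.out.ne_one h2.symm

/-- In an extraspecial group the centralizer of a noncentral element has index `p`. -/
theorem extraspecial_index_centralizer (hG : IsExtraspecial p G) {x : G} (hx : x ∉ center G) :
    (centralizer ({x} : Set G)).index = p := by
  have h := card_inf_centralizer_mul (K := ⊤) (le_refl _) hG.2
    (fun k _ => special_comm_mem_center hG.1 k x) (fun hle => hx (mem_center_iff.2 fun g =>
      mem_centralizer_singleton_iff.1 (hle (mem_top g))))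
  rw [top_inf_eq, card_top] at h
  have := (centralizer ({x} : Set G)).card_mul_index
  rw [← h] at this
  exact Nat.eq_of_mul_eq_mul_left Nat.card_pos this

/-- The order of an extraspecial group is an odd power of `p`, at least `p ^ 3`. -/
theorem extraspecial_card (hG : IsExtraspecial p G) :
    ∃ n, 1 ≤ n ∧ Nat.card G = p ^ (2 * n + 1) := by
  obtain ⟨n, hn⟩ := exists_card_eq_of_center_inf hG.1.1 (le_refl _) hG.2
    (special_comm_mem_center hG.1) ⊤ le_top
    (by rw [top_inf_eq, coe_top, centralizer_univ])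
  rw [card_top] at hn
  refine ⟨n, Nat.pos_of_ne_zero fun h0 => extraspecial_not_comm hG ?_, hn⟩
  have : IsCyclic G := isCyclic_of_prime_card (p := p) (by rw [hn, h0]; simp)
  obtain ⟨g, hg⟩ := this.exists_generator
  exact ⟨⟨fun a b => by
    obtain ⟨i, rfl⟩ := hg a
    obtain ⟨j, rfl⟩ := hg b
    exact (Commute.zpow_zpow (Commute.refl g) i j).eq⟩⟩

/-- A criterion for being extraspecial. -/
theorem isExtraspecial_mk (hG : IsPGroup p G) (hZ : Nat.card (center G) = p)
    (hna : ¬ IsMulCommutative G) (hc : ∀ a b : G, ⁅a, b⁆ ∈ center G)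
    (hpow : ∀ a : G, a ^ p ∈ center G) : IsExtraspecial p G := by
  have h1 : _root_.commutator G ≤ center G := by
    rw [_root_.commutator_def]; exact commutator_le.2 fun a _ b _ => hc a b
  have h2 : _root_.commutator G = center G := by
    refine eq_of_le_of_card_ge h1 ?_
    rcases (Nat.dvd_prime hp.out).1 (hZ ▸ card_dvd_of_le h1) with h | h
    · refine absurd ⟨⟨fun a b => ?_⟩⟩ hna
      refine commutatorElement_eq_one_iff_mul_comm.1 ?_
      rw [← mem_bot, ← eq_bot_of_card_eq _ h]
      exact commutator_mem_commutator (mem_top a) (mem_top b)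
    · rw [h, hZ]
  have h3 : frattini G ≤ center G := by
    -- the quotient by the centre is elementary abelian, so its Frattini subgroup is trivial
    intro g hg
    by_contra hgz
    obtain ⟨M, hM, hMmax⟩ := Finite.exists_le_maximal
      (p := fun M : Subgroup G => center G ≤ M ∧ g ∉ M) (a := center G) ⟨le_rfl, hgz⟩
    have hMn : M.Normal := ⟨fun m hm a => by
      have : a * m * a⁻¹ = ⁅a, m⁆ * m := by rw [commutatorElement_def]; group
      rw [this]
      exact M.mul_mem (hMmax.1.1 (hc a m)) hm⟩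
    refine hMmax.1.2 (frattini_le_coatom (K := M) ⟨fun h => hMmax.1.2 (h ▸ mem_top g), ?_⟩ hg)
    intro L hL
    have hgL : g ∈ L := by
      by_contra hgL
      exact hL.not_ge (hMmax.2 ⟨hMmax.1.1.trans hL.le, hgL⟩ hL.le)
    refine eq_top_iff.2 fun a _ => ?_
    by_cases haM : a ∈ M
    · exact hL.le haM
    have hga : g ∈ M ⊔ zpowers a := by
      by_contra h
      exact haM (hMmax.2 ⟨hMmax.1.1.trans le_sup_left, h⟩ le_sup_left
        (mem_sup_right (mem_zpowers a)))
    rw [← SetLike.mem_coe, normal_mul, Set.mem_mul] at hga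
    obtain ⟨m, hm, _, ⟨i, rfl⟩, hmi⟩ := hga
    change m * a ^ i = g at hmi
    have hap : a ^ (p : ℤ) ∈ M := by rw [zpow_natCast]; exact hMmax.1.1 (hpow a)
    have hai : a ^ i ∈ L := by
      have : a ^ i = m⁻¹ * g := by rw [← hmi]; group
      rw [this]; exact L.mul_mem (L.inv_mem (hL.le hm)) hgL
    by_cases hpi : (p : ℤ) ∣ i
    · obtain ⟨k, rfl⟩ := hpi
      refine absurd ?_ hMmax.1.2
      rw [← hmi, zpow_mul]
      exact M.mul_mem hm (M.zpow_mem hap k)
    · obtain ⟨u, v, huv⟩ := ((Nat.prime_iff_prime_int.1 hp.out).coprime_iff_not_dvd.2 hpi)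
      have : a = (a ^ (p : ℤ)) ^ u * (a ^ i) ^ v := by
        rw [← zpow_mul, ← zpow_mul, ← zpow_add, mul_comm _ u, mul_comm i v, huv, zpow_one]
      rw [this]
      exact L.mul_mem (L.zpow_mem (hL.le hap) u) (L.zpow_mem hai v)
  exact ⟨⟨hG, le_antisymm h3 (h2 ▸ commutator_le_frattini hG), h2⟩, hZ⟩

end

end CfsgLib.PGroup
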