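/-
The automorphism group of the extraspecial group of order 32 of minus type.
-/
import Cfsg.Agent.Lib.InvolChar.MinusThirtyTwo
import Cfsg.Agent.Lib.PGroup.ElemAbelian

set_option autoImplicit false

namespace CfsgLib.PGroup.MinusThirtyTwoAut

open Subgroup Cfsg CfsgLib.InvolChar.MinusThirtyTwo

variable {P : Type*} [Group P] [Finite P] {z : P}

/-- The hypotheses. -/
structure Minus (z : P) : Prop extends Base z where
  small : ∀ A : Subgroup P, IsElementaryAbelian 2 A → Nat.card A ≤ 4

/-- A noncentral involution. -/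
def Inv' (z x : P) : Prop := x * x = 1 ∧ x ≠ 1 ∧ x ≠ z

variable (b : Minus z)
include b

theorem mem_center_iff' (x : P) : x ∈ center P ↔ x = 1 ∨ x = z := by
  refine ⟨b.hcen x, ?_⟩
  rintro (rfl | rfl)
  · exact one_mem _
  · exact mem_center_iff.2 b.hzc

theorem eq_of_commute {x y : P} (hx : Inv' z x) (hy : Inv' z y) (hxy : x * y = y * x) :
    y = x ∨ y = z * x := by
  classical
  by_contra hne
  push Not at hne
  have hz2 : z ^ 2 = 1 := by rw [pow_two, b.hz]
  have hA : IsElementaryAbelian 2 (zpowers z ⊔ zpowers x ⊔ zpowers y) := by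
    refine elemAb_sup (elemAb_sup (elemAb_zpowers hz2) (elemAb_zpowers (by rw [pow_two, hx.1])) ?_)
      (elemAb_zpowers (by rw [pow_two, hy.1])) ?_
    · rintro _ ⟨i, rfl⟩ _ ⟨j, rfl⟩
      exact (((show Commute x z from b.hzc x).symm.zpow_left i).zpow_right j).eq
    · intro a ha _ ⟨j, hj⟩
      subst hj
      have hle : zpowers z ⊔ zpowers x ≤ centralizer ({y} : Set P) :=
        sup_le (zpowers_le.2 (mem_centralizer_singleton_iff.2 (b.hzc y).symm))
          (zpowers_le.2 (mem_centralizer_singleton_iff.2 hxy))
      exact (((show Commute a y from mem_centralizer_singleton_iff.1 (hle ha))).zpow_right j).eq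
  have h1 := b.small _ hA
  have hsub : (({1, z, x, z * x, y} : Finset P) : Set P) ⊆ (zpowers z ⊔ zpowers x ⊔ zpowers y : Subgroup P) := by
    have mz : z ∈ zpowers z ⊔ zpowers x ⊔ zpowers y := mem_sup_left (mem_sup_left (mem_zpowers z))
    have mx : x ∈ zpowers z ⊔ zpowers x ⊔ zpowers y := mem_sup_left (mem_sup_right (mem_zpowers x))
    intro w hw
    simp only [Finset.coe_insert, Finset.coe_singleton, Set.mem_insert_iff, Set.mem_singleton_iff] at hw
    rcases hw with rfl | rfl | rfl | rfl | rfl
    · exact one_mem _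
    · exact mz
    · exact mx
    · exact mul_mem mz mx
    · exact mem_sup_right (mem_zpowers w)
  have h2 : ({1, z, x, z * x, y} : Finset P).card ≤ 4 := by
    rw [← Set.ncard_coe_finset]
    exact (Set.ncard_le_ncard hsub (Set.toFinite _)).trans h1
  have hzx1 : z * x ≠ 1 := fun e => hx.2.2 (by
    rw [← inv_eq_of_mul_eq_one_right e, inv_eq_of_mul_eq_one_right b.hz])
  rw [Finset.card_insert_of_notMem (by simp [b.hz1.symm, hx.2.1.symm, hzx1.symm, hy.2.1.symm]),
    Finset.card_insert_of_notMem (by simp [hx.2.2.symm, hy.2.2.symm, hx.2.1]),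
    Finset.card_insert_of_notMem (by simp [Ne.symm hne.1, b.hz1]),
    Finset.card_insert_of_notMem (by simp [Ne.symm hne.2]), Finset.card_singleton] at h2
  omega

theorem card_centralizer_singleton {x : P} (hx : x ≠ 1) (hx' : x ≠ z) :
    Nat.card (centralizer ({x} : Set P)) = 16 := by
  have hxc : x ∉ center P := fun h => (b.hcen x h).elim hx hx'
  have h1 := CfsgLib.LargeExtra.card_le_two_mul_centralizer b.hE x ⊤
  rw [top_inf_eq, Subgroup.card_top, b.h32] at h1
  have hne : centralizer ({x} : Set P) ≠ ⊤ := fun h => hxc (mem_center_iff.2 fun g =>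
    mem_centralizer_singleton_iff.1 (h ▸ mem_top g))
  have hd := card_subgroup_dvd_card (centralizer ({x} : Set P))
  rw [b.h32] at hd
  have hlt : Nat.card (centralizer ({x} : Set P)) ≠ 32 := fun h =>
    hne (Subgroup.eq_top_of_card_eq _ (h.trans b.h32.symm))
  obtain ⟨i, hi, hi'⟩ := (Nat.dvd_prime_pow Nat.prime_two).1 (show _ ∣ 2 ^ 5 from hd)
  rw [hi'] at h1 hlt ⊢
  interval_cases i <;> simp_all

theorem card_invol : Nat.card {x : P // Inv' z x} = 10 := by
  classical
  have := Fintype.ofFinite P
  set S : Finset P := Finset.univ.filter fun x => x * x = 1 with hS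
  have hsum : ∑ x : P, chi x = 2 * (S.card : ℤ) - 32 := by
    have e : ∀ x : P, chi x = 2 * (if x * x = 1 then (1 : ℤ) else 0) - 1 := fun x => by
      unfold chi; split_ifs <;> norm_num
    rw [Finset.sum_congr rfl fun x _ => e x, Finset.sum_sub_distrib, ← Finset.mul_sum, Finset.sum_boole,
      Finset.sum_const, Finset.card_univ, ← Nat.card_eq_fintype_card, b.h32, hS]
    norm_num
  have hg := gauss b.toBase
  rw [hsum] at hg
  have hN : S.card = 20 ∨ S.card = 12 := by
    have h0 : ((S.card : ℤ) - 20) * ((S.card : ℤ) - 12) = 0 := by nlinarith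
    rcases mul_eq_zero.1 h0 with h | h <;> omega
  have hI : Nat.card {x : P // Inv' z x} + 2 = S.card := by
    rw [Nat.card_eq_fintype_card, Fintype.card_subtype]
    have : (Finset.univ.filter fun x => Inv' z x) = S \ {1, z} := by
      ext x
      simp only [hS, Finset.mem_sdiff, Finset.mem_insert, Finset.mem_singleton, Finset.mem_filter, Finset.mem_univ, true_and, not_or]
      rfl
    rw [this, Finset.card_sdiff_of_subset (by simp [hS, Finset.insert_subset_iff, b.hz]),
      Finset.card_pair b.hz1.symm]
    have : ({1, z} : Finset P) ⊆ S := by simp [hS, Finset.insert_subset_iff, b.hz]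
    have := Finset.card_le_card this
    rw [Finset.card_pair b.hz1.symm] at this
    omega
  rcases hN with h20 | h12
  swap; · omega
  exfalso
  obtain ⟨x, hx⟩ : ∃ x, Inv' z x := by
    by_contra h
    push Not at h
    have : IsEmpty {x : P // Inv' z x} := ⟨fun w => h _ w.2⟩
    rw [Nat.card_of_isEmpty] at hI
    omega
  set C : Finset P := Finset.univ.filter fun y => y ∈ centralizer ({x} : Set P) with hC
  have hC16 : C.card = 16 := by
    rw [hC, ← Fintype.card_subtype, ← Nat.card_eq_fintype_card]
    exact card_centralizer_singleton b hx.2.1 hx.2.2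
  have hin : S ∩ C ⊆ {1, z, x, z * x} := by
    intro y hy
    rw [Finset.mem_inter, hS, hC, Finset.mem_filter, Finset.mem_filter] at hy
    obtain ⟨⟨-, hy2⟩, -, hyc⟩ := hy
    by_cases h1 : y = 1
    · simp [h1]
    by_cases h2 : y = z
    · simp [h2]
    rcases eq_of_commute b hx ⟨hy2, h1, h2⟩ (mem_centralizer_singleton_iff.1 hyc).symm with h | h <;> simp [h]
  have hout : (S \ C).card = 16 := by
    have h4 : (S ∩ C).card ≤ 4 := (Finset.card_le_card hin).trans Finset.card_le_four
    have e := Finset.card_sdiff_add_card_inter S C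
    have h16 : (S \ C).card ≤ 16 := by
      have : (S \ C).card ≤ Cᶜ.card :=
        Finset.card_le_card fun y hy => Finset.mem_compl.2 (Finset.mem_sdiff.1 hy).2
      rw [Finset.card_compl, hC16, ← Nat.card_eq_fintype_card, b.h32] at this
      exact this
    omega
  have hall : ∀ y, y ∉ C → y * y = 1 := by
    have : S \ C = Cᶜ := Finset.eq_of_subset_of_card_le
      (fun y hy => Finset.mem_compl.2 (Finset.mem_sdiff.1 hy).2)
      (by rw [hout, Finset.card_compl, hC16, ← Nat.card_eq_fintype_card, b.h32])
    intro y hy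
    have hm : y ∈ S \ C := this ▸ Finset.mem_compl.2 hy
    exact (Finset.mem_filter.1 (Finset.mem_sdiff.1 hm).1).2
  obtain ⟨y, hy⟩ : ∃ y, y ∉ C := by
    by_contra h
    push Not at h
    have := Finset.eq_univ_iff_forall.2 h
    rw [this, Finset.card_univ, ← Nat.card_eq_fintype_card, b.h32] at hC16
    omega
  set H := centralizer ({x} : Set P) with hH
  have hmemC : ∀ a, a ∈ C ↔ a ∈ H := fun a => by simp [hC, hH]
  have hinv : ∀ a ∈ H, y * a * y⁻¹ = a⁻¹ := by
    intro a ha
    have hya : y * a ∉ C := fun h => hy ((hmemC y).2 (by simpa using mul_mem ((hmemC _).1 h) (inv_mem ha)))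
    have e := hall _ hya
    have hyinv : y⁻¹ = y := inv_eq_of_mul_eq_one_right (hall y hy)
    rw [hyinv]
    refine (inv_eq_of_mul_eq_one_right ?_).symm
    calc a * (y * a * y) = y⁻¹ * (y * a * (y * a)) * y := by group
      _ = 1 := by rw [e, mul_one, inv_mul_cancel]
  have habel : ∀ a ∈ H, ∀ c ∈ H, a * c = c * a := by
    intro a ha c hc
    have h := hinv _ (mul_mem ha hc)
    have e : y * (a * c) * y⁻¹ = (y * a * y⁻¹) * (y * c * y⁻¹) := by group
    rw [e, hinv a ha, hinv c hc, ← mul_inv_rev] at h
    exact (inv_injective h).symm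
  have hZH : center P ≤ H := center_le_centralizer _
  have hperp := CfsgLib.LargeExtra.card_centralizer_mul_card b.hE H hZH
  rw [card_centralizer_singleton b hx.2.1 hx.2.2, CfsgLib.LargeExtra.centre_card b.hE, b.h32] at hperp
  have hle : H ≤ centralizer (H : Set P) := fun a ha => mem_centralizer_iff.2 fun c hc => habel c hc a ha
  have := card_le_of_le hle
  rw [card_centralizer_singleton b hx.2.1 hx.2.2] at this
  omega

theorem closure_invol : closure {x : P | Inv' z x} = ⊤ := by
  classical
  have := Fintype.ofFinite P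
  set M := closure {x : P | Inv' z x} ⊔ center P with hM
  have hMtop : M = ⊤ := by
    by_contra hne
    have hperp := CfsgLib.LargeExtra.card_centralizer_mul_card b.hE M le_sup_right
    rw [CfsgLib.LargeExtra.centre_card b.hE, b.h32] at hperp
    have hMle : Nat.card M ≤ 16 := by
      have hd := card_subgroup_dvd_card M
      rw [b.h32] at hd
      have hlt : Nat.card M ≠ 32 := fun h => hne (Subgroup.eq_top_of_card_eq _ (h.trans b.h32.symm))
      obtain ⟨i, hi, hi'⟩ := (Nat.dvd_prime_pow Nat.prime_two).1 (show _ ∣ 2 ^ 5 from hd)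
      rw [hi'] at hlt ⊢
      interval_cases i <;> simp_all
    obtain ⟨w, hw, hwz⟩ : ∃ w ∈ centralizer (M : Set P), w ∉ center P := by
      by_contra h
      push Not at h
      have := card_le_of_le (show centralizer (M : Set P) ≤ center P from h)
      rw [CfsgLib.LargeExtra.centre_card b.hE] at this
      nlinarith
    have hcomm : ∀ x, Inv' z x → x * w = w * x := fun x hx =>
      mem_centralizer_iff.1 hw x (mem_sup_left (subset_closure hx))
    have hw1 : w ≠ 1 := fun h => hwz (h ▸ one_mem _)
    have hwz' : w ≠ z := fun h => hwz (h ▸ (mem_center_iff' b z).2 (Or.inr rfl))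
    by_cases hw2 : w * w = 1
    · have hsub : ∀ x : {x : P // Inv' z x}, (x : P) = w ∨ (x : P) = z * w := fun x =>
        eq_of_commute b ⟨hw2, hw1, hwz'⟩ x.2 (hcomm x x.2).symm
      have hle : Nat.card {x : P // Inv' z x} ≤ 2 := by
        rw [Nat.card_eq_fintype_card, Fintype.card_subtype]
        refine le_trans (Finset.card_le_card (t := {w, z * w}) fun x hx => ?_) Finset.card_le_two
        simp only [Finset.mem_filter] at hx
        simpa using hsub ⟨x, hx.2⟩
      rw [card_invol b] at hle
      omega
    · set C : Finset P := Finset.univ.filter fun a => a * w = w * a with hC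
      have hC16 : C.card = 16 := by
        rw [hC, ← Fintype.card_subtype, ← Nat.card_eq_fintype_card, ← card_centralizer_singleton b hw1 hwz']
        exact Nat.card_congr (Equiv.subtypeEquivRight fun a => mem_centralizer_singleton_iff.symm)
      have hww : w * w = z := (sq_cases b.toBase w).resolve_left hw2
      have hflip : ∀ a ∈ C, (a * w * (a * w) = 1 ↔ ¬ a * a = 1) := by
        intro a ha
        have hc : a * w = w * a := (Finset.mem_filter.1 ha).2
        have e : a * w * (a * w) = a * a * z := by
          calc a * w * (a * w) = a * (w * a) * w := by group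
            _ = a * (a * w) * w := by rw [hc]
            _ = a * a * (w * w) := by group
            _ = _ := by rw [hww]
        rw [e]
        rcases sq_cases b.toBase a with h | h <;> simp [h, b.hz, b.hz1]
      have heq : (C.filter fun a => a * a = 1).card = (C.filter fun a => ¬ a * a = 1).card := by
        refine Finset.card_bij (fun a _ => a * w) ?_ ?_ ?_
        · intro a ha
          obtain ⟨haC, ha1⟩ := Finset.mem_filter.1 ha
          refine Finset.mem_filter.2 ⟨Finset.mem_filter.2 ⟨Finset.mem_univ _, ?_⟩, fun h => (hflip a haC).1 h ha1⟩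
          rw [(Finset.mem_filter.1 haC).2, mul_assoc, (Finset.mem_filter.1 haC).2]
        · intro a _ a' _ h
          exact mul_right_cancel h
        · intro c hc
          obtain ⟨hcC, hc1⟩ := Finset.mem_filter.1 hc
          have hC' : c * w⁻¹ ∈ C := by
            refine Finset.mem_filter.2 ⟨Finset.mem_univ _, ?_⟩
            rw [inv_mul_cancel_right, ← mul_assoc, ← (Finset.mem_filter.1 hcC).2, mul_inv_cancel_right]
          refine ⟨c * w⁻¹, Finset.mem_filter.2 ⟨hC', ?_⟩, inv_mul_cancel_right c w⟩
          by_contra h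
          exact hc1 (by simpa using (hflip _ hC').2 h)
      have h8 : (C.filter fun a => a * a = 1).card = 8 := by
        have := Finset.card_filter_add_card_filter_not (s := C) fun a => a * a = 1
        omega
      have hsub : (Finset.univ.filter fun x => Inv' z x) ⊆ C.filter fun a => a * a = 1 := by
        intro x hx
        have hx' := (Finset.mem_filter.1 hx).2
        exact Finset.mem_filter.2 ⟨Finset.mem_filter.2 ⟨Finset.mem_univ _, hcomm x hx'⟩, hx'.1⟩
      have := Finset.card_le_card hsub
      rw [h8, ← Fintype.card_subtype, ← Nat.card_eq_fintype_card, card_invol b] at this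
      omega
  obtain ⟨x, hx⟩ : ∃ x, Inv' z x := by
    by_contra h
    push Not at h
    have : IsEmpty {x : P // Inv' z x} := ⟨fun w => h _ w.2⟩
    have := card_invol b
    rw [Nat.card_of_isEmpty] at this
    omega
  have hzx : Inv' z (z * x) := by
    refine ⟨?_, fun h => hx.2.2 ?_, fun h => hx.2.1 (mul_eq_left.1 h)⟩
    · calc z * x * (z * x) = z * (x * z) * x := by group
        _ = z * (z * x) * x := by rw [b.hzc]
        _ = (z * z) * (x * x) := by group
        _ = 1 := by rw [b.hz, hx.1, one_mul]
    · rw [← inv_eq_of_mul_eq_one_right h, inv_eq_of_mul_eq_one_right b.hz]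
  have hzmem : z ∈ closure {x : P | Inv' z x} := by
    simpa [mul_assoc] using mul_mem (Subgroup.subset_closure hzx : z * x ∈ closure {x : P | Inv' z x}) (inv_mem (Subgroup.subset_closure hx : x ∈ closure {x : P | Inv' z x}))
  rw [eq_top_iff, ← hMtop]
  refine sup_le le_rfl fun a ha => ?_
  rcases b.hcen a ha with rfl | rfl
  · exact one_mem _
  · exact hzmem

/-- The pairs of noncentral involutions, as elements of the central quotient. -/
def pts (z : P) : Set (P ⧸ center P) := {q | ∃ x, Inv' z x ∧ (x : P ⧸ center P) = q}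

theorem mk_eq_iff {x y : P} : (x : P ⧸ center P) = y ↔ y = x ∨ y = z * x := by
  rw [QuotientGroup.eq, mem_center_iff' b, inv_mul_eq_one, inv_mul_eq_iff_eq_mul, b.hzc, eq_comm]

theorem inv_mul_center {x c : P} (hx : Inv' z x) (hc : c ∈ center P) : Inv' z (x * c) := by
  rcases b.hcen c hc with rfl | rfl
  · rwa [mul_one]
  · refine ⟨?_, fun h => hx.2.2 ?_, fun h => hx.2.1 (mul_eq_right.1 h)⟩
    · calc x * c * (x * c) = x * (c * x) * c := by group
        _ = x * (x * c) * c := by rw [← b.hzc x]
        _ = (x * x) * (c * c) := by group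
        _ = 1 := by rw [b.hz, hx.1, one_mul]
    · rw [eq_inv_of_mul_eq_one_left h, inv_eq_of_mul_eq_one_right b.hz]

theorem card_pts : Nat.card (pts z) = 5 := by
  choose r hr hrq using fun q : pts z => q.2
  let f : pts z × center P → {x : P // Inv' z x} := fun qc => ⟨r qc.1 * qc.2, inv_mul_center b (hr qc.1) qc.2.2⟩
  have hbij : Function.Bijective f := by
    constructor
    · rintro ⟨q, c⟩ ⟨q', c'⟩ h
      have h' : r q * (c : P) = r q' * c' := congrArg Subtype.val h
      have e := congrArg (fun w : P => (w : P ⧸ center P)) h'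
      simp only [QuotientGroup.mk_mul, (QuotientGroup.eq_one_iff _).2 c.2, (QuotientGroup.eq_one_iff _).2 c'.2,
        mul_one, hrq] at e
      obtain rfl : q = q' := Subtype.ext e
      exact Prod.ext rfl (Subtype.ext (mul_left_cancel h'))
    · rintro ⟨x, hx⟩
      let q : pts z := ⟨(x : P ⧸ center P), x, hx, rfl⟩
      have hm : (r q)⁻¹ * x ∈ center P := QuotientGroup.eq.1 (hrq q)
      exact ⟨(q, ⟨_, hm⟩), Subtype.ext (mul_inv_cancel_left _ _)⟩
  have h := Nat.card_congr (Equiv.ofBijective f hbij)
  rw [Nat.card_prod, CfsgLib.LargeExtra.centre_card b.hE, card_invol b] at h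
  omega

theorem apply_z (φ : MulAut P) : φ z = z := by
  have hz : z ∈ center P := (mem_center_iff' b z).2 (Or.inr rfl)
  have : φ z ∈ center P := mem_center_iff.2 fun g => by
    rw [← φ.apply_symm_apply g, ← map_mul, ← map_mul, b.hzc]
  exact (b.hcen _ this).resolve_left fun h => b.hz1 (φ.injective (h.trans (map_one φ).symm))

theorem apply_inv {x : P} (φ : MulAut P) (hx : Inv' z x) : Inv' z (φ x) :=
  ⟨by rw [← map_mul, hx.1, map_one], fun h => hx.2.1 (φ.injective (h.trans (map_one φ).symm)),
    fun h => hx.2.2 (φ.injective (h.trans (apply_z b φ).symm))⟩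

/-- The map of the central quotient induced by an automorphism. -/
noncomputable def ind (φ : MulAut P) : P ⧸ center P →* P ⧸ center P :=
  QuotientGroup.map _ _ φ.toMonoidHom
    (le_of_eq (Subgroup.characteristic_iff_comap_eq.1 inferInstance φ).symm)

omit b in
theorem ind_mk (φ : MulAut P) (x : P) : ind φ (x : P ⧸ center P) = (φ x : P ⧸ center P) := rfl

omit b in
theorem ind_mul (φ ψ : MulAut P) (q : P ⧸ center P) : ind (φ * ψ) q = ind φ (ind ψ q) := by
  induction q using QuotientGroup.induction_on with | _ x => rfl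

theorem ind_mem (φ : MulAut P) {q : P ⧸ center P} (hq : q ∈ pts z) : ind φ q ∈ pts z := by
  obtain ⟨x, hx, rfl⟩ := hq
  exact ⟨φ x, apply_inv b φ hx, (ind_mk φ x).symm⟩

/-- The permutation of the five points. -/
noncomputable def perm : MulAut P →* Equiv.Perm (pts z) :=
  MonoidHom.mk' (fun φ =>
    { toFun := fun q => ⟨ind φ q, ind_mem b φ q.2⟩
      invFun := fun q => ⟨ind φ⁻¹ q, ind_mem b φ⁻¹ q.2⟩
      left_inv := fun q => Subtype.ext (by
        show ind φ⁻¹ (ind φ q) = q
        rw [← ind_mul, inv_mul_cancel]
        obtain ⟨x, hx⟩ := QuotientGroup.mk_surjective (q : P ⧸ center P)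
        rw [← hx]; rfl)
      right_inv := fun q => Subtype.ext (by
        show ind φ (ind φ⁻¹ q) = q
        rw [← ind_mul, mul_inv_cancel]
        obtain ⟨x, hx⟩ := QuotientGroup.mk_surjective (q : P ⧸ center P)
        rw [← hx]; rfl) })
    (fun φ ψ => Equiv.ext fun q => Subtype.ext (ind_mul φ ψ q))

theorem ker_perm : (perm b).ker = (MulAut.conj : P →* MulAut P).range := by
  ext φ
  rw [MonoidHom.mem_ker]
  constructor
  · intro h
    have hfix : ∀ q : P ⧸ center P, ind φ q = q := by
      intro q
      induction q using QuotientGroup.induction_on with | _ a =>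
      have hle : closure {x : P | Inv' z x} ≤
          ((ind φ).eqLocus (MonoidHom.id _)).comap (QuotientGroup.mk' (center P)) := by
        rw [closure_le]
        intro x hx
        exact congrArg Subtype.val (Equiv.congr_fun h (⟨(x : P ⧸ center P), x, hx, rfl⟩ : pts z))
      exact hle (closure_invol b ▸ mem_top a)
    obtain ⟨g, hg⟩ := CfsgLib.LargeExtra.exists_inner_of_trivial_mod_center b.hE φ fun x => by
      have h1 := hfix (x : P ⧸ center P)
      rw [ind_mk, eq_comm, QuotientGroup.eq] at h1
      have := (inferInstance : (center P).Normal).conj_mem _ h1 x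
      simpa [mul_assoc] using this
    exact ⟨g, MulEquiv.ext fun x => (hg x).symm⟩
  · rintro ⟨g, rfl⟩
    refine Equiv.ext fun q => Subtype.ext ?_
    show ind (MulAut.conj g) q = q
    obtain ⟨x, hx⟩ := QuotientGroup.mk_surjective (q : P ⧸ center P)
    rw [← hx, ind_mk, QuotientGroup.eq, MulAut.conj_apply]
    rcases b.hcen _ (CfsgLib.LargeExtra.comm_mem_center b.hE g x) with h | h
    · rw [mul_inv_eq_one] at h
      rw [h, inv_mul_cancel]
      exact one_mem _
    · rw [eq_mul_of_mul_inv_eq h, mul_inv_rev, mul_assoc, mem_center_iff' b,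
        inv_eq_of_mul_eq_one_right b.hz, ← b.hzc x, ← mul_assoc, inv_mul_cancel, one_mul]
      exact Or.inr rfl

theorem exists_transvection {w : P} (hw : w * w = z) :
    ∃ φ : MulAut P, (∀ a, a * w = w * a → φ a = a) ∧ ∀ a, a * w ≠ w * a → φ a = a * w := by
  classical
  have hwinv : ∀ a, a * w ≠ w * a → w * a = z * (a * w) := fun a ha =>
    (comm_cases b.toBase w a).resolve_left (Ne.symm ha)
  let f : P →* P := MonoidHom.mk' (fun a => if a * w = w * a then a else a * w) (by
    intro a c
    by_cases ha : a * w = w * a <;> by_cases hc : c * w = w * c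
    · have : a * c * w = w * (a * c) := by rw [mul_assoc, hc, ← mul_assoc, ha, mul_assoc]
      rw [if_pos ha, if_pos hc, if_pos this]
    · have : ¬ a * c * w = w * (a * c) := by
        intro h
        rw [← mul_assoc w, ← ha, mul_assoc, mul_assoc, mul_left_cancel_iff] at h
        exact hc h
      rw [if_pos ha, if_neg hc, if_neg this, mul_assoc]
    · have : ¬ a * c * w = w * (a * c) := by
        intro h
        rw [mul_assoc, hc, ← mul_assoc, ← mul_assoc w, mul_right_cancel_iff] at h
        exact ha h
      rw [if_neg ha, if_pos hc, if_neg this, mul_assoc, mul_assoc, hc]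
    · have hc' := hwinv c hc
      have ha' := hwinv a ha
      have : a * c * w = w * (a * c) := by
        rw [← mul_assoc w a, ha', mul_assoc z, mul_assoc a w c, hc']
        calc a * c * w = (z * z) * (a * (c * w)) := by rw [b.hz, one_mul, mul_assoc]
          _ = z * ((z * a) * (c * w)) := by group
          _ = z * (a * (z * (c * w))) := by rw [← b.hzc a]; group
      rw [if_neg ha, if_neg hc, if_pos this]
      calc a * c = a * (c * (z * z)) := by rw [b.hz, mul_one]
        _ = a * ((z * c) * z) := by rw [← b.hzc c]; group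
        _ = a * ((z * c) * (w * w)) := by rw [hw]
        _ = a * (z * (c * w)) * w := by group
        _ = a * (w * c) * w := by rw [hc']
        _ = a * w * (c * w) := by group)
  have hinj : Function.Injective f := by
    rw [injective_iff_map_eq_one]
    intro a ha
    by_cases h : a * w = w * a
    · simpa [f, if_pos h] using ha
    · have h1 : a * w = 1 := by simpa [f, if_neg h] using ha
      exact absurd (h1.trans (mul_eq_one_comm.1 h1).symm) h
  refine ⟨MulEquiv.ofBijective f ((Finite.injective_iff_bijective).1 hinj), fun a h => if_pos h, fun a h => if_neg h⟩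

theorem perm_surjective : Function.Surjective (perm b) := by
  classical
  rw [← MonoidHom.range_eq_top, eq_top_iff, ← Equiv.Perm.closure_isSwap, closure_le]
  rintro σ ⟨q, q', hne, rfl⟩
  obtain ⟨x, hx, hxq⟩ := q.2
  obtain ⟨y, hy, hyq⟩ := q'.2
  have hnc : ∀ {u v : P}, Inv' z u → Inv' z v → (u : P ⧸ center P) ≠ v → u * v = z * (v * u) := fun hu hv huv =>
    (comm_cases b.toBase _ _).resolve_left fun h =>
      huv ((mk_eq_iff b).2 (eq_of_commute b hu hv h))
  have hxy : (x : P ⧸ center P) ≠ y := fun h => hne (Subtype.ext (by rw [← hxq, ← hyq, h]))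
  have exy := hnc hx hy hxy
  set w := x * y with hw
  have hxw : x * w = y := by rw [hw, ← mul_assoc, hx.1, one_mul]
  have hwy : w * y = x := by rw [hw, mul_assoc, hy.1, mul_one]
  have hwx : w * x = z * y := by
    calc w * x = z * (y * x) * x := by rw [← exy]
      _ = z * (y * (x * x)) := by group
      _ = z * y := by rw [hx.1, mul_one]
  have hyw : y * w = z * x := by
    have eyx := hnc hy hx hxy.symm
    calc y * w = (y * x) * y := by rw [hw, mul_assoc]
      _ = z * (x * y) * y := by rw [eyx]
      _ = z * (x * (y * y)) := by group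
      _ = z * x := by rw [hy.1, mul_one]
  have hww : w * w = z := by
    calc w * w = x * (y * w) := by rw [hw]; group
      _ = x * (z * x) := by rw [hyw]
      _ = (x * z) * x := by group
      _ = (z * x) * x := by rw [b.hzc]
      _ = z := by rw [mul_assoc, hx.1, mul_one]
  obtain ⟨φ, hφc, hφn⟩ := exists_transvection b hww
  refine ⟨φ, Equiv.ext fun t => Subtype.ext ?_⟩
  show ind φ t = _
  by_cases htq : t = q
  · subst htq
    rw [Equiv.swap_apply_left, ← hxq, ← hyq, ind_mk, hφn x ?_, hxw]
    rw [hxw, hwx]
    exact fun h => b.hz1 (mul_eq_right.1 h.symm)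
  by_cases htq' : t = q'
  · subst htq'
    rw [Equiv.swap_apply_right, ← hxq, ← hyq, ind_mk, hφn y ?_, hyw, mk_eq_iff b]
    · exact Or.inr (by rw [← mul_assoc, b.hz, one_mul])
    · rw [hyw, hwy]
      exact fun h => b.hz1 (mul_eq_right.1 h)
  rw [Equiv.swap_apply_of_ne_of_ne htq htq']
  obtain ⟨u, hu, hut⟩ := t.2
  have hux := hnc hu hx (fun h => htq (Subtype.ext (by rw [← hut, ← hxq, h])))
  have huy := hnc hu hy (fun h => htq' (Subtype.ext (by rw [← hut, ← hyq, h])))
  rw [← hut, ind_mk, hφc u ?_]
  calc u * w = (u * x) * y := by rw [hw]; group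
    _ = z * (x * u) * y := by rw [hux, mul_assoc]
    _ = z * (x * (u * y)) := by group
    _ = z * ((x * z) * (y * u)) := by rw [huy]; group
    _ = (z * z) * (x * (y * u)) := by rw [b.hzc]; group
    _ = w * u := by rw [b.hz, one_mul, hw, mul_assoc]

theorem card_inn : Nat.card (MulAut.conj : P →* MulAut P).range = 16 := by
  have hker : (MulAut.conj : P →* MulAut P).ker = center P := by
    ext g
    rw [MonoidHom.mem_ker, mem_center_iff]
    constructor
    · intro h x
      have := DFunLike.congr_fun h x
      rw [MulAut.conj_apply, MulAut.one_apply, mul_inv_eq_iff_eq_mul] at this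
      exact this.symm
    · intro h
      refine MulEquiv.ext fun x => ?_
      rw [MulAut.conj_apply, MulAut.one_apply, ← h x, mul_inv_cancel_right]
  have h := (MulAut.conj : P →* MulAut P).ker.index_mul_card
  rw [index_ker, hker, CfsgLib.LargeExtra.centre_card b.hE, b.h32] at h
  omega

theorem main [(MulAut.conj : P →* MulAut P).range.Normal] :
    Nat.card ↥(MulAut.conj : P →* MulAut P).range = 16 ∧ Nat.card (MulAut P) = 1920 ∧
      Nonempty ((MulAut P ⧸ (MulAut.conj : P →* MulAut P).range) ≃* Equiv.Perm (Fin 5)) := by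
  classical
  have := Fintype.ofFinite (pts z)
  let e : pts z ≃ Fin 5 := Fintype.equivFinOfCardEq (by rw [← Nat.card_eq_fintype_card, card_pts b])
  let E : (MulAut P ⧸ (MulAut.conj : P →* MulAut P).range) ≃* Equiv.Perm (Fin 5) :=
    ((QuotientGroup.quotientMulEquivOfEq (ker_perm b).symm).trans
      (QuotientGroup.quotientKerEquivOfSurjective (perm b) (perm_surjective b))).trans e.permCongrHom
  refine ⟨card_inn b, ?_, ⟨E⟩⟩
  rw [card_eq_card_quotient_mul_card_subgroup (MulAut.conj : P →* MulAut P).range, card_inn b,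
    Nat.card_congr E.toEquiv, Nat.card_perm, Nat.card_fin]
  norm_num [Nat.factorial]

end CfsgLib.PGroup.MinusThirtyTwoAut
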