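import Mathlib

/-!
# Irreducible automorphisms of prime order
-/

set_option autoImplicit false

namespace CfsgLib.PGroup

open Polynomial

/-- A `ZMod q`-module with an irreducible automorphism of prime order `p ≠ q` has order `q ^ e`,
`e` the order of `q` modulo `p`. -/
theorem card_of_irreducible_aux {p q : ℕ} [hp : Fact p.Prime] [hq : Fact q.Prime] (hpq : q ≠ p)
    {M : Type*} [AddCommGroup M] [Module (ZMod q) M] [Finite M]
    (φ : Module.End (ZMod q) M) (hφ : φ ^ p = 1) (hne : φ ≠ 1)
    (hirr : ∀ W : Submodule (ZMod q) M, (∀ w ∈ W, φ w ∈ W) → W = ⊥ ∨ W = ⊤) :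
    Nat.card M = q ^ orderOf (q : ZMod p) := by
  classical
  haveI : Finite (Module.End (ZMod q) M) := Finite.of_injective (fun f : Module.End (ZMod q) M => (f : M → M))
    (fun f g h => LinearMap.ext fun v => congrFun h v)
  set A : Subalgebra (ZMod q) (Module.End (ZMod q) M) := Algebra.adjoin (ZMod q) {φ}
  have hφA : φ ∈ A := Algebra.subset_adjoin rfl
  have hcA : ∀ a ∈ A, Commute φ a := by
    intro a ha
    induction ha using Algebra.adjoin_induction with
    | mem x hx => rw [Set.mem_singleton_iff.1 hx]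
    | algebraMap r => exact (Algebra.commute_algebraMap_left r φ).symm
    | add x y _ _ hx hy => exact hx.add_right hy
    | mul x y _ _ hx hy => exact hx.mul_right hy
  letI : CommRing A :=
    { (inferInstance : Ring A) with
      mul_comm := fun a b => Subtype.ext (by
        obtain ⟨a, ha⟩ := a
        obtain ⟨b, hb⟩ := b
        show a * b = b * a
        induction ha using Algebra.adjoin_induction with
        | mem x hx => rw [Set.mem_singleton_iff.1 hx]; exact hcA b hb
        | algebraMap r => exact Algebra.commute_algebraMap_left r b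
        | add x y _ _ hx hy => exact (Commute.add_left hx hy)
        | mul x y _ _ hx hy => exact (Commute.mul_left hx hy)) }
  obtain ⟨v, hv⟩ : ∃ v : M, v ≠ 0 := by
    by_contra! h
    exact hne (LinearMap.ext fun v => (h _).trans (h _).symm)
  haveI : Nontrivial A := ⟨⟨0, 1, fun h => hv (by
    have h' := congrArg (fun a : A => (a : Module.End (ZMod q) M) v) h
    simpa using h'.symm)⟩⟩
  -- nonzero elements are injective
  have hinj : ∀ a : A, a ≠ 0 → LinearMap.ker (a : Module.End (ZMod q) M) = ⊥ := by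
    intro a ha
    refine (hirr _ fun w hw => ?_).resolve_right fun h => ha (Subtype.ext (LinearMap.ker_eq_top.1 h))
    rw [LinearMap.mem_ker] at hw ⊢
    have := congrArg (fun f : Module.End (ZMod q) M => f w) (hcA a a.2).eq
    simp only [Module.End.mul_apply] at this
    rw [← this, hw, map_zero]
  haveI : NoZeroDivisors A := ⟨fun {a b} hab => or_iff_not_imp_left.2 fun ha => Subtype.ext (LinearMap.ext fun w => by
    have h := congrArg (fun c : A => (c : Module.End (ZMod q) M) w) hab
    simp only [Subalgebra.coe_mul, Module.End.mul_apply, ZeroMemClass.coe_zero, LinearMap.zero_apply] at h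
    simpa using (LinearMap.ker_eq_bot'.1 (hinj a ha)) _ h)⟩
  haveI : IsDomain A := NoZeroDivisors.to_isDomain A
  haveI := Fintype.ofFinite A
  letI : Field A := Fintype.fieldOfDomain A
  -- `M` is cyclic over `A`
  let ev : A →ₗ[ZMod q] M :=
    { toFun := fun a => (a : Module.End (ZMod q) M) v
      map_add' := fun _ _ => rfl
      map_smul' := fun _ _ => rfl }
  have hev : Function.Bijective ev := by
    refine ⟨(injective_iff_map_eq_zero ev).2 fun a ha => ?_, ?_⟩
    · by_contra h
      exact hv (LinearMap.ker_eq_bot'.1 (hinj a h) v ha)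
    · rw [← LinearMap.range_eq_top]
      refine (hirr _ ?_).resolve_left fun h => hv ?_
      · rintro _ ⟨a, rfl⟩
        exact ⟨⟨φ, hφA⟩ * a, rfl⟩
      · exact (Submodule.mem_bot (ZMod q)).1 (h ▸ ⟨1, rfl⟩)
  have hcard : Nat.card M = Nat.card A := (Nat.card_congr (Equiv.ofBijective _ hev)).symm
  obtain ⟨d, hd⟩ : ∃ d, Nat.card A = q ^ d :=
    ⟨_, by rw [Module.natCard_eq_pow_finrank (K := ZMod q) (V := A), Nat.card_zmod]⟩
  rw [hcard, hd]
  set e := orderOf (q : ZMod p) with he
  congr 1
  set f : A := ⟨φ, hφA⟩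
  have hfp : f ^ p = 1 := Subtype.ext hφ
  have hf1 : f ≠ 1 := fun h => hne (congrArg Subtype.val h)
  have hford : orderOf f = p := orderOf_eq_prime hfp hf1
  have hf0 : f ≠ 0 := fun h => by
    rw [h, zero_pow hp.out.ne_zero] at hfp
    exact zero_ne_one hfp
  have hfd : p ∣ q ^ d - 1 := by
    rw [← hford, ← hd, Nat.card_eq_fintype_card]
    exact orderOf_dvd_of_pow_eq_one (FiniteField.pow_card_sub_one_eq_one f hf0)
  have hq1 : 1 ≤ q ^ d := Nat.one_le_pow _ _ hq.out.pos
  have hed : e ∣ d := by
    refine orderOf_dvd_of_pow_eq_one ?_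
    rw [← Nat.cast_pow, ← Nat.cast_one (R := ZMod p), eq_comm, ZMod.natCast_eq_natCast_iff]
    exact (Nat.modEq_iff_dvd' hq1).2 hfd
  have hd0 : d ≠ 0 := fun h => by
    rw [h, pow_zero] at hd
    exact absurd hd (Finite.one_lt_card (α := A)).ne'
  -- conversely every element is fixed by the `q ^ e` power map
  have hqe : 1 ≤ q ^ e := Nat.one_le_pow _ _ hq.out.pos
  have hfe : f ^ q ^ e = f := by
    have h1 : p ∣ q ^ e - 1 := by
      rw [← Nat.modEq_iff_dvd' hqe, Nat.ModEq.comm, ← ZMod.natCast_eq_natCast_iff]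
      push_cast
      exact pow_orderOf_eq_one _
    obtain ⟨c, hc⟩ := h1
    have h3 : q ^ e = p * c + 1 := by omega
    rw [h3, pow_succ, pow_mul, hfp, one_pow, one_mul]
  haveI : CharP A q := charP_of_injective_algebraMap (algebraMap (ZMod q) A).injective q
  have hall : ∀ a : A, a ^ q ^ e = a := by
    rintro ⟨a, ha⟩
    induction ha using Algebra.adjoin_induction with
    | mem x hx =>
      obtain rfl := Set.mem_singleton_iff.1 hx
      exact hfe
    | algebraMap r =>
      rw [show (⟨algebraMap (ZMod q) (Module.End (ZMod q) M) r, _⟩ : A) = algebraMap (ZMod q) A r from rfl,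
        ← map_pow, ZMod.pow_card_pow]
    | add x y hx hy ihx ihy =>
      rw [show (⟨x + y, _⟩ : A) = ⟨x, hx⟩ + ⟨y, hy⟩ from rfl, add_pow_char_pow, ihx, ihy]
    | mul x y hx hy ihx ihy =>
      rw [show (⟨x * y, _⟩ : A) = ⟨x, hx⟩ * ⟨y, hy⟩ from rfl, mul_pow, ihx, ihy]
  have hle : q ^ d ≤ q ^ e := by
    rw [← hd, Nat.card_eq_fintype_card]
    have he0 : e ≠ 0 := fun h => by
      rw [h] at hed
      exact hd0 (Nat.eq_zero_of_zero_dvd hed)
    have hdeg : 1 < q ^ e := Nat.one_lt_pow he0 hq.out.one_lt
    have hne0 : ((X : A[X]) ^ (q ^ e) - X) ≠ 0 := FiniteField.X_pow_card_sub_X_ne_zero A hdeg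
    calc Fintype.card A = (Finset.univ : Finset A).card := rfl
      _ ≤ ((X : A[X]) ^ (q ^ e) - X).roots.toFinset.card := by
          refine Finset.card_le_card fun a _ => ?_
          rw [Multiset.mem_toFinset, mem_roots hne0, IsRoot.def, eval_sub, eval_pow, eval_X, hall a, sub_self]
      _ ≤ _ := (Multiset.toFinset_card_le _).trans
          ((card_roots' _).trans_eq (FiniteField.X_pow_card_sub_X_natDegree_eq A hdeg))
  exact le_antisymm ((Nat.pow_le_pow_iff_right hq.out.one_lt).1 hle) (Nat.le_of_dvd (Nat.pos_of_ne_zero hd0) hed)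

/-- Version for an elementary abelian group. -/
theorem card_of_irreducible {p q : ℕ} [Fact p.Prime] [Fact q.Prime] (hpq : q ≠ p)
    {M : Type*} [AddCommGroup M] [Finite M] (he : ∀ x : M, q • x = 0)
    (φ : M →+ M) (hφ : ∀ x, φ^[p] x = x) (hne : ∃ x, φ x ≠ x)
    (hirr : ∀ W : AddSubgroup M, (∀ w ∈ W, φ w ∈ W) → W = ⊥ ∨ W = ⊤) :
    Nat.card M = q ^ orderOf (q : ZMod p) :=
  let inst : Module (ZMod q) M := AddCommGroup.zmodModule (n := q) (G := M) he
  @card_of_irreducible_aux p q _ _ hpq M _ inst _ (AddMonoidHom.toZModLinearMap q φ)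
    (LinearMap.ext fun x => by rw [Module.End.pow_apply]; exact hφ x)
    (fun h => hne.elim fun x hx => hx (LinearMap.congr_fun h x))
    (fun W hW => (hirr W.toAddSubgroup hW).imp
      (fun h => Submodule.toAddSubgroup_injective (h.trans (Submodule.bot_toAddSubgroup).symm))
      (fun h => Submodule.toAddSubgroup_injective (h.trans (Submodule.top_toAddSubgroup).symm)))

end CfsgLib.PGroup
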