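import Cfsg.Agent.Lib.PGroup.Kreknin
import Mathlib.GroupTheory.Nilpotent
import Mathlib.GroupTheory.QuotientGroup.Basic
import Mathlib.Algebra.DirectSum.Basic
import Mathlib.GroupTheory.OrderOfElement
import Mathlib.Tactic.Group

/-!
The Lie ring of the lower central series, and the class bound of Higman, Kreknin and Kostrikin.
-/

namespace CfsgLib.PGroup.Kreknin

open Subgroup
open scoped commutatorElement DirectSum

variable {G : Type*} [Group G]

/-- Lower central series, starting at index `0`. -/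
abbrev gam (G : Type*) [Group G] (n : ℕ) : Subgroup G := (⊤ : Subgroup G).lowerCentralSeries n

theorem gam_succ_le (n : ℕ) : gam G (n + 1) ≤ gam G n :=
  Subgroup.lowerCentralSeries_antitone (⊤ : Subgroup G) (Nat.le_succ n)

theorem comm_gam : ∀ n m : ℕ, ⁅gam G m, gam G n⁆ ≤ gam G (m + n + 1) := by
  intro n
  induction n with
  | zero => intro m; exact le_rfl
  | succ n ih =>
    intro m
    set N := gam G (m + (n + 1) + 1) with hN
    haveI : N.Normal := inferInstance
    have key : ⁅⁅gam G n, (⊤ : Subgroup G)⁆, gam G m⁆ ≤ N := by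
      have h1 : ⁅⁅(⊤ : Subgroup G), gam G m⁆, gam G n⁆ ≤ N := by
        rw [commutator_comm (⊤ : Subgroup G)]
        refine (ih (m + 1)).trans (le_of_eq ?_)
        rw [hN, show m + 1 + n + 1 = m + (n + 1) + 1 by omega]
      have h2 : ⁅⁅gam G m, gam G n⁆, (⊤ : Subgroup G)⁆ ≤ N := by
        refine (commutator_mono (ih m) le_rfl).trans (le_of_eq ?_)
        rw [hN, show m + (n + 1) + 1 = m + n + 1 + 1 by omega]
        rfl
      have hbot : ∀ X : Subgroup G, X ≤ N ↔ X.map (QuotientGroup.mk' N) = ⊥ := fun X => by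
        rw [Subgroup.map_eq_bot_iff, QuotientGroup.ker_mk']
      rw [hbot, map_commutator, map_commutator] at h1 h2 ⊢
      exact commutator_commutator_eq_bot_of_rotate h1 h2
    calc ⁅gam G m, gam G (n + 1)⁆ = ⁅⁅gam G n, (⊤ : Subgroup G)⁆, gam G m⁆ := by
          rw [commutator_comm]; rfl
      _ ≤ N := key

theorem comm_gam_mem {m n : ℕ} {x y : G} (hx : x ∈ gam G m) (hy : y ∈ gam G n) : ⁅x, y⁆ ∈ gam G (m + n + 1) :=
  comm_gam n m (commutator_mem_commutator hx hy)

theorem comm_gam_next {n : ℕ} {x : G} (hx : x ∈ gam G n) (g : G) : ⁅x, g⁆ ∈ gam G (n + 1) :=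
  commutator_mem_commutator hx (mem_top g)

/-- The factor `n`. -/
abbrev FactorM (G : Type*) [Group G] (n : ℕ) := ↥(gam G n) ⧸ (gam G (n + 1)).subgroupOf (gam G n)

instance factorComm (n : ℕ) : CommGroup (FactorM G n) :=
  { (inferInstance : Group (FactorM G n)) with
    mul_comm := fun a b => by
      induction a using QuotientGroup.induction_on with
      | H a =>
        induction b using QuotientGroup.induction_on with
        | H b =>
          rw [← QuotientGroup.mk_mul, ← QuotientGroup.mk_mul, QuotientGroup.eq, mem_subgroupOf]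
          have h := comm_gam_next (inv_mem b.2) ((a : G)⁻¹)
          convert h using 1
          simp only [Subgroup.coe_mul, Subgroup.coe_inv, commutatorElement_def]
          group }

/-- The additive factor. -/
abbrev Factor (G : Type*) [Group G] (n : ℕ) := Additive (FactorM G n)

/-- The Lie ring. -/
abbrev Gr (G : Type*) [Group G] := ⨁ n : ℕ, Factor G n

/-- The class of an element. -/
noncomputable def cls (n : ℕ) : Additive ↥(gam G n) →+ Gr G :=
  (DirectSum.of (Factor G) n).comp
    (MonoidHom.toAdditive (QuotientGroup.mk' ((gam G (n + 1)).subgroupOf (gam G n))))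

/-- The class of an element, multiplicatively written argument. -/
noncomputable def gcl (n : ℕ) (x : ↥(gam G n)) : Gr G := cls n (Additive.ofMul x)

theorem gcl_mul {n : ℕ} (x y : ↥(gam G n)) : gcl n (x * y) = gcl n x + gcl n y := map_add (cls n) _ _

theorem gcl_inv {n : ℕ} (x : ↥(gam G n)) : gcl n x⁻¹ = - gcl n x := map_neg (cls n) _

theorem gcl_one {n : ℕ} : gcl n (1 : ↥(gam G n)) = 0 := map_zero (cls n)

theorem gcl_eq_zero {n : ℕ} (x : ↥(gam G n)) : gcl n x = 0 ↔ (x : G) ∈ gam G (n + 1) := by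
  constructor
  · intro h
    have h1 : (x : FactorM G n) = 1 :=
      DirectSum.of_injective (β := Factor G) n (h.trans (map_zero (DirectSum.of (Factor G) n)).symm)
    exact mem_subgroupOf.1 ((QuotientGroup.eq_one_iff x).1 h1)
  · intro h
    have h1 : (x : FactorM G n) = 1 := (QuotientGroup.eq_one_iff x).2 (mem_subgroupOf.2 h)
    show DirectSum.of (Factor G) n (Additive.ofMul (x : FactorM G n)) = 0
    rw [h1]; exact map_zero _

theorem gcl_congr {n n' : ℕ} (e : n = n') {x : ↥(gam G n)} {x' : ↥(gam G n')} (h : (x : G) = x') :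
    gcl n x = gcl n' x' := by
  subst e; rw [Subtype.ext h]

theorem gcl_mod {n : ℕ} {x y : ↥(gam G n)} (h : (y : G)⁻¹ * x ∈ gam G (n + 1)) : gcl n x = gcl n y := by
  have := (gcl_eq_zero (y⁻¹ * x)).2 (by simpa using h)
  rwa [gcl_mul, gcl_inv, neg_add_eq_zero, eq_comm] at this

/-- The commutator as an element of its term. -/
def bc {m n : ℕ} (x : ↥(gam G m)) (y : ↥(gam G n)) : ↥(gam G (m + n + 1)) := ⟨⁅(x : G), (y : G)⁆, comm_gam_mem x.2 y.2⟩

theorem gcl_bc_mul_left {m n : ℕ} (x x' : ↥(gam G m)) (y : ↥(gam G n)) :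
    gcl _ (bc (x * x') y) = gcl _ (bc x y) + gcl _ (bc x' y) := by
  rw [← gcl_mul]
  refine gcl_mod ?_
  have h2 : (x : G) * ⁅(x' : G), (y : G)⁆ * (x : G)⁻¹ * ⁅(x : G), (y : G)⁆ = ⁅((x : G) * x'), (y : G)⁆ := by
    simp only [commutatorElement_def]; group
  show (⁅(x : G), (y : G)⁆ * ⁅(x' : G), (y : G)⁆)⁻¹ * ⁅((x : G) * x'), (y : G)⁆ ∈ _
  rw [← h2]
  set c := ⁅(x : G), (y : G)⁆
  set c' := ⁅(x' : G), (y : G)⁆
  have hc : c ∈ gam G (m + n + 1) := comm_gam_mem x.2 y.2
  have hc' : c' ∈ gam G (m + n + 1) := comm_gam_mem x'.2 y.2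
  have h3 : c'⁻¹ * (c⁻¹ * ((x : G) * c' * (x : G)⁻¹) * c) = ⁅c'⁻¹, c⁻¹ * (x : G)⁆ := by
    simp only [commutatorElement_def]; group
  have := comm_gam_next (inv_mem hc') (c⁻¹ * (x : G))
  rw [← h3] at this
  convert this using 1
  group

theorem gcl_bc_mul_right {m n : ℕ} (x : ↥(gam G m)) (y y' : ↥(gam G n)) :
    gcl _ (bc x (y * y')) = gcl _ (bc x y) + gcl _ (bc x y') := by
  rw [← gcl_mul]
  refine gcl_mod ?_
  have h2 : ⁅(x : G), (y : G)⁆ * ((y : G) * ⁅(x : G), (y' : G)⁆ * (y : G)⁻¹) = ⁅(x : G), ((y : G) * y')⁆ := by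
    simp only [commutatorElement_def]; group
  show (⁅(x : G), (y : G)⁆ * ⁅(x : G), (y' : G)⁆)⁻¹ * ⁅(x : G), ((y : G) * y')⁆ ∈ _
  rw [← h2]
  set c := ⁅(x : G), (y : G)⁆
  set c' := ⁅(x : G), (y' : G)⁆
  have hc' : c' ∈ gam G (m + n + 1) := comm_gam_mem x.2 y'.2
  have h3 : (c * c')⁻¹ * (c * ((y : G) * c' * (y : G)⁻¹)) = ⁅c'⁻¹, (y : G)⁆ := by
    simp only [commutatorElement_def]; group
  rw [h3]
  exact comm_gam_next (inv_mem hc') _

theorem gcl_bc_vanish_left {m n : ℕ} (x : ↥(gam G m)) (y : ↥(gam G n)) (h : (x : G) ∈ gam G (m + 1)) :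
    gcl _ (bc x y) = 0 := by
  rw [gcl_eq_zero]
  have := comm_gam_mem h y.2
  rwa [show m + 1 + n + 1 = m + n + 1 + 1 by omega] at this

theorem gcl_bc_vanish_right {m n : ℕ} (x : ↥(gam G m)) (y : ↥(gam G n)) (h : (y : G) ∈ gam G (n + 1)) :
    gcl _ (bc x y) = 0 := by
  rw [gcl_eq_zero]
  have := comm_gam_mem x.2 h
  rwa [show m + (n + 1) + 1 = m + n + 1 + 1 by omega] at this

/-- Bracket with a fixed element. -/
noncomputable def brInner {m : ℕ} (x : ↥(gam G m)) (n : ℕ) : Factor G n →+ Gr G :=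
  MonoidHom.toAdditiveLeft (QuotientGroup.lift ((gam G (n + 1)).subgroupOf (gam G n))
    ({ toFun := fun y => Multiplicative.ofAdd (gcl _ (bc x y))
       map_one' := by
        rw [gcl_bc_vanish_right x 1 (one_mem _)]; rfl
       map_mul' := fun y y' => by
        rw [gcl_bc_mul_right]; rfl } : ↥(gam G n) →* Multiplicative (Gr G))
    fun y hy => by
      rw [MonoidHom.mem_ker]
      show Multiplicative.ofAdd (gcl _ (bc x y)) = 1
      rw [gcl_bc_vanish_right x y (mem_subgroupOf.1 hy)]; rfl)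

theorem brInner_apply {m : ℕ} (x : ↥(gam G m)) (n : ℕ) (y : ↥(gam G n)) :
    brInner x n (Additive.ofMul (y : FactorM G n)) = gcl _ (bc x y) := rfl

/-- Bracket with a fixed element of a factor. -/
noncomputable def brRow {m : ℕ} (x : ↥(gam G m)) : Gr G →+ Gr G := DirectSum.toAddMonoid (brInner x)

theorem brRow_gcl {m n : ℕ} (x : ↥(gam G m)) (y : ↥(gam G n)) : brRow x (gcl n y) = gcl _ (bc x y) :=
  DirectSum.toAddMonoid_of (brInner x) n (Additive.ofMul (y : FactorM G n))

theorem gr_ext {A : Type*} [AddMonoid A] {f g : Gr G →+ A} (h : ∀ n (y : ↥(gam G n)), f (gcl n y) = g (gcl n y)) :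
    f = g := by
  refine DirectSum.addHom_ext fun n q => ?_
  obtain ⟨y, hy⟩ := QuotientGroup.mk_surjective (Additive.toMul q)
  have := h n y
  rwa [show q = Additive.ofMul (y : FactorM G n) by rw [hy]; rfl]

/-- Bracket on a factor. -/
noncomputable def brOuter (m : ℕ) : Factor G m →+ (Gr G →+ Gr G) :=
  MonoidHom.toAdditiveLeft (QuotientGroup.lift ((gam G (m + 1)).subgroupOf (gam G m))
    ({ toFun := fun x => Multiplicative.ofAdd (brRow x)
       map_one' := by
        refine congrArg Multiplicative.ofAdd (gr_ext fun n y => ?_)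
        rw [brRow_gcl, gcl_bc_vanish_left (1 : ↥(gam G m)) y (one_mem _)]; rfl
       map_mul' := fun x x' => by
        refine congrArg Multiplicative.ofAdd (gr_ext fun n y => ?_)
        rw [toAdd_ofAdd, toAdd_ofAdd, brRow_gcl, gcl_bc_mul_left, AddMonoidHom.add_apply, brRow_gcl, brRow_gcl] } :
      ↥(gam G m) →* Multiplicative (Gr G →+ Gr G))
    fun x hx => by
      rw [MonoidHom.mem_ker]
      refine congrArg Multiplicative.ofAdd (gr_ext fun n y => ?_)
      rw [brRow_gcl, gcl_bc_vanish_left x y (mem_subgroupOf.1 hx)]; rfl)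

/-- The bracket. -/
noncomputable def grB : Gr G →+ Gr G →+ Gr G := DirectSum.toAddMonoid brOuter

theorem grB_gcl {m n : ℕ} (x : ↥(gam G m)) (y : ↥(gam G n)) : grB (gcl m x) (gcl n y) = gcl _ (bc x y) := by
  rw [← brRow_gcl x y]
  exact DFunLike.congr_fun (DirectSum.toAddMonoid_of brOuter m (Additive.ofMul (x : FactorM G m))) _

theorem gr_induction {P : Gr G → Prop} (h0 : P 0) (hg : ∀ n (y : ↥(gam G n)), P (gcl n y))
    (hadd : ∀ a b, P a → P b → P (a + b)) (v : Gr G) : P v := by
  induction v using DirectSum.induction_on with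
  | zero => exact h0
  | of n q =>
    obtain ⟨y, hy⟩ := QuotientGroup.mk_surjective (Additive.toMul q)
    rw [show q = Additive.ofMul (y : FactorM G n) by rw [hy]; rfl]
    exact hg n y
  | add a b ha hb => exact hadd a b ha hb

theorem grB_skew (u v : Gr G) : grB u v = - grB v u := by
  induction u using gr_induction with
  | h0 => simp
  | hadd a b ha hb => simp only [map_add, AddMonoidHom.add_apply, ha, hb, neg_add_rev]; abel
  | hg m x =>
    induction v using gr_induction with
    | h0 => simp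
    | hadd a b ha hb => simp only [map_add, AddMonoidHom.add_apply, ha, hb, neg_add_rev]; abel
    | hg n y =>
      rw [grB_gcl, grB_gcl, ← gcl_inv]
      refine gcl_congr (by omega) ?_
      show ⁅(x : G), (y : G)⁆ = ⁅(y : G), (x : G)⁆⁻¹
      rw [commutatorElement_inv]

/-- A double commutator in a term of the series. -/
theorem grB_grB_gcl {m n l : ℕ} (x : ↥(gam G m)) (y : ↥(gam G n)) (z : ↥(gam G l)) {k : ℕ}
    (hk : m + n + l + 2 = k) {w : ↥(gam G k)} (hw : (w : G) = ⁅⁅(x : G), (y : G)⁆, (z : G)⁆) :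
    grB (grB (gcl m x) (gcl n y)) (gcl l z) = gcl k w := by
  rw [grB_gcl, grB_gcl]
  exact gcl_congr (by omega) hw.symm

theorem hw_term {m n l k : ℕ} (x : ↥(gam G m)) (y : ↥(gam G n)) (z : ↥(gam G l)) (hk : m + n + l + 2 = k) :
    ∃ w : ↥(gam G k), (w : G) = (y : G)⁻¹ * ⁅⁅(x : G)⁻¹, (y : G)⁆⁻¹, (z : G)⁻¹⁆ * y ∧
      gcl k w = - grB (grB (gcl m x) (gcl n y)) (gcl l z) := by
  have h1 : ⁅⁅(x : G)⁻¹, (y : G)⁆⁻¹, (z : G)⁻¹⁆ ∈ gam G k := by
    have := comm_gam_mem (inv_mem (comm_gam_mem (inv_mem x.2) y.2)) (inv_mem z.2)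
    rwa [show m + n + 1 + l + 1 = k by omega] at this
  refine ⟨⟨_, ?_⟩, rfl, ?_⟩
  · have := (inferInstance : (gam G k).Normal).conj_mem _ h1 (y : G)⁻¹
    rwa [inv_inv] at this
  rw [gcl_mod (y := ⟨_, h1⟩) ?_]
  · have e : grB (- grB (gcl m x⁻¹) (gcl n y)) (gcl l z⁻¹) = gcl k ⟨_, h1⟩ := by
      rw [grB_gcl, ← gcl_inv, grB_gcl]
      exact gcl_congr (by omega) rfl
    rw [← e, gcl_inv, gcl_inv]
    simp only [map_neg, AddMonoidHom.neg_apply, neg_neg]
  · have := comm_gam_next (inv_mem h1) ((y : G)⁻¹)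
    convert this using 1
    simp only [commutatorElement_def]; group

theorem grB_jac (u v w : Gr G) : grB (grB u v) w + grB (grB v w) u + grB (grB w u) v = 0 := by
  induction u using gr_induction with
  | h0 => simp
  | hadd a b ha hb =>
    simp only [map_add, AddMonoidHom.add_apply] at ha hb ⊢
    rw [← add_zero (0 : Gr G)]; nth_rw 1 [← ha]; rw [← hb]; abel
  | hg m x =>
    induction v using gr_induction with
    | h0 => simp
    | hadd a b ha hb =>
      simp only [map_add, AddMonoidHom.add_apply] at ha hb ⊢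
      rw [← add_zero (0 : Gr G)]; nth_rw 1 [← ha]; rw [← hb]; abel
    | hg n y =>
      induction w using gr_induction with
      | h0 => simp
      | hadd a b ha hb =>
        simp only [map_add, AddMonoidHom.add_apply] at ha hb ⊢
        rw [← add_zero (0 : Gr G)]; nth_rw 1 [← ha]; rw [← hb]; abel
      | hg l z =>
        obtain ⟨t1, ht1, e1⟩ := hw_term x y z (k := m + n + l + 2) rfl
        obtain ⟨t2, ht2, e2⟩ := hw_term y z x (k := m + n + l + 2) (by omega)
        obtain ⟨t3, ht3, e3⟩ := hw_term z x y (k := m + n + l + 2) (by omega)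
        have hprod : t1 * t2 * t3 = 1 := Subtype.ext (by
          rw [Subgroup.coe_mul, Subgroup.coe_mul, OneMemClass.coe_one, ht1, ht2, ht3]
          simp only [commutatorElement_def]
          group)
        have := congrArg (gcl (m + n + l + 2)) hprod
        rw [gcl_mul, gcl_mul, gcl_one, e1, e2, e3] at this
        rw [← neg_eq_zero, ← this]; abel

/-- The Lie ring bracket. -/
noncomputable def grBracket : Bracket (Gr G) := ⟨grB, grB_skew, grB_jac⟩

variable (α : MulAut G)

theorem mem_gam_map {n : ℕ} {x : G} (hx : x ∈ gam G n) : α x ∈ gam G n :=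
  (show (gam G n).map α.toMonoidHom ≤ gam G n by
    rw [map_lowerCentralSeries, Subgroup.map_top_of_surjective α.toMonoidHom α.surjective]) ⟨x, hx, rfl⟩

/-- `α` on the factor. -/
noncomputable def grAC (n : ℕ) : Factor G n →+ Gr G :=
  MonoidHom.toAdditiveLeft
    (QuotientGroup.lift ((gam G (n + 1)).subgroupOf (gam G n))
      ({ toFun := fun x => Multiplicative.ofAdd (gcl n ⟨α (x : G), mem_gam_map α x.2⟩)
         map_one' := by
          rw [(gcl_eq_zero _).2 (mem_gam_map α (one_mem (gam G (n + 1))))]; rfl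
         map_mul' := fun x y => by
          show Multiplicative.ofAdd _ = Multiplicative.ofAdd (_ + _)
          rw [toAdd_ofAdd, toAdd_ofAdd, ← gcl_mul]; exact congrArg Multiplicative.ofAdd (gcl_congr rfl (map_mul α _ _)) } :
        ↥(gam G n) →* Multiplicative (Gr G))
      fun x hx => by
        rw [MonoidHom.mem_ker]
        show Multiplicative.ofAdd (gcl n _) = 1
        rw [(gcl_eq_zero _).2 (mem_gam_map α (mem_subgroupOf.1 hx))]; rfl)

/-- `α` on the Lie ring. -/
noncomputable def grA : Gr G →+ Gr G := DirectSum.toAddMonoid (grAC α)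

theorem grA_gcl {n : ℕ} (x : ↥(gam G n)) : grA α (gcl n x) = gcl n ⟨α (x : G), mem_gam_map α x.2⟩ :=
  DirectSum.toAddMonoid_of (grAC α) n (Additive.ofMul (x : FactorM G n))

theorem grA_B (u v : Gr G) : grA α (grB u v) = grB (grA α u) (grA α v) := by
  induction u using gr_induction with
  | h0 => simp
  | hadd a b ha hb => simp only [map_add, AddMonoidHom.add_apply, ha, hb]
  | hg m x =>
    induction v using gr_induction with
    | h0 => simp
    | hadd a b ha hb => simp only [map_add, AddMonoidHom.add_apply, ha, hb]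
    | hg n y =>
      rw [grB_gcl, grA_gcl, grA_gcl, grA_gcl, grB_gcl]
      exact gcl_congr rfl (map_commutatorElement α _ _)

end CfsgLib.PGroup.Kreknin
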