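import Cfsg.Agent.Lib.Solvable.UniqueSubgroup

/-!
Sylow subgroups of a group in which abelian subgroups of the same order are conjugate.
-/

namespace CfsgLib.PGroup

variable {G : Type*} [Group G] [Finite G] {p : ℕ} [hp : Fact p.Prime]

/-- A `p`-group with two distinct subgroups of order `p` has a noncyclic commutative subgroup of
order `p ^ 2`. -/
theorem exists_plane_of_not_unique {P : Subgroup G} (hP : IsPGroup p P)
    (hu : ¬ ∀ x y : P, orderOf x = p → orderOf y = p → x ∈ Subgroup.zpowers y) :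
    ∃ E : Subgroup G, E ≤ P ∧ IsMulCommutative E ∧ Nat.card E = p ^ 2 ∧ ∀ e ∈ E, e ^ p = 1 := by
  push Not at hu
  obtain ⟨x, y, hx, hy, hxy⟩ := hu
  haveI : Nontrivial P := ⟨⟨x, 1, fun h => by
    rw [h, orderOf_one] at hx; exact hp.out.one_lt.ne hx⟩⟩
  haveI := hP.center_nontrivial
  obtain ⟨zc, hzc⟩ := exists_prime_orderOf_dvd_card' (G := Subgroup.center P) p (by
    obtain ⟨n, hn⟩ := IsPGroup.iff_card.1 (hP.to_subgroup (Subgroup.center P))
    have := Finite.one_lt_card (α := Subgroup.center P)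
    rw [hn] at this ⊢
    exact dvd_pow_self p (by rintro rfl; simp at this))
  obtain ⟨z, hzmem⟩ := zc
  rw [Subgroup.orderOf_mk] at hzc
  have hzcard : Nat.card (Subgroup.zpowers z) = p := by rw [Nat.card_zpowers, hzc]
  obtain ⟨w, hw, hwz⟩ : ∃ w : P, orderOf w = p ∧ w ∉ Subgroup.zpowers z := by
    by_contra h
    push Not at h
    have hyz : Subgroup.zpowers y = Subgroup.zpowers z :=
      Subgroup.eq_of_le_of_card_ge (Subgroup.zpowers_le.2 (h y hy))
        (le_of_eq (by rw [hzcard, Nat.card_zpowers, hy]))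
    exact hxy (hyz ▸ h x hx)
  have hcomm : Commute (z : P) w := (Subgroup.mem_center_iff.1 hzmem w).symm
  have hcomm' : Commute (z : G) (w : G) := congrArg Subtype.val hcomm
  let f : Subgroup.zpowers (z : G) × Subgroup.zpowers (w : G) →* G :=
    MonoidHom.noncommCoprod (Subgroup.zpowers (z : G)).subtype (Subgroup.zpowers (w : G)).subtype
      fun a b => by
        obtain ⟨i, hi⟩ := a.2
        obtain ⟨j, hj⟩ := b.2
        show Commute (a : G) (b : G)
        rw [← hi, ← hj]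
        exact hcomm'.zpow_zpow i j
  have hf : Function.Injective f := by
    rw [injective_iff_map_eq_one]
    rintro ⟨⟨a, ha⟩, ⟨b, hb⟩⟩ hab
    have hab' : a * b = 1 := hab
    obtain ⟨i, rfl⟩ := ha
    obtain ⟨j, rfl⟩ := hb
    by_cases hj : (w : G) ^ j = 1
    · simp only [Prod.mk_eq_one, Subgroup.mk_eq_one]
      exact ⟨Subtype.ext (by simpa [hj] using hab'), Subtype.ext hj⟩
    exfalso
    have hmem : (w : G) ^ j ∈ Subgroup.zpowers (z : G) :=
      ⟨-i, by simp only [zpow_neg]; exact inv_eq_of_mul_eq_one_right hab'⟩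
    have hwj : Subgroup.zpowers ((w : G) ^ j) = Subgroup.zpowers (w : G) := by
      refine Subgroup.eq_of_le_of_card_ge (Subgroup.zpowers_le.2 ⟨j, rfl⟩) (le_of_eq ?_)
      have hwo : orderOf (w : G) = p := by rw [Subgroup.orderOf_coe, hw]
      rw [Nat.card_zpowers, Nat.card_zpowers, hwo]
      refine (orderOf_eq_prime ?_ hj).symm
      rw [← zpow_natCast, ← zpow_mul, mul_comm, zpow_mul, zpow_natCast, ← hwo, pow_orderOf_eq_one, one_zpow]
    have : (w : G) ∈ Subgroup.zpowers (z : G) :=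
      (Subgroup.zpowers_le.2 hmem) (hwj ▸ Subgroup.mem_zpowers _)
    obtain ⟨k, hk⟩ := this
    exact hwz ⟨k, Subtype.ext (by simpa using hk)⟩
  have hzo : orderOf (z : G) = p := by rw [Subgroup.orderOf_coe, hzc]
  have hwo : orderOf (w : G) = p := by rw [Subgroup.orderOf_coe, hw]
  refine ⟨f.range, ?_, ?_, ?_, ?_⟩
  · rintro _ ⟨⟨⟨a, ha⟩, ⟨b, hb⟩⟩, rfl⟩
    exact P.mul_mem (Subgroup.zpowers_le.2 z.2 ha) (Subgroup.zpowers_le.2 w.2 hb)
  · constructor; constructor
    rintro ⟨_, a, rfl⟩ ⟨_, b, rfl⟩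
    exact Subtype.ext (show f a * f b = f b * f a by
      rw [← map_mul, ← map_mul]
      congr 1
      exact Prod.ext (Subtype.ext (by obtain ⟨i, hi⟩ := a.1.2; obtain ⟨j, hj⟩ := b.1.2; show (a.1 : G) * b.1 = b.1 * a.1; rw [← hi, ← hj]; exact ((Commute.refl _).zpow_zpow i j).eq)) (Subtype.ext (by obtain ⟨i, hi⟩ := a.2.2; obtain ⟨j, hj⟩ := b.2.2; show (a.2 : G) * b.2 = b.2 * a.2; rw [← hi, ← hj]; exact ((Commute.refl _).zpow_zpow i j).eq)))
  · rw [Nat.card_congr (MonoidHom.ofInjective hf).toEquiv.symm, Nat.card_prod, Nat.card_zpowers,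
      Nat.card_zpowers, hzo, hwo, sq]
  · rintro _ ⟨⟨⟨a, ha⟩, ⟨b, hb⟩⟩, rfl⟩
    have h1 : (⟨a, ha⟩ : Subgroup.zpowers (z : G)) ^ p = 1 := by
      have := pow_card_eq_one' (x := (⟨a, ha⟩ : Subgroup.zpowers (z : G)))
      rwa [Nat.card_zpowers, hzo] at this
    have h2 : (⟨b, hb⟩ : Subgroup.zpowers (w : G)) ^ p = 1 := by
      have := pow_card_eq_one' (x := (⟨b, hb⟩ : Subgroup.zpowers (w : G)))
      rwa [Nat.card_zpowers, hwo] at this
    rw [← map_pow, Prod.pow_mk, h1, h2]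
    exact map_one f

/-- If abelian subgroups of equal order are conjugate, a Sylow `p`-subgroup is cyclic, of exponent
`p`, or generalised quaternion. -/
theorem sylow_cases_of_abelian_conj
    (hB : ∀ A B : Subgroup G, IsMulCommutative ↥A → IsMulCommutative ↥B →
      Nat.card ↥A = Nat.card ↥B → ∃ g : G, B = A.map (MulAut.conj g).toMonoidHom)
    (P : Sylow p G) :
    IsCyclic ↥(P : Subgroup G) ∨ (∀ x ∈ (P : Subgroup G), x ^ p = 1) ∨
      (p = 2 ∧ ∃ k : ℕ, Nonempty (↥(P : Subgroup G) ≃* QuaternionGroup (2 ^ k))) := by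
  by_cases hu : ∀ x y : (P : Subgroup G), orderOf x = p → orderOf y = p → x ∈ Subgroup.zpowers y
  · rcases CfsgLib.Solvable.isCyclic_or_quaternion P.2 hu with h | h
    · exact Or.inl h
    · exact Or.inr (Or.inr h)
  · refine Or.inr (Or.inl fun x hx => ?_)
    by_contra hxp
    obtain ⟨E, -, hEc, hEcard, hEexp⟩ := exists_plane_of_not_unique P.2 hu
    obtain ⟨n, hn⟩ := IsPGroup.iff_orderOf.1 P.2 ⟨x, hx⟩
    rw [Subgroup.orderOf_mk] at hn
    have h2 : 2 ≤ n := by
      by_contra h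
      exact hxp (orderOf_dvd_iff_pow_eq_one.1 (hn ▸ (pow_dvd_pow p (show n ≤ 1 by omega)).trans (pow_one p).dvd))
    set t := x ^ p ^ (n - 2) with ht
    have hto : orderOf t = p ^ 2 := by
      rw [ht, orderOf_pow' _ (pow_ne_zero _ hp.out.ne_zero), hn,
        Nat.gcd_eq_right (pow_dvd_pow p (Nat.sub_le n 2)), Nat.pow_div (Nat.sub_le n 2) hp.out.pos,
        show n - (n - 2) = 2 by omega]
    obtain ⟨g, hg⟩ := hB E (Subgroup.zpowers t) hEc inferInstance (by rw [hEcard, Nat.card_zpowers, hto])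
    obtain ⟨e, he, het⟩ := hg ▸ Subgroup.mem_zpowers t
    have : t ^ p = 1 := by rw [← het, ← map_pow, hEexp e he, map_one]
    have := Nat.le_of_dvd hp.out.pos (hto ▸ orderOf_dvd_of_pow_eq_one this)
    have h4 : p ^ 1 < p ^ 2 := Nat.pow_lt_pow_right hp.out.one_lt (by norm_num)
    rw [pow_one] at h4
    omega

end CfsgLib.PGroup
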