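import Mathlib
import Cfsg.Prelude
import Cfsg.Agent.Lib.PGroup.AbelianConj
import Cfsg.Agent.Lib.Solvable.Fitting
import Cfsg.Agent.Lib.Solvable.Averaging
import Cfsg.Agent.Lib.Transfer.PSolvable

/-!
# Finite groups in which abelian subgroups of equal order are conjugate: the Sylow subgroups

For such a solvable group every prime `p` either has a normal elementary abelian Sylow subgroup
(when there is an elementary abelian subgroup of order `p²`), or its Sylow subgroups are cyclic or
quaternion of order 8.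
-/

set_option autoImplicit false

namespace CfsgLib.PGroup.ConjAb

open Subgroup Cfsg
open scoped commutatorElement

variable {G : Type*} [Group G] [Finite G]

/-- Any two abelian subgroups of the same order are conjugate. -/
def AbConj (G : Type*) [Group G] : Prop :=
  ∀ A B : Subgroup G, IsMulCommutative ↥A → IsMulCommutative ↥B → Nat.card ↥A = Nat.card ↥B →
    ∃ g : G, B = A.map (MulAut.conj g).toMonoidHom

/-- There is an elementary abelian subgroup of order `p²`. -/
def HasPlane (p : ℕ) (G : Type*) [Group G] : Prop :=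
  ∃ E : Subgroup G, IsMulCommutative E ∧ Nat.card E = p ^ 2 ∧ ∀ e ∈ E, e ^ p = 1

/-- Every subgroup of prime power order is cyclic or is a group of order 8. -/
def CyclicOrEight (G : Type*) [Group G] : Prop :=
  ∀ (r : ℕ), r.Prime → ∀ P : Subgroup G, IsPGroup r P → IsCyclic P ∨ (r = 2 ∧ Nat.card P = 8)

omit [Finite G] in
theorem card_map_conj (A : Subgroup G) (g : G) :
    Nat.card (A.map (MulAut.conj g).toMonoidHom) = Nat.card A :=
  card_map_of_injective (MulEquiv.injective _)

theorem conj_zpowers_of_orderOf (hB : AbConj G) {x y : G} (h : orderOf y = orderOf x) :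
    ∃ g : G, zpowers y = zpowers (g * x * g⁻¹) := by
  obtain ⟨g, hg⟩ := hB (zpowers x) (zpowers y) inferInstance inferInstance
    (by rw [Nat.card_zpowers, Nat.card_zpowers, h])
  exact ⟨g, by rw [hg, MonoidHom.map_zpowers]; rfl⟩

/-- An element central modulo a normal subgroup `K`, with enough elements of the same order,
lies in `K`. -/
theorem mem_of_central_mod (hB : AbConj G) {K : Subgroup G} (hKn : K.Normal) {x y : G}
    (hx : ∀ g : G, ⁅g, x⁆ ∈ K) (ho : orderOf y = orderOf x)
    (hout : ∀ m : ℤ, orderOf (x ^ m * y) = orderOf x) : x ∈ K := by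
  obtain ⟨g, hg⟩ := conj_zpowers_of_orderOf hB ho
  obtain ⟨i, hi⟩ : ∃ i : ℤ, (g * x * g⁻¹) ^ i = y := by
    have h : y ∈ zpowers (g * x * g⁻¹) := hg ▸ mem_zpowers y
    exact mem_zpowers_iff.1 h
  set π := QuotientGroup.mk' K
  have h1 : π (g * x * g⁻¹) = π x := by
    rw [show g * x * g⁻¹ = ⁅g, x⁆ * x by rw [commutatorElement_def]; group, map_mul,
      show π ⁅g, x⁆ = 1 from (QuotientGroup.eq_one_iff _).2 (hx g), one_mul]
  have hw : x ^ (-i) * y ∈ K := by
    rw [← QuotientGroup.eq_one_iff]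
    show π _ = 1
    rw [map_mul, map_zpow, ← hi, map_zpow, h1, ← zpow_add, neg_add_cancel, zpow_zero]
  obtain ⟨k, hk⟩ := conj_zpowers_of_orderOf hB (x := x ^ (-i) * y) (y := x) (hout _).symm
  exact zpowers_le.2 (hKn.conj_mem _ hw k) (hk ▸ mem_zpowers x)

omit [Finite G] in
/-- Commutators centralise a cyclic normal subgroup. -/
theorem comm_mem_centralizer_of_cyclic {R : Subgroup G} (hn : R.Normal) (hR : IsCyclic R) (g x : G) :
    ⁅g, x⁆ ∈ centralizer (R : Set G) := by
  obtain ⟨c, hc⟩ := isCyclic_iff_exists_zpowers_eq_top.1 hR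
  have hpow : ∀ u : G, ∃ a : ℤ, u * (c : G) * u⁻¹ = (c : G) ^ a := by
    intro u
    have h : (⟨u * c * u⁻¹, hn.conj_mem _ c.2 u⟩ : R) ∈ zpowers c := hc ▸ mem_top _
    obtain ⟨a, ha⟩ := h
    exact ⟨a, (congrArg Subtype.val ha).symm⟩
  obtain ⟨a, ha⟩ := hpow g
  obtain ⟨b, hb⟩ := hpow x
  have e1 : (g * x) * (c : G) * (g * x)⁻¹ = (c : G) ^ (a * b) := by
    rw [show (g * x) * (c : G) * (g * x)⁻¹ = g * (x * c * x⁻¹) * g⁻¹ by group, hb, ← conj_zpow, ha,
      ← zpow_mul]
  have e2 : (x * g) * (c : G) * (x * g)⁻¹ = (c : G) ^ (a * b) := by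
    rw [show (x * g) * (c : G) * (x * g)⁻¹ = x * (g * c * g⁻¹) * x⁻¹ by group, ha, ← conj_zpow, hb,
      ← zpow_mul, mul_comm]
  have hcom : Commute ⁅g, x⁆ (c : G) := by
    have h : (g * x) * (c : G) * (g * x)⁻¹ = (x * g) * c * (x * g)⁻¹ := e1.trans e2.symm
    have h' : (x * g)⁻¹ * (g * x) * (c : G) = c * ((x * g)⁻¹ * (g * x)) := by
      calc (x * g)⁻¹ * (g * x) * (c : G)
          = (x * g)⁻¹ * ((g * x) * c * (g * x)⁻¹) * (g * x) := by group
        _ = _ := by rw [h]; group
    have h'' : Commute ((x * g)⁻¹ * (g * x)) ((x * g)⁻¹ * (c : G) * (x * g)) := by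
      obtain ⟨b', hb'⟩ := hpow (x * g)⁻¹
      rw [inv_inv] at hb'
      rw [hb']
      exact Commute.zpow_right h' b'
    show ⁅g, x⁆ * (c : G) = c * ⁅g, x⁆
    calc ⁅g, x⁆ * (c : G)
        = (x * g) * (((x * g)⁻¹ * (g * x)) * ((x * g)⁻¹ * c * (x * g))) * (x * g)⁻¹ := by
          simp only [commutatorElement_def]; group
      _ = (x * g) * (((x * g)⁻¹ * c * (x * g)) * ((x * g)⁻¹ * (g * x))) * (x * g)⁻¹ := by
          rw [h''.eq]
      _ = _ := by simp only [commutatorElement_def]; group
  refine mem_centralizer_iff.2 fun r hr => ?_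
  have h : (⟨r, hr⟩ : R) ∈ zpowers c := hc ▸ mem_top _
  obtain ⟨i, hi⟩ := h
  have : (c : G) ^ i = r := congrArg Subtype.val hi
  rw [← this]
  exact ((hcom.zpow_right i).eq).symm

theorem exists_plane_pair {p : ℕ} (hp : p.Prime) (h : HasPlane p G) :
    ∃ x y : G, orderOf x = p ∧ orderOf y = p ∧ Commute x y ∧ y ∉ zpowers x ∧
      ∀ m : ℤ, orderOf (x ^ m * y) = p := by
  haveI := Fact.mk hp
  obtain ⟨E, hc, hcard, hexp⟩ := h
  have hb : E ≠ ⊥ := fun h => by
    rw [h, card_bot] at hcard
    exact absurd hcard.symm (Nat.one_lt_pow two_ne_zero hp.one_lt).ne'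
  obtain ⟨x, hx, hx1⟩ := E.ne_bot_iff_exists_ne_one.1 hb |> fun ⟨x, hx⟩ =>
    (⟨x.1, x.2, fun h => hx (Subtype.ext h)⟩ : ∃ x ∈ E, x ≠ (1 : G))
  have hox : orderOf x = p := orderOf_eq_prime (hexp x hx) hx1
  obtain ⟨y, hy, hyx⟩ : ∃ y ∈ E, y ∉ zpowers x := by
    refine SetLike.not_le_iff_exists.1 fun hle => ?_
    have := card_le_of_le hle
    rw [hcard, Nat.card_zpowers, hox] at this
    exact absurd this (not_le.2 (by
      calc p = p ^ 1 := (pow_one p).symm
        _ < p ^ 2 := Nat.pow_lt_pow_right hp.one_lt one_lt_two))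
  refine ⟨x, y, hox, orderOf_eq_prime (hexp y hy) fun h => hyx (h ▸ one_mem _),
    congrArg Subtype.val (hc.is_comm.comm (⟨x, hx⟩ : E) ⟨y, hy⟩), hyx,
    fun m => orderOf_eq_prime (hexp _ (mul_mem (Subgroup.zpow_mem _ hx m) hy)) fun h => hyx ?_⟩
  rw [eq_inv_of_mul_eq_one_right h]
  exact inv_mem (Subgroup.zpow_mem _ (mem_zpowers x) m)

theorem exponent_of_hasPlane (hB : AbConj G) {p : ℕ} (hp : p.Prime) (h : HasPlane p G) {x : G}
    {n : ℕ} (hx : orderOf x = p ^ n) : x ^ p = 1 := by
  haveI := Fact.mk hp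
  by_contra hxp
  obtain ⟨E, hEc, hEcard, hEexp⟩ := h
  have h2 : 2 ≤ n := by
    by_contra h
    exact hxp (orderOf_dvd_iff_pow_eq_one.1
      (hx ▸ (pow_dvd_pow p (show n ≤ 1 by omega)).trans (pow_one p).dvd))
  set t := x ^ p ^ (n - 2) with ht
  have hto : orderOf t = p ^ 2 := by
    rw [ht, orderOf_pow_of_dvd (pow_ne_zero _ hp.ne_zero) (hx ▸ pow_dvd_pow p (Nat.sub_le n 2)),
      hx, Nat.pow_div (Nat.sub_le n 2) hp.pos, show n - (n - 2) = 2 by omega]
  obtain ⟨g, hg⟩ := hB E (zpowers t) hEc inferInstance (by rw [hEcard, Nat.card_zpowers, hto])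
  obtain ⟨e, he, het⟩ := hg ▸ mem_zpowers t
  have : t ^ p = 1 := by rw [← het, ← map_pow, hEexp e he, map_one]
  have := Nat.le_of_dvd hp.pos (hto ▸ orderOf_dvd_of_pow_eq_one this)
  exact absurd this (not_le.2 (by
    calc p = p ^ 1 := (pow_one p).symm
      _ < p ^ 2 := Nat.pow_lt_pow_right hp.one_lt one_lt_two))

theorem pow_eq_one_of_hasPlane (hB : AbConj G) {p : ℕ} (hp : p.Prime) (h : HasPlane p G)
    {P : Subgroup G} (hP : IsPGroup p P) {x : G} (hx : x ∈ P) : x ^ p = 1 := by
  haveI := Fact.mk hp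
  obtain ⟨n, hn⟩ := IsPGroup.iff_orderOf.1 hP ⟨x, hx⟩
  rw [Subgroup.orderOf_mk] at hn
  exact exponent_of_hasPlane hB hp h hn

theorem unique_order_of_not_hasPlane {p : ℕ} (hp : p.Prime) (h : ¬ HasPlane p G) {P : Subgroup G}
    (hP : IsPGroup p P) :
    ∀ x y : P, orderOf x = p → orderOf y = p → x ∈ zpowers y := by
  haveI := Fact.mk hp
  by_contra hu
  obtain ⟨E, -, hc, hcard, hexp⟩ := exists_plane_of_not_unique hP hu
  exact h ⟨E, hc, hcard, hexp⟩

theorem cyclic_or_quaternion_of_not_hasPlane {p : ℕ} (hp : p.Prime) (h : ¬ HasPlane p G)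
    {P : Subgroup G} (hP : IsPGroup p P) :
    IsCyclic P ∨ (p = 2 ∧ ∃ k : ℕ, Nonempty (P ≃* QuaternionGroup (2 ^ k))) := by
  haveI := Fact.mk hp
  exact CfsgLib.Solvable.isCyclic_or_quaternion hP (unique_order_of_not_hasPlane hp h hP)

/-- Transporting orders through an injective hom on a subgroup. -/
theorem orderOf_map_eq {H : Type*} [Group H] {f : G →* H} {P : Subgroup G}
    (hinj : ∀ x ∈ P, f x = 1 → x = 1) {x : G} (hx : x ∈ P) : orderOf (f x) = orderOf x := by
  refine Nat.dvd_antisymm (orderOf_map_dvd f x) (orderOf_dvd_iff_pow_eq_one.2 ?_)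
  exact hinj _ (P.pow_mem hx _) (by rw [map_pow, pow_orderOf_eq_one])

/-- A Sylow 2-subgroup which is quaternion has order 8. -/
theorem card_le_eight (hB : AbConj G) [Group.IsSolvable G] (h2 : ¬ HasPlane 2 G)
    {P : Subgroup G} (hP : IsPGroup 2 P) (hnc : ¬ IsCyclic P) : Nat.card P = 8 := by
  classical
  haveI : Fact (Nat.Prime 2) := ⟨Nat.prime_two⟩
  obtain ⟨S, hPS⟩ := hP.exists_le_sylow
  have hSnc : ¬ IsCyclic (S : Subgroup G) := fun h => by
    haveI := h
    exact hnc (isCyclic_of_injective _ (Subgroup.inclusion_injective hPS))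
  obtain ⟨-, k, ⟨e⟩⟩ := (cyclic_or_quaternion_of_not_hasPlane Nat.prime_two h2 S.2).resolve_left hSnc
  haveI : NeZero (2 ^ k : ℕ) := ⟨by positivity⟩
  have hk1 : k ≤ 1 := by
    by_contra hk
    set N := pPrimeCore 2 G with hN
    have hNn : N.Normal := inferInstance
    set π := QuotientGroup.mk' N with hπ
    have hπs : Function.Surjective π := QuotientGroup.mk'_surjective N
    have hinj : ∀ x ∈ (S : Subgroup G), π x = 1 → x = 1 := by
      intro x hx hx1
      have hxN : x ∈ N := (QuotientGroup.eq_one_iff x).1 hx1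
      obtain ⟨j, hj⟩ := IsPGroup.iff_orderOf.1 S.2 ⟨x, hx⟩
      rw [Subgroup.orderOf_mk] at hj
      refine orderOf_eq_one_iff.1 (Nat.eq_one_of_dvd_coprimes (k := orderOf x)
        (Nat.Coprime.pow_right j (Cores.coprime_card_pPrimeCore (G := G) 2))
        (orderOf_mk x hxN ▸ orderOf_dvd_natCard (⟨x, hxN⟩ : N)) (dvd_of_eq hj))
    -- the Sylow subgroup upstairs
    let Q := (S : Subgroup G).map π
    let φ : QuaternionGroup (2 ^ k) →* G ⧸ N :=
      π.comp ((S : Subgroup G).subtype.comp e.symm.toMonoidHom)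
    have hφQ : ∀ u, φ u ∈ Q := fun u => mem_map_of_mem _ (e.symm u).2
    have hφo : ∀ u, orderOf (φ u) = orderOf u := by
      intro u
      show orderOf (π ((e.symm u : (S : Subgroup G)) : G)) = _
      rw [orderOf_map_eq hinj (e.symm u).2, Subgroup.orderOf_coe, MulEquiv.orderOf_eq]
    have hQφ : ∀ q ∈ Q, ∃ u, φ u = q := by
      rintro _ ⟨x, hx, rfl⟩
      exact ⟨e ⟨x, hx⟩, by simp [φ]⟩
    set O := pCore 2 (G ⧸ N) with hO
    have hOQ : O ≤ Q := Cores.pCore_le_sylow (S.mapSurjective hπs)
    haveI : Group.IsSolvable (G ⧸ N) := Group.isSolvable_of_surjective hπs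
    have hCO : centralizer (O : Set (G ⧸ N)) ≤ O :=
      CfsgLib.Solvable.centralizer_pCore_le 2 (Cores.pPrimeCore_quotient_self 2)
    -- conjugacy in the quotient of elements of the same order
    have hconj : ∀ u v : QuaternionGroup (2 ^ k), orderOf u = orderOf v →
        ∃ g, φ u ∈ zpowers (g * φ v * g⁻¹) := by
      intro u v huv
      obtain ⟨g, hg⟩ := conj_zpowers_of_orderOf hB (y := ((e.symm u : (S : Subgroup G)) : G))
        (x := ((e.symm v : (S : Subgroup G)) : G))
        (by rw [Subgroup.orderOf_coe, Subgroup.orderOf_coe, MulEquiv.orderOf_eq, MulEquiv.orderOf_eq, huv])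
      refine ⟨π g, ?_⟩
      have := mem_map_of_mem π (hg ▸ mem_zpowers ((e.symm u : (S : Subgroup G)) : G))
      rw [MonoidHom.map_zpowers, map_mul, map_mul, map_inv] at this
      exact this
    have hn0 : (2 : ℕ) ∣ 2 ^ k := dvd_pow_self 2 (by omega)
    have hn4 : 4 ≤ 2 ^ k :=
      le_trans (by norm_num : (4 : ℕ) ≤ 2 ^ 2) (Nat.pow_le_pow_right (by norm_num) (by omega))
    have hOn : O.Normal := inferInstance
    -- `O` is the whole Sylow subgroup
    have h4 : ∃ v : QuaternionGroup (2 ^ k), orderOf v = 4 ∧ φ v ∈ O := by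
      by_contra hno
      push Not at hno
      have hsq : ∀ w ∈ O, w ^ 2 = 1 := by
        intro w hw
        obtain ⟨u, rfl⟩ := hQφ w (hOQ hw)
        obtain ⟨j, hj⟩ : ∃ j, orderOf u = 2 ^ j := by
          obtain ⟨j, hj⟩ := IsPGroup.iff_orderOf.1 S.2 (e.symm u)
          exact ⟨j, by rwa [MulEquiv.orderOf_eq] at hj⟩
        rcases Nat.lt_or_ge j 2 with hj2 | hj2
        · refine orderOf_dvd_iff_pow_eq_one.1 ?_
          rw [hφo, hj]
          exact (pow_dvd_pow 2 (show j ≤ 1 by omega)).trans (pow_one 2).dvd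
        · exfalso
          refine hno (u ^ 2 ^ (j - 2)) ?_ (by rw [map_pow]; exact pow_mem hw _)
          rw [orderOf_pow_of_dvd (by positivity) (hj ▸ pow_dvd_pow 2 (Nat.sub_le j 2)), hj,
            Nat.pow_div (Nat.sub_le j 2) (by norm_num), show j - (j - 2) = 2 by omega]
      have hcent : (⊤ : Subgroup (G ⧸ N)) ≤ centralizer (O : Set (G ⧸ N)) := by
        intro q _
        refine mem_centralizer_iff.2 fun w hw => ?_
        by_cases hw1 : w = 1
        · rw [hw1, one_mul, mul_one]
        have hw' : q * w * q⁻¹ ∈ O := hOn.conj_mem w hw q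
        have hne : q * w * q⁻¹ ≠ 1 := fun h => hw1 (conj_eq_one_iff.1 h)
        obtain ⟨u, hu⟩ := hQφ w (hOQ hw)
        obtain ⟨v, hv⟩ := hQφ _ (hOQ hw')
        have hu2 : orderOf u = 2 := by
          rw [← hφo, hu]; exact orderOf_eq_prime (hsq w hw) hw1
        have hv2 : orderOf v = 2 := by
          rw [← hφo, hv]; exact orderOf_eq_prime (hsq _ hw') hne
        have hmem := unique_order_of_not_hasPlane Nat.prime_two h2 S.2 (e.symm v) (e.symm u)
          (by rw [MulEquiv.orderOf_eq, hv2]) (by rw [MulEquiv.orderOf_eq, hu2])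
        obtain ⟨i, hi⟩ := hmem
        have hi' : u ^ i = v := e.symm.injective (by rw [map_zpow]; exact hi)
        have hvu : v = u := by
          rcases Int.even_or_odd' i with ⟨l, rfl | rfl⟩
          · exfalso
            rw [zpow_mul, zpow_ofNat, orderOf_dvd_iff_pow_eq_one.1 hu2.dvd, one_zpow] at hi'
            rw [← hi', orderOf_one] at hv2
            exact absurd hv2 (by norm_num)
          · rw [zpow_add, zpow_mul, zpow_ofNat, orderOf_dvd_iff_pow_eq_one.1 hu2.dvd, one_zpow,
              one_mul, zpow_one] at hi'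
            exact hi'.symm
        have heq : q * w * q⁻¹ = w := by rw [← hv, ← hu, hvu]
        exact (mul_inv_eq_iff_eq_mul.1 heq).symm
      have hall : φ (QuaternionGroup.a 1) ∈ O := hCO (hcent (mem_top _))
      have := orderOf_le_of_pow_eq_one (by norm_num) (hsq _ hall)
      rw [hφo, QuaternionGroup.orderOf_a_one] at this
      omega
    obtain ⟨v₀, hv₀, hv₀O⟩ := h4
    have h4all : ∀ v : QuaternionGroup (2 ^ k), orderOf v = 4 → φ v ∈ O := by
      intro v hv
      obtain ⟨g, hg⟩ := hconj v v₀ (hv.trans hv₀.symm)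
      exact zpowers_le.2 (hOn.conj_mem _ hv₀O g) hg
    have hQO : O = Q := le_antisymm hOQ (by
      intro q hq
      obtain ⟨u, rfl⟩ := hQφ q hq
      cases u with
      | xa i => exact h4all _ (QuaternionGroup.orderOf_xa i)
      | a i =>
        have : QuaternionGroup.a i = QuaternionGroup.xa 0 *
            QuaternionGroup.xa (i - ((2 ^ k : ℕ) : ZMod (2 * 2 ^ k))) := by
          rw [QuaternionGroup.xa_mul_xa]
          congr 1
          abel
        rw [this, map_mul]
        exact mul_mem (h4all _ (QuaternionGroup.orderOf_xa _)) (h4all _ (QuaternionGroup.orderOf_xa _)))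
    -- the maximal cyclic subgroup is normal
    set a := φ (QuaternionGroup.a 1) with ha
    have hconja : ∀ g : G ⧸ N, g * a * g⁻¹ ∈ zpowers a := by
      intro g
      have hmem : g * a * g⁻¹ ∈ Q := hQO ▸ hOn.conj_mem a (hQO ▸ hφQ _) g
      obtain ⟨u, hu⟩ := hQφ _ hmem
      have ho : orderOf u = 2 * 2 ^ k := by
        rw [← hφo, hu, show g * a * g⁻¹ = MulAut.conj g a from rfl, MulEquiv.orderOf_eq, ha, hφo,
          QuaternionGroup.orderOf_a_one]
      cases u with
      | xa i => rw [QuaternionGroup.orderOf_xa] at ho; omega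
      | a i =>
        rw [← hu, show QuaternionGroup.a i = (QuaternionGroup.a 1 : QuaternionGroup (2 ^ k)) ^ i.val by
          rw [QuaternionGroup.a_one_pow, ZMod.natCast_zmod_val], map_pow]
        exact pow_mem (mem_zpowers a) _
    set b := (QuaternionGroup.a 1 : QuaternionGroup (2 ^ k)) ^ 2 ^ (k - 1) with hb
    have hbo : orderOf b = 4 := by
      rw [hb, orderOf_pow_of_dvd (by positivity), QuaternionGroup.orderOf_a_one]
      · rw [← pow_succ', Nat.pow_div (by omega) (by norm_num), show k + 1 - (k - 1) = 2 by omega]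
      · rw [QuaternionGroup.orderOf_a_one, ← pow_succ']
        exact pow_dvd_pow 2 (by omega)
    obtain ⟨g, hg⟩ := hconj (QuaternionGroup.xa 0) b
      ((QuaternionGroup.orderOf_xa (n := 2 ^ k) 0).trans hbo.symm)
    have hmem : φ (QuaternionGroup.xa 0) ∈ zpowers a := by
      refine zpowers_le.2 ?_ hg
      rw [hb, map_pow, ← ha, show g * a ^ 2 ^ (k - 1) * g⁻¹ = (g * a * g⁻¹) ^ 2 ^ (k - 1) by
        rw [conj_pow]]
      exact pow_mem (hconja g) _
    obtain ⟨m, hm⟩ := (isOfFinOrder_of_finite a).mem_powers_iff_mem_zpowers.2 hmem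
    change a ^ m = φ _ at hm
    rw [ha, ← map_pow] at hm
    have : (QuaternionGroup.a 1 : QuaternionGroup (2 ^ k)) ^ m = QuaternionGroup.xa 0 := by
      refine mul_inv_eq_one.1 (orderOf_eq_one_iff.1 ?_)
      rw [← hφo, map_mul, map_inv, hm, mul_inv_cancel, orderOf_one]
    rw [QuaternionGroup.a_one_pow] at this
    exact absurd this (by simp)
  have hcardS : Nat.card (S : Subgroup G) = 4 * 2 ^ k := by
    rw [Nat.card_congr e.toEquiv, Nat.card_eq_fintype_card, QuaternionGroup.card]
  obtain ⟨j, hj⟩ := IsPGroup.iff_card.1 hP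
  have hle : Nat.card P ≤ 8 := by
    refine le_trans (card_le_of_le hPS) ?_
    rw [hcardS]
    calc 4 * 2 ^ k ≤ 4 * 2 ^ 1 := Nat.mul_le_mul_left 4 (Nat.pow_le_pow_right (by norm_num) hk1)
      _ = 8 := by norm_num
  rcases Nat.lt_or_ge j 3 with hj3 | hj3
  · exfalso
    have hcomm : ∀ a b : P, a * b = b * a := by
      rcases (show j = 0 ∨ j = 1 ∨ j = 2 by omega) with rfl | rfl | rfl
      · haveI : Subsingleton P := Finite.card_le_one_iff_subsingleton.1 (by simp [hj])
        exact fun a b => Subsingleton.elim _ _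
      · haveI := isCyclic_of_prime_card (α := P) (p := 2) (by simpa using hj)
        exact fun a b => IsMulCommutative.is_comm.comm a b
      · letI := IsPGroup.commGroupOfCardEqPrimeSq hj
        exact fun a b => mul_comm a b
    exact hnc (CfsgLib.Solvable.isCyclic_of_unique_of_comm hP hcomm
      (unique_order_of_not_hasPlane Nat.prime_two h2 hP))
  · have : 2 ^ 3 ≤ Nat.card P := hj ▸ Nat.pow_le_pow_right (by norm_num) hj3
    omega

/-- The Sylow alternatives for primes without planes. -/
theorem small_of_not_hasPlane (hB : AbConj G) [Group.IsSolvable G] {p : ℕ} (hp : p.Prime)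
    (h : ¬ HasPlane p G) {P : Subgroup G} (hP : IsPGroup p P) :
    IsCyclic P ∨ (p = 2 ∧ Nat.card P = 8) := by
  by_cases hc : IsCyclic P
  · exact Or.inl hc
  rcases cyclic_or_quaternion_of_not_hasPlane hp h hP with h' | ⟨rfl, -⟩
  · exact Or.inl h'
  · exact Or.inr ⟨rfl, card_le_eight hB h hP hc⟩

/-- Elements of order 4 outside a cyclic subgroup of order 4 in a noncyclic group of order 8
with a single involution. -/
theorem exists_pair_of_eight (hB : AbConj G) [Group.IsSolvable G] (h2 : ¬ HasPlane 2 G)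
    {P : Subgroup G} (hP : IsPGroup 2 P) (hnc : ¬ IsCyclic P) :
    (∃ x ∈ P, orderOf x = 4) ∧ (∀ x ∈ P, orderOf x = 4 → ∀ y ∈ P, y ∉ zpowers x → orderOf y = 4) ∧
      ∀ x ∈ P, orderOf x = 4 → ∃ y ∈ P, y ∉ zpowers x := by
  haveI : Fact (Nat.Prime 2) := ⟨Nat.prime_two⟩
  have hcard := card_le_eight hB h2 hP hnc
  have hdvd : ∀ x ∈ P, orderOf x = 1 ∨ orderOf x = 2 ∨ orderOf x = 4 := by
    intro x hx
    have h8 : orderOf x ∣ 2 ^ 3 := by
      rw [show (2 : ℕ) ^ 3 = Nat.card P by rw [hcard]; norm_num, ← Subgroup.orderOf_mk x hx]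
      exact _root_.orderOf_dvd_natCard _
    obtain ⟨j, hj, hj'⟩ := (Nat.dvd_prime_pow Nat.prime_two).1 h8
    interval_cases j
    · exact Or.inl (by simpa using hj')
    · exact Or.inr (Or.inl (by simpa using hj'))
    · exact Or.inr (Or.inr (by simpa using hj'))
    · refine absurd (isCyclic_of_orderOf_eq_card (⟨x, hx⟩ : P) ?_) hnc
      rw [Subgroup.orderOf_mk, hj', hcard]; norm_num
  have hout : ∀ x ∈ P, orderOf x = 4 → ∀ y ∈ P, y ∉ zpowers x → orderOf y = 4 := by
    intro x hx hox y hy hyx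
    rcases hdvd y hy with h | h | h
    · exact absurd (orderOf_eq_one_iff.1 h ▸ one_mem _) hyx
    · refine absurd ?_ hyx
      have hx2 : orderOf (x ^ 2) = 2 := by
        rw [orderOf_pow_of_dvd (by norm_num) (hox ▸ by norm_num), hox]
      have hmem := unique_order_of_not_hasPlane Nat.prime_two h2 hP ⟨y, hy⟩ ⟨x ^ 2, pow_mem hx 2⟩
        (by rw [Subgroup.orderOf_mk, h]) (by rw [Subgroup.orderOf_mk, hx2])
      obtain ⟨i, hi⟩ := hmem
      have hi' : (x ^ 2) ^ i = y := congrArg Subtype.val hi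
      rw [← hi']
      exact Subgroup.zpow_mem _ (pow_mem (mem_zpowers x) 2) i
    · exact h
  refine ⟨?_, hout, ?_⟩
  · by_contra hno
    push Not at hno
    refine hnc (CfsgLib.Solvable.isCyclic_of_unique_of_comm hP (fun a b => ?_)
      (unique_order_of_not_hasPlane Nat.prime_two h2 hP))
    have hsq : ∀ a : P, a * a = 1 := by
      intro a
      refine Subtype.ext ?_
      show (a : G) * a = 1
      rw [← pow_two, ← orderOf_dvd_iff_pow_eq_one]
      rcases hdvd a a.2 with h | h | h
      · rw [h]; exact one_dvd _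
      · rw [h]
      · exact absurd h (hno a a.2)
    calc a * b = a * b * ((b * a) * (b * a)) := by rw [hsq, mul_one]
      _ = a * (b * b) * a * (b * a) := by group
      _ = b * a := by rw [hsq, mul_one, hsq, one_mul]
  · intro x hx hox
    refine SetLike.not_le_iff_exists.1 fun hle => ?_
    have := card_le_of_le hle
    rw [hcard, Nat.card_zpowers, hox] at this
    omega

omit [Finite G] in
/-- Conjugation acts on a cyclic normal subgroup through an abelian group. -/
theorem comm_mem_comap_centralizer {Y : Type*} [Group Y] (π : G →* Y) {R : Subgroup Y}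
    (hn : R.Normal) (hR : IsCyclic R) (g x : G) :
    ⁅g, x⁆ ∈ (centralizer (R : Set Y)).comap π := by
  rw [mem_comap, map_commutatorElement]
  exact comm_mem_centralizer_of_cyclic hn hR _ _

/-- An odd prime plane centralises a normal subgroup of order 8 having an element of order 4. -/
theorem plane_centralizes_eight (hB : AbConj G) {q : ℕ} (hq : q.Prime) (hq2 : q ≠ 2)
    (hpl : HasPlane q G) {Y : Type*} [Group Y] [Finite Y] (π : G →* Y) {R : Subgroup Y}
    [R.Normal] (hR : Nat.card R = 8) (h4 : ∃ a ∈ R, orderOf a = 4) {x : G} (hx : orderOf x = q) :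
    π x ∈ centralizer (R : Set Y) := by
  classical
  haveI := Fact.mk hq
  obtain ⟨a, haR, hao⟩ := h4
  obtain ⟨E, hEc, hEcard, hEexp⟩ := hpl
  have h9 : 8 < Nat.card E := by
    rw [hEcard]
    have := hq.two_le
    have : 3 ≤ q := by omega
    nlinarith
  obtain ⟨e₁, e₂, hne, heq⟩ : ∃ e₁ e₂ : E, e₁ ≠ e₂ ∧
      π e₁ * a * (π e₁)⁻¹ = π e₂ * a * (π e₂)⁻¹ := by
    by_contra hcon
    push Not at hcon
    have hinj : Function.Injective (fun e : E => (⟨π e * a * (π e)⁻¹,
        (inferInstance : R.Normal).conj_mem a haR _⟩ : R)) := fun e₁ e₂ h => by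
      by_contra hne
      exact hcon e₁ e₂ hne (congrArg Subtype.val h)
    have := Nat.card_le_card_of_injective _ hinj
    omega
  set w : G := ((e₂⁻¹ * e₁ : E) : G) with hw
  have hwE : w ∈ E := (e₂⁻¹ * e₁).2
  have hw1 : w ≠ 1 := fun h => hne ((eq_of_inv_mul_eq_one (OneMemClass.coe_eq_one.1 h)).symm)
  have hwo : orderOf w = q := orderOf_eq_prime (hEexp w hwE) hw1
  have hfix : Commute (π w) a := by
    show π w * a = a * π w
    rw [hw, Subgroup.coe_mul, Subgroup.coe_inv, map_mul, map_inv]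
    calc (π (e₂ : G))⁻¹ * π e₁ * a
        = (π (e₂ : G))⁻¹ * (π e₁ * a * (π e₁)⁻¹) * π e₁ := by group
      _ = _ := by rw [heq]; group
  have hwC : π w ∈ centralizer (R : Set Y) := by
    let ψ : zpowers w →* MulAut R := ((MulAut.conjNormal).comp π).comp (zpowers w).subtype
    letI : MulAction (zpowers w) R := MulAction.compHom R ψ
    have hP : IsPGroup q (zpowers w) := IsPGroup.of_card (n := 1) (by
      rw [Nat.card_zpowers, hwo, pow_one])
    have hmod := hP.card_modEq_card_fixedPoints R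
    set C : Subgroup R := (centralizer ({π w} : Set Y)).subgroupOf R
    have hfp : MulAction.fixedPoints (zpowers w) R = (C : Set R) := by
      ext r
      rw [MulAction.mem_fixedPoints, SetLike.mem_coe, mem_subgroupOf, mem_centralizer_singleton_iff]
      constructor
      · intro h
        have := congrArg Subtype.val (h ⟨w, mem_zpowers w⟩)
        change π w * (r : Y) * (π w)⁻¹ = r at this
        exact (mul_inv_eq_iff_eq_mul.1 this).symm
      · rintro h ⟨_, i, rfl⟩
        refine Subtype.ext ?_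
        show π (w ^ i) * (r : Y) * (π (w ^ i))⁻¹ = r
        rw [map_zpow, mul_inv_eq_iff_eq_mul]
        exact ((show Commute (π w) r from h.symm).zpow_left i).eq
    have hfp' : Nat.card (MulAction.fixedPoints (zpowers w) R) = Nat.card C := by
      rw [hfp]; rfl
    rw [hfp', hR] at hmod
    have h4le : 4 ≤ Nat.card C := by
      have hle : zpowers (⟨a, haR⟩ : R) ≤ C := zpowers_le.2
        (mem_centralizer_singleton_iff.2 hfix.eq.symm)
      have := card_le_of_le hle
      rwa [Nat.card_zpowers, Subgroup.orderOf_mk, hao] at this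
    have hdvd : Nat.card C ∣ 8 := hR ▸ card_subgroup_dvd_card C
    have h8 : Nat.card C = 8 := by
      have hle := Nat.le_of_dvd (by norm_num) hdvd
      by_contra hne8
      have h44 : Nat.card C = 4 := by
        interval_cases (Nat.card C) <;> omega
      rw [h44] at hmod
      have := (Nat.modEq_iff_dvd' (by norm_num : 4 ≤ 8)).1 hmod.symm
      exact hq2 ((Nat.prime_dvd_prime_iff_eq hq Nat.prime_two).1
        (hq.dvd_of_dvd_pow (n := 2) (by simpa using this)))
    have htop : C = ⊤ := eq_top_of_card_eq C (h8.trans hR.symm)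
    refine mem_centralizer_iff.2 fun r hr => ?_
    exact mem_centralizer_singleton_iff.1 (htop ▸ mem_top (⟨r, hr⟩ : R) : (⟨r, hr⟩ : R) ∈ C)
  -- conjugates
  obtain ⟨g, hg⟩ := conj_zpowers_of_orderOf hB (x := w) (y := x) (hx.trans hwo.symm)
  obtain ⟨i, hi⟩ := hg ▸ mem_zpowers x
  rw [← hi, map_zpow]
  refine zpow_mem ?_ i
  rw [map_mul, map_mul, map_inv]
  exact (inferInstance : (centralizer (R : Set Y)).Normal).conj_mem _ hwC _

/-- An abelian normal section acting on a minimal normal subgroup is cyclic. -/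
theorem isCyclic_of_abelian_action (hB : AbConj G) {p : ℕ} (hp : p.Prime) {N : Subgroup G}
    [N.Normal] (hNc : ∀ a ∈ N, ∀ b ∈ N, a * b = b * a) (hNexp : ∀ a ∈ N, a ^ p = 1) (hN : N ≠ ⊥)
    (A : Subgroup (G ⧸ centralizer (N : Set G))) [A.Normal]
    (hA : ∀ a ∈ A, ∀ b ∈ A, a * b = b * a) : IsCyclic A := by
  classical
  haveI := Fact.mk hp
  set K := centralizer (N : Set G) with hK
  set π := QuotientGroup.mk' K
  let ρ : G ⧸ K →* MulAut N := QuotientGroup.lift K MulAut.conjNormal (fun k hk => by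
    refine MulEquiv.ext fun v => Subtype.ext ?_
    rw [MulAut.conjNormal_apply]
    show k * v * k⁻¹ = v
    rw [← mem_centralizer_iff.1 hk v v.2, mul_inv_cancel_right])
  haveI : Nontrivial N := N.bot_or_nontrivial.resolve_left hN
  by_contra hnc
  set A₀ := A.comap π with hA₀
  have hA₀n : A₀.Normal := inferInstance
  have hKA : K ≤ A₀ := fun k hk => by
    rw [hA₀, mem_comap, show π k = 1 from (QuotientGroup.eq_one_iff k).2 hk]
    exact one_mem A
  -- stabilisers
  set St : G → Subgroup G := fun v => A₀ ⊓ centralizer ({v} : Set G) with hSt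
  obtain ⟨v, hvN, hv1, a, ha, haK, hav⟩ : ∃ v ∈ N, v ≠ 1 ∧ ∃ a ∈ A₀, a ∉ K ∧ Commute a v := by
    by_contra hcon
    push Not at hcon
    letI : CommGroup N := { (inferInstance : Group N) with
      mul_comm := fun a b => Subtype.ext (hNc a a.2 b b.2) }
    refine hnc (CfsgLib.Solvable.isCyclic_of_fpf_comm (C := N) (φ := ρ.comp A.subtype) ?_
      fun a b => Subtype.ext (hA a a.2 b b.2))
    intro e he v hv
    by_contra hv1
    obtain ⟨g, hg⟩ := QuotientGroup.mk'_surjective K (e : G ⧸ K)
    refine hcon v v.2 (fun h => hv1 (Subtype.ext h)) g (by rw [hA₀, mem_comap, hg]; exact e.2)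
      (fun h => he (Subtype.ext (by rw [← hg]; exact (QuotientGroup.eq_one_iff g).2 h))) ?_
    have : ρ (π g) v = v := by rw [show π g = (e : G ⧸ K) from hg]; exact hv
    have h := congrArg Subtype.val this
    change g * (v : G) * g⁻¹ = v at h
    exact mul_inv_eq_iff_eq_mul.1 h
  have hord : ∀ w ∈ N, w ≠ 1 → orderOf w = p := fun w hw hw1 => orderOf_eq_prime (hNexp w hw) hw1
  have hStcard : ∀ w ∈ N, w ≠ 1 → Nat.card (St w) = Nat.card (St v) := by
    intro w hw hw1
    obtain ⟨g, hg⟩ := conj_zpowers_of_orderOf hB (x := v) (y := w)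
      ((hord w hw hw1).trans (hord v hvN hv1).symm)
    have hcw : centralizer ({w} : Set G) = centralizer ({g * v * g⁻¹} : Set G) := by
      rw [← centralizer_closure ({w} : Set G), ← centralizer_closure ({g * v * g⁻¹} : Set G),
        ← zpowers_eq_closure, ← zpowers_eq_closure, hg]
    have : St w = (St v).map (MulAut.conj g).toMonoidHom := by
      ext z
      simp only [hSt, mem_inf, mem_map, MulEquiv.coe_toMonoidHom, MulAut.conj_apply, hcw,
        mem_centralizer_singleton_iff]
      constructor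
      · rintro ⟨hzA, hz⟩
        refine ⟨g⁻¹ * z * g, ⟨by simpa using hA₀n.conj_mem z hzA g⁻¹, ?_⟩, by group⟩
        calc (g⁻¹ * z * g) * v = g⁻¹ * (z * (g * v * g⁻¹)) * g := by group
          _ = _ := by rw [hz]; group
      · rintro ⟨z', ⟨hzA, hz⟩, rfl⟩
        refine ⟨hA₀n.conj_mem z' hzA g, ?_⟩
        calc (g * z' * g⁻¹) * (g * v * g⁻¹) = g * (z' * v) * g⁻¹ := by group
          _ = _ := by rw [hz]; group
    rw [this, card_map_conj]
  -- fixed points of a stabiliser
  have hVinv : ∀ s t : G, t ∈ N → (∀ y ∈ St s, Commute y t) → ∀ z ∈ A₀,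
      ∀ y ∈ St s, Commute y (z * t * z⁻¹) := by
    intro s t ht hfix z hz y hy
    have hc : ⁅z⁻¹, y⁆ ∈ K := by
      rw [← QuotientGroup.eq_one_iff]
      show π _ = 1
      rw [map_commutatorElement]
      exact commutatorElement_eq_one_iff_mul_comm.2
        (hA _ (show π z⁻¹ ∈ A from A₀.inv_mem hz) _ (show π y ∈ A from hy.1))
    have h1 : Commute (z⁻¹ * y * z) t := by
      rw [show z⁻¹ * y * z = ⁅z⁻¹, y⁆ * y by rw [commutatorElement_def]; group]
      exact (show Commute t ⁅z⁻¹, y⁆ from mem_centralizer_iff.1 hc t ht).symm.mul_left (hfix y hy)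
    show y * (z * t * z⁻¹) = z * t * z⁻¹ * y
    calc y * (z * t * z⁻¹) = z * ((z⁻¹ * y * z) * t) * z⁻¹ := by group
      _ = z * (t * (z⁻¹ * y * z)) * z⁻¹ := by rw [h1.eq]
      _ = _ := by group
  have hSv : ¬ St v ≤ K := fun h => haK (h ⟨ha, mem_centralizer_singleton_iff.2 hav.eq⟩)
  obtain ⟨w, hwN, hw⟩ : ∃ w ∈ N, ∃ y ∈ St v, ¬ Commute y w := by
    by_contra hcon
    push Not at hcon
    exact hSv fun y hy => mem_centralizer_iff.2 fun w hw => (hcon w hw y hy).symm
  obtain ⟨y₀, hy₀, hy₀w⟩ := hw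
  have hw1 : w ≠ 1 := fun h => hy₀w (h ▸ Commute.one_right y₀)
  have hne : St w ≠ St v := fun h => hy₀w
    (mem_centralizer_singleton_iff.1 (h ▸ hy₀ : y₀ ∈ St w).2)
  have hu1 : v * w ≠ 1 := fun h => hy₀w (by
    rw [eq_inv_of_mul_eq_one_right h]
    exact (show Commute y₀ v from mem_centralizer_singleton_iff.1 hy₀.2).inv_right)
  have hle : St (v * w) ≤ St v ⊓ St w := by
    rintro z ⟨hzA, hz⟩
    have hzc : z * (v * w) * z⁻¹ = v * w := by
      rw [mem_centralizer_singleton_iff.1 hz, mul_inv_cancel_right]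
    set t := (z * v * z⁻¹) * v⁻¹ with ht
    have htw : t = w * (z * w * z⁻¹)⁻¹ := by
      have h1 : (z * v * z⁻¹) * (z * w * z⁻¹) = v * w := by rw [← hzc]; group
      have hc : Commute v⁻¹ (z * w * z⁻¹) :=
        hNc _ (N.inv_mem hvN) _ ((inferInstance : N.Normal).conj_mem w hwN z)
      rw [eq_mul_inv_iff_mul_eq, ht, mul_assoc, hc.eq, ← mul_assoc, h1, hNc v hvN w hwN,
        mul_inv_cancel_right]
    have htN : t ∈ N := N.mul_mem ((inferInstance : N.Normal).conj_mem v hvN z) (N.inv_mem hvN)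
    have h1 : ∀ y ∈ St v, Commute y t := fun y hy => by
      have hyv : Commute y v := mem_centralizer_singleton_iff.1 hy.2
      exact (hVinv v v hvN (fun y' hy' => mem_centralizer_singleton_iff.1 hy'.2) z hzA y hy).mul_right
        hyv.inv_right
    have h2 : ∀ y ∈ St w, Commute y t := fun y hy => by
      rw [htw]
      have hyw : Commute y w := mem_centralizer_singleton_iff.1 hy.2
      exact hyw.mul_right
        (hVinv w w hwN (fun y' hy' => mem_centralizer_singleton_iff.1 hy'.2) z hzA y hy).inv_right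
    have ht1 : t = 1 := by
      by_contra ht1
      have hsub : ∀ {s : G}, (∀ y ∈ St s, Commute y t) → St s ≤ St t := fun h y hy =>
        ⟨hy.1, mem_centralizer_singleton_iff.2 (h y hy).eq⟩
      have e1 : St v = St t := eq_of_le_of_card_ge (hsub h1) (hStcard t htN ht1).le
      have e2 : St w = St t := eq_of_le_of_card_ge (hsub h2)
        (by rw [hStcard t htN ht1, hStcard w hwN hw1])
      exact hne (e2.trans e1.symm)
    refine ⟨⟨hzA, mem_centralizer_singleton_iff.2 ?_⟩, ⟨hzA, mem_centralizer_singleton_iff.2 ?_⟩⟩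
    · rw [ht] at ht1
      exact mul_inv_eq_iff_eq_mul.1 (mul_inv_eq_one.1 ht1)
    · rw [htw] at ht1
      exact mul_inv_eq_iff_eq_mul.1 (mul_inv_eq_one.1 ht1).symm
  have hc := hStcard (v * w) (N.mul_mem hvN hwN) hu1
  have e1 : St (v * w) = St v := eq_of_le_of_card_ge (hle.trans inf_le_left) hc.ge
  have e2 : St (v * w) = St w := eq_of_le_of_card_ge (hle.trans inf_le_right)
    (by rw [hc, hStcard w hwN hw1])
  exact hne (e2.symm.trans e1)

omit [Finite G] in
/-- Abelian normal sections which are cyclic control the cores of a quotient. -/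
theorem core_small (hB : AbConj G) [Finite G] [Group.IsSolvable G] {Y : Type*} [Group Y] [Finite Y]
    {π : G →* Y} (hπ : Function.Surjective π)
    (hY : ∀ A : Subgroup Y, A.Normal → (∀ a ∈ A, ∀ b ∈ A, a * b = b * a) → IsCyclic A)
    {s : ℕ} (hs : s.Prime) :
    IsCyclic (pCore s Y) ∨ (s = 2 ∧ Nat.card (pCore s Y) = 8 ∧ (∃ a ∈ pCore s Y, orderOf a = 4) ∧
      ¬ HasPlane 2 G) := by
  classical
  haveI := Fact.mk hs
  haveI : (pCore s Y).Normal := inferInstance
  obtain ⟨S⟩ : Nonempty (Sylow s G) := inferInstance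
  set R := pCore s Y with hR
  have hRS : R ≤ (S : Subgroup G).map π := Cores.pCore_le_sylow (S.mapSurjective hπ)
  by_cases hpl : HasPlane s G
  · left
    refine hY R inferInstance fun a ha b hb => ?_
    by_cases hb1 : R = ⊥
    · rw [hb1, mem_bot] at ha
      rw [ha, one_mul, mul_one]
    haveI : Nontrivial R := R.bot_or_nontrivial.resolve_left hb1
    haveI := (Cores.isPGroup_pCore (G := Y) s).center_nontrivial
    obtain ⟨z, hz⟩ := exists_ne (1 : center R)
    obtain ⟨x, hx, hxz⟩ := hRS z.1.2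
    by_cases ha1 : a = 1
    · rw [ha1, one_mul, mul_one]
    obtain ⟨u, hu, hua⟩ := hRS ha
    have hxo : orderOf x = s := orderOf_eq_prime (pow_eq_one_of_hasPlane hB hs hpl S.2 hx)
      fun h => hz (Subtype.ext (Subtype.ext (by rw [← hxz, h, map_one]; rfl)))
    have huo : orderOf u = s := orderOf_eq_prime (pow_eq_one_of_hasPlane hB hs hpl S.2 hu)
      fun h => ha1 (by rw [← hua, h, map_one])
    obtain ⟨g, hg⟩ := conj_zpowers_of_orderOf hB (x := x) (y := u) (huo.trans hxo.symm)
    have hmem := mem_map_of_mem π (hg ▸ mem_zpowers u)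
    rw [MonoidHom.map_zpowers, map_mul, map_mul, map_inv, hxz, hua] at hmem
    -- the centre of `R` is normal
    have hzc : ∀ r ∈ R, Commute r (π g * (z.1 : Y) * (π g)⁻¹) := by
      intro r hr
      have hr' : (π g)⁻¹ * r * π g ∈ R := by
        simpa using (inferInstance : R.Normal).conj_mem r hr (π g)⁻¹
      have h := congrArg Subtype.val (mem_center_iff.1 z.2 ⟨_, hr'⟩)
      show r * (π g * (z.1 : Y) * (π g)⁻¹) = π g * z.1 * (π g)⁻¹ * r
      calc r * (π g * (z.1 : Y) * (π g)⁻¹) = π g * (((π g)⁻¹ * r * π g) * z.1) * (π g)⁻¹ := by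
            group
        _ = π g * ((z.1 : Y) * ((π g)⁻¹ * r * π g)) * (π g)⁻¹ := by
            rw [show ((π g)⁻¹ * r * π g) * (z.1 : Y) = z.1 * ((π g)⁻¹ * r * π g) from h]
        _ = _ := by group
    obtain ⟨i, hi⟩ := hmem
    change (π g * (z.1 : Y) * (π g)⁻¹) ^ i = a at hi
    rw [← hi]
    exact ((hzc b hb).zpow_right i).eq.symm
  · rcases small_of_not_hasPlane hB hs hpl S.2 with hc | ⟨rfl, h8⟩
    · left
      haveI : IsCyclic ((S : Subgroup G).map π) :=
        isCyclic_of_surjective _ (π.subgroupMap_surjective (S : Subgroup G))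
      exact isCyclic_of_injective _ (Subgroup.inclusion_injective hRS)
    · by_cases hR8 : Nat.card R = 8
      · by_cases hc : IsCyclic R
        · exact Or.inl hc
        refine Or.inr ⟨rfl, hR8, ?_, hpl⟩
        have himg : Nat.card ((S : Subgroup G).map π) ≤ 8 := h8 ▸
          Nat.card_le_card_of_surjective _ (π.subgroupMap_surjective (S : Subgroup G))
        have heq : R = (S : Subgroup G).map π := eq_of_le_of_card_ge hRS (by omega)
        have hinj : Function.Injective (π.subgroupMap (S : Subgroup G)) := by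
          exact (Nat.bijective_iff_surjective_and_card _ |>.2
            ⟨π.subgroupMap_surjective _, by rw [h8, ← heq, hR8]⟩).1
        have hnS : ¬ IsCyclic (S : Subgroup G) := fun h => by
          haveI := h
          haveI : IsCyclic ((S : Subgroup G).map π) :=
            isCyclic_of_surjective _ (π.subgroupMap_surjective (S : Subgroup G))
          exact hc (heq ▸ (inferInstance : IsCyclic ((S : Subgroup G).map π)))
        obtain ⟨⟨x, hx, hxo⟩, -⟩ := exists_pair_of_eight hB hpl S.2 hnS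
        refine ⟨π x, heq ▸ mem_map_of_mem _ hx, ?_⟩
        rw [orderOf_map_eq (fun y hy hy1 => congrArg Subtype.val
          (hinj (a₁ := ⟨y, hy⟩) (a₂ := 1) (Subtype.ext (by simpa using hy1)))) hx, hxo]
      · left
        refine hY R inferInstance ?_
        obtain ⟨j, hj⟩ := IsPGroup.iff_card.1 (Cores.isPGroup_pCore (G := Y) 2)
        have hle : Nat.card R ≤ 8 := (card_le_of_le hRS).trans (h8 ▸
          Nat.card_le_card_of_surjective _ (π.subgroupMap_surjective (S : Subgroup G)))
        have hj3 : j < 3 := by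
          by_contra h
          have : 2 ^ 3 ≤ Nat.card R := hj ▸ Nat.pow_le_pow_right (by norm_num) (not_lt.1 h)
          omega
        intro a ha b hb
        suffices (⟨a, ha⟩ : R) * ⟨b, hb⟩ = ⟨b, hb⟩ * ⟨a, ha⟩ from congrArg Subtype.val this
        rcases (show j = 0 ∨ j = 1 ∨ j = 2 by omega) with rfl | rfl | rfl
        · haveI : Subsingleton R := Finite.card_le_one_iff_subsingleton.1 (by
            rw [show Nat.card R = 2 ^ 0 from hj]; norm_num)
          exact Subsingleton.elim _ _
        · haveI := isCyclic_of_prime_card (α := R) (p := 2) (by simpa using hj)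
          exact IsMulCommutative.is_comm.comm _ _
        · letI := IsPGroup.commGroupOfCardEqPrimeSq (G := R) hj
          exact mul_comm _ _

theorem le_centralizer_fitting {x : G} (h : ∀ r : ℕ, r.Prime → x ∈ centralizer (pCore r G : Set G)) :
    x ∈ centralizer (fittingSubgroup G : Set G) := by
  have hle : fittingSubgroup G ≤ centralizer ({x} : Set G) := by
    rw [Cores.fittingSubgroup_eq_iSup_pCore]
    refine iSup_le fun r => fun y hy => mem_centralizer_singleton_iff.2 ?_
    exact mem_centralizer_iff.1 (h r (Nat.prime_of_mem_primeFactors r.2)) y hy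
  exact mem_centralizer_iff.2 fun y hy => mem_centralizer_singleton_iff.1 (hle hy)

theorem mem_pCore_of_mem_fitting {q : ℕ} (hq : q.Prime) {x : G} (hx : x ∈ fittingSubgroup G)
    {n : ℕ} (ho : orderOf x = q ^ n) : x ∈ pCore q G := by
  haveI := Fact.mk hq
  haveI := Cores.isNilpotent_fittingSubgroup (G := G)
  obtain ⟨P, hP⟩ := (IsPGroup.of_card (n := n) (G := zpowers (⟨x, hx⟩ : fittingSubgroup G)) (by
    rw [Nat.card_zpowers, Subgroup.orderOf_mk, ho])).exists_le_sylow
  haveI := Cores.fittingSubgroup_normal (G := G)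
  haveI : (P : Subgroup (fittingSubgroup G)).Characteristic :=
    P.characteristic_of_normal inferInstance
  exact Cores.le_pCore (P.2.map (fittingSubgroup G).subtype)
    ⟨⟨x, hx⟩, hP (mem_zpowers _), rfl⟩

/-- A prime with a plane has nontrivial core. -/
theorem pCore_ne_bot_of_hasPlane (hB : AbConj G) [Group.IsSolvable G] {q : ℕ} (hq : q.Prime)
    (hpl : HasPlane q G)
    (hcomm : ∀ r : ℕ, r.Prime → HasPlane r G → pCore r G ≠ ⊥ →
      (∀ a ∈ pCore r G, ∀ b ∈ pCore r G, a * b = b * a) ∧ ∀ a ∈ pCore r G, a ^ r = 1) :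
    pCore q G ≠ ⊥ := by
  classical
  intro hbot
  haveI := Fact.mk hq
  obtain ⟨x, y, hx, hy, hxy, hyx, hout⟩ := exists_plane_pair hq hpl
  have hx1 : x ≠ 1 := fun h => hq.ne_one (by rw [← hx, h, orderOf_one])
  -- elements of the plane centralise every core
  have key : ∀ {Y : Type _} [Group Y] [Finite Y] (π : G →* Y) (R : Subgroup Y), R.Normal →
      (IsCyclic R ∨ (Nat.card R = 8 ∧ (∃ a ∈ R, orderOf a = 4) ∧ q ≠ 2)) →
      ∀ z : G, orderOf z = q → π z ∈ centralizer (R : Set Y) := by
    intro Y _ _ π R hRn hR z hz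
    rcases hR with hR | ⟨h8, h4, hq2⟩
    · haveI := hRn
      have hK : ((centralizer (R : Set Y)).comap π).Normal := inferInstance
      have hxK := mem_of_central_mod hB hK (x := x) (y := y)
        (fun g => comm_mem_comap_centralizer π hRn hR g x) (hy.trans hx.symm)
        (fun m => (hout m).trans hx.symm)
      obtain ⟨g, hg⟩ := conj_zpowers_of_orderOf hB (x := x) (y := z) (hz.trans hx.symm)
      exact zpowers_le.2 (hK.conj_mem _ hxK g) (hg ▸ mem_zpowers z)
    · haveI := hRn
      exact plane_centralizes_eight hB hq hq2 hpl π h8 h4 hz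
  have hxF : x ∈ centralizer (fittingSubgroup G : Set G) := by
    refine le_centralizer_fitting fun r hr => ?_
    haveI := Fact.mk hr
    by_cases hr' : HasPlane r G
    swap
    · have h := small_of_not_hasPlane hB hr hr' (Cores.isPGroup_pCore (G := G) r)
      refine key (MonoidHom.id G) (pCore r G) inferInstance ?_ x hx
      by_cases hc : IsCyclic (pCore r G)
      · exact Or.inl hc
      · obtain ⟨rfl, h8⟩ := h.resolve_left hc
        refine Or.inr ⟨h8, (exists_pair_of_eight hB hr' (Cores.isPGroup_pCore (G := G) 2) hc).1, ?_⟩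
        rintro rfl
        exact hr' hpl
    by_cases hrb : pCore r G = ⊥
    · rw [hrb]
      exact mem_centralizer_iff.2 fun a ha => by rw [mem_bot.1 ha, one_mul, mul_one]
    have hrq : r ≠ q := fun h => hrb (h ▸ hbot)
    obtain ⟨hNc, hNexp⟩ := hcomm r hr hr' hrb
    set N := pCore r G with hN
    set π := QuotientGroup.mk' (centralizer (N : Set G))
    have hπ : Function.Surjective π := QuotientGroup.mk'_surjective _
    haveI : Group.IsSolvable (G ⧸ centralizer (N : Set G)) := Group.isSolvable_of_surjective hπ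
    have hY : ∀ A : Subgroup (G ⧸ centralizer (N : Set G)), A.Normal →
        (∀ a ∈ A, ∀ b ∈ A, a * b = b * a) → IsCyclic A := fun A hA hAc => by
      haveI := hA
      exact isCyclic_of_abelian_action hB hr hNc hNexp hrb A hAc
    by_contra hxK
    have hall : ∀ z : G, orderOf z = q → π z ∈ centralizer
        (fittingSubgroup (G ⧸ centralizer (N : Set G)) : Set _) := by
      intro z hz
      refine le_centralizer_fitting fun s hs => key π _ inferInstance ?_ z hz
      rcases core_small hB hπ hY hs with h | ⟨-, h8, h4, h2⟩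
      · exact Or.inl h
      · exact Or.inr ⟨h8, h4, fun h => h2 (h ▸ hpl)⟩
    have hzO : ∀ z : G, orderOf z = q → π z ∈ pCore q (G ⧸ centralizer (N : Set G)) := by
      intro z hz
      obtain ⟨j, -, hj⟩ := (Nat.dvd_prime_pow hq).1
        (show orderOf (π z) ∣ q ^ 1 by rw [pow_one, ← hz]; exact orderOf_map_dvd π z)
      exact mem_pCore_of_mem_fitting hq
        (CfsgLib.Solvable.centralizer_fittingSubgroup_le (hall z hz)) hj
    have hcyc : IsCyclic (pCore q (G ⧸ centralizer (N : Set G))) := by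
      rcases core_small hB hπ hY hq with h | ⟨hq2, -, -, h2⟩
      · exact h
      · exact absurd (hq2 ▸ hpl) h2
    have hπx : π x ≠ 1 := fun h => hxK ((QuotientGroup.eq_one_iff x).1 h)
    have hxo : orderOf (π x) = q := orderOf_eq_prime (by
      rw [← map_pow, ← hx, pow_orderOf_eq_one, map_one]) hπx
    have hymem : π y ∈ zpowers (π x) := by
      haveI := hcyc
      obtain ⟨c, hc⟩ := isCyclic_iff_exists_zpowers_eq_top.1 hcyc
      have hsub : zpowers (π x) = pCore q (G ⧸ centralizer (N : Set G)) := by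
        refine eq_of_le_of_card_ge (zpowers_le.2 (hzO x hx)) ?_
        rw [Nat.card_zpowers, hxo]
        obtain ⟨z, hz, hzc⟩ := Cores.pCore_le_sylow
          ((default : Sylow q G).mapSurjective hπ) c.2
        have hcq : (c : G ⧸ centralizer (N : Set G)) ^ q = 1 := by
          rw [← hzc, ← map_pow, pow_eq_one_of_hasPlane hB hq hpl (default : Sylow q G).2 hz, map_one]
        calc Nat.card _ = Nat.card (zpowers c) := by rw [hc, card_top]
          _ = orderOf c := Nat.card_zpowers c
          _ ≤ q := Nat.le_of_dvd hq.pos (orderOf_dvd_of_pow_eq_one (Subtype.ext hcq))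
      rw [hsub]
      exact hzO y hy
    obtain ⟨m, hm⟩ := hymem
    change π x ^ m = π y at hm
    have hwK : x ^ (-m) * y ∈ centralizer (N : Set G) := by
      rw [← QuotientGroup.eq_one_iff]
      show π _ = 1
      rw [map_mul, map_zpow, ← hm, ← zpow_add, neg_add_cancel, zpow_zero]
    obtain ⟨g, hg⟩ := conj_zpowers_of_orderOf hB (x := x ^ (-m) * y) (y := x)
      (hx.trans (hout _).symm)
    exact hxK (zpowers_le.2 ((inferInstance : (centralizer (N : Set G)).Normal).conj_mem _ hwK g)
      (hg ▸ mem_zpowers x))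
  have := mem_pCore_of_mem_fitting hq (CfsgLib.Solvable.centralizer_fittingSubgroup_le hxF)
    (n := 1) (by rw [pow_one, hx])
  rw [hbot, mem_bot] at this
  exact hx1 this

theorem core_facts_of_hasPlane (hB : AbConj G) {p : ℕ} (hp : p.Prime)
    (hpl : HasPlane p G) (hne : pCore p G ≠ ⊥) :
    (∀ x : G, ∀ n : ℕ, orderOf x = p ^ n → x ∈ pCore p G) ∧
      (∀ a ∈ pCore p G, ∀ b ∈ pCore p G, a * b = b * a) ∧ ∀ a ∈ pCore p G, a ^ p = 1 := by
  haveI := Fact.mk hp
  set N := pCore p G with hN
  have hNp : IsPGroup p N := Cores.isPGroup_pCore p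
  have hexp : ∀ a ∈ N, a ^ p = 1 := fun a ha => pow_eq_one_of_hasPlane hB hp hpl hNp ha
  have hall : ∀ M : Subgroup G, M.Normal → M ≤ N → M ≠ ⊥ →
      ∀ x : G, ∀ n : ℕ, orderOf x = p ^ n → x ∈ M := by
    intro M hM hMN hMb x n hx
    by_cases hx1 : x = 1
    · rw [hx1]; exact one_mem M
    obtain ⟨z, hz, hz1⟩ := SetLike.exists_of_lt (bot_lt_iff_ne_bot.2 hMb)
    have hxo : orderOf x = p := orderOf_eq_prime (exponent_of_hasPlane hB hp hpl hx) hx1
    have hzo : orderOf z = p := orderOf_eq_prime (hexp z (hMN hz)) fun h => hz1 (h ▸ one_mem _)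
    obtain ⟨g, hg⟩ := conj_zpowers_of_orderOf hB (x := z) (y := x) (hxo.trans hzo.symm)
    exact zpowers_le.2 (hM.conj_mem z hz g) (hg ▸ mem_zpowers x)
  refine ⟨hall N inferInstance le_rfl hne, ?_, hexp⟩
  have hD : ⁅N, N⁆ = ⊥ := by
    by_contra hb
    haveI : Group.IsNilpotent N := hNp.isNilpotent
    haveI : Nontrivial N := N.bot_or_nontrivial.resolve_left hne
    have hlt := Group.IsSolvable.commutator_lt_top_of_nontrivial N
    refine hlt.ne (eq_top_iff.2 fun a _ => ?_)
    obtain ⟨n, hn⟩ := IsPGroup.iff_orderOf.1 hNp a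
    have h := hall ⁅N, N⁆ inferInstance (commutator_le_left N N) hb (a : G) n
      (by rw [Subgroup.orderOf_coe, hn])
    rw [← mem_map_iff_mem (f := N.subtype) N.subtype_injective, _root_.commutator_def,
      Subgroup.map_commutator, ← MonoidHom.range_eq_map, range_subtype]
    exact h
  intro a ha b hb
  refine commutatorElement_eq_one_iff_mul_comm.1 ?_
  rw [← mem_bot, ← hD]
  exact commutator_mem_commutator ha hb

/-- A prime with a plane has a normal elementary abelian Sylow subgroup. -/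
theorem normal_sylow_of_hasPlane (hB : AbConj G) [Group.IsSolvable G] {p : ℕ} (hp : p.Prime)
    (hpl : HasPlane p G) :
    (∀ x : G, ∀ n : ℕ, orderOf x = p ^ n → x ∈ pCore p G) ∧
      (∀ a ∈ pCore p G, ∀ b ∈ pCore p G, a * b = b * a) ∧ ∀ a ∈ pCore p G, a ^ p = 1 :=
  core_facts_of_hasPlane hB hp hpl (pCore_ne_bot_of_hasPlane hB hp hpl
    fun _ hr hrpl hrne => (core_facts_of_hasPlane hB hr hrpl hrne).2)

end CfsgLib.PGroup.ConjAb
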