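import Mathlib
import Cfsg.Agent.Lib.PGroup.Basic
import Cfsg.Agent.Lib.PGroupExtra.AbelianPrimeIndex

/-!
# Abelian subgroups of index p in p-groups
-/

set_option autoImplicit false

namespace CfsgLib.PGroup

open Subgroup
open scoped commutatorElement

variable {S : Type*} [Group S] [Finite S] {p : ℕ} [hp : Fact p.Prime]

omit hp in
/-- A subgroup of prime index is maximal. -/
theorem isCoatom_of_index_prime {A : Subgroup S} (hA : A.index.Prime) : IsCoatom A := by
  refine ⟨fun h => hA.ne_one (index_eq_one.2 h), fun B hB => ?_⟩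
  obtain ⟨x, hxB, hxA⟩ := SetLike.exists_of_lt hB
  exact CfsgLib.PGroupExtra.eq_top_of_prime_index hA hB.le hxB hxA

/-- In a nonabelian p-group the centre lies in each abelian subgroup of index p. -/
theorem center_le_of_abelian_index (hna : ¬ IsMulCommutative S) {A : Subgroup S}
    (hA : IsMulCommutative ↥A) (hAi : A.index = p) : center S ≤ A := by
  intro z hz
  by_contra hzA
  refine hna ⟨⟨fun a b => ?_⟩⟩
  have hle : (⊤ : Subgroup S) ≤ center S := by
    have hAc : A ≤ center S := by
      intro a ha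
      have htop : centralizer ({a} : Set S) = ⊤ := by
        refine CfsgLib.PGroupExtra.eq_top_of_prime_index (A := A) (hAi ▸ hp.out) ?_ (x := z) ?_ hzA
        · intro b hb
          exact mem_centralizer_singleton_iff.2
            (congrArg Subtype.val (hA.is_comm.comm (⟨b, hb⟩ : A) ⟨a, ha⟩))
        · exact mem_centralizer_singleton_iff.2 (mem_center_iff.1 hz a).symm
      refine mem_center_iff.2 fun g => ?_
      have := (eq_top_iff.1 htop) (mem_top g)
      exact mem_centralizer_singleton_iff.1 this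
    exact (CfsgLib.PGroupExtra.eq_top_of_prime_index (hAi ▸ hp.out) hAc hz hzA).ge
  exact (mem_center_iff.1 (hle (mem_top b)) a)

/-- The centre of a nonabelian p-group with an abelian subgroup `A` of index p is `C_A(x)`, `x ∉ A`. -/
theorem inf_centralizer_eq_center (hna : ¬ IsMulCommutative S) {A : Subgroup S}
    (hA : IsMulCommutative ↥A) (hAi : A.index = p) {x : S} (hx : x ∉ A) :
    A ⊓ centralizer ({x} : Set S) = center S := by
  refine le_antisymm ?_ (le_inf (center_le_of_abelian_index hna hA hAi)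
    (fun z hz => mem_centralizer_singleton_iff.2 (mem_center_iff.1 hz x).symm))
  rintro a ⟨ha, hax⟩
  have htop : centralizer ({a} : Set S) = ⊤ := by
    refine CfsgLib.PGroupExtra.eq_top_of_prime_index (A := A) (hAi ▸ hp.out) ?_ (x := x) ?_ hx
    · intro b hb
      exact mem_centralizer_singleton_iff.2
        (congrArg Subtype.val (hA.is_comm.comm (⟨b, hb⟩ : A) ⟨a, ha⟩))
    · exact mem_centralizer_singleton_iff.2 (mem_centralizer_singleton_iff.1 hax).symm
  exact mem_center_iff.2 fun g => mem_centralizer_singleton_iff.1 ((eq_top_iff.1 htop) (mem_top g))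

/-- `|S : Z(S)| = p |S'|` for a nonabelian p-group with an abelian subgroup of index p. -/
theorem index_center_eq (hS : IsPGroup p S) (hna : ¬ IsMulCommutative S) {A : Subgroup S}
    (hA : IsMulCommutative ↥A) (hAi : A.index = p) :
    (center S).index = p * Nat.card (_root_.commutator S) := by
  haveI := normal_of_isCoatom hS (isCoatom_of_index_prime (A := A) (hAi ▸ hp.out))
  obtain ⟨x, hx⟩ : ∃ x, x ∉ A := by
    by_contra! h
    exact hp.out.ne_one (hAi ▸ index_eq_one.2 (eq_top_iff.2 fun g _ => h g))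
  have h1 := CfsgLib.PGroupExtra.card_commutator_mul_card_centralizer A
    (fun a ha b hb => congrArg Subtype.val (hA.is_comm.comm (⟨a, ha⟩ : A) ⟨b, hb⟩)) (hAi ▸ hp.out) x hx
  rw [inf_centralizer_eq_center hna hA hAi hx] at h1
  refine Nat.eq_of_mul_eq_mul_left (Nat.card_pos (α := center S)) ?_
  rw [card_mul_index, ← card_mul_index A, ← h1, hAi]
  ring

/-- The number of subgroups of order p in a group of order p^2 and exponent p. -/
theorem card_subgroups_prime_of_sq {Q : Type*} [Group Q] [Finite Q]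
    (hQ : Nat.card Q = p ^ 2) (he : ∀ x : Q, x ^ p = 1) :
    Nat.card {K : Subgroup Q // Nat.card K = p} = p + 1 := by
  classical
  haveI := Fintype.ofFinite Q
  haveI := Fintype.ofFinite (Subgroup Q)
  have hzp : ∀ x : Q, x ≠ 1 → Nat.card (zpowers x) = p := fun x hx => by
    rw [Nat.card_zpowers]; exact orderOf_eq_prime (he x) hx
  have huniq : ∀ (K : Subgroup Q), Nat.card K = p → ∀ x ∈ K, x ≠ 1 → K = zpowers x := by
    intro K hK x hx hx1
    exact (eq_of_le_of_card_ge (zpowers_le.2 hx) (by rw [hzp x hx1, hK])).symm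
  let e : (Σ K : {K : Subgroup Q // Nat.card K = p}, {x : K.1 // x ≠ 1}) ≃ {x : Q // x ≠ 1} :=
    Equiv.ofBijective (fun s => ⟨(s.2.1 : Q), fun h => s.2.2 (Subtype.ext h)⟩) ⟨by
      rintro ⟨⟨K, hK⟩, ⟨⟨x, hx⟩, hx1⟩⟩ ⟨⟨L, hL⟩, ⟨⟨y, hy⟩, hy1⟩⟩ h
      have hxy : x = y := congrArg Subtype.val h
      subst hxy
      have hne : x ≠ 1 := fun h => hx1 (Subtype.ext h)
      have : K = L := (huniq K hK x hx hne).trans (huniq L hL x hy hne).symm
      subst this
      rfl,
      fun x => ⟨⟨⟨zpowers x.1, hzp _ x.2⟩, ⟨⟨x.1, mem_zpowers _⟩, fun h => x.2 (congrArg Subtype.val h)⟩⟩, rfl⟩⟩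
  have hcount := Nat.card_congr e
  rw [Nat.card_sigma] at hcount
  have hl : ∀ K : {K : Subgroup Q // Nat.card K = p}, Nat.card {x : K.1 // x ≠ 1} = p - 1 := by
    intro K
    haveI := Fintype.ofFinite K.1
    rw [Nat.card_eq_fintype_card, Fintype.card_subtype_compl, Fintype.card_subtype_eq,
      ← Nat.card_eq_fintype_card, K.2]
  have hr : Nat.card {x : Q // x ≠ 1} = p ^ 2 - 1 := by
    rw [Nat.card_eq_fintype_card, Fintype.card_subtype_compl, Fintype.card_subtype_eq,
      ← Nat.card_eq_fintype_card, hQ]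
  rw [Finset.sum_congr rfl (fun K _ => hl K), hr, Finset.sum_const, smul_eq_mul,
    Finset.card_univ, ← Nat.card_eq_fintype_card] at hcount
  have h2 := hp.out.two_le
  have h3 : p ^ 2 - 1 = (p + 1) * (p - 1) := by
    obtain ⟨k, rfl⟩ := Nat.exists_eq_add_of_le h2
    have : (2 + k) - 1 = k + 1 := by omega
    rw [this]
    refine Nat.sub_eq_of_eq_add ?_
    ring
  rw [h3] at hcount
  exact Nat.eq_of_mul_eq_mul_right (by omega) hcount

end CfsgLib.PGroup
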