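import Mathlib
import Cfsg.Agent.Lib.PGroup.AbelianConjSylow
import Cfsg.Agent.Lib.Solvable.SchurZassenhaus

/-!
# Conjugacy of subgroups of equal order when the Sylow subgroups are cyclic or of order 8

In a solvable group whose subgroups of prime power order are cyclic or of order 8, two subgroups of
the same order with conjugate Sylow 2-subgroups are conjugate.
-/

set_option autoImplicit false

namespace CfsgLib.PGroup.ConjAb

open Subgroup Cfsg
open scoped commutatorElement

universe v

variable {L : Type v} [Group L] [Finite L]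

/-- The Sylow 2-subgroup of `A` has a conjugate inside `B`. -/
def TwoMatch (A B : Subgroup L) : Prop :=
  ∃ (l : L) (S : Subgroup L), IsPGroup 2 S ∧ S ≤ A ∧ S.map (MulAut.conj l).toMonoidHom ≤ B ∧
    ∀ j : ℕ, 2 ^ j ∣ Nat.card A → 2 ^ j ∣ Nat.card S

theorem eq_of_card_eq_of_le_cyclic {P A B : Subgroup L} (hP : IsCyclic P) (hA : A ≤ P) (hB : B ≤ P)
    (h : Nat.card A = Nat.card B) : A = B := by
  classical
  have key : ∀ D : Subgroup L, D ≤ P → Nat.card D = Nat.card A →
      ∀ x, x ∈ D ↔ x ∈ P ∧ x ^ Nat.card A = 1 := by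
    intro D hD hc
    haveI := hP
    haveI : Fintype P := Fintype.ofFinite _
    have hsub : ∀ x : P, x ∈ D.subgroupOf P → x ^ Nat.card A = 1 := fun x hx => Subtype.ext (by
      rw [← hc]
      show (x : L) ^ Nat.card D = 1
      exact congrArg Subtype.val (pow_card_eq_one' (x := (⟨x.1, hx⟩ : D))))
    have heq : (Finset.univ.filter fun x : P => x ∈ D.subgroupOf P) =
        Finset.univ.filter fun x : P => x ^ Nat.card A = 1 := by
      refine Finset.eq_of_subset_of_card_le (fun x hx => ?_) ?_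
      · simp only [Finset.mem_filter, Finset.mem_univ, true_and] at hx ⊢
        exact hsub x hx
      · refine (IsCyclic.card_pow_eq_one_le Nat.card_pos).trans ?_
        rw [← Fintype.card_subtype, ← Nat.card_eq_fintype_card]
        exact le_of_eq (hc.symm.trans (Nat.card_congr (subgroupOfEquivOfLe hD).toEquiv).symm)
    intro x
    constructor
    · intro hx
      exact ⟨hD hx, congrArg Subtype.val (hsub ⟨x, hD hx⟩ hx)⟩
    · rintro ⟨hxP, hx⟩
      have : (⟨x, hxP⟩ : P) ∈ Finset.univ.filter fun y : P => y ∈ D.subgroupOf P := by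
        rw [heq]
        simp only [Finset.mem_filter, Finset.mem_univ, true_and]
        exact Subtype.ext hx
      simp only [Finset.mem_filter, Finset.mem_univ, true_and] at this
      exact this
  ext x
  rw [key A hA rfl, key B hB h.symm]

theorem CyclicOrEight.cyclic_of_card_four (hL : CyclicOrEight L) {P : Subgroup L}
    (hP : Nat.card P = 4) : IsCyclic P := by
  haveI : Fact (Nat.Prime 2) := ⟨Nat.prime_two⟩
  rcases hL 2 Nat.prime_two P (IsPGroup.of_card (n := 2) (by rw [hP]; norm_num)) with h | ⟨-, h⟩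
  · exact h
  · omega

theorem CyclicOrEight.involution_unique (hL : CyclicOrEight L) {P : Subgroup L} (hP : IsPGroup 2 P)
    {u z : L} (hu : u ∈ P) (hz : z ∈ P) (hu2 : orderOf u = 2) (hz2 : orderOf z = 2) : u = z := by
  haveI : Fact (Nat.Prime 2) := ⟨Nat.prime_two⟩
  have hcyc : ∀ {Q : Subgroup L}, IsCyclic Q → ∀ {a b : L}, a ∈ Q → b ∈ Q → orderOf a = 2 →
      orderOf b = 2 → a = b := by
    intro Q hQ a b ha hb ha2 hb2
    have h := eq_of_card_eq_of_le_cyclic hQ (zpowers_le.2 ha) (zpowers_le.2 hb)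
      (by rw [Nat.card_zpowers, Nat.card_zpowers, ha2, hb2])
    obtain ⟨i, hi⟩ := h ▸ mem_zpowers a
    change b ^ i = a at hi
    rcases Int.even_or_odd' i with ⟨j, rfl | rfl⟩
    · exfalso
      rw [zpow_mul, zpow_ofNat, orderOf_dvd_iff_pow_eq_one.1 hb2.dvd, one_zpow] at hi
      rw [← hi, orderOf_one] at ha2
      exact absurd ha2 (by norm_num)
    · rw [zpow_add, zpow_mul, zpow_ofNat, orderOf_dvd_iff_pow_eq_one.1 hb2.dvd, one_zpow, one_mul,
        zpow_one] at hi
      exact hi.symm
  rcases hL 2 Nat.prime_two P hP with hc | ⟨-, h8⟩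
  · exact hcyc hc hu hz hu2 hz2
  -- a central involution
  haveI : Nontrivial P := Finite.one_lt_card_iff_nontrivial.1 (by omega)
  haveI := hP.center_nontrivial
  obtain ⟨c, hc⟩ := exists_prime_orderOf_dvd_card' (G := center P) 2 (by
    rcases (hP.to_subgroup (center P)).card_eq_or_dvd with h | h
    · exact absurd h (Finite.one_lt_card (α := center P)).ne'
    · exact h)
  have hc2 : orderOf ((c.1 : P) : L) = 2 := by
    rw [Subgroup.orderOf_coe, Subgroup.orderOf_coe, hc]
  suffices ∀ w ∈ P, orderOf w = 2 → w = ((c.1 : P) : L) by rw [this u hu hu2, this z hz hz2]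
  intro w hw hw2
  by_contra hne
  set E := zpowers w ⊔ zpowers ((c.1 : P) : L) with hE
  have hEP : E ≤ P := sup_le (zpowers_le.2 hw) (zpowers_le.2 (c.1 : P).2)
  rcases hL 2 Nat.prime_two E (hP.to_le hEP) with hEc | ⟨-, hE8⟩
  · exact hne (hcyc hEc (mem_sup_left (mem_zpowers w)) (mem_sup_right (mem_zpowers _)) hw2 hc2)
  -- then `P` has exponent two
  have hEP' : E = P := eq_of_le_of_card_ge hEP (by omega)
  have hcw : Commute ((c.1 : P) : L) w :=
    (congrArg Subtype.val (mem_center_iff.1 c.2 ⟨w, hw⟩)).symm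
  have hexp : ∀ x ∈ P, x ^ 2 = 1 := by
    intro x hx
    rw [← hEP', hE, ← SetLike.mem_coe, coe_mul_of_right_le_normalizer_left, Set.mem_mul] at hx
    · obtain ⟨_, ⟨i, rfl⟩, _, ⟨j, rfl⟩, rfl⟩ := hx
      show ((w : L) ^ i * ((c.1 : P) : L) ^ j) ^ 2 = 1
      rw [(hcw.symm.zpow_zpow i j).mul_pow, ← zpow_natCast, ← zpow_natCast, zpow_comm w,
        zpow_comm ((c.1 : P) : L), zpow_natCast, zpow_natCast,
        orderOf_dvd_iff_pow_eq_one.1 hw2.dvd, orderOf_dvd_iff_pow_eq_one.1 hc2.dvd, one_zpow,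
        one_zpow, one_mul]
    · refine zpowers_le.2 (mem_normalizer_iff.2 fun y => ?_)
      have key : ∀ y ∈ zpowers w, Commute ((c.1 : P) : L) y := by
        rintro _ ⟨i, rfl⟩
        exact hcw.zpow_right i
      constructor
      · intro hy; rwa [(key y hy).eq, mul_inv_cancel_right]
      · intro hy
        have h := key _ hy
        have : ((c.1 : P) : L) * y * ((c.1 : P) : L)⁻¹ = y := by
          have h' : ((c.1 : P) : L) * (((c.1 : P) : L) * y * ((c.1 : P) : L)⁻¹) =
              ((c.1 : P) : L) * y := by rw [h.eq, inv_mul_cancel_right]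
          exact mul_left_cancel h'
        rwa [this] at hy
  obtain ⟨Q, hQ⟩ := Sylow.exists_subgroup_card_pow_prime (G := P) 2 (n := 2) (by rw [h8]; norm_num)
  have hQ4 : Nat.card (Q.map P.subtype) = 4 := by
    rw [card_map_of_injective P.subtype_injective, hQ]; norm_num
  obtain ⟨g, hg⟩ := (hL.cyclic_of_card_four hQ4).exists_generator
  have h4 : orderOf g = 4 := by rw [orderOf_eq_card_of_forall_mem_zpowers hg, hQ4]
  have := orderOf_le_of_pow_eq_one (by norm_num) (hexp g.1 (map_subtype_le _ g.2))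
  rw [Subgroup.orderOf_coe, h4] at this
  omega

/-- In a 2-subgroup, subgroups of equal order other than 4 coincide. -/
theorem CyclicOrEight.eq_of_le (hL : CyclicOrEight L) {P A B : Subgroup L} (hP : IsPGroup 2 P)
    (hA : A ≤ P) (hB : B ≤ P) (h : Nat.card A = Nat.card B) (h4 : IsCyclic P ∨ Nat.card A ≠ 4) :
    A = B := by
  haveI : Fact (Nat.Prime 2) := ⟨Nat.prime_two⟩
  rcases hL 2 Nat.prime_two P hP with hc | ⟨-, h8⟩
  · exact eq_of_card_eq_of_le_cyclic hc hA hB h
  rcases h4 with hc | h4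
  · exact eq_of_card_eq_of_le_cyclic hc hA hB h
  have hd : Nat.card A ∣ 2 ^ 3 := by
    have := card_dvd_of_le hA
    rwa [h8, show (8 : ℕ) = 2 ^ 3 by norm_num] at this
  obtain ⟨j, hj, hj'⟩ := (Nat.dvd_prime_pow Nat.prime_two).1 hd
  interval_cases j
  · rw [eq_bot_of_card_eq A (by simpa using hj'),
      eq_bot_of_card_eq B (by rw [← h]; simpa using hj')]
  · have hgen : ∀ D : Subgroup L, Nat.card D = 2 → ∃ u, u ∈ D ∧ orderOf u = 2 ∧ D = zpowers u := by
      intro D hD
      haveI := isCyclic_of_prime_card (α := D) (p := 2) hD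
      obtain ⟨⟨u, hu⟩, hu'⟩ := IsCyclic.exists_generator (α := D)
      have ho : orderOf u = 2 := by
        rw [← Subgroup.orderOf_mk u hu, orderOf_eq_card_of_forall_mem_zpowers hu', hD]
      exact ⟨u, hu, ho,
        (eq_of_le_of_card_ge (zpowers_le.2 hu) (by rw [hD, Nat.card_zpowers, ho])).symm⟩
    obtain ⟨u, hu, huo, hAu⟩ := hgen A (by simpa using hj')
    obtain ⟨z, hz, hzo, hBz⟩ := hgen B (by rw [← h]; simpa using hj')
    rw [hAu, hBz, hL.involution_unique hP (hA hu) (hB hz) huo hzo]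
  · exact absurd (by simpa using hj') h4
  · rw [eq_of_le_of_card_ge hA (by rw [h8, hj']; norm_num),
      eq_of_le_of_card_ge hB (by rw [h8, ← h, hj']; norm_num)]

omit [Finite L] in
theorem CyclicOrEight.subgroup (hL : CyclicOrEight L) (M : Subgroup L) : CyclicOrEight M := by
  intro r hr P hP
  have e : P ≃* P.map M.subtype := equivMapOfInjective P M.subtype M.subtype_injective
  rcases hL r hr _ (hP.map M.subtype) with h | ⟨h2, h8⟩
  · exact Or.inl (e.isCyclic.2 h)
  · exact Or.inr ⟨h2, by rw [Nat.card_congr e.toEquiv, h8]⟩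

theorem CyclicOrEight.quotient (hL : CyclicOrEight L) (R : Subgroup L) [R.Normal]
    (hR : Odd (Nat.card R)) : CyclicOrEight (L ⧸ R) := by
  intro r hr P hP
  haveI := Fact.mk hr
  set π := QuotientGroup.mk' R
  obtain ⟨S⟩ : Nonempty (Sylow r (P.comap π)) := inferInstance
  set S0 := (S : Subgroup (P.comap π)).map (P.comap π).subtype with hS0
  have hS0p : IsPGroup r S0 := S.2.map _
  have hle : S0.map π ≤ P := by
    rw [hS0, map_le_iff_le_comap]
    exact map_subtype_le _
  have heq : S0.map π = P := by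
    let f := π.subgroupComap P
    have hf : Function.Surjective f := fun ⟨y, hy⟩ => by
      obtain ⟨x, rfl⟩ := QuotientGroup.mk'_surjective R y
      exact ⟨⟨x, hy⟩, rfl⟩
    have h1 : ((S.mapSurjective hf : Sylow r P) : Subgroup P) = ⊤ :=
      (S.mapSurjective hf).is_maximal' (IsPGroup.of_equiv hP topEquiv.symm) le_top |>.symm
    refine le_antisymm hle fun y hy => ?_
    obtain ⟨x, hx, hxy⟩ : (⟨y, hy⟩ : P) ∈ (S : Subgroup (P.comap π)).map f := by
      have := h1.symm ▸ mem_top (⟨y, hy⟩ : P)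
      exact this
    exact ⟨x, ⟨x, hx, rfl⟩, congrArg Subtype.val hxy⟩
  have hsur : Function.Surjective (π.subgroupMap S0) := π.subgroupMap_surjective S0
  rcases hL r hr S0 hS0p with hc | ⟨rfl, h8⟩
  · left
    rw [← heq]
    exact isCyclic_of_surjective _ hsur
  · right
    refine ⟨rfl, ?_⟩
    rw [← heq, ← h8]
    refine (Nat.card_congr (Equiv.ofBijective _ ⟨(injective_iff_map_eq_one _).2 fun x hx => ?_,
      hsur⟩)).symm
    have hxR : (x : L) ∈ R := (QuotientGroup.eq_one_iff _).1 (congrArg Subtype.val hx)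
    obtain ⟨j, hj⟩ := IsPGroup.iff_orderOf.1 hS0p x
    refine orderOf_eq_one_iff.1 (Nat.eq_one_of_dvd_coprimes (k := orderOf x)
      (Nat.Coprime.pow_left j (Nat.coprime_two_left.2 hR)) hj.dvd ?_)
    rw [← Subgroup.orderOf_coe, ← Subgroup.orderOf_mk _ hxR]
    exact _root_.orderOf_dvd_natCard _

theorem conj_eq_map {A : Subgroup L} (g : L) (x : L) :
    x ∈ A.map (MulAut.conj g).toMonoidHom ↔ g⁻¹ * x * g ∈ A := by
  rw [mem_map_equiv, MulAut.conj_symm_apply]

omit [Finite L] in
theorem map_conj_conj (A : Subgroup L) (g h : L) :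
    (A.map (MulAut.conj g).toMonoidHom).map (MulAut.conj h).toMonoidHom =
      A.map (MulAut.conj (h * g)).toMonoidHom := by
  rw [map_map]
  congr 1
  ext x
  simp [mul_assoc]

/-- The case without odd cores. -/
theorem exists_conj_of_twoMatch_base [Group.IsSolvable L] (hL : CyclicOrEight L)
    (hcores : ∀ r : ℕ, r.Prime → r ≠ 2 → pCore r L = ⊥) (A B : Subgroup L)
    (hcard : Nat.card A = Nat.card B) (hm : TwoMatch A B) :
    ∃ l : L, B = A.map (MulAut.conj l).toMonoidHom := by
  classical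
  haveI : Fact (Nat.Prime 2) := ⟨Nat.prime_two⟩
  obtain ⟨l, S, hS, hSA, hSB, hSd⟩ := hm
  set O := pCore 2 L with hO
  have hOp : IsPGroup 2 O := Cores.isPGroup_pCore 2
  have hOn : O.Normal := inferInstance
  have hF : fittingSubgroup L ≤ O := by
    rw [Cores.fittingSubgroup_eq_iSup_pCore]
    refine iSup_le fun r => ?_
    by_cases h2 : (r : ℕ) = 2
    · rw [h2]
    · rw [hcores r (Nat.prime_of_mem_primeFactors r.2) h2]; exact bot_le
  have hCO : centralizer (O : Set L) ≤ O := fun x hx =>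
    hF (CfsgLib.Solvable.centralizer_fittingSubgroup_le
      (mem_centralizer_iff.2 fun y hy => mem_centralizer_iff.1 hx y (hF hy)))
  -- the whole group is a 2-group, or `O` has order 8
  have hodd : ∀ w : L, (orderOf w).Prime → orderOf w ≠ 2 → w ∉ centralizer (O : Set L) := by
    intro w hw hw2 hwC
    obtain ⟨j, hj⟩ := IsPGroup.iff_orderOf.1 hOp ⟨w, hCO hwC⟩
    rw [Subgroup.orderOf_mk] at hj
    exact hw2 ((Nat.prime_dvd_prime_iff_eq hw Nat.prime_two).1 (hw.dvd_of_dvd_pow hj.dvd))
  have hsame2 : IsPGroup 2 A → ∃ l : L, B = A.map (MulAut.conj l).toMonoidHom := by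
    intro hA
    obtain ⟨j, hj⟩ := IsPGroup.iff_card.1 hA
    have hSA' : S = A :=
      eq_of_le_of_card_ge hSA (Nat.le_of_dvd Nat.card_pos (by
        have h := hSd j hj.symm.dvd
        rwa [← hj] at h))
    subst hSA'
    exact ⟨l, (eq_of_le_of_card_ge hSB (by rw [card_map_conj, hcard])).symm⟩
  rcases hL 2 Nat.prime_two O hOp with hOc | ⟨-, hO8⟩
  · refine hsame2 ((IsPGroup.to_subgroup ?_ A))
    refine IsPGroup.of_card (n := (Nat.card L).primeFactorsList.length)
      (Nat.eq_prime_pow_of_unique_prime_dvd Nat.card_pos.ne' fun {d} hd hdd => ?_)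
    by_contra hd2
    haveI := Fact.mk hd
    obtain ⟨w, hw⟩ := exists_prime_orderOf_dvd_card' (G := L) d hdd
    refine hodd w (hw ▸ hd) (hw ▸ hd2) ?_
    obtain ⟨k, hk⟩ := IsPGroup.iff_card.1 hOp
    have haut : (MulAut.conjNormal w : MulAut O) = 1 := by
      have h1 : orderOf (MulAut.conjNormal w : MulAut O) ∣ d := hw ▸ orderOf_map_dvd _ w
      have h2 : orderOf (MulAut.conjNormal w : MulAut O) ∣ Nat.card (MulAut O) :=
        _root_.orderOf_dvd_natCard _
      rw [IsCyclic.card_mulAut, hk] at h2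
      refine orderOf_eq_one_iff.1 (((Nat.dvd_prime hd).1 h1).resolve_right fun he => ?_)
      rw [he] at h2
      rcases Nat.eq_zero_or_pos k with rfl | hk0
      · rw [pow_zero, Nat.totient_one] at h2
        exact hd.not_dvd_one h2
      · rw [Nat.totient_prime_pow Nat.prime_two hk0] at h2
        rcases hd.dvd_mul.1 h2 with h | h
        · exact hd2 ((Nat.prime_dvd_prime_iff_eq hd Nat.prime_two).1 (hd.dvd_of_dvd_pow h))
        · exact hd.not_dvd_one (by simpa using h)
    refine mem_centralizer_iff.2 fun y hy => ?_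
    have h := congrArg (fun f : MulAut O => ((f ⟨y, hy⟩ : O) : L)) haut
    simp only [MulAut.conjNormal_apply, MulAut.one_apply] at h
    exact (mul_inv_eq_iff_eq_mul.1 h).symm
  -- `O` has order 8
  by_cases hOc : IsCyclic O
  · have hOL : ∀ w : L, (orderOf w).Prime → orderOf w = 2 := by
      intro w hw
      by_contra hw2
      refine hodd w hw hw2 ?_
      haveI := Fact.mk hw
      have haut : (MulAut.conjNormal w : MulAut O) = 1 := by
        have h1 : orderOf (MulAut.conjNormal w : MulAut O) ∣ orderOf w := orderOf_map_dvd _ w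
        have h2 : orderOf (MulAut.conjNormal w : MulAut O) ∣ Nat.card (MulAut O) :=
          _root_.orderOf_dvd_natCard _
        rw [IsCyclic.card_mulAut, hO8, show (8 : ℕ) = 2 ^ 3 by norm_num,
          Nat.totient_prime_pow Nat.prime_two (by norm_num), show (2 : ℕ) ^ (3 - 1) * (2 - 1) = 2 ^ 2
            by norm_num] at h2
        refine orderOf_eq_one_iff.1 (((Nat.dvd_prime hw).1 h1).resolve_right fun he => ?_)
        rw [he] at h2
        exact hw2 ((Nat.prime_dvd_prime_iff_eq hw Nat.prime_two).1 (hw.dvd_of_dvd_pow h2))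
      refine mem_centralizer_iff.2 fun y hy => ?_
      have h := congrArg (fun f : MulAut O => ((f ⟨y, hy⟩ : O) : L)) haut
      simp only [MulAut.conjNormal_apply, MulAut.one_apply] at h
      exact (mul_inv_eq_iff_eq_mul.1 h).symm
    refine hsame2 (IsPGroup.to_subgroup ?_ A)
    refine IsPGroup.of_card (n := (Nat.card L).primeFactorsList.length)
      (Nat.eq_prime_pow_of_unique_prime_dvd Nat.card_pos.ne' fun {d} hd hdd => ?_)
    haveI := Fact.mk hd
    obtain ⟨w, hw⟩ := exists_prime_orderOf_dvd_card' (G := L) d hdd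
    rw [← hw]
    exact hOL w (hw ▸ hd)
  -- elements of order 4 in `O`
  obtain ⟨a, haO, ha4⟩ : ∃ a ∈ O, orderOf a = 4 := by
    obtain ⟨Q, hQ⟩ := Sylow.exists_subgroup_card_pow_prime (G := O) 2 (n := 2) (by rw [hO8]; norm_num)
    have hQ4 : Nat.card (Q.map O.subtype) = 4 := by
      rw [card_map_of_injective O.subtype_injective, hQ]; norm_num
    obtain ⟨g, hg⟩ := (hL.cyclic_of_card_four hQ4).exists_generator
    exact ⟨g.1, map_subtype_le _ g.2, by
      rw [Subgroup.orderOf_coe, orderOf_eq_card_of_forall_mem_zpowers hg, hQ4]⟩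
  -- fixed points of odd elements
  have hfix : ∀ w : L, (orderOf w).Prime → orderOf w ≠ 2 →
      orderOf w = 3 ∧ ¬ Commute w a := by
    intro w hw hw2
    haveI := Fact.mk hw
    have hwC := hodd w hw hw2
    let ψ : zpowers w →* MulAut O := (MulAut.conjNormal).comp (zpowers w).subtype
    letI : MulAction (zpowers w) O := MulAction.compHom O ψ
    have hP : IsPGroup (orderOf w) (zpowers w) := IsPGroup.of_card (n := 1) (by
      rw [Nat.card_zpowers, pow_one])
    have hmod := hP.card_modEq_card_fixedPoints O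
    set C : Subgroup O := (centralizer ({w} : Set L)).subgroupOf O
    have hfp : MulAction.fixedPoints (zpowers w) O = (C : Set O) := by
      ext r
      rw [MulAction.mem_fixedPoints, SetLike.mem_coe, mem_subgroupOf, mem_centralizer_singleton_iff]
      constructor
      · intro h
        have := congrArg Subtype.val (h ⟨w, mem_zpowers w⟩)
        change w * (r : L) * w⁻¹ = r at this
        exact (mul_inv_eq_iff_eq_mul.1 this).symm
      · rintro h ⟨_, i, rfl⟩
        refine Subtype.ext ?_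
        show w ^ i * (r : L) * (w ^ i)⁻¹ = r
        rw [mul_inv_eq_iff_eq_mul]
        exact ((show Commute w r from h.symm).zpow_left i).eq
    have hfp' : Nat.card (MulAction.fixedPoints (zpowers w) O) = Nat.card C := by rw [hfp]; rfl
    rw [hfp', hO8] at hmod
    have hdvd : Nat.card C ∣ 2 ^ 3 := by
      have := card_subgroup_dvd_card C
      rwa [hO8, show (8 : ℕ) = 2 ^ 3 by norm_num] at this
    obtain ⟨j, hj, hj'⟩ := (Nat.dvd_prime_pow Nat.prime_two).1 hdvd
    have hj3 : j ≠ 3 := by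
      rintro rfl
      refine hwC (mem_centralizer_iff.2 fun r hr => ?_)
      have htop : C = ⊤ := eq_top_of_card_eq C (by rw [hj', hO8]; norm_num)
      exact mem_centralizer_singleton_iff.1 (htop ▸ mem_top (⟨r, hr⟩ : O) : (⟨r, hr⟩ : O) ∈ C)
    have hj2 : j ≠ 2 := by
      rintro rfl
      rw [hj'] at hmod
      have := (Nat.modEq_iff_dvd' (by norm_num : 2 ^ 2 ≤ 8)).1 hmod.symm
      exact hw2 ((Nat.prime_dvd_prime_iff_eq hw Nat.prime_two).1
        (hw.dvd_of_dvd_pow (n := 2) (by simpa using this)))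
    refine ⟨?_, fun hwa => ?_⟩
    · rcases (show j = 0 ∨ j = 1 by omega) with rfl | rfl
      · exfalso
        rw [hj'] at hmod
        have h7 := (Nat.modEq_iff_dvd' (by norm_num : 2 ^ 0 ≤ 8)).1 hmod.symm
        norm_num at h7
        have h7' : orderOf w = 7 := ((Nat.dvd_prime (by norm_num : Nat.Prime 7)).1 h7).resolve_left
          hw.ne_one
        -- the involution is fixed
        have hz : orderOf (a ^ 2) = 2 := by
          rw [orderOf_pow_of_dvd (by norm_num) (ha4 ▸ by norm_num), ha4]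
        have hzC : (⟨a ^ 2, pow_mem haO 2⟩ : O) ∈ C := by
          have := hL.involution_unique hOp (hOn.conj_mem _ (pow_mem haO 2) w) (pow_mem haO 2)
            (by rw [show w * a ^ 2 * w⁻¹ = MulAut.conj w (a ^ 2) from rfl, MulEquiv.orderOf_eq, hz]) hz
          rw [mem_subgroupOf, mem_centralizer_singleton_iff]
          exact (mul_inv_eq_iff_eq_mul.1 this).symm
        have := card_le_of_le (zpowers_le.2 hzC)
        rw [Nat.card_zpowers, Subgroup.orderOf_mk, hz, hj'] at this
        norm_num at this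
      · rw [hj'] at hmod
        have h6 := (Nat.modEq_iff_dvd' (by norm_num : 2 ^ 1 ≤ 8)).1 hmod.symm
        norm_num at h6
        rcases hw.dvd_mul.1 (show orderOf w ∣ 2 * 3 by simpa using h6) with h | h
        · exact absurd ((Nat.prime_dvd_prime_iff_eq hw Nat.prime_two).1 h) hw2
        · exact (Nat.prime_dvd_prime_iff_eq hw Nat.prime_three).1 h
    · have hle : zpowers (⟨a, haO⟩ : O) ≤ C := zpowers_le.2
        (mem_centralizer_singleton_iff.2 hwa.eq.symm)
      have := card_le_of_le hle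
      rw [Nat.card_zpowers, Subgroup.orderOf_mk, ha4, hj'] at this
      rcases (show j = 0 ∨ j = 1 by omega) with rfl | rfl <;> norm_num at this
  -- Sylow 3-subgroups have order at most 3
  haveI : Fact (Nat.Prime 3) := ⟨Nat.prime_three⟩
  obtain ⟨T₃⟩ : Nonempty (Sylow 3 L) := inferInstance
  have hT3 : Nat.card (T₃ : Subgroup L) ≤ 3 := by
    obtain ⟨k, hk⟩ := IsPGroup.iff_card.1 T₃.2
    have hinj : Function.Injective (fun t : (T₃ : Subgroup L) =>
        (⟨t * a * (t : L)⁻¹, hOn.conj_mem a haO t⟩ : O)) := by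
      intro t₁ t₂ h
      by_contra hne
      set w := ((t₂⁻¹ * t₁ : (T₃ : Subgroup L)) : L) with hw
      have hw1 : w ≠ 1 := fun h => hne ((eq_of_inv_mul_eq_one (OneMemClass.coe_eq_one.1 h)).symm)
      obtain ⟨m, hm⟩ := IsPGroup.iff_orderOf.1 T₃.2 (t₂⁻¹ * t₁)
      rw [← Subgroup.orderOf_coe, ← hw] at hm
      have hm0 : m ≠ 0 := fun h => hw1 (orderOf_eq_one_iff.1 (by rw [hm, h, pow_zero]))
      have hwc : Commute w a := by
        have h' : (t₁ : L) * a * (t₁ : L)⁻¹ = t₂ * a * (t₂ : L)⁻¹ := congrArg Subtype.val h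
        show w * a = a * w
        rw [hw, Subgroup.coe_mul, Subgroup.coe_inv]
        calc (t₂ : L)⁻¹ * t₁ * a = (t₂ : L)⁻¹ * ((t₁ : L) * a * (t₁ : L)⁻¹) * t₁ := by group
          _ = _ := by rw [h']; group
      have ho : orderOf (w ^ 3 ^ (m - 1)) = 3 := by
        rw [orderOf_pow_of_dvd (by positivity) (hm ▸ pow_dvd_pow 3 (Nat.sub_le m 1)), hm,
          Nat.pow_div (Nat.sub_le m 1) (by norm_num), show m - (m - 1) = 1 by omega, pow_one]
      exact (hfix _ (ho ▸ Nat.prime_three) (by rw [ho]; norm_num)).2 (hwc.pow_left _)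
    have h9 := Nat.card_le_card_of_injective _ hinj
    rw [hO8, hk] at h9
    rw [hk]
    have hk1 : k ≤ 1 := by
      by_contra hk2
      have : 3 ^ 2 ≤ 3 ^ k := Nat.pow_le_pow_right (by norm_num) (not_le.1 hk2)
      omega
    calc 3 ^ k ≤ 3 ^ 1 := Nat.pow_le_pow_right (by norm_num) hk1
      _ = 3 := by norm_num
  -- `O` is a Sylow 2-subgroup of index dividing 3
  obtain ⟨P₂, hOP₂⟩ := hOp.exists_le_sylow
  have hP8 : Nat.card (P₂ : Subgroup L) ≤ 8 := by
    rcases hL 2 Nat.prime_two _ P₂.2 with hc | ⟨-, h⟩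
    · haveI := hc
      exact absurd (isCyclic_of_injective _ (Subgroup.inclusion_injective hOP₂)) hOc
    · exact h.le
  have hOS : O = (P₂ : Subgroup L) := eq_of_le_of_card_ge hOP₂ (by omega)
  have hidx : O.index ∣ 3 := by
    have honly : ∀ d : ℕ, d.Prime → d ∣ O.index → d = 3 := by
      intro d hd hdd
      haveI := Fact.mk hd
      have hd2 : d ≠ 2 := fun h => P₂.not_dvd_index (hOS ▸ h ▸ hdd)
      obtain ⟨w, hw⟩ := exists_prime_orderOf_dvd_card' (G := L) d (hdd.trans (index_dvd_card O))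
      rw [← hw]
      exact (hfix w (hw ▸ hd) (hw ▸ hd2)).1
    obtain ⟨k, hk⟩ : ∃ k, O.index = 3 ^ k :=
      ⟨_, Nat.eq_prime_pow_of_unique_prime_dvd index_ne_zero_of_finite fun {d} hd hdd => honly d hd hdd⟩
    have hdvd : 3 ^ k ∣ Nat.card (T₃ : Subgroup L) :=
      T₃.pow_dvd_card_of_pow_dvd_card (hk ▸ O.index_dvd_card)
    rw [hk]
    have := (Nat.le_of_dvd Nat.card_pos hdvd).trans hT3
    have hk1 : k ≤ 1 := (Nat.pow_le_pow_iff_right (by norm_num : 1 < 3)).1 (this.trans_eq (pow_one 3).symm)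
    exact (pow_dvd_pow 3 hk1).trans (pow_one 3).dvd
  have hsplit : ∀ D : Subgroup L, (O ⊓ D).relIndex D ∣ 3 := fun D => by
    rw [inf_relIndex_right]
    exact (relIndex_dvd_index_of_normal O D).trans hidx
  have hcardD : ∀ D : Subgroup L, Nat.card ↥(O ⊓ D) * (O ⊓ D).relIndex D = Nat.card D := fun D => by
    rw [← Nat.card_congr (subgroupOfEquivOfLe (inf_le_right : O ⊓ D ≤ D)).toEquiv]
    exact card_mul_index _
  rcases (Nat.dvd_prime Nat.prime_three).1 (hsplit A) with hA1 | hA3
  · exact hsame2 (hOp.to_le (inf_eq_right.1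
      (eq_of_le_of_card_ge inf_le_right (by rw [← hcardD A, hA1, mul_one]))))
  have hB3 : (O ⊓ B).relIndex B = 3 := by
    refine ((Nat.dvd_prime Nat.prime_three).1 (hsplit B)).resolve_left fun hB1 => ?_
    have h3 : 3 ∣ Nat.card B := by rw [← hcard, ← hcardD A, hA3]; exact dvd_mul_left 3 _
    rw [← hcardD B, hB1, mul_one] at h3
    obtain ⟨j, hj⟩ := IsPGroup.iff_card.1 (hOp.to_le (inf_le_left : O ⊓ B ≤ O))
    rw [hj] at h3
    exact absurd (Nat.prime_three.dvd_of_dvd_pow h3) (by norm_num)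
  have hel : ∀ D : Subgroup L, (O ⊓ D).relIndex D = 3 → ∃ t ∈ D, orderOf t = 3 := by
    intro D hD
    obtain ⟨t, ht⟩ := exists_prime_orderOf_dvd_card' (G := D) 3
      (by rw [← hcardD D, hD]; exact dvd_mul_left 3 _)
    exact ⟨t.1, t.2, by rw [Subgroup.orderOf_coe, ht]⟩
  obtain ⟨t, htA, hto⟩ := hel A hA3
  obtain ⟨t', htB, hto'⟩ := hel B hB3
  -- conjugate `⟨t⟩` to `⟨t'⟩`
  obtain ⟨P, hP⟩ := (IsPGroup.of_card (n := 1) (G := zpowers t)
    (by rw [Nat.card_zpowers, hto, pow_one])).exists_le_sylow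
  obtain ⟨P', hP'⟩ := (IsPGroup.of_card (n := 1) (G := zpowers t')
    (by rw [Nat.card_zpowers, hto', pow_one])).exists_le_sylow
  have hP3 : zpowers t = (P : Subgroup L) := eq_of_le_of_card_ge hP (by
    rw [Nat.card_zpowers, hto, Sylow.card_eq_multiplicity, ← Sylow.card_eq_multiplicity T₃]
    exact hT3)
  have hP3' : zpowers t' = (P' : Subgroup L) := eq_of_le_of_card_ge hP' (by
    rw [Nat.card_zpowers, hto', Sylow.card_eq_multiplicity, ← Sylow.card_eq_multiplicity T₃]
    exact hT3)
  obtain ⟨g, hg⟩ := MulAction.exists_smul_eq L P P'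
  have hgt : (zpowers t).map (MulAut.conj g).toMonoidHom = zpowers t' := by
    rw [hP3, hP3']
    exact congrArg Sylow.toSubgroup hg
  refine ⟨g, ?_⟩
  set A₁ := A.map (MulAut.conj g).toMonoidHom with hA₁
  have ht'A₁ : t' ∈ A₁ := by
    have : zpowers t' ≤ A₁ := hgt ▸ map_mono (zpowers_le.2 htA)
    exact this (mem_zpowers t')
  have hOA₁ : O ⊓ A₁ = (O ⊓ A).map (MulAut.conj g).toMonoidHom := by
    rw [map_inf O A _ (MulEquiv.injective _), hA₁]
    congr 1
    ext y
    rw [conj_eq_map]
    exact ⟨fun h => by simpa using hOn.conj_mem y h g⁻¹, fun h => by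
      simpa [mul_assoc] using hOn.conj_mem _ h g⟩
  have hSO : Nat.card ↥(O ⊓ A₁) = Nat.card ↥(O ⊓ B) := by
    rw [hOA₁, card_map_conj]
    have h1 := hcardD A
    have h2 := hcardD B
    rw [hA3] at h1
    rw [hB3] at h2
    omega
  have heq : O ⊓ A₁ = O ⊓ B := by
    by_contra hne
    have h4 : Nat.card ↥(O ⊓ A₁) = 4 := by
      by_contra h4
      exact hne (hL.eq_of_le hOp inf_le_left inf_le_left hSO (Or.inr h4))
    have hcent : ∀ D : Subgroup L, t' ∈ D → Nat.card ↥(O ⊓ D) = 4 → ∀ y ∈ O ⊓ D, Commute t' y := by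
      intro D hD hD4 y hy
      haveI := hL.cyclic_of_card_four hD4
      haveI : ((O ⊓ D).subgroupOf D).Normal := by
        rw [inf_subgroupOf_right]; infer_instance
      set R := (O ⊓ D).subgroupOf D
      have hRc : IsCyclic R := (subgroupOfEquivOfLe inf_le_right).isCyclic.2 inferInstance
      have haut : (MulAut.conjNormal (⟨t', hD⟩ : D) : MulAut R) = 1 := by
        have h1 : orderOf (MulAut.conjNormal (⟨t', hD⟩ : D) : MulAut R) ∣ 3 := by
          have := orderOf_map_dvd (MulAut.conjNormal (H := R)) (⟨t', hD⟩ : D)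
          rwa [Subgroup.orderOf_mk, hto'] at this
        have h2 : orderOf (MulAut.conjNormal (⟨t', hD⟩ : D) : MulAut R) ∣ Nat.card (MulAut R) :=
          _root_.orderOf_dvd_natCard _
        rw [IsCyclic.card_mulAut, Nat.card_congr (subgroupOfEquivOfLe inf_le_right).toEquiv, hD4,
          show (4 : ℕ) = 2 ^ 2 by norm_num, Nat.totient_prime_pow Nat.prime_two (by norm_num)] at h2
        exact orderOf_eq_one_iff.1 (Nat.eq_one_of_dvd_coprimes (by norm_num : Nat.Coprime 3 2) h1
          (by simpa using h2))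
      have h := congrArg (fun f : MulAut R => (((f ⟨⟨y, hy.2⟩, hy⟩ : R) : D) : L)) haut
      simp only [MulAut.conjNormal_apply, MulAut.one_apply, Subgroup.coe_mul, Subgroup.coe_inv] at h
      exact mul_inv_eq_iff_eq_mul.1 h
    have htop : (O ⊓ A₁) ⊔ (O ⊓ B) = O := by
      refine eq_of_le_of_card_ge (sup_le inf_le_left inf_le_left) ?_
      have hlt : O ⊓ A₁ < (O ⊓ A₁) ⊔ (O ⊓ B) := lt_of_le_of_ne le_sup_left fun h =>
        hne (eq_of_le_of_card_ge (sup_eq_left.1 h.symm) hSO.le).symm
      have hd : Nat.card ↥((O ⊓ A₁) ⊔ (O ⊓ B)) ∣ 2 ^ 3 := by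
        have := card_dvd_of_le (sup_le inf_le_left inf_le_left : (O ⊓ A₁) ⊔ (O ⊓ B) ≤ O)
        rwa [hO8, show (8 : ℕ) = 2 ^ 3 by norm_num] at this
      have hgt4 : 4 < Nat.card ↥((O ⊓ A₁) ⊔ (O ⊓ B)) := by
        rw [← h4]
        refine lt_of_le_of_ne (card_le_of_le hlt.le) fun h => hlt.ne ?_
        exact eq_of_le_of_card_ge hlt.le h.ge
      obtain ⟨j, hj, hj'⟩ := (Nat.dvd_prime_pow Nat.prime_two).1 hd
      rw [hO8, hj']
      interval_cases j <;> omega
    refine hodd t' (hto' ▸ Nat.prime_three) (by omega) (mem_centralizer_iff.2 fun y hy => ?_)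
    have hle : O ≤ centralizer ({t'} : Set L) := by
      rw [← htop]
      exact sup_le (fun z hz => mem_centralizer_singleton_iff.2 (hcent A₁ ht'A₁ h4 z hz).eq.symm)
        (fun z hz => mem_centralizer_singleton_iff.2 (hcent B htB (hSO ▸ h4) z hz).eq.symm)
    exact mem_centralizer_singleton_iff.1 (hle hy)
  have hgen : ∀ D : Subgroup L, t' ∈ D → (O ⊓ D).relIndex D = 3 → (O ⊓ D) ⊔ zpowers t' = D := by
    intro D hD h3
    refine eq_of_le_of_card_ge (sup_le inf_le_right (zpowers_le.2 hD)) ?_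
    refine Nat.le_of_dvd Nat.card_pos ?_
    rw [← hcardD D, h3]
    obtain ⟨j, hj⟩ := IsPGroup.iff_card.1 (hOp.to_le (inf_le_left : O ⊓ D ≤ O))
    refine Nat.Coprime.mul_dvd_of_dvd_of_dvd
      (by rw [hj]; exact Nat.Coprime.pow_left j (by norm_num)) (card_dvd_of_le le_sup_left) ?_
    have := card_dvd_of_le (le_sup_right : zpowers t' ≤ (O ⊓ D) ⊔ zpowers t')
    rwa [Nat.card_zpowers, hto'] at this
  have hA₁3 : (O ⊓ A₁).relIndex A₁ = 3 := by
    have h1 := hcardD A₁
    have h2 := hcardD B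
    rw [hB3, ← hSO, ← hcard, ← card_map_conj A g, ← hA₁, ← h1] at h2
    exact (Nat.eq_of_mul_eq_mul_left Nat.card_pos h2).symm
  rw [← hgen A₁ ht'A₁ hA₁3, heq, hgen B htB hB3]

/-- Subgroups of equal order with matching Sylow 2-subgroups are conjugate. -/
theorem exists_conj_of_twoMatch [Group.IsSolvable L] (hL : CyclicOrEight L) (A B : Subgroup L)
    (hcard : Nat.card A = Nat.card B) (hm : TwoMatch A B) :
    ∃ l : L, B = A.map (MulAut.conj l).toMonoidHom := by
  induction hn : Nat.card L using Nat.strong_induction_on generalizing L with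
  | _ n ih =>
  by_cases hcores : ∀ r : ℕ, r.Prime → r ≠ 2 → pCore r L = ⊥
  · exact exists_conj_of_twoMatch_base hL hcores A B hcard hm
  push Not at hcores
  obtain ⟨r, hr, hr2, hne⟩ := hcores
  haveI := Fact.mk hr
  have hC : IsPGroup r (pCore r L) := Cores.isPGroup_pCore r
  have hCc : IsCyclic (pCore r L) := (hL r hr _ hC).resolve_right fun h => hr2 h.1
  obtain ⟨x, hx⟩ := exists_prime_orderOf_dvd_card' (G := pCore r L) r
    (hC.card_eq_or_dvd.resolve_left fun h => hne (eq_bot_of_card_eq _ h))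
  have hxo := hx
  set R := zpowers (x : L) with hR
  have hxo' : orderOf (x : L) = r := by rw [Subgroup.orderOf_coe, hxo]
  have hRcard : Nat.card R = r := by rw [hR, Nat.card_zpowers, hxo']
  have hRC : R ≤ pCore r L := zpowers_le.2 x.2
  haveI hRn : R.Normal := ⟨fun y hy g => by
    have hyC : g * y * g⁻¹ ∈ pCore r L :=
      (inferInstance : (pCore r L).Normal).conj_mem y (hRC hy) g
    have hm : g * (x : L) * g⁻¹ ∈ pCore r L := (inferInstance : (pCore r L).Normal).conj_mem _ x.2 g
    have heq : zpowers (g * (x : L) * g⁻¹) = R :=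
      eq_of_card_eq_of_le_cyclic hCc (zpowers_le.2 hm) hRC (by
        rw [hRcard, Nat.card_zpowers, show g * (x : L) * g⁻¹ = MulAut.conj g (x : L) from rfl,
          MulEquiv.orderOf_eq, hxo'])
    obtain ⟨i, rfl⟩ := hy
    show g * (x : L) ^ i * g⁻¹ ∈ R
    rw [← conj_zpow, ← heq]
    exact Subgroup.zpow_mem _ (mem_zpowers _) i⟩
  have hRodd : Odd (Nat.card R) := by rw [hRcard]; exact hr.odd_of_ne_two hr2
  have hone : ∀ D : Subgroup L, r ∣ Nat.card D → R ≤ D := by
    intro D hD
    obtain ⟨d, hd⟩ := exists_prime_orderOf_dvd_card' (G := D) r hD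
    obtain ⟨P, hP⟩ := (IsPGroup.of_card (n := 1) (G := zpowers (d : L))
      (by rw [Nat.card_zpowers, Subgroup.orderOf_coe, hd, pow_one])).exists_le_sylow
    have hPc : IsCyclic (P : Subgroup L) := (hL r hr _ P.2).resolve_right fun h => hr2 h.1
    rw [← eq_of_card_eq_of_le_cyclic hPc hP (hRC.trans (Cores.pCore_le_sylow P))
      (by rw [hRcard, Nat.card_zpowers, Subgroup.orderOf_coe, hd])]
    exact zpowers_le.2 d.2
  set π := QuotientGroup.mk' R with hπ
  have hcardQ : Nat.card (L ⧸ R) < n := by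
    subst hn
    rw [← R.index_eq_card, ← R.card_mul_index, hRcard]
    exact lt_mul_of_one_lt_left (Nat.pos_of_ne_zero index_ne_zero_of_finite) hr.one_lt
  haveI : Group.IsSolvable (L ⧸ R) := Group.isSolvable_of_surjective (QuotientGroup.mk'_surjective R)
  have hmapcard : ∀ D : Subgroup L, Nat.card (D.map π) * (if r ∣ Nat.card D then r else 1) =
      Nat.card D := by
    intro D
    set f := π.comp D.subtype
    have hk : f.ker = R.subgroupOf D := by
      ext y
      rw [MonoidHom.mem_ker, mem_subgroupOf]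
      exact QuotientGroup.eq_one_iff _
    have h1 := f.ker.card_mul_index
    rw [index_ker, hk, show f.range = D.map π by rw [MonoidHom.range_comp, range_subtype]] at h1
    suffices hite : (if r ∣ Nat.card D then r else 1) = Nat.card (R.subgroupOf D) by
      rw [hite, mul_comm, h1]
    split_ifs with h
    · rw [Nat.card_congr (subgroupOfEquivOfLe (hone D h)).toEquiv, hRcard]
    · rw [eq_comm, card_eq_one, eq_bot_iff]
      intro y hy
      rw [mem_bot]
      by_contra hy1
      refine h ?_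
      have hyo : orderOf y = r := by
        refine ((Nat.dvd_prime hr).1 ?_).resolve_left (mt orderOf_eq_one_iff.1 hy1)
        rw [← Subgroup.orderOf_coe, ← Subgroup.orderOf_mk (y : L) (show (y : L) ∈ R from hy), ← hRcard]
        exact _root_.orderOf_dvd_natCard _
      exact hyo ▸ _root_.orderOf_dvd_natCard y
  have hcard' : Nat.card (A.map π) = Nat.card (B.map π) := by
    have h1 := hmapcard A
    have h2 := hmapcard B
    rw [← hcard] at h2
    by_cases h : r ∣ Nat.card A
    · rw [if_pos h] at h1 h2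
      exact Nat.eq_of_mul_eq_mul_right hr.pos (h1.trans h2.symm)
    · rw [if_neg h, mul_one] at h1 h2
      exact h1.trans h2.symm
  have hm' : TwoMatch (A.map π) (B.map π) := by
    obtain ⟨l, S, hS, hSA, hSB, hSd⟩ := hm
    refine ⟨π l, S.map π, hS.map π, map_mono hSA, ?_, fun j hj => ?_⟩
    · refine le_trans (le_of_eq ?_) (map_mono (f := π) hSB)
      rw [map_map, map_map]
      congr 1
    · have h1 : 2 ^ j ∣ Nat.card S := hSd j (hj.trans (card_map_dvd _ _))
      have hrS : ¬ r ∣ Nat.card S := fun h => by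
        obtain ⟨k, hk⟩ := IsPGroup.iff_card.1 hS
        exact hr2 ((Nat.prime_dvd_prime_iff_eq hr Nat.prime_two).1 (hr.dvd_of_dvd_pow (hk ▸ h)))
      have h2 := hmapcard S
      rw [if_neg hrS, mul_one] at h2
      rwa [h2]
  obtain ⟨q, hq⟩ := ih _ hcardQ (hL.quotient R hRodd) (A.map π) (B.map π) hcard' hm' rfl
  obtain ⟨l, rfl⟩ := QuotientGroup.mk'_surjective R q
  set A₁ := A.map (MulAut.conj l).toMonoidHom with hA₁
  have hA₁c : Nat.card A₁ = Nat.card A := card_map_conj A l
  have hmap : A₁.map π = B.map π := by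
    rw [hq, hA₁, map_map, map_map]
    congr 1
  have hsup : A₁ ⊔ R = B ⊔ R := by
    rw [← QuotientGroup.ker_mk' R, ← comap_map_eq, ← comap_map_eq, hmap]
  by_cases hrA : r ∣ Nat.card A
  · refine ⟨l, ?_⟩
    have h1 : R ≤ A₁ := hone _ (hA₁c ▸ hrA)
    have h2 : R ≤ B := hone _ (hcard ▸ hrA)
    rw [sup_eq_left.2 h1, sup_eq_left.2 h2] at hsup
    exact hsup.symm
  · have hd : R ⊓ B = ⊥ := by
      refine eq_bot_of_card_eq _ (((Nat.dvd_prime hr).1 (hRcard ▸ card_dvd_of_le inf_le_left)).resolve_right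
        fun h => hrA ?_)
      rw [hcard, ← h]
      exact card_dvd_of_le inf_le_right
    obtain ⟨k, -, hk⟩ := Solvable.exists_conj_le R B A₁
      (normalizer_eq_top R ▸ le_top) hd
      (le_of_le_of_eq le_sup_left (hsup.trans (sup_comm B R)))
      (by rw [hRcard, hA₁c]; exact hr.coprime_iff_not_dvd.2 hrA) (Or.inl inferInstance)
    refine ⟨k * l, (eq_of_le_of_card_ge ?_ ?_).symm⟩
    · rw [← map_conj_conj]; exact hk
    · rw [card_map_conj, hcard]

end CfsgLib.PGroup.ConjAb
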