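import Mathlib

/-!
# Cardinality of a product of two subgroups
-/

set_option autoImplicit false

namespace CfsgLib.PGroup

open Pointwise

variable {G : Type*} [Group G]

/-- `|AB| |A ∩ B| = |A| |B|`. -/
theorem card_setMul_mul_card_inf [Finite G] (A B : Subgroup G) :
    Nat.card ↥((A : Set G) * (B : Set G)) * Nat.card ↥(A ⊓ B) = Nat.card A * Nat.card B := by
  have hmem : ∀ y : ↥((A : Set G) * (B : Set G)), ∃ a : A, ∃ b : B, (a : G) * b = y := fun y => by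
    obtain ⟨a, ha, b, hb, h⟩ := Set.mem_mul.1 y.2
    exact ⟨⟨a, ha⟩, ⟨b, hb⟩, h⟩
  choose fa fb hf using hmem
  rw [← Nat.card_prod, ← Nat.card_prod]
  refine Nat.card_congr (Equiv.ofBijective
    (fun z : ↥((A : Set G) * (B : Set G)) × ↥(A ⊓ B) =>
      ((fa z.1 * ⟨z.2, z.2.2.1⟩ : A), (⟨(z.2 : G)⁻¹, B.inv_mem z.2.2.2⟩ * fb z.1 : B))) ⟨?_, ?_⟩)
  · intro z w h
    have h1 : (fa z.1 : G) * (z.2 : G) = (fa w.1 : G) * (w.2 : G) :=
      congrArg (fun q : A × B => (q.1 : G)) h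
    have h2 : (z.2 : G)⁻¹ * (fb z.1 : G) = (w.2 : G)⁻¹ * (fb w.1 : G) :=
      congrArg (fun q : A × B => (q.2 : G)) h
    have h3 : z.1 = w.1 := Subtype.ext <| by
      have := congrArg₂ (· * ·) h1 h2
      simpa [mul_assoc, hf] using this
    rw [h3] at h1
    exact Prod.ext h3 (Subtype.ext (mul_left_cancel h1))
  · rintro ⟨a, b⟩
    let y : ↥((A : Set G) * (B : Set G)) := ⟨a * b, Set.mul_mem_mul a.2 b.2⟩
    have hy : (fa y : G) * fb y = a * b := hf y
    have hB : (fa y : G)⁻¹ * a ∈ B := by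
      have : (fa y : G)⁻¹ * a = (fb y : G) * (b : G)⁻¹ := by
        rw [eq_mul_inv_iff_mul_eq, mul_assoc, ← hy, inv_mul_cancel_left]
      rw [this]; exact B.mul_mem (fb y).2 (B.inv_mem b.2)
    refine ⟨(y, ⟨(fa y : G)⁻¹ * a, A.mul_mem (A.inv_mem (fa y).2) a.2, hB⟩), ?_⟩
    refine Prod.ext (Subtype.ext ?_) (Subtype.ext ?_)
    · simp
    · show ((fa y : G)⁻¹ * a)⁻¹ * (fb y : G) = b
      rw [mul_inv_rev, inv_inv, mul_assoc, hy, inv_mul_cancel_left]

/-- `|A| |B| ≤ |A ⊔ B| |A ∩ B|`, with equality exactly when `AB` is a subgroup. -/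
theorem card_mul_card_le_sup_inf [Finite G] (A B : Subgroup G) :
    Nat.card A * Nat.card B ≤ Nat.card ↥(A ⊔ B) * Nat.card ↥(A ⊓ B) := by
  rw [← card_setMul_mul_card_inf]
  refine Nat.mul_le_mul_right _ (Nat.card_mono (Set.toFinite _) ?_)
  exact Set.mul_subset_iff.2 fun a ha b hb => Subgroup.mul_mem_sup ha hb

/-- If `|A ⊔ B| |A ∩ B| ≤ |A| |B|` then every element of `A ⊔ B` is a product `ab`. -/
theorem exists_mul_of_card_sup_inf_le [Finite G] {A B : Subgroup G}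
    (h : Nat.card ↥(A ⊔ B) * Nat.card ↥(A ⊓ B) ≤ Nat.card A * Nat.card B) {x : G}
    (hx : x ∈ A ⊔ B) : ∃ a ∈ A, ∃ b ∈ B, a * b = x := by
  rw [← card_setMul_mul_card_inf A B] at h
  have := Set.eq_of_subset_of_ncard_le (s := (A : Set G) * (B : Set G)) (t := ((A ⊔ B : Subgroup G) : Set G))
    (Set.mul_subset_iff.2 fun a ha b hb => Subgroup.mul_mem_sup ha hb)
    (by rw [← Nat.card_coe_set_eq, ← Nat.card_coe_set_eq]; exact Nat.le_of_mul_le_mul_right h Nat.card_pos)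
    (Set.toFinite _)
  rw [← SetLike.mem_coe, ← this] at hx
  exact Set.mem_mul.1 hx

end CfsgLib.PGroup
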