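import Cfsg.Agent.Lib.PGroup.Commutators
import Cfsg.Agent.Lib.Transfer.Regular

/-!
Polynomial sequences in nilpotent groups, and the regularity of `p`-groups of class less than `p`.
-/

set_option autoImplicit false

namespace CfsgLib.PGroup.PolySeq

open Subgroup
open scoped commutatorElement

variable {G : Type*} [Group G]

/-- The lower central series indexed from one. -/
def gam (G : Type*) [Group G] (m : ℕ) : Subgroup G := (⊤ : Subgroup G).lowerCentralSeries (m - 1)

theorem gam_antitone {m n : ℕ} (h : m ≤ n) : gam G n ≤ gam G m :=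
  Subgroup.lowerCentralSeries_antitone (S := (⊤ : Subgroup G)) (by omega)

theorem gam_one : gam G 1 = ⊤ := rfl

theorem gam_zero : gam G 0 = ⊤ := rfl

instance gam_normal (m : ℕ) : (gam G m).Normal := by
  unfold gam; infer_instance

theorem commutator_gam_le (i j : ℕ) : ⁅gam G i, gam G j⁆ ≤ gam G (i + j) := by
  rcases Nat.eq_zero_or_pos i with rfl | hi
  · rw [zero_add]; exact commutator_le_right _ _
  rcases Nat.eq_zero_or_pos j with rfl | hj
  · rw [add_zero]; exact commutator_le_left _ _
  obtain ⟨j, rfl⟩ : ∃ k, j = k + 1 := ⟨j - 1, by omega⟩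
  refine (commutator_lowerCentralSeries_le j (gam G i)).trans (le_of_eq ?_)
  have key : ∀ k : ℕ, bracketTop^[k] (gam G i) = (⊤ : Subgroup G).lowerCentralSeries (i - 1 + k) := by
    intro k
    induction k with
    | zero => rfl
    | succ k ih =>
      rw [Function.iterate_succ_apply', ih, ← add_assoc, Subgroup.lowerCentralSeries_succ]
      rfl
  rw [key, gam]
  congr 1
  omega

/-- The difference of a sequence. -/
def diff (g : ℕ → G) : ℕ → G := fun n => (g n)⁻¹ * g (n + 1)

theorem succ_eq (g : ℕ → G) (n : ℕ) : g (n + 1) = g n * diff g n := by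
  rw [diff, mul_inv_cancel_left]

/-- Polynomial sequences of depth `k` at level `j`. -/
def Poly : ℕ → ℕ → (ℕ → G) → Prop
  | 0, j, g => ∀ n, g n ∈ gam G j
  | k + 1, j, g => (∀ n, g n ∈ gam G j) ∧ Poly k (j + 1) (diff g)

theorem Poly.mem : ∀ {k j : ℕ} {g : ℕ → G}, Poly k j g → ∀ n, g n ∈ gam G j
  | 0, _, _, h => h
  | _ + 1, _, _, h => h.1

theorem Poly.mono_level : ∀ {k i j : ℕ} {g : ℕ → G}, i ≤ j → Poly k j g → Poly k i g
  | 0, _, _, _, hij, h => fun n => gam_antitone hij (h n)
  | _ + 1, _, _, _, hij, h => ⟨fun n => gam_antitone hij (h.1 n), h.2.mono_level (by omega)⟩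

theorem Poly.of_succ : ∀ {k j : ℕ} {g : ℕ → G}, Poly (k + 1) j g → Poly k j g
  | 0, _, _, h => h.1
  | _ + 1, _, _, h => ⟨h.1, h.2.of_succ⟩

theorem diff_const (c : G) : diff (fun _ => c) = fun _ : ℕ => (1 : G) := by
  funext n; simp [diff]

theorem poly_one : ∀ k j : ℕ, Poly k j (fun _ => (1 : G))
  | 0, _ => fun _ => one_mem _
  | k + 1, j => ⟨fun _ => one_mem _, by rw [diff_const]; exact poly_one k (j + 1)⟩

theorem poly_const {j : ℕ} {c : G} (hc : c ∈ gam G j) : ∀ k, Poly k j (fun _ => c)
  | 0 => fun _ => hc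
  | k + 1 => ⟨fun _ => hc, by rw [diff_const]; exact poly_one k (j + 1)⟩

/-- Closure under products, inverses and commutators. -/
theorem closed : ∀ k : ℕ,
    (∀ (j : ℕ) (g h : ℕ → G), Poly k j g → Poly k j h → Poly k j (fun n => g n * h n)) ∧
    (∀ (j : ℕ) (g : ℕ → G), Poly k j g → Poly k j (fun n => (g n)⁻¹)) ∧
    (∀ (i j : ℕ) (g h : ℕ → G), Poly k i g → Poly k j h → Poly k (i + j) (fun n => ⁅g n, h n⁆)) := by
  intro k
  induction k with
  | zero =>
    refine ⟨fun j g h hg hh n => mul_mem (hg n) (hh n), fun j g hg n => inv_mem (hg n),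
      fun i j g h hg hh n => ?_⟩
    exact commutator_gam_le i j (commutator_mem_commutator (hg n) (hh n))
  | succ k ih =>
    obtain ⟨M, I, C⟩ := ih
    have conjP : ∀ (i j : ℕ) (x u : ℕ → G), Poly k i x → Poly k j u →
        Poly k j (fun n => x n * u n * (x n)⁻¹) := by
      intro i j x u hx hu
      have h := M j _ u ((C i j x u hx hu).mono_level (Nat.le_add_left j i)) hu
      have he : (fun n => x n * u n * (x n)⁻¹) = fun n => ⁅x n, u n⁆ * u n := by
        funext n; rw [commutatorElement_def]; group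
      rw [he]; exact h
    refine ⟨fun j g h hg hh => ⟨fun n => mul_mem (hg.1 n) (hh.1 n), ?_⟩,
      fun j g hg => ⟨fun n => inv_mem (hg.1 n), ?_⟩,
      fun i j g h hg hh => ⟨fun n => commutator_gam_le i j (commutator_mem_commutator (hg.1 n) (hh.1 n)), ?_⟩⟩
    · have he : diff (fun n => g n * h n) = fun n => (h n)⁻¹ * diff g n * ((h n)⁻¹)⁻¹ * diff h n := by
        funext n; simp only [diff]; group
      rw [he]
      exact M _ _ _ (conjP j (j + 1) _ _ (I _ _ hh.of_succ) hg.2) hh.2
    · have he : diff (fun n => (g n)⁻¹) = fun n => g n * (diff g n)⁻¹ * (g n)⁻¹ := by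
        funext n; simp only [diff]; group
      rw [he]
      exact conjP j (j + 1) _ _ hg.of_succ (I _ _ hg.2)
    · set L := i + j
      set U : ℕ → G := fun n => ⁅g n, h n⁆ with hU
      have hUP : Poly k L U := C i j g h hg.of_succ hh.of_succ
      set a := diff g with ha
      set b := diff h with hb
      have hga : Poly k (i + 1) a := hg.2
      have hhb : Poly k (j + 1) b := hh.2
      have he : diff U = fun n => (U n)⁻¹ * (g n * (⁅a n, h n⁆ * (h n * ⁅a n, b n⁆ * (h n)⁻¹)) * (g n)⁻¹) *
          ((U n)⁻¹)⁻¹ * (h n * ⁅g n, b n⁆ * (h n)⁻¹) := by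
        funext n
        show (U n)⁻¹ * U (n + 1) = _
        simp only [hU, succ_eq g n, succ_eq h n, ← ha, ← hb, commutatorElement_def]
        group
      rw [he]
      refine M _ _ _ (conjP L (L + 1) _ _ (I _ _ hUP) (conjP i (L + 1) _ _ hg.of_succ (M _ _ _ ?_ ?_))) ?_
      · exact (C (i + 1) j a h hga hh.of_succ).mono_level (by omega)
      · exact conjP j (L + 1) _ _ hh.of_succ ((C (i + 1) (j + 1) a b hga hhb).mono_level (by omega))
      · exact conjP j (L + 1) _ _ hh.of_succ ((C i (j + 1) g b hg.of_succ hhb).mono_level (by omega))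

theorem poly_mul {k j : ℕ} {g h : ℕ → G} (hg : Poly k j g) (hh : Poly k j h) : Poly k j (fun n => g n * h n) :=
  (closed k).1 j g h hg hh

theorem poly_inv {k j : ℕ} {g : ℕ → G} (hg : Poly k j g) : Poly k j (fun n => (g n)⁻¹) :=
  (closed k).2.1 j g hg

theorem poly_pow (a : G) : ∀ k : ℕ, Poly k 0 (fun n => a ^ n)
  | 0 => fun _ => mem_top _
  | k + 1 => ⟨fun _ => mem_top _, by
      have he : diff (fun n => a ^ n) = fun _ => a := by funext n; simp [diff, pow_succ]
      rw [he]; exact poly_const (mem_top a) k⟩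

theorem poly_choose : ∀ (K i j : ℕ) (c : G), c ∈ gam G (j + i) → Poly K j (fun n => c ^ n.choose i) := by
  intro K
  induction K with
  | zero => exact fun i j c hc n => pow_mem (gam_antitone (Nat.le_add_right j i) hc) _
  | succ K ih =>
    intro i j c hc
    refine ⟨fun n => pow_mem (gam_antitone (Nat.le_add_right j i) hc) _, ?_⟩
    rcases i with _ | i
    · have he : diff (fun n => c ^ n.choose 0) = fun _ => (1 : G) := by funext n; simp [diff]
      rw [he]; exact poly_one K _
    · have he : diff (fun n => c ^ n.choose (i + 1)) = fun n => c ^ n.choose i := by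
        funext n
        simp only [diff]
        rw [Nat.choose_succ_succ, ← Nat.succ_eq_add_one, add_comm (n.choose i), pow_add, inv_mul_cancel_left]
      rw [he]
      exact ih i (j + 1) c (by rwa [show j + 1 + i = j + (i + 1) by omega])

/-- A sequence vanishing at the first arguments takes deep values. -/
theorem vanishing : ∀ (i j : ℕ) (g : ℕ → G), Poly i j g → (∀ m < i, g m = 1) → ∀ n, g n ∈ gam G (j + i) := by
  intro i
  induction i with
  | zero => exact fun j g hg _ n => hg n
  | succ i ih =>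
    intro j g hg h0 n
    have hd := ih (j + 1) (diff g) hg.2 fun m hm => by
      rw [diff, h0 m (by omega), h0 (m + 1) (by omega), inv_one, one_mul]
    induction n with
    | zero => rw [h0 0 (by omega)]; exact one_mem _
    | succ n ihn =>
      rw [succ_eq g n]
      exact mul_mem ihn (by rw [show j + (i + 1) = j + 1 + i by omega]; exact hd n)

/-- Newton interpolation in a group of small class with commutators of exponent `p`. -/
theorem value_eq_one {p : ℕ} (hp : p.Prime) (hcl : gam G p = ⊥) (hexp : ∀ x ∈ commutator G, x ^ p = 1)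
    {f : ℕ → G} (hf : Poly p 0 f) (hf0 : f 0 = 1) (hfc : ∀ n, f n ∈ commutator G) : f p = 1 := by
  have key : ∀ i : ℕ, i < p → ∃ h : ℕ → G, Poly p 0 h ∧ (∀ m ≤ i, h m = 1) ∧ (∀ n, h n ∈ commutator G) ∧ h p = f p := by
    intro i
    induction i with
    | zero => exact fun _ => ⟨f, hf, fun m hm => by rw [Nat.le_zero.1 hm]; exact hf0, hfc, rfl⟩
    | succ i ih =>
      intro hi
      obtain ⟨h, hh, h0, hc, hp'⟩ := ih (by omega)
      have hdown : ∀ d, Poly (i + 1 + d) 0 h → Poly (i + 1) 0 h := by
        intro d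
        induction d with
        | zero => exact id
        | succ d ihd => exact fun H => ihd H.of_succ
      have hc1 : h (i + 1) ∈ gam G (0 + (i + 1)) := vanishing (i + 1) 0 h
        (hdown (p - (i + 1)) (by rwa [show i + 1 + (p - (i + 1)) = p by omega])) (fun m hm => h0 m (by omega)) (i + 1)
      refine ⟨fun n => ((h (i + 1)) ^ n.choose (i + 1))⁻¹ * h n,
        poly_mul (poly_inv (poly_choose p (i + 1) 0 _ hc1)) hh, fun m hm => ?_, fun n => ?_, ?_⟩
      · rcases Nat.lt_or_ge m (i + 1) with hlt | hge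
        · simp only [Nat.choose_eq_zero_of_lt hlt, pow_zero, inv_one, one_mul, h0 m (by omega)]
        · rw [show m = i + 1 by omega]
          simp
      · exact mul_mem (inv_mem (pow_mem (hc _) _)) (hc n)
      · obtain ⟨q, hq⟩ := hp.dvd_choose_self (Nat.succ_ne_zero i) hi
        show ((h (i + 1)) ^ p.choose (i + 1))⁻¹ * h p = f p
        rw [hq, pow_mul, hexp _ (hc _), one_pow, inv_one, one_mul, hp']
  obtain ⟨h, hh, h0, -, hp'⟩ := key (p - 1) (by have := hp.pos; omega)
  have := vanishing p 0 h hh (fun m hm => h0 m (by omega)) p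
  rw [zero_add, hcl, mem_bot, hp'] at this
  exact this

theorem mul_pow_prime {p : ℕ} (hp : p.Prime) (hcl : gam G p = ⊥) (hexp : ∀ x ∈ commutator G, x ^ p = 1)
    (a b : G) : (a * b) ^ p = a ^ p * b ^ p := by
  have h := value_eq_one hp hcl hexp
    (f := fun n => (a ^ n)⁻¹ * (a * b) ^ n * (b ^ n)⁻¹)
    (poly_mul (poly_mul (poly_inv (poly_pow a p)) (poly_pow (a * b) p)) (poly_inv (poly_pow b p))) (by simp) (fun n => by
      rw [← Abelianization.ker_of, MonoidHom.mem_ker]
      simp only [map_mul, map_inv, map_pow, mul_pow]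
      rw [inv_mul_cancel_left, mul_inv_cancel])
  rw [mul_inv_eq_one, inv_mul_eq_iff_eq_mul] at h
  exact h

/-- A finite `p`-group of class less than `p` is regular. -/
theorem isRegular_of_class_lt {p : ℕ} [hp : Fact p.Prime] [Finite G] (hG : IsPGroup p G)
    (hcl : (⊤ : Subgroup G).lowerCentralSeries (p - 1) = ⊥) : Cfsg.IsRegularPGroup p G := by
  refine CfsgLib.Transfer.regular_of_regOne ⟨hG, fun a b => ?_⟩
  set H := closure ({a, b} : Set G) with hH
  set K := Cfsg.powerClosure p 1 ⁅H, H⁆ with hK
  have hKH : K ≤ H := by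
    rw [hK, Cfsg.powerClosure, closure_le]
    rintro _ ⟨x, hx, rfl⟩
    exact pow_mem (commutator_le.2 (fun u hu v hv => by
      rw [commutatorElement_def]; exact mul_mem (mul_mem (mul_mem hu hv) (inv_mem hu)) (inv_mem hv)) hx) _
  haveI hKn : (K.subgroupOf H).Normal := by
    refine (normal_subgroupOf_iff hKH).2 fun k g hk hg => ?_
    have h1 : K.map (MulAut.conj g).toMonoidHom ≤ K := by
      rw [hK, CfsgLib.Transfer.powerClosure_map]
      refine CfsgLib.Transfer.powerClosure_mono ?_ 1
      rw [map_commutator]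
      have hHg : H.map (MulAut.conj g).toMonoidHom ≤ H := by
        rintro _ ⟨x, hx, rfl⟩
        exact mul_mem (mul_mem hg hx) (inv_mem hg)
      exact commutator_mono hHg hHg
    exact h1 ⟨k, hk, rfl⟩
  let π := QuotientGroup.mk' (K.subgroupOf H)
  have hπ := QuotientGroup.mk'_surjective (K.subgroupOf H)
  have hmapH : (commutator H).map H.subtype = ⁅H, H⁆ := by
    rw [_root_.commutator_def, map_commutator, ← MonoidHom.range_eq_map, range_subtype]
  have hclQ : gam (H ⧸ K.subgroupOf H) p = ⊥ := by
    rw [gam, ← map_top_of_surjective π hπ, ← map_lowerCentralSeries]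
    have h1 : (⊤ : Subgroup H).lowerCentralSeries (p - 1) = ⊥ := by
      rw [eq_bot_iff, ← map_le_map_iff_of_injective H.subtype_injective, Subgroup.map_bot, top_subtype_lowerCentralSeries]
      have hmono : ∀ n, H.lowerCentralSeries n ≤ (⊤ : Subgroup G).lowerCentralSeries n := by
        intro n
        induction n with
        | zero => exact le_top
        | succ n ih =>
          rw [Subgroup.lowerCentralSeries_succ, Subgroup.lowerCentralSeries_succ]
          exact commutator_mono ih le_top
      exact (hmono _).trans hcl.le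
    rw [h1, Subgroup.map_bot]
  have hexp : ∀ x ∈ commutator (H ⧸ K.subgroupOf H), x ^ p = 1 := by
    intro x hx
    rw [_root_.commutator_def, ← map_top_of_surjective π hπ, ← map_commutator, ← _root_.commutator_def] at hx
    obtain ⟨y, hy, rfl⟩ := hx
    rw [← map_pow]
    refine (QuotientGroup.eq_one_iff _).2 ?_
    rw [mem_subgroupOf, SubmonoidClass.coe_pow, hK]
    have : (y : G) ∈ ⁅H, H⁆ := hmapH ▸ ⟨y, hy, rfl⟩
    simpa using CfsgLib.Transfer.pow_mem_powerClosure (p := p) this 1
  let a' : H := ⟨a, subset_closure (Set.mem_insert _ _)⟩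
  let b' : H := ⟨b, subset_closure (Set.mem_insert_of_mem _ (Set.mem_singleton _))⟩
  have h := mul_pow_prime hp.out hclQ hexp (π a') (π b')
  rw [← map_mul, ← map_pow, ← map_pow, ← map_pow, ← map_mul, eq_comm] at h
  have h2 : (a' ^ p * b' ^ p)⁻¹ * (a' * b') ^ p ∈ K.subgroupOf H := QuotientGroup.eq.1 h
  refine ⟨_, h2, ?_⟩
  show (a * b) ^ p = a ^ p * b ^ p * ((a ^ p * b ^ p)⁻¹ * (a * b) ^ p)
  rw [mul_inv_cancel_left]

end CfsgLib.PGroup.PolySeq
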