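import Cfsg.Agent.Lib.PGroup.SmallCentralizerRank
import Cfsg.Agent.Lib.PGroup.PolySeq
import Cfsg.Agent.Lib.Transfer.MaximalClass

/-!
# Self-centralizing subgroups of order `p ^ 2` and nonabelian ones of order `p ^ 3`
-/

set_option autoImplicit false

namespace CfsgLib.PGroup.SmallCent

open scoped commutatorElement

variable {G : Type*} [Group G] [Finite G] {p n : ℕ} [hp : Fact p.Prime]

/-- `exists_setting_central` with a prescribed maximal subgroup at position `1`. -/
theorem exists_setting_of_maximal_central (hG : Nat.card G = p ^ n) (hn : 3 ≤ n)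
    (hc : Group.nilpotencyClass G = n - 1) {x : G} (hx : x ^ p ∈ Subgroup.center G)
    (hC : Nat.card (Subgroup.centralizer ({x} : Set G)) ≤ p ^ 2) (M : Subgroup G) (hMn : M.Normal)
    (hLM : (⊤ : Subgroup G).lowerCentralSeries 1 ≤ M) (hMc : Nat.card M = p ^ (n - 1))
    (hxM : x ∉ M) : ∃ P : ℕ → Subgroup G, P 1 = M ∧
      (∀ i, 2 ≤ i → P i = (⊤ : Subgroup G).lowerCentralSeries (i - 1)) ∧ Setting p n x P := by
  classical
  have hGp := IsPGroup.of_card hG
  have := hGp.isNilpotent
  set L := (⊤ : Subgroup G).lowerCentralSeries with hL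
  have hcardL : ∀ i, 1 ≤ i → i ≤ n - 1 → Nat.card (L i) = p ^ (n - 1 - i) := fun i hi hin =>
    CfsgLib.Transfer.card_lowerCentralSeries hG (by omega) hc hi hin
  have hL1 : L 1 = commutator G := Subgroup.top_lowerCentralSeries_one
  let P : ℕ → Subgroup G := fun i => if i ≤ 1 then M else L (i - 1)
  have hP1 : ∀ i, i ≤ 1 → P i = M := fun i hi => if_pos hi
  have hP2 : ∀ i, 2 ≤ i → P i = L (i - 1) := fun i hi => if_neg (by omega)
  have hgam : ∀ i, P i ≤ CfsgLib.PGroup.PolySeq.gam G i := by
    intro i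
    rcases Nat.lt_or_ge i 2 with hi | hi
    · rw [CfsgLib.PGroup.PolySeq.gam, show i - 1 = 0 by omega, Subgroup.lowerCentralSeries_zero]
      exact le_top
    · exact (hP2 i hi).le
  have hPn : ∀ i, (P i).Normal := by
    intro i
    rcases Nat.lt_or_ge i 2 with hi | hi
    · rw [hP1 i (by omega)]; exact hMn
    · rw [hP2 i hi, hL]; infer_instance
  have hanti : ∀ {i j : ℕ}, i ≤ j → P j ≤ P i := by
    intro i j hij
    rcases Nat.lt_or_ge i 2 with hi | hi
    · rw [hP1 i (by omega)]
      rcases Nat.lt_or_ge j 2 with hj | hj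
      · rw [hP1 j (by omega)]
      · rw [hP2 j hj]
        exact le_trans (Subgroup.lowerCentralSeries_antitone _ (by omega)) hLM
    · rw [hP2 i hi, hP2 j (by omega)]
      exact Subgroup.lowerCentralSeries_antitone _ (by omega)
  refine ⟨P, hP1 1 le_rfl, hP2, hGp, ⟨hanti, fun i j a ha b hb => ?_, hPn⟩, hG, fun i hi hin => ?_, ?_,
    fun i hi a ha => ?_, by rw [hP1 1 le_rfl]; exact hxM, hx, fun a ha hax => ?_⟩
  · rcases Nat.eq_zero_or_pos i with rfl | hi
    · rw [zero_add, commutatorElement_def]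
      exact mul_mem ((hPn j).conj_mem b hb a) (inv_mem hb)
    rcases Nat.eq_zero_or_pos j with rfl | hj
    · rw [add_zero, commutatorElement_def, mul_assoc, mul_assoc, ← mul_assoc b]
      exact mul_mem ha ((hPn i).conj_mem _ (inv_mem ha) b)
    rw [hP2 (i + j) (by omega)]
    exact CfsgLib.PGroup.PolySeq.commutator_gam_le i j
      (Subgroup.commutator_mem_commutator (hgam i ha) (hgam j hb))
  · rcases Nat.lt_or_ge i 2 with hi2 | hi2
    · rw [hP1 i (by omega), hMc, show i = 1 by omega]
    · rw [hP2 i hi2, hcardL _ (by omega) (by omega)]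
      congr 1; omega
  · rw [hP2 2 le_rfl]; exact hL1
  · rw [hP2 (i + 1) (by omega), show i + 1 - 1 = i - 1 + 1 by omega]
    exact Subgroup.commutator_mem_commutator (hgam i ha) (Subgroup.mem_top x)
  · rw [hP1 1 le_rfl] at ha
    rw [hP2 (n - 1) (by omega)]
    set C := Subgroup.centralizer ({x} : Set G) with hCdef
    have hle : L (n - 1 - 1) ≤ C ⊓ M := by
      intro b hb
      refine ⟨Subgroup.mem_centralizer_singleton_iff.2 ?_,
        hLM (Subgroup.lowerCentralSeries_antitone _ (by omega) hb)⟩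
      have h1 : ⁅b, x⁆ ∈ L (n - 1) := by
        rw [show n - 1 = n - 1 - 1 + 1 by omega]
        exact Subgroup.commutator_mem_commutator hb (Subgroup.mem_top x)
      rw [hL, Subgroup.lowerCentralSeries_eq_bot_iff_nilpotencyClass_le.2 hc.le,
        Subgroup.mem_bot] at h1
      exact commutatorElement_eq_one_iff_mul_comm.1 h1
    have hsmall : Nat.card (C ⊓ M : Subgroup G) ≤ p := by
      have hlt : C ⊓ M < C := lt_of_le_of_ne inf_le_left fun h => hxM
        (h.ge (Subgroup.mem_centralizer_singleton_iff.2 rfl)).2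
      have hcl : Nat.card (C ⊓ M : Subgroup G) < Nat.card C :=
        lt_of_not_ge fun h => hlt.ne (Subgroup.eq_of_le_of_card_ge hlt.le h)
      obtain ⟨k, hk⟩ := (hGp.to_subgroup (C ⊓ M)).exists_card_eq
      rw [hk] at hcl ⊢
      have := (Nat.pow_lt_pow_iff_right hp.out.one_lt).1 (hcl.trans_le hC)
      exact (Nat.pow_le_pow_right hp.out.pos (show k ≤ 1 by omega)).trans (pow_one p).le
    refine (Subgroup.eq_of_le_of_card_ge hle ?_).ge
      ⟨Subgroup.mem_centralizer_singleton_iff.2 hax, ha⟩
    rw [hcardL _ (by omega) (by omega), show n - 1 - (n - 1 - 1) = 1 by omega, pow_one]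
    exact hsmall

/-- A group of maximal class with an element with central `p`-th power and centralizer of
order at most `p ^ 2` has the series required by `Setting`. -/
theorem exists_setting_central (hG : Nat.card G = p ^ n) (hn : 3 ≤ n)
    (hc : Group.nilpotencyClass G = n - 1) {x : G} (hx : x ^ p ∈ Subgroup.center G)
    (hC : Nat.card (Subgroup.centralizer ({x} : Set G)) ≤ p ^ 2) :
    ∃ P : ℕ → Subgroup G, Setting p n x P := by
  classical
  have hGp := IsPGroup.of_card hG
  have := hGp.isNilpotent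
  set L := (⊤ : Subgroup G).lowerCentralSeries with hL
  have hcardL : ∀ i, 1 ≤ i → i ≤ n - 1 → Nat.card (L i) = p ^ (n - 1 - i) := fun i hi hin =>
    CfsgLib.Transfer.card_lowerCentralSeries hG (by omega) hc hi hin
  have hL1 : L 1 = commutator G := Subgroup.top_lowerCentralSeries_one
  -- `x` lies outside the derived subgroup
  have hxL : x ∉ L 1 := by
    intro hxL
    set C := Subgroup.centralizer ({x} : Set G)
    let f : G ⧸ C → L 2 := Quotient.lift (fun g : G => (⟨⁅g, x⁆, by
        rw [← commutatorElement_inv]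
        exact inv_mem (Subgroup.commutator_mem_commutator hxL (Subgroup.mem_top g))⟩ : L 2)) (by
      intro a b hab
      rw [← Quotient.eq_iff_equiv] at hab
      have h2 : a⁻¹ * b * x = x * (a⁻¹ * b) :=
        Subgroup.mem_centralizer_singleton_iff.1 (QuotientGroup.eq.1 hab)
      apply Subtype.ext
      show ⁅a, x⁆ = ⁅b, x⁆
      rw [commutatorElement_def, commutatorElement_def]
      have h3 : b * x * b⁻¹ = a * x * a⁻¹ := by
        calc b * x * b⁻¹ = a * (a⁻¹ * b * x) * b⁻¹ := by group
          _ = a * (x * (a⁻¹ * b)) * b⁻¹ := by rw [h2]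
          _ = a * x * a⁻¹ := by group
      rw [h3])
    have hinj : Function.Injective f := by
      intro q r
      induction q using Quotient.inductionOn' with | _ a => ?_
      induction r using Quotient.inductionOn' with | _ b => ?_
      intro hab
      refine QuotientGroup.eq.2 (Subgroup.mem_centralizer_singleton_iff.2 ?_)
      have h1 : ⁅a, x⁆ = ⁅b, x⁆ := congrArg Subtype.val hab
      rw [commutatorElement_def, commutatorElement_def, mul_left_inj] at h1
      calc a⁻¹ * b * x = a⁻¹ * (b * x * b⁻¹) * b := by group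
        _ = a⁻¹ * (a * x * a⁻¹) * b := by rw [h1]
        _ = x * (a⁻¹ * b) := by group
    have h1 := Nat.card_le_card_of_injective f hinj
    rw [← Subgroup.index_eq_card, hcardL 2 (by omega) (by omega)] at h1
    have h2 := C.card_mul_index
    rw [hG] at h2
    have h3 : p ^ n ≤ p ^ 2 * p ^ (n - 1 - 2) := h2 ▸ Nat.mul_le_mul hC h1
    rw [← pow_add] at h3
    have := (Nat.pow_le_pow_iff_right hp.out.one_lt).1 h3
    omega
  have hLi : (L 1).index = p ^ 2 := by
    rw [hL1]; exact CfsgLib.Transfer.index_commutator_eq_sq hG (by omega) hc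
  have hnc : ¬ IsCyclic G := fun h => by
    have h2 : L 1 = ⊥ := by
      rw [hL1, eq_bot_iff, commutator_def, Subgroup.commutator_le]
      intro a _ b _
      exact Subgroup.mem_bot.2 (commutatorElement_eq_one_iff_mul_comm.2 (IsCyclic.commutative.is_comm.comm a b))
    have := Subgroup.lowerCentralSeries_eq_bot_iff_nilpotencyClass_le.1 h2
    omega
  -- a maximal subgroup avoiding `x`
  have hLn : (L 1).Normal := by rw [hL]; infer_instance
  set π := QuotientGroup.mk' (L 1) with hπ
  have hQ : Nat.card (G ⧸ L 1) = p ^ 2 := by rw [← Subgroup.index_eq_card, hLi]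
  have hord : ∀ g : G ⧸ L 1, g ≠ 1 → Nat.card (Subgroup.zpowers g) = p := by
    intro g hg
    obtain ⟨g, rfl⟩ := QuotientGroup.mk'_surjective _ g
    rw [Nat.card_zpowers]
    refine orderOf_eq_prime ?_ hg
    rw [← map_pow]
    refine (QuotientGroup.eq_one_iff _).2 ?_
    rw [hL1]
    exact CfsgLib.Transfer.pow_prime_mem_commutator hGp hnc (hL1 ▸ hLi) g
  have hx1 : π x ≠ 1 := fun h => hxL ((QuotientGroup.eq_one_iff _).1 h)
  obtain ⟨z, hz⟩ : ∃ z : G, π z ∉ Subgroup.zpowers (π x) := by
    by_contra! h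
    have htop : Subgroup.zpowers (π x) = ⊤ := eq_top_iff.2 fun q _ => by
      obtain ⟨g, rfl⟩ := QuotientGroup.mk'_surjective _ q; exact h g
    have h1 := hord _ hx1
    rw [htop, Subgroup.card_top, hQ, sq] at h1
    have := hp.out.two_le
    nlinarith
  set M := (Subgroup.zpowers (π z)).comap π with hM
  have hz1 : π z ≠ 1 := fun h => hz (by rw [h]; exact one_mem _)
  have hxM : x ∉ M := by
    intro h
    have h1 : Subgroup.zpowers (π x) ≤ Subgroup.zpowers (π z) := Subgroup.zpowers_le.2 h
    exact hz ((Subgroup.eq_of_le_of_card_ge h1 (by rw [hord _ hx1, hord _ hz1])).ge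
      (Subgroup.mem_zpowers _))
  have hLM : L 1 ≤ M := fun a ha => by
    show π a ∈ Subgroup.zpowers (π z)
    rw [show π a = 1 from (QuotientGroup.eq_one_iff _).2 ha]; exact one_mem _
  have hMc : Nat.card M = p ^ (n - 1) := by
    have h1 := M.card_mul_index
    have h2 := (Subgroup.zpowers (π z)).card_mul_index
    rw [hM, Subgroup.index_comap_of_surjective _ (QuotientGroup.mk'_surjective _), ← hM, hG] at h1
    rw [hord _ hz1, hQ, sq] at h2
    rw [Nat.eq_of_mul_eq_mul_left hp.out.pos h2, show p ^ n = p ^ (n - 1) * p by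
      rw [← pow_succ]; congr 1; omega] at h1
    exact Nat.eq_of_mul_eq_mul_right hp.out.pos h1
  have hMn : M.Normal := by
    refine ⟨fun a ha g => ?_⟩
    have h1 := mul_mem (hLM (Subgroup.commutator_mem_commutator (Subgroup.mem_top g)
      (Subgroup.mem_top a) : ⁅g, a⁆ ∈ L 1)) ha
    rwa [commutatorElement_def, inv_mul_cancel_right] at h1
  obtain ⟨P, -, -, hP⟩ := exists_setting_of_maximal_central hG hn hc hx hC M hMn hLM hMc hxM
  exact ⟨P, hP⟩

/-- `exists_setting_of_maximal_central` for an element of order `p`. -/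
theorem exists_setting_of_maximal (hG : Nat.card G = p ^ n) (hn : 3 ≤ n)
    (hc : Group.nilpotencyClass G = n - 1) {x : G} (hx : x ^ p = 1)
    (hC : Nat.card (Subgroup.centralizer ({x} : Set G)) ≤ p ^ 2) (M : Subgroup G) (hMn : M.Normal)
    (hLM : (⊤ : Subgroup G).lowerCentralSeries 1 ≤ M) (hMc : Nat.card M = p ^ (n - 1))
    (hxM : x ∉ M) : ∃ P : ℕ → Subgroup G, P 1 = M ∧
      (∀ i, 2 ≤ i → P i = (⊤ : Subgroup G).lowerCentralSeries (i - 1)) ∧ Setting p n x P :=
  exists_setting_of_maximal_central hG hn hc (hx ▸ one_mem _) hC M hMn hLM hMc hxM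

/-- `exists_setting_central` for an element of order `p`. -/
theorem exists_setting (hG : Nat.card G = p ^ n) (hn : 3 ≤ n)
    (hc : Group.nilpotencyClass G = n - 1) {x : G} (hx : x ^ p = 1)
    (hC : Nat.card (Subgroup.centralizer ({x} : Set G)) ≤ p ^ 2) :
    ∃ P : ℕ → Subgroup G, Setting p n x P :=
  exists_setting_central hG hn hc (hx ▸ one_mem _) hC

/-- A nonabelian self-centralizing subgroup of order `p ^ 3` and exponent `p`, properly
contained, forces maximal class and an element of order `p` with centralizer of order `p ^ 2`. -/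
theorem maximalClass_of_nonabelian_cube (hG : Nat.card G = p ^ n) (hn : 4 ≤ n) (E : Subgroup G)
    (hE : Nat.card E = p ^ 3) (hna : ¬ IsMulCommutative E) (hexp : ∀ e ∈ E, e ^ p = 1)
    (hC : Subgroup.centralizer (E : Set G) ≤ E) :
    Group.nilpotencyClass G = n - 1 ∧
      ∃ x : G, x ^ p = 1 ∧ Nat.card (Subgroup.centralizer ({x} : Set G)) ≤ p ^ 2 := by
  classical
  have hGp := IsPGroup.of_card hG
  have := hGp.isNilpotent
  set Z := Subgroup.center G with hZdef
  have hZE : Z ≤ E := fun z hz => hC fun e _ => Subgroup.mem_center_iff.1 hz e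
  have hnt : Nontrivial G := Finite.one_lt_card_iff_nontrivial.1
    (hG ▸ Nat.one_lt_pow (by omega) hp.out.one_lt)
  have hEp : IsPGroup p E := hGp.to_subgroup E
  have hcE : Nat.card (Subgroup.center E) = p := by
    obtain ⟨k, hk, hk'⟩ := (Nat.dvd_prime_pow hp.out).1
      (hE ▸ (Subgroup.center E).card_subgroup_dvd_card)
    have : Nontrivial E := Finite.one_lt_card_iff_nontrivial.1
      (hE ▸ Nat.one_lt_pow (by omega) hp.out.one_lt)
    have h0 : k ≠ 0 := fun h => by
      rw [h, pow_zero] at hk'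
      have := hEp.center_nontrivial
      exact absurd hk' (Finite.one_lt_card_iff_nontrivial.2 this).ne'
    have h2 : ¬ 2 ≤ k := fun h => by
      have hi := (Subgroup.center E).card_mul_index
      rw [hk', hE] at hi
      have hle : (Subgroup.center E).index ≤ p := by
        refine Nat.le_of_mul_le_mul_left ?_ (pow_pos hp.out.pos k)
        rw [hi, ← pow_succ]; exact Nat.pow_le_pow_right hp.out.pos (by omega)
      have hcyc : IsCyclic (E ⧸ Subgroup.center E) := by
        obtain ⟨j, hj⟩ := (hEp.to_quotient (Subgroup.center E)).exists_card_eq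
        rw [Subgroup.index_eq_card, hj] at hle
        rcases Nat.le_one_iff_eq_zero_or_eq_one.1
          ((Nat.pow_le_pow_iff_right hp.out.one_lt).1 (hle.trans (pow_one p).ge)) with rfl | rfl
        · have := (Nat.card_eq_one_iff_unique.1 (hj.trans (pow_zero p))).1
          infer_instance
        · exact isCyclic_of_prime_card (hj.trans (pow_one p))
      exact hna (MonoidHom.isMulCommutative_of_isCyclic_of_ker_le_center
        (QuotientGroup.mk' (Subgroup.center E)) (by rw [QuotientGroup.ker_mk']))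
    rw [hk', show k = 1 by omega, pow_one]
  have hZeq : (Subgroup.center E).map E.subtype = Z := by
    refine (Subgroup.eq_of_le_of_card_ge ?_ ?_).symm
    · intro z hz
      exact ⟨⟨z, hZE hz⟩, Subgroup.mem_center_iff.2 fun e =>
        Subtype.ext (Subgroup.mem_center_iff.1 hz e), rfl⟩
    · rw [Subgroup.card_map_of_injective E.subtype_injective, hcE]
      obtain ⟨k, hk⟩ := (hGp.to_subgroup Z).exists_card_eq
      rw [hk]
      refine Nat.le_self_pow (fun h0 => ?_) p
      rw [h0, pow_zero] at hk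
      exact absurd hk (Finite.one_lt_card_iff_nontrivial.2 hGp.center_nontrivial).ne'
  have hZc : Nat.card Z = p := by
    rw [← hZeq, Subgroup.card_map_of_injective E.subtype_injective, hcE]
  set π := QuotientGroup.mk' Z with hπ
  set A := E.map π with hA
  have hAc : Nat.card A = p ^ 2 := by
    have h1 := A.card_mul_index
    have h2 := E.card_mul_index
    have h3 := Z.card_mul_index
    rw [hA, Subgroup.index_map_eq _ (QuotientGroup.mk'_surjective _)
      (by rw [QuotientGroup.ker_mk']; exact hZE), ← hA, ← Subgroup.index_eq_card] at h1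
    rw [hZc, ← h1] at h3
    rw [hE, ← h3, ← mul_assoc] at h2
    have := Nat.eq_of_mul_eq_mul_right (Nat.pos_of_ne_zero Subgroup.index_ne_zero_of_finite) h2
    rw [pow_succ'] at this
    exact (Nat.eq_of_mul_eq_mul_left hp.out.pos this).symm
  have hmemA : ∀ g : G, π g ∈ A → g ∈ E := by
    rintro g ⟨e, he, hee⟩
    have h1 : e⁻¹ * g ∈ Z := QuotientGroup.eq.1 hee
    have := E.mul_mem he (hZE h1)
    rwa [mul_inv_cancel_left] at this
  -- the centralizer of `E` modulo the centre is `E`
  have hmod : ∀ g : G, (∀ e ∈ E, ⁅g, e⁆ ∈ Z) → g ∈ E := by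
    intro g hg
    obtain ⟨a, ha, b, hb, hab⟩ : ∃ a ∈ E, ∃ b ∈ E, ⁅a, b⁆ ≠ 1 := by
      by_contra! h
      exact hna ⟨⟨fun u v => Subtype.ext
        (commutatorElement_eq_one_iff_mul_comm.1 (h u u.2 v v.2))⟩⟩
    have hcomm : ∀ u ∈ E, ∀ v ∈ E, ⁅u, v⁆ ∈ Z := by
      intro u hu v hv
      have hA2 := IsPGroup.isMulCommutative_of_card_eq_prime_sq hAc
      refine (QuotientGroup.eq_one_iff _).1 ?_
      show π ⁅u, v⁆ = 1
      rw [map_commutatorElement, commutatorElement_eq_one_iff_mul_comm]
      exact congrArg Subtype.val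
        (hA2.is_comm.comm (⟨π u, u, hu, rfl⟩ : A) ⟨π v, v, hv, rfl⟩)
    have hline : ∀ w ∈ Z, ∃ i : ℤ, ⁅a, b⁆ ^ i = w := by
      intro w hw
      refine Subgroup.mem_zpowers_iff.1 ((Subgroup.eq_of_le_of_card_ge
        (Subgroup.zpowers_le.2 (hcomm a ha b hb)) ?_).ge hw)
      rw [hZc, Nat.card_zpowers]
      have h2 : orderOf ⁅a, b⁆ ∣ p := hZc ▸ Subgroup.orderOf_dvd_natCard Z (hcomm a ha b hb)
      exact (((Nat.dvd_prime hp.out).1 h2).resolve_left
        (fun h => hab (orderOf_eq_one_iff.1 h))).ge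
    obtain ⟨i, hi⟩ := hline _ (hg a ha)
    obtain ⟨j, hj⟩ := hline _ (hg b hb)
    -- commutators with central values
    have hcen : ∀ u v : G, ⁅u, v⁆ ∈ Z → ∀ k : ℤ, ⁅u ^ k, v⁆ = ⁅u, v⁆ ^ k := by
      intro u v huv k
      have hc := Subgroup.mem_center_iff.1 huv u
      rw [commutatorElement_def u v] at hc ⊢
      rw [commutatorElement_def]
      have h1 : v * u⁻¹ * v⁻¹ = u⁻¹ * (u * v * u⁻¹ * v⁻¹) := by group
      calc u ^ k * v * (u ^ k)⁻¹ * v⁻¹ = u ^ k * (v * u⁻¹ * v⁻¹) ^ k := by
            rw [conj_zpow, inv_zpow]; group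
        _ = u ^ k * (u⁻¹ ^ k * (u * v * u⁻¹ * v⁻¹) ^ k) := by
            rw [h1, Commute.mul_zpow]
            exact ((Subgroup.mem_center_iff.1 (show u * v * u⁻¹ * v⁻¹ ∈ Z by
              rw [← commutatorElement_def]; exact huv) u⁻¹) : Commute u⁻¹ _)
        _ = _ := by rw [← mul_assoc, inv_zpow, mul_inv_cancel, one_mul]
    have hmul : ∀ u v w : G, ⁅v, w⁆ ∈ Z → ⁅u * v, w⁆ = ⁅u, w⁆ * ⁅v, w⁆ := by
      intro u v w hvw
      have hc := Subgroup.mem_center_iff.1 hvw
      calc ⁅u * v, w⁆ = u * ⁅v, w⁆ * u⁻¹ * ⁅u, w⁆ := by simp [commutatorElement_def, mul_assoc]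
        _ = ⁅u, w⁆ * ⁅v, w⁆ := by rw [hc u, mul_inv_cancel_right, ← hc ⁅u, w⁆]
    set e := a ^ j * b ^ (-i) with he
    have heE : e ∈ E := E.mul_mem (E.zpow_mem ha _) (E.zpow_mem hb _)
    have hea : ⁅e, a⁆ = ⁅g, a⁆ := by
      rw [he, hmul _ _ _ (hcomm _ (E.zpow_mem hb _) _ ha), hcen _ _ (hcomm a ha a ha),
        hcen _ _ (hcomm b hb a ha), commutatorElement_self, one_zpow, one_mul, ← hi,
        ← commutatorElement_inv a b, inv_zpow', neg_neg]
    have heb : ⁅e, b⁆ = ⁅g, b⁆ := by
      rw [he, hmul _ _ _ (hcomm _ (E.zpow_mem hb _) _ hb), hcen _ _ (hcomm a ha b hb),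
        hcen _ _ (hcomm b hb b hb), commutatorElement_self, one_zpow, mul_one, hj]
    have hd : ∀ w, ⁅e, w⁆ = ⁅g, w⁆ → (e⁻¹ * g) * w = w * (e⁻¹ * g) := by
      intro w hw
      rw [commutatorElement_def, commutatorElement_def, mul_left_inj] at hw
      calc e⁻¹ * g * w = e⁻¹ * (g * w * g⁻¹) * g := by group
        _ = e⁻¹ * (e * w * e⁻¹) * g := by rw [hw]
        _ = w * (e⁻¹ * g) := by group
    -- `a`, `b` and the centre generate `E`
    set H := Z ⊔ Subgroup.zpowers a ⊔ Subgroup.zpowers b with hH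
    have hHE : H ≤ E := sup_le (sup_le hZE (Subgroup.zpowers_le.2 ha)) (Subgroup.zpowers_le.2 hb)
    have hHE' : E ≤ H := by
      have hHna : ¬ IsMulCommutative H := fun h => hab (commutatorElement_eq_one_iff_mul_comm.2
        (congrArg Subtype.val (h.is_comm.comm
          (⟨a, Subgroup.mem_sup_left (Subgroup.mem_sup_right (Subgroup.mem_zpowers a))⟩ : H)
          ⟨b, Subgroup.mem_sup_right (Subgroup.mem_zpowers b)⟩)))
      obtain ⟨k, hk, hk'⟩ := (Nat.dvd_prime_pow hp.out).1 (hE ▸ Subgroup.card_dvd_of_le hHE)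
      have hk3 : k = 3 := by
        by_contra h3
        refine hHna ?_
        have hle2 : k ≤ 2 := by omega
        interval_cases k
        · have := (Nat.card_eq_one_iff_unique.1 (hk'.trans (pow_zero p))).1
          exact ⟨⟨fun u v => Subsingleton.elim _ _⟩⟩
        · have := isCyclic_of_prime_card (hk'.trans (pow_one p))
          exact ⟨⟨fun u v => IsCyclic.commutative.is_comm.comm u v⟩⟩
        · exact IsPGroup.isMulCommutative_of_card_eq_prime_sq hk'
      exact (Subgroup.eq_of_le_of_card_ge hHE (by rw [hk', hk3, hE])).ge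
    have hle : H ≤ Subgroup.centralizer ({e⁻¹ * g} : Set G) := by
      refine sup_le (sup_le (fun w hw => ?_) (Subgroup.zpowers_le.2 ?_)) (Subgroup.zpowers_le.2 ?_)
      · exact Subgroup.mem_centralizer_singleton_iff.2 (Subgroup.mem_center_iff.1 hw _).symm
      · exact Subgroup.mem_centralizer_singleton_iff.2 (hd a hea).symm
      · exact Subgroup.mem_centralizer_singleton_iff.2 (hd b heb).symm
    have h1 : e⁻¹ * g ∈ E := hC fun w hw =>
      Subgroup.mem_centralizer_singleton_iff.1 (hle (hHE' hw))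
    have := E.mul_mem heE h1
    rwa [mul_inv_cancel_left] at this
  have hACA : Subgroup.centralizer (A : Set (G ⧸ Z)) = A := by
    refine le_antisymm (fun q hq => ?_) ?_
    · obtain ⟨g, rfl⟩ := QuotientGroup.mk'_surjective _ q
      refine ⟨g, hmod g fun e he => (QuotientGroup.eq_one_iff _).1 ?_, rfl⟩
      show π ⁅g, e⁆ = 1
      rw [map_commutatorElement, commutatorElement_eq_one_iff_mul_comm]
      exact (hq (π e) ⟨e, he, rfl⟩).symm
    · intro q hq
      have hA2 := IsPGroup.isMulCommutative_of_card_eq_prime_sq hAc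
      exact fun r hr => congrArg Subtype.val (hA2.is_comm.comm (⟨r, hr⟩ : A) ⟨q, hq⟩)
  have hQc : Nat.card (G ⧸ Z) = p ^ (n - 1) := by
    have h := Z.card_mul_index
    rw [hZc, hG, Subgroup.index_eq_card, show p ^ n = p * p ^ (n - 1) by
      rw [← pow_succ']; congr 1; omega] at h
    exact Nat.eq_of_mul_eq_mul_left hp.out.pos h
  have hQclass := CfsgLib.Transfer.nilpotencyClass_of_self_centralizing hQc A hAc hACA
  refine ⟨?_, ?_⟩
  · rw [Group.nilpotencyClass_eq_quotient_center_plus_one,
      show Group.nilpotencyClass (G ⧸ Subgroup.center G) = n - 1 - 1 from hQclass]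
    omega
  obtain ⟨x, hxE, hxc⟩ : ∃ x ∈ E, π x ∉ Subgroup.center (G ⧸ Z) := by
    by_contra! h
    have htop : Subgroup.centralizer (A : Set (G ⧸ Z)) = ⊤ := by
      refine eq_top_iff.2 fun q _ r hr => ?_
      obtain ⟨e, he, rfl⟩ := hr
      exact (Subgroup.mem_center_iff.1 (h e he) q).symm
    rw [hACA] at htop
    rw [htop, Subgroup.card_top, hQc] at hAc
    have := Nat.pow_right_injective hp.out.two_le hAc
    omega
  refine ⟨x, hexp x hxE, ?_⟩
  have hle : Subgroup.centralizer ({x} : Set G) ≤ E := by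
    intro g hg
    refine hmemA g ?_
    rw [← hACA]
    intro r hr
    -- the centre of the quotient and `x` generate `A`
    have hcA : Subgroup.center (G ⧸ Z) ≤ A := by
      rw [← hACA]; exact Subgroup.center_le_centralizer _
    have hgen : Subgroup.center (G ⧸ Z) ⊔ Subgroup.zpowers (π x) = A := by
      have hle' : Subgroup.center (G ⧸ Z) ⊔ Subgroup.zpowers (π x) ≤ A :=
        sup_le hcA (Subgroup.zpowers_le.2 ⟨x, hxE, rfl⟩)
      refine Subgroup.eq_of_le_of_card_ge hle' ?_
      have hlt : Nat.card (Subgroup.center (G ⧸ Z)) <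
          Nat.card ↥(Subgroup.center (G ⧸ Z) ⊔ Subgroup.zpowers (π x)) :=
        lt_of_not_ge fun h => hxc ((Subgroup.eq_of_le_of_card_ge le_sup_left h).ge
          (Subgroup.mem_sup_right (Subgroup.mem_zpowers _)))
      obtain ⟨k, hk⟩ := ((hGp.to_quotient Z).to_subgroup
        (Subgroup.center (G ⧸ Z) ⊔ Subgroup.zpowers (π x))).exists_card_eq
      have : Nontrivial (G ⧸ Z) := Finite.one_lt_card_iff_nontrivial.1
        (hQc ▸ Nat.one_lt_pow (by omega) hp.out.one_lt)
      have h1 : 1 < Nat.card (Subgroup.center (G ⧸ Z)) :=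
        Finite.one_lt_card_iff_nontrivial.2 (hGp.to_quotient Z).center_nontrivial
      obtain ⟨l, hl⟩ := ((hGp.to_quotient Z).to_subgroup (Subgroup.center (G ⧸ Z))).exists_card_eq
      rw [hl] at hlt h1
      rw [hk] at hlt ⊢
      rw [hAc]
      have h2 := (Nat.pow_lt_pow_iff_right hp.out.one_lt).1 hlt
      have h3 : 1 ≤ l := by
        by_contra h
        rw [show l = 0 by omega, pow_zero] at h1
        omega
      exact Nat.pow_le_pow_right hp.out.pos (by omega)
    have hgC : Subgroup.center (G ⧸ Z) ⊔ Subgroup.zpowers (π x) ≤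
        Subgroup.centralizer ({π g} : Set (G ⧸ Z)) := by
      refine sup_le (fun w hw => Subgroup.mem_centralizer_singleton_iff.2
        (Subgroup.mem_center_iff.1 hw (π g)).symm) (Subgroup.zpowers_le.2 ?_)
      rw [Subgroup.mem_centralizer_singleton_iff, ← map_mul, ← map_mul,
        Subgroup.mem_centralizer_singleton_iff.1 hg]
    exact Subgroup.mem_centralizer_singleton_iff.1 (hgC (hgen.ge hr))
  have hlt : Subgroup.centralizer ({x} : Set G) < E := by
    refine lt_of_le_of_ne hle fun h => hxc ?_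
    have hxZ : x ∈ Z := hZeq.le ⟨⟨x, hxE⟩, Subgroup.mem_center_iff.2 fun e =>
      Subtype.ext (Subgroup.mem_centralizer_singleton_iff.1 (h.ge e.2)), rfl⟩
    rw [show π x = 1 from (QuotientGroup.eq_one_iff _).2 hxZ]
    exact one_mem _
  obtain ⟨k, hk⟩ := (hGp.to_subgroup (Subgroup.centralizer ({x} : Set G))).exists_card_eq
  have hcl : Nat.card (Subgroup.centralizer ({x} : Set G)) < Nat.card E :=
    lt_of_not_ge fun h => hlt.ne (Subgroup.eq_of_le_of_card_ge hlt.le h)
  rw [hk, hE] at hcl
  rw [hk]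
  exact Nat.pow_le_pow_right hp.out.pos
    (Nat.le_of_lt_succ ((Nat.pow_lt_pow_iff_right hp.out.one_lt).1 hcl))

/-- A self-centralizing subgroup of order `p ^ 2` and exponent `p` in a larger group gives an
element of order `p` with centralizer of order `p ^ 2`. -/
theorem exists_small_centralizer_of_square (hG : Nat.card G = p ^ n) (hn : 3 ≤ n) (E : Subgroup G)
    (hE : Nat.card E = p ^ 2) (hexp : ∀ e ∈ E, e ^ p = 1)
    (hC : Subgroup.centralizer (E : Set G) = E) :
    Group.nilpotencyClass G = n - 1 ∧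
      ∃ x : G, x ^ p = 1 ∧ Nat.card (Subgroup.centralizer ({x} : Set G)) ≤ p ^ 2 := by
  have hGp := IsPGroup.of_card hG
  refine ⟨CfsgLib.Transfer.nilpotencyClass_of_self_centralizing hG E hE hC, ?_⟩
  have hZE : Subgroup.center G ≤ E := hC ▸ Subgroup.center_le_centralizer (E : Set G)
  obtain ⟨x, hxE, hxZ⟩ : ∃ x ∈ E, x ∉ Subgroup.center G := by
    by_contra! h
    have htop : Subgroup.centralizer (E : Set G) = ⊤ :=
      Subgroup.centralizer_eq_top_iff_subset.2 h
    rw [hC] at htop
    rw [htop, Subgroup.card_top, hG] at hE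
    have := Nat.pow_right_injective hp.out.two_le hE
    omega
  have : Nontrivial G := Finite.one_lt_card_iff_nontrivial.1
    (hG ▸ Nat.one_lt_pow (by omega) hp.out.one_lt)
  have hgen : E ≤ Subgroup.center G ⊔ Subgroup.zpowers x := by
    have hle : Subgroup.center G ⊔ Subgroup.zpowers x ≤ E :=
      sup_le hZE (Subgroup.zpowers_le.2 hxE)
    refine (Subgroup.eq_of_le_of_card_ge hle ?_).ge
    have hlt : Nat.card (Subgroup.center G) <
        Nat.card ↥(Subgroup.center G ⊔ Subgroup.zpowers x) :=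
      lt_of_not_ge fun h => hxZ ((Subgroup.eq_of_le_of_card_ge le_sup_left h).ge
        (Subgroup.mem_sup_right (Subgroup.mem_zpowers _)))
    obtain ⟨k, hk⟩ := (hGp.to_subgroup (Subgroup.center G ⊔ Subgroup.zpowers x)).exists_card_eq
    obtain ⟨l, hl⟩ := (hGp.to_subgroup (Subgroup.center G)).exists_card_eq
    have h1 : 1 < Nat.card (Subgroup.center G) :=
      Finite.one_lt_card_iff_nontrivial.2 hGp.center_nontrivial
    rw [hl] at hlt h1
    rw [hk] at hlt ⊢
    rw [hE]
    have h3 : 1 ≤ l := by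
      by_contra h
      rw [show l = 0 by omega, pow_zero] at h1
      omega
    have h2 := (Nat.pow_lt_pow_iff_right hp.out.one_lt).1 hlt
    exact Nat.pow_le_pow_right hp.out.pos (by omega)
  refine ⟨x, hexp x hxE, ?_⟩
  rw [← hE]
  refine Subgroup.card_le_of_le fun g hg => ?_
  rw [← hC]
  intro e he
  have hle : Subgroup.center G ⊔ Subgroup.zpowers x ≤ Subgroup.centralizer ({g} : Set G) :=
    sup_le (fun w hw => Subgroup.mem_centralizer_singleton_iff.2
        (Subgroup.mem_center_iff.1 hw g).symm)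
      (Subgroup.zpowers_le.2 (Subgroup.mem_centralizer_singleton_iff.2
        (Subgroup.mem_centralizer_singleton_iff.1 hg).symm))
  exact Subgroup.mem_centralizer_singleton_iff.1 (hle (hgen he))

end CfsgLib.PGroup.SmallCent
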