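import Cfsg.Agent.S3806
import Cfsg.Agent.Lib.PGroup.PearlMaximalClass
import Cfsg.Agent.Lib.PGroup.PolySeq

/-!
Elements with centralizer of order `p ^ 2` in a `p`-group of maximal class: they exist outside any
given proper subgroup.
-/

set_option autoImplicit false

namespace CfsgLib.PGroup.UniformElement

open Subgroup Cfsg.Agent.S3806
open scoped commutatorElement

universe u

variable {X : Type u} [Group X] [Finite X] {p n : ℕ} [hp : Fact p.Prime]

/-- Order `p ^ n`, `n ≥ 4`, maximal class. -/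
structure MaxCl (X : Type u) [Group X] (p n : ℕ) : Prop where
  card : Nat.card X = p ^ n
  cls : Group.nilpotencyClass X = n - 1
  four : 4 ≤ n

theorem MaxCl.pgroup (h : MaxCl X p n) : IsPGroup p X := IsPGroup.of_card h.card

theorem MaxCl.lc_card (h : MaxCl X p n) {i : ℕ} (h2 : 2 ≤ i) (hi : i ≤ n) :
    Nat.card (lc X i) = p ^ (n - i) := by
  have := h.four
  unfold lc
  rw [CfsgLib.Transfer.card_lowerCentralSeries h.card (by omega) h.cls (by omega) (by omega)]
  congr 1
  omega

theorem MaxCl.lc_bot (h : MaxCl X p n) {i : ℕ} (hi : n ≤ i) : lc X i = ⊥ := by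
  refine eq_bot_iff.2 ((lc_anti hi).trans (le_of_eq ?_))
  have := h.four
  exact CfsgLib.Transfer.lowerCentralSeries_eq_bot h.card (by omega)

theorem MaxCl.lc_lt (h : MaxCl X p n) {i : ℕ} (h2 : 2 ≤ i) (hi : i < n) :
    ¬ lc X i ≤ lc X (i + 1) := by
  intro hle
  have := Subgroup.card_le_of_le hle
  rw [h.lc_card h2 hi.le, h.lc_card (by omega) hi] at this
  have := (Nat.pow_le_pow_iff_right hp.out.one_lt).1 this
  omega

theorem MaxCl.lc_gen (h : MaxCl X p n) {i : ℕ} (h2 : 2 ≤ i) (hi : i < n) {e : X} (he : e ∈ lc X i)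
    (he' : e ∉ lc X (i + 1)) : lc X i ≤ zpowers e ⊔ lc X (i + 1) := by
  refine gen_of_card h.pgroup (lc_anti (by omega)) ?_ he he'
  rw [h.lc_card h2 hi.le, h.lc_card (by omega) hi, ← pow_succ']
  congr 1
  omega

theorem MaxCl.cent_ne_top (h : MaxCl X p n) {j : ℕ} (h1 : 1 ≤ j) (hj : j + 1 < n) :
    cent X j ≠ ⊤ := by
  intro hT
  refine h.lc_lt (i := j + 1) (by omega) hj ?_
  rw [lc_succ h1, commutator_comm, commutator_le]
  exact fun g _ x hx => mem_cent.1 (hT ▸ mem_top g) x hx

theorem lc_two_le_cent' {j : ℕ} (hj : 1 ≤ j) : lc X 2 ≤ cent X j :=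
  fun _ hg => mem_cent.2 fun _ hx => comm_mem (by omega) hj (by omega) hg hx

theorem lc_two_eq_commutator : lc X 2 = commutator X := Subgroup.top_lowerCentralSeries_one

theorem lc_le_one (i : ℕ) : lc X i ≤ lc X 1 := by rw [lc_one]; exact le_top

/-- At most `p` proper subgroups do not cover a `p`-group. -/
theorem exists_notMem {ι : Type*} (T : Finset ι) (H : ι → Subgroup X) (hX : IsPGroup p X)
    (hT : T.card ≤ p) (hH : ∀ i ∈ T, H i ≠ ⊤) : ∃ x : X, ∀ i ∈ T, x ∉ H i := by
  classical
  rcases T.eq_empty_or_nonempty with rfl | ⟨i₀, hi₀⟩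
  · exact ⟨1, by simp⟩
  by_contra hcon
  push Not at hcon
  haveI : Fintype X := Fintype.ofFinite X
  have hcover : (Finset.univ.erase (1 : X)) ⊆
      T.biUnion fun i => (Finset.univ.filter (fun x => x ∈ H i)).erase 1 := by
    intro x hx
    obtain ⟨i, hi, hxi⟩ := hcon x
    exact Finset.mem_biUnion.2 ⟨i, hi, Finset.mem_erase.2
      ⟨(Finset.mem_erase.1 hx).1, Finset.mem_filter.2 ⟨Finset.mem_univ _, hxi⟩⟩⟩
  have hb : ∀ i ∈ T, p * (((Finset.univ.filter (fun x => x ∈ H i)).erase 1).card + 1) ≤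
      Fintype.card X := by
    intro i hi
    rw [Finset.card_erase_add_one (by simp [one_mem]), ← Fintype.card_subtype,
      ← Nat.card_eq_fintype_card, ← Nat.card_eq_fintype_card]
    have := CfsgLib.Transfer.prime_mul_card_le hX (lt_top_iff_ne_top.2 (hH i hi))
    rwa [Subgroup.card_top] at this
  have h1 := (Finset.card_le_card hcover).trans Finset.card_biUnion_le
  rw [Finset.card_erase_of_mem (Finset.mem_univ _), Finset.card_univ] at h1
  have h2 : p * ∑ i ∈ T, (((Finset.univ.filter (fun x => x ∈ H i)).erase 1).card + 1) ≤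
      T.card * Fintype.card X := by
    rw [Finset.mul_sum]
    exact (Finset.sum_le_card_nsmul _ _ _ hb).trans (le_of_eq (smul_eq_mul _ _))
  rw [Finset.sum_add_distrib, Finset.sum_const, smul_eq_mul, mul_one] at h2
  have h3 : p * ∑ i ∈ T, (((Finset.univ.filter (fun x => x ∈ H i)).erase 1).card) + p * T.card ≤
      p * Fintype.card X := by
    calc _ = p * (∑ i ∈ T, (((Finset.univ.filter (fun x => x ∈ H i)).erase 1).card) + T.card) :=
          (mul_add _ _ _).symm
      _ ≤ T.card * Fintype.card X := h2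
      _ ≤ p * Fintype.card X := Nat.mul_le_mul_right _ hT
  have h4 := Nat.le_of_mul_le_mul_left ((mul_add p _ _).le.trans h3) hp.out.pos
  have h5 : 1 ≤ T.card := Finset.card_pos.2 ⟨i₀, hi₀⟩
  have h6 : 0 < Fintype.card X := Fintype.card_pos
  -- equality forces a single subgroup to be everything
  have h7 : T.card = 1 := by omega
  obtain ⟨i₁, hi₁⟩ := Finset.card_eq_one.1 h7
  refine hH i₁ (by simp [hi₁]) ((Subgroup.eq_top_iff' _).2 fun x => ?_)
  obtain ⟨i, hi, hxi⟩ := hcon x
  rw [hi₁, Finset.mem_singleton] at hi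
  exact hi ▸ hxi

/-- A uniform element: outside `γ_2` and every two-step centralizer. -/
def IsUnif (X : Type u) [Group X] (n : ℕ) (s : X) : Prop :=
  s ∉ lc X 2 ∧ ∀ j, 2 ≤ j → j + 2 ≤ n → s ∉ cent X j

theorem MaxCl.notMem_of_unif (h : MaxCl X p n) {s : X} (hs : IsUnif X n s) {j : ℕ} (h2 : 2 ≤ j)
    (hj : j + 2 ≤ n) {a : X} (ha : a ∈ lc X j) (ha' : a ∉ lc X (j + 1)) :
    ⁅a, s⁆ ∉ lc X (j + 2) := by
  intro hc
  refine hs.2 j h2 hj (mem_cent.2 fun x hx => ?_)
  have : ⁅zpowers s, lc X j⁆ ≤ lc X (j + 2) :=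
    commutator_le_of_gen (A' := ⊥) (by rw [sup_bot_eq]) (h.lc_gen h2 (by omega) ha ha')
      (by rw [← commutatorElement_inv]; exact inv_mem hc) (by simp)
      (fun y hy => comm_mem le_rfl (by omega) (by omega) (lc_one (X := X) ▸ mem_top s) hy)
  exact this (commutator_mem_commutator (mem_zpowers s) hx)

theorem MaxCl.centralizer_le (h : MaxCl X p n) {s : X} (hs : IsUnif X n s) :
    centralizer ({s} : Set X) ⊓ lc X 2 ≤ lc X (n - 1) := by
  have h4 := h.four
  rintro a ⟨hc, ha⟩
  have key : ∀ j, 2 ≤ j → j ≤ n - 1 → a ∈ lc X j := by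
    intro j hj
    induction j, hj using Nat.le_induction with
    | base => intro _; exact ha
    | succ j hj ih =>
      intro hjn
      by_contra hna
      refine h.notMem_of_unif hs hj (by omega) (ih (by omega)) hna ?_
      rw [commutatorElement_eq_one_iff_mul_comm.2 (mem_centralizer_singleton_iff.1 hc)]
      exact one_mem _
  exact key (n - 1) (by omega) le_rfl

theorem MaxCl.mem_sup_of_commute (h : MaxCl X p n) {s a : X} (hs : s ∉ lc X 2)
    (ha : a ∈ centralizer ({s} : Set X)) : a ∈ zpowers s ⊔ lc X 2 := by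
  by_contra hna
  have h4 := h.four
  set H := zpowers s ⊔ lc X 2 with hH
  have hlt : lc X 2 < H := lt_of_le_of_ne le_sup_right fun e =>
    hs (e ▸ mem_sup_left (mem_zpowers s))
  have hlt2 : H < zpowers a ⊔ H := lt_of_le_of_ne le_sup_right fun e =>
    hna (e ▸ mem_sup_left (mem_zpowers a))
  have c1 := CfsgLib.Transfer.prime_mul_card_le h.pgroup hlt
  have c2 := CfsgLib.Transfer.prime_mul_card_le h.pgroup hlt2
  have htop : zpowers a ⊔ H = ⊤ := by
    refine Subgroup.eq_top_of_le_card _ ?_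
    calc Nat.card X = p * (p * Nat.card (lc X 2)) := by
          rw [h.lc_card le_rfl (by omega), h.card, ← mul_assoc, ← pow_two, ← pow_add]
          congr 1; omega
      _ ≤ p * Nat.card H := Nat.mul_le_mul_left _ c1
      _ ≤ _ := c2
  -- then `X` is abelian modulo `γ_3`
  refine h.lc_lt (i := 2) le_rfl (by omega) ?_
  conv_lhs => rw [show (2 : ℕ) = 1 + 1 from rfl, lc_succ le_rfl, lc_one]
  have hgen : (⊤ : Subgroup X) ≤ zpowers a ⊔ (zpowers s ⊔ lc X 2) := htop.ge
  refine commutator_le_of_gen (N := lc X (2 + 1)) hgen hgen ?_ ?_ ?_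
  · rw [commutatorElement_self]; exact one_mem _
  · refine commutator_le_of_gen le_rfl hgen ?_ ?_ ?_
    · rw [commutatorElement_eq_one_iff_mul_comm.2 (mem_centralizer_singleton_iff.1 ha).symm]
      exact one_mem _
    · exact commutator_le.2 fun x hx b _ => comm_mem (by omega) le_rfl (by omega) hx
        (lc_one (X := X) ▸ mem_top b)
    · intro y hy
      rcases mem_sup_of_normal_right.1 hy with ⟨w, ⟨l, rfl⟩, b, hb, rfl⟩
      rw [commutatorElement_mul_right_eq_mul_conj,
        commutatorElement_eq_one_iff_mul_comm.2 ((Commute.refl s).zpow_right l).eq, one_mul]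
      exact (inferInstance : (lc X (2 + 1)).Normal).conj_mem _
        (comm_mem (i := 1) le_rfl (by omega) le_rfl (lc_one (X := X) ▸ mem_top s) hb) _
  · intro y hy
    rcases mem_sup_of_normal_right.1 hy with ⟨w, ⟨l, rfl⟩, b, hb, rfl⟩
    rw [commutatorElement_mul_right_eq_mul_conj,
      commutatorElement_eq_one_iff_mul_comm.2
        ((show Commute a s from mem_centralizer_singleton_iff.1 ha).zpow_right l).eq, one_mul]
    exact (inferInstance : (lc X (2 + 1)).Normal).conj_mem _
      (comm_mem (i := 1) le_rfl (by omega) le_rfl (lc_one (X := X) ▸ mem_top a) hb) _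

theorem MaxCl.unif_pow_mem (h : MaxCl X p n) {s : X} (hs : IsUnif X n s) :
    s ^ p ∈ lc X (n - 1) := by
  have h4 := h.four
  refine h.centralizer_le hs ⟨mem_centralizer_singleton_iff.2 ((Commute.refl s).pow_left p).eq, ?_⟩
  by_contra hsp
  have hlt : lc X 2 < zpowers (s ^ p) ⊔ lc X 2 := lt_of_le_of_ne le_sup_right fun e =>
    hsp (e ▸ mem_sup_left (mem_zpowers _))
  have hlt2 : zpowers (s ^ p) ⊔ lc X 2 ≤ zpowers s ⊔ lc X 2 :=
    sup_le_sup_right (zpowers_le.2 (Subgroup.npow_mem_zpowers s p)) _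
  rw [lc_two_eq_commutator] at hsp
  exact hsp (CfsgLib.Transfer.pow_prime_mem_commutator h.pgroup
    (fun hc => by
      haveI := h.pgroup.isNilpotent
      have : IsMulCommutative X := IsCyclic.isMulCommutative
      have h2 := h.cls
      have h1 : Group.nilpotencyClass X ≤ 1 := (Group.IsNilpotent.nilpotencyClass_le_one_iff).2 this
      omega)
    (by rw [← lc_two_eq_commutator]; exact Nat.eq_of_mul_eq_mul_left Nat.card_pos
          ((lc X 2).card_mul_index.trans (by
            rw [h.lc_card le_rfl (by omega), h.card, ← pow_add]; congr 1; omega))) s)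

theorem MaxCl.card_centralizer (h : MaxCl X p n) {s : X} (hs : IsUnif X n s) :
    Nat.card (centralizer ({s} : Set X)) = p ^ 2 := by
  have h4 := h.four
  set C := centralizer ({s} : Set X)
  have hle : C ≤ zpowers s ⊔ lc X (n - 1) := by
    intro a ha
    rcases mem_sup_of_normal_right.1 (h.mem_sup_of_commute hs.1 ha) with ⟨w, hw, c, hc, rfl⟩
    refine mul_mem (mem_sup_left hw) (mem_sup_right (h.centralizer_le hs ⟨?_, hc⟩))
    have hwC : w ∈ C := by
      obtain ⟨l, rfl⟩ := hw
      exact mem_centralizer_singleton_iff.2 ((Commute.refl s).zpow_left l).eq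
    have := mul_mem (inv_mem hwC) ha
    rwa [inv_mul_cancel_left] at this
  have hzc : lc X (n - 1) ≤ C := fun z hz => mem_centralizer_singleton_iff.2 (by
    refine commutatorElement_eq_one_iff_mul_comm.1 ?_
    have := comm_mem (d := n) (i := n - 1) (j := 1) (by omega) le_rfl (by omega) hz
      (lc_one (X := X) ▸ mem_top s)
    rwa [h.lc_bot le_rfl, mem_bot] at this)
  have hC : C = zpowers s ⊔ lc X (n - 1) :=
    le_antisymm hle (sup_le (zpowers_le.2 (mem_centralizer_singleton_iff.2 rfl)) hzc)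
  have hlt : lc X (n - 1) < C := lt_of_le_of_ne hzc fun e =>
    hs.1 (lc_anti (show 2 ≤ n - 1 by omega) (e ▸ mem_centralizer_singleton_iff.2 rfl))
  have hidx : ((lc X (n - 1)).subgroupOf C).index ∣ p := by
    rw [index_eq_card]
    obtain ⟨g, hg⟩ : ∃ g : C ⧸ (lc X (n - 1)).subgroupOf C, ∀ q, q ∈ zpowers g := by
      refine ⟨QuotientGroup.mk ⟨s, mem_centralizer_singleton_iff.2 rfl⟩, fun q => ?_⟩
      obtain ⟨⟨a, ha⟩, rfl⟩ := QuotientGroup.mk_surjective q
      rcases mem_sup_of_normal_right.1 (hle ha) with ⟨w, ⟨l, rfl⟩, c, hc, rfl⟩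
      refine ⟨l, ?_⟩
      show (QuotientGroup.mk ⟨s, _⟩ : C ⧸ _) ^ l = _
      rw [← QuotientGroup.mk_zpow]
      refine QuotientGroup.eq.2 ?_
      rw [mem_subgroupOf]
      show ((((⟨s, _⟩ : C) ^ l : C)⁻¹ * ⟨s ^ l * c, ha⟩ : C) : X) ∈ lc X (n - 1)
      push_cast
      rwa [inv_mul_cancel_left]
    rw [← orderOf_eq_card_of_forall_mem_zpowers hg, orderOf_dvd_iff_pow_eq_one]
    have hz : ∀ q, q ∈ zpowers g := hg
    obtain ⟨⟨a, ha⟩, rfl⟩ := QuotientGroup.mk_surjective g
    rw [← QuotientGroup.mk_pow, QuotientGroup.eq_one_iff, mem_subgroupOf]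
    show a ^ p ∈ lc X (n - 1)
    rcases mem_sup_of_normal_right.1 (hle ha) with ⟨w, ⟨l, rfl⟩, c, hc, rfl⟩
    have hcomm : Commute (s ^ l) c :=
      (show Commute s c from (mem_centralizer_singleton_iff.1 (hzc hc)).symm).zpow_left l
    rw [hcomm.mul_pow, ← zpow_natCast (s ^ l), ← zpow_mul, mul_comm, zpow_mul, zpow_natCast]
    exact mul_mem (zpow_mem (h.unif_pow_mem hs) l) (pow_mem hc p)
  have hcz : Nat.card (lc X (n - 1)) = p := by
    rw [h.lc_card (by omega) (by omega), show n - (n - 1) = 1 by omega, pow_one]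
  have h1 := ((lc X (n - 1)).subgroupOf C).card_mul_index
  rw [Nat.card_congr (subgroupOfEquivOfLe hzc).toEquiv, hcz] at h1
  rcases (Nat.dvd_prime hp.out).1 hidx with h2 | h2
  · rw [h2, mul_one] at h1
    exact absurd (eq_of_le_of_card_ge hzc (by rw [hcz, h1])) hlt.ne
  · rw [h2] at h1
    rw [← h1, pow_two]

/-- The `p`-th power is multiplicative on a pair deep enough in the series. -/
theorem MaxCl.pair_pow (h : MaxCl X p n) {j : ℕ} (hj : 1 ≤ j) (hjn : n ≤ p * j + 1) {a b : X}
    (ha : a ∈ lc X j) (hb : b ∈ lc X (j + 1)) (hexp : ∀ z ∈ lc X (2 * j + 1), z ^ p = 1) :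
    (b * a) ^ p = b ^ p * a ^ p := by
  set K := zpowers a ⊔ lc X (j + 1) with hK
  have hKj : K ≤ lc X j := sup_le (zpowers_le.2 ha) (lc_anti (Nat.le_succ j))
  have hKK : ⁅K, K⁆ ≤ lc X (2 * j + 1) :=
    commutator_le_of_gen le_rfl le_rfl (by rw [commutatorElement_self]; exact one_mem _)
      (commutator_le.2 fun x hx y hy => comm_mem (by omega) hj (by omega) hx (hKj hy))
      (fun y hy => comm_mem hj (by omega) (by omega) ha hy)
  have hgam : ∀ k, 2 ≤ k →
      (CfsgLib.PGroup.PolySeq.gam K k).map K.subtype ≤ lc X (k * j + 1) := by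
    intro k hk
    induction k, hk using Nat.le_induction with
    | base =>
      rw [show CfsgLib.PGroup.PolySeq.gam K 2 = ⁅(⊤ : Subgroup K), ⊤⁆ from rfl, map_commutator,
        ← MonoidHom.range_eq_map, range_subtype]
      exact hKK
    | succ k hk ih =>
      rw [show CfsgLib.PGroup.PolySeq.gam K (k + 1) =
          ⁅CfsgLib.PGroup.PolySeq.gam K k, (⊤ : Subgroup K)⁆ from by
            rw [CfsgLib.PGroup.PolySeq.gam, CfsgLib.PGroup.PolySeq.gam,
              show k + 1 - 1 = k - 1 + 1 by omega, Subgroup.lowerCentralSeries_succ],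
        map_commutator, ← MonoidHom.range_eq_map, range_subtype]
      exact commutator_le.2 fun x hx y hy => comm_mem (d := (k + 1) * j + 1) (by omega) hj
        (le_of_eq (by ring)) (ih hx) (hKj hy)
  have hcl : CfsgLib.PGroup.PolySeq.gam K p = ⊥ := by
    rw [eq_bot_iff, ← map_le_map_iff_of_injective K.subtype_injective, Subgroup.map_bot]
    exact (hgam p hp.out.two_le).trans (h.lc_bot hjn).le
  have hexpK : ∀ x ∈ commutator K, x ^ p = 1 := fun x hx => Subtype.ext (hexp x (hKK (by
    rw [← show (commutator K).map K.subtype = ⁅K, K⁆ by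
      rw [_root_.commutator_def, map_commutator, ← MonoidHom.range_eq_map, range_subtype]]
    exact mem_map_of_mem _ hx)))
  exact congrArg Subtype.val (CfsgLib.PGroup.PolySeq.mul_pow_prime hp.out hcl hexpK
    ⟨b, mem_sup_right hb⟩ ⟨a, mem_sup_left (mem_zpowers a)⟩)

/-- Commutators with a uniform element generate the next term modulo the one after. -/
theorem MaxCl.lc_le_zpowers_comm (h : MaxCl X p n) {s a : X} (hs : IsUnif X n s) {i : ℕ}
    (h2 : 2 ≤ i) (hi : i + 2 ≤ n) (ha : a ∈ lc X i) (ha' : a ∉ lc X (i + 1)) :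
    lc X (i + 1) ≤ zpowers ⁅s, a⁆ ⊔ lc X (i + 2) := by
  refine h.lc_gen (by omega) (by omega) ?_ fun hc => h.notMem_of_unif hs h2 hi ha ha' ?_
  · rw [← commutatorElement_inv, inv_mem_iff]
    exact comm_mem (by omega) le_rfl le_rfl ha (lc_one (X := X) ▸ mem_top s)
  · rw [← commutatorElement_inv]
    exact inv_mem hc

omit hp in
theorem map_lc {N : Subgroup X} [N.Normal] (i : ℕ) :
    (lc X i).map (QuotientGroup.mk' N) = lc (X ⧸ N) i := by
  unfold lc
  rw [Subgroup.map_lowerCentralSeries, map_top_of_surjective _ (QuotientGroup.mk'_surjective N)]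

theorem MaxCl.mem_lc_iff_quotient (h : MaxCl X p n) {i : ℕ} (hi : i ≤ n - 1) (x : X) :
    QuotientGroup.mk' (lc X (n - 1)) x ∈ lc (X ⧸ lc X (n - 1)) i ↔ x ∈ lc X i := by
  rw [← map_lc, ← mem_comap, comap_map_eq, QuotientGroup.ker_mk', sup_eq_left.2 (lc_anti hi)]

theorem MaxCl.quotient (h : MaxCl X p n) (hn : 5 ≤ n) : MaxCl (X ⧸ lc X (n - 1)) p (n - 1) where
  four := by omega
  card := by
    rw [← index_eq_card]
    refine Nat.eq_of_mul_eq_mul_left (Nat.card_pos (α := lc X (n - 1))) ?_
    rw [card_mul_index, h.lc_card (by omega) (by omega), h.card, ← pow_add]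
    congr 1
    omega
  cls := by
    haveI := h.pgroup.isNilpotent
    have hlc : ∀ i, lc (X ⧸ lc X (n - 1)) (i + 1) =
        (⊤ : Subgroup (X ⧸ lc X (n - 1))).lowerCentralSeries i := fun i => rfl
    refine le_antisymm ?_ (Nat.le_of_not_lt fun hlt => ?_)
    · rw [← Subgroup.lowerCentralSeries_eq_bot_iff_nilpotencyClass_le, ← hlc,
        show n - 1 - 1 + 1 = n - 1 by omega, ← map_lc, eq_bot_iff]
      rintro _ ⟨x, hx, rfl⟩
      exact mem_bot.2 ((QuotientGroup.eq_one_iff x).2 hx)
    · have h1 : (⊤ : Subgroup (X ⧸ lc X (n - 1))).lowerCentralSeries (n - 3) = ⊥ :=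
        Subgroup.lowerCentralSeries_eq_bot_iff_nilpotencyClass_le.2 (by omega)
      rw [← hlc, show n - 3 + 1 = n - 2 by omega, eq_bot_iff] at h1
      refine h.lc_lt (i := n - 2) (by omega) (by omega) fun x hx => ?_
      rw [show n - 2 + 1 = n - 1 by omega]
      exact (QuotientGroup.eq_one_iff x).1 (mem_bot.1 (h1 ((h.mem_lc_iff_quotient (by omega) x).2 hx)))

theorem MaxCl.mem_cent_iff_quotient (h : MaxCl X p n) {j : ℕ} (hj : j + 3 ≤ n) (y : X) :
    QuotientGroup.mk' (lc X (n - 1)) y ∈ cent (X ⧸ lc X (n - 1)) j ↔ y ∈ cent X j := by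
  rw [mem_cent, mem_cent]
  constructor
  · intro hy x hx
    rw [← h.mem_lc_iff_quotient (i := j + 2) (by omega), map_commutatorElement]
    exact hy _ ((h.mem_lc_iff_quotient (by omega) x).2 hx)
  · intro hy x hx
    obtain ⟨a, rfl⟩ := QuotientGroup.mk'_surjective _ x
    rw [← map_commutatorElement, h.mem_lc_iff_quotient (by omega)]
    exact hy a ((h.mem_lc_iff_quotient (by omega) a).1 hx)

theorem MaxCl.unif_quotient (h : MaxCl X p n) {s : X} (hs : IsUnif X n s) :
    IsUnif (X ⧸ lc X (n - 1)) (n - 1) (QuotientGroup.mk' (lc X (n - 1)) s) := by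
  have := h.four
  refine ⟨fun hc => hs.1 ((h.mem_lc_iff_quotient (by omega) s).1 hc), fun j h2 hj hc => ?_⟩
  exact hs.2 j h2 (by omega) ((h.mem_cent_iff_quotient (by omega) s).1 hc)

/-- The `p`-th power moves every position at most `n - p` exactly `p - 1` steps. -/
theorem MaxCl.power_facts (h : MaxCl X p n) (hn : p + 3 ≤ n) {s : X} (hs : IsUnif X n s) :
    (∀ i, 2 ≤ i → ∀ a ∈ lc X i, i + p - 1 ≤ n - 1 → a ^ p ∈ lc X (i + p - 1)) ∧
    (∀ i, n ≤ i + p → ∀ a ∈ lc X i, 2 ≤ i → a ^ p ∈ lc X (n - 1)) ∧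
    (∀ i, 2 ≤ i → i + p + 1 ≤ n → ∀ a ∈ lc X i, a ∉ lc X (i + 1) → a ^ p ∉ lc X (i + p)) := by
  have h4 := h.four
  have hp2 := hp.out.two_le
  set π := QuotientGroup.mk' (lc X (n - 1)) with hπ
  have hq := h.quotient (by omega)
  have hsq := h.unif_quotient hs
  have hpow : π s ^ p = 1 := by
    rw [← map_pow]
    exact (QuotientGroup.eq_one_iff _).2 (h.unif_pow_mem hs)
  obtain ⟨P, hS⟩ := CfsgLib.PGroup.SmallCent.exists_setting hq.card (by omega) hq.cls hpow
    (hq.card_centralizer hsq).le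
  have hPlc : ∀ i, 2 ≤ i → P i = lc (X ⧸ lc X (n - 1)) i := fun i hi => by
    rcases Nat.lt_or_ge (n - 1) i with hin | hin
    · rw [hS.P_eq_bot (by omega) hin.le, hq.lc_bot hin.le]
    haveI := hS.filt.normal i
    refine CfsgLib.Transfer.normal_eq_lowerCentralSeries hq.card hq.cls (by omega) (P i) hi ?_
    refine Nat.eq_of_mul_eq_mul_left (Nat.card_pos (α := P i)) ?_
    rw [card_mul_index, hq.card, hS.card_P i (by omega) hin, ← pow_add]
    congr 1; omega
  refine ⟨fun i hi a ha hle => ?_, fun i hni a ha hi => ?_, fun i hi hin a ha ha' => ?_⟩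
  · have := hS.pow_mem hi (a := π a)
      (by rw [hPlc i hi]; exact (h.mem_lc_iff_quotient (by omega) a).2 ha)
    rw [hPlc _ (by omega), ← map_pow] at this
    exact (h.mem_lc_iff_quotient hle _).1 this
  · by_cases hi' : i ≤ n - 1
    · have := hS.pow_mem hi (a := π a)
        (by rw [hPlc i hi]; exact (h.mem_lc_iff_quotient hi' a).2 ha)
      rw [hPlc _ (by omega), ← map_pow] at this
      have h2 : π (a ^ p) ∈ lc (X ⧸ lc X (n - 1)) (n - 1) :=
        lc_anti (show n - 1 ≤ i + p - 1 by omega) this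
      exact (h.mem_lc_iff_quotient le_rfl _).1 h2
    · rw [h.lc_bot (show n ≤ i by omega), mem_bot] at ha
      rw [ha, one_pow]; exact one_mem _
  · intro hc
    refine hS.pow_notMem hi (by omega) (a := π a)
      (by rw [hPlc i hi]; exact (h.mem_lc_iff_quotient (by omega) a).2 ha)
      (fun h' => ?_) ?_
    · rw [hPlc _ (by omega)] at h'
      exact ha' ((h.mem_lc_iff_quotient (by omega) a).1 h')
    · rw [hPlc _ (by omega), ← map_pow]
      exact (h.mem_lc_iff_quotient (by omega) _).2 hc

/-- Two-step centralizers are periodic at the top. -/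
theorem MaxCl.cent_periodic (h : MaxCl X p n) (hn : p + 3 ≤ n) {s : X} (hs : IsUnif X n s) :
    cent X (n - 2) = cent X (n - p - 1) := by
  have h4 := h.four
  have hp2 := hp.out.two_le
  obtain ⟨hF1, hF2, hF3⟩ := h.power_facts hn hs
  have hclass : ∀ i, n - p ≤ i → n ≤ p * i + 1 := fun i hi => by
    have h1 : p * (n - p) ≤ p * i := Nat.mul_le_mul_left _ hi
    obtain ⟨d, rfl⟩ : ∃ d, n = p + 3 + d := ⟨n - (p + 3), by omega⟩
    rw [show p + 3 + d - p = 3 + d by omega, mul_add] at h1
    have h2 : 1 * d ≤ p * d := Nat.mul_le_mul_right _ (by omega)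
    omega
  -- the deep terms have exponent `p`
  have E1 : ∀ m i, n ≤ i + m → n - p + 1 ≤ i → ∀ c ∈ lc X i, c ^ p = 1 := by
    intro m
    induction m with
    | zero =>
      intro i hi _ c hc
      rw [h.lc_bot (by omega), mem_bot] at hc
      rw [hc, one_pow]
    | succ m ih =>
      intro i hni hi c hc
      by_cases hin : n ≤ i
      · rw [h.lc_bot hin, mem_bot] at hc
        rw [hc, one_pow]
      obtain ⟨a, ha, ha'⟩ := SetLike.not_le_iff_exists.1
        (h.lc_lt (i := i - 1) (by omega) (by omega))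
      have hgen : lc X i ≤ zpowers ⁅s, a⁆ ⊔ lc X (i + 1) := by
        have := h.lc_le_zpowers_comm hs (i := i - 1) (by omega) (by omega) ha ha'
        rwa [show i - 1 + 1 = i by omega, show i - 1 + 2 = i + 1 by omega] at this
      have hexp : ∀ z ∈ lc X (2 * (i - 1) + 1), z ^ p = 1 :=
        fun z hz => ih (i + 1) (by omega) (by omega) z (lc_anti (by omega) hz)
      have hca : ⁅s, a⁆ ∈ lc X i := by
        rw [← commutatorElement_inv, inv_mem_iff]
        exact comm_mem (by omega) le_rfl (by omega) ha (lc_one (X := X) ▸ mem_top s)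
      have hu : ⁅s, a⁆ ^ p = 1 := by
        have h1 := h.pair_pow (j := i - 1) (by omega) (hclass _ (by omega)) ha
          (by rwa [show i - 1 + 1 = i by omega]) hexp
        have hap : a ^ p ∈ lc X (n - 1) := hF2 (i - 1) (by omega) a ha (by omega)
        have hcomm : Commute s (a ^ p) := by
          refine (commutatorElement_eq_one_iff_mul_comm.1 ?_)
          have := comm_mem (d := n) (i := 1) (j := n - 1) le_rfl (by omega) (by omega)
            (lc_one (X := X) ▸ mem_top s) hap
          rwa [h.lc_bot le_rfl, mem_bot] at this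
        rw [show ⁅s, a⁆ * a = s * a * s⁻¹ by rw [commutatorElement_def, inv_mul_cancel_right],
          conj_pow, hcomm.eq, mul_inv_cancel_right] at h1
        exact mul_eq_right.1 h1.symm
      rcases mem_sup_of_normal_right.1 (hgen hc) with ⟨w, ⟨l, rfl⟩, d, hd, rfl⟩
      have h2 := h.pair_pow (j := i) (by omega) (hclass _ (by omega))
        (inv_mem (zpow_mem hca l)) (inv_mem hd)
        (fun z hz => ih (i + 1) (by omega) (by omega) z (lc_anti (by omega) hz))
      rw [← mul_inv_rev, inv_pow, inv_pow, inv_pow, ← zpow_natCast (⁅s, a⁆ ^ l), ← zpow_mul,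
        mul_comm l, zpow_mul, zpow_natCast, hu, one_zpow, inv_one, mul_one, inv_inj] at h2
      exact h2.trans (ih (i + 1) (by omega) (by omega) d hd)
  set j := n - p - 1 with hj
  have hexp : ∀ z ∈ lc X (2 * j + 1), z ^ p = 1 := E1 n _ (by omega) (by omega)
  have hjn : n ≤ p * j + 1 := by
    obtain ⟨d, hd⟩ : ∃ d, n = p + 3 + d := ⟨n - (p + 3), by omega⟩
    rw [hj, hd, show p + 3 + d - p - 1 = 2 + d by omega, mul_add]
    have h2 : 1 * d ≤ p * d := Nat.mul_le_mul_right _ (by omega)
    omega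
  have hle : cent X (n - 2) ≤ cent X j := by
    intro y hy
    refine mem_cent.2 fun a ha => ?_
    set b := ⁅y, a⁆ with hb'
    have hb : b ∈ lc X (j + 1) := by
      rw [hb', ← commutatorElement_inv, inv_mem_iff]
      exact comm_mem (by omega) le_rfl le_rfl ha (lc_one (X := X) ▸ mem_top y)
    by_contra hbn
    have hap : a ^ p ∈ lc X (n - 2) := by
      have := hF1 j (by omega) a ha (by omega)
      rwa [show j + p - 1 = n - 2 by omega] at this
    -- `b ^ p = 1`
    have hbp : b ^ p = 1 := by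
      have h1 := h.pair_pow (j := j) (by omega) hjn ha hb hexp
      have hcomm : Commute y (a ^ p) := by
        refine (commutatorElement_eq_one_iff_mul_comm.1 ?_)
        have := mem_cent.1 hy _ hap
        rwa [h.lc_bot (by omega), mem_bot] at this
      rw [show b * a = y * a * y⁻¹ by rw [hb', commutatorElement_def, inv_mul_cancel_right],
        conj_pow, hcomm.eq, mul_inv_cancel_right] at h1
      exact mul_eq_right.1 h1.symm
    -- hence the whole term has exponent `p`
    have hall : ∀ z ∈ lc X (j + 1), z ^ p = 1 := by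
      intro z hz
      rcases mem_sup_of_normal_right.1 (h.lc_gen (by omega) (by omega) hb hbn hz) with
        ⟨w, ⟨l, rfl⟩, d, hd, rfl⟩
      have h2 := h.pair_pow (j := j + 1) (by omega) (hclass _ (by omega))
        (inv_mem (zpow_mem hb l)) (inv_mem hd)
        (fun z hz => E1 n _ (by omega) (by omega) z hz)
      rw [← mul_inv_rev, inv_pow, inv_pow, inv_pow, ← zpow_natCast (b ^ l), ← zpow_mul,
        mul_comm l, zpow_mul, zpow_natCast, hbp, one_zpow, inv_one, mul_one, inv_inj] at h2
      exact h2.trans (E1 n _ (by omega) (by omega) d hd)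
    obtain ⟨a₀, ha₀, ha₀'⟩ := SetLike.not_le_iff_exists.1
      (h.lc_lt (i := j) (by omega) (by omega))
    have h1 := h.pair_pow (j := j) (by omega) hjn ha₀ (b := ⁅s, a₀⁆) (by
      rw [← commutatorElement_inv, inv_mem_iff]
      exact comm_mem (by omega) le_rfl le_rfl ha₀ (lc_one (X := X) ▸ mem_top s)) hexp
    rw [show ⁅s, a₀⁆ * a₀ = s * a₀ * s⁻¹ by rw [commutatorElement_def, inv_mul_cancel_right],
      conj_pow, hall ⁅s, a₀⁆ (by
        rw [← commutatorElement_inv, inv_mem_iff]
        exact comm_mem (by omega) le_rfl le_rfl ha₀ (lc_one (X := X) ▸ mem_top s)), one_mul] at h1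
    have hap0 : a₀ ^ p ∈ lc X (n - 2) := by
      have := hF1 j (by omega) a₀ ha₀ (by omega)
      rwa [show j + p - 1 = n - 2 by omega] at this
    have hap0' : a₀ ^ p ∉ lc X (n - 2 + 1) := by
      have := hF3 j (by omega) (by omega) a₀ ha₀ ha₀'
      rwa [show j + p = n - 2 + 1 by omega] at this
    refine h.notMem_of_unif hs (j := n - 2) (by omega) (by omega) hap0 hap0' ?_
    rw [commutatorElement_eq_one_iff_mul_comm.2 (mul_inv_eq_iff_eq_mul.1 h1).symm]
    exact one_mem _
  refine le_antisymm hle ?_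
  -- the top centralizer has index at most `p`
  set Z := lc X (n - 1) with hZdef
  obtain ⟨d, hd, hd'⟩ := SetLike.not_le_iff_exists.1 (h.lc_lt (i := n - 2) (by omega) (by omega))
  rw [show n - 2 + 1 = n - 1 by omega] at hd'
  have hCd : centralizer ({d} : Set X) ≤ cent X (n - 2) := fun g hg => mem_cent.2 fun x hx => by
    rw [show n - 2 + 2 = n by omega, h.lc_bot le_rfl, mem_bot]
    have hx' := h.lc_gen (i := n - 2) (by omega) (by omega) hd
      (by rwa [show n - 2 + 1 = n - 1 by omega]) hx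
    rw [commutatorElement_eq_one_iff_mul_comm]
    refine (mem_centralizer_singleton_iff.1 ((sup_le (zpowers_le.2 ?_) ?_ :
      zpowers d ⊔ lc X (n - 2 + 1) ≤ centralizer ({g} : Set X)) hx')).symm
    · exact mem_centralizer_singleton_iff.2 (mem_centralizer_singleton_iff.1 hg).symm
    · intro z hz
      refine mem_centralizer_singleton_iff.2 (commutatorElement_eq_one_iff_mul_comm.1 ?_)
      have := comm_mem (d := n) (i := n - 2 + 1) (j := 1) (by omega) le_rfl (by omega) hz
        (lc_one (X := X) ▸ mem_top g)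
      rwa [h.lc_bot le_rfl, mem_bot] at this
  have hidx : (centralizer ({d} : Set X)).index ≤ p := by
    rw [index_eq_card]
    let f : X ⧸ centralizer ({d} : Set X) → lc X (n - 1) :=
      Quotient.lift (fun g : X => (⟨⁅g, d⁆, by
        rw [← commutatorElement_inv, inv_mem_iff]
        exact comm_mem (by omega) le_rfl (by omega) hd (lc_one (X := X) ▸ mem_top g)⟩ :
          lc X (n - 1))) (by
        intro g g' hgg
        rw [← Quotient.eq_iff_equiv, Quotient.eq_iff_equiv, ← Quotient.eq_iff_equiv] at hgg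
        have hm := QuotientGroup.eq.1 hgg
        rw [mem_centralizer_singleton_iff] at hm
        apply Subtype.ext
        show ⁅g, d⁆ = ⁅g', d⁆
        have e : g' * d * g'⁻¹ = g * d * g⁻¹ := by
          calc g' * d * g'⁻¹ = g * (g⁻¹ * g' * d) * g'⁻¹ := by group
            _ = g * (d * (g⁻¹ * g')) * g'⁻¹ := by rw [hm]
            _ = g * d * g⁻¹ := by group
        rw [commutatorElement_def, commutatorElement_def, e])
    refine (Nat.card_le_card_of_injective f ?_).trans (le_of_eq ?_)
    · intro q q'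
      refine Quotient.inductionOn₂ q q' fun g g' hgg => ?_
      have e : g * d * g⁻¹ = g' * d * g'⁻¹ :=
        mul_right_cancel (congrArg Subtype.val hgg : ⁅g, d⁆ = ⁅g', d⁆)
      refine QuotientGroup.eq.2 (mem_centralizer_singleton_iff.2 ?_)
      calc g⁻¹ * g' * d = g⁻¹ * (g' * d * g'⁻¹) * g' := by group
        _ = g⁻¹ * (g * d * g⁻¹) * g' := by rw [e]
        _ = d * (g⁻¹ * g') := by group
    · rw [h.lc_card (by omega) (by omega), show n - (n - 1) = 1 by omega, pow_one]
  have hjne := h.cent_ne_top (j := j) (by omega) (by omega)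
  have h1 : p * Nat.card (cent X j) ≤ Nat.card X := by
    have := CfsgLib.Transfer.prime_mul_card_le h.pgroup (lt_top_iff_ne_top.2 hjne)
    rwa [Subgroup.card_top] at this
  have h2 : Nat.card X ≤ p * Nat.card (cent X (n - 2)) := by
    have h3 := (centralizer ({d} : Set X)).card_mul_index
    calc Nat.card X = Nat.card (centralizer ({d} : Set X)) * (centralizer ({d} : Set X)).index :=
          h3.symm
      _ ≤ Nat.card (cent X (n - 2)) * p := Nat.mul_le_mul (Subgroup.card_le_of_le hCd) hidx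
      _ = _ := mul_comm _ _
  exact (eq_of_le_of_card_ge hle (Nat.le_of_mul_le_mul_left (h1.trans h2) hp.out.pos)).ge

/-- Every two-step centralizer is one of the first `p - 1`. -/
theorem cent_mem_first : ∀ (n : ℕ) {X : Type u} [Group X] [Finite X], MaxCl X p n →
    ∀ j, 2 ≤ j → j + 2 ≤ n → ∃ i, 2 ≤ i ∧ i ≤ p ∧ i + 2 ≤ n ∧ cent X j = cent X i := by
  intro n
  induction n using Nat.strong_induction_on with
  | _ n ih =>
    intro X _ _ h j h2 hj
    rcases Nat.lt_or_ge p j with hpj | hpj
    swap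
    · exact ⟨j, h2, hpj, hj, rfl⟩
    have hp2 := hp.out.two_le
    have hlow : ∀ i, 2 ≤ i → i + 3 ≤ n →
        ∃ k, 2 ≤ k ∧ k ≤ p ∧ k + 2 ≤ n ∧ cent X i = cent X k := by
      intro i hi2 hi
      obtain ⟨k, k1, k2, k3, k4⟩ := ih (n - 1) (by omega) (h.quotient (by omega)) i hi2 (by omega)
      refine ⟨k, k1, k2, by omega, Subgroup.ext fun y => ?_⟩
      rw [← h.mem_cent_iff_quotient (by omega) y, ← h.mem_cent_iff_quotient (by omega) y, k4]
    by_cases hj3 : j + 3 ≤ n
    · exact hlow j h2 hj3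
    have hjeq : j = n - 2 := by omega
    subst hjeq
    classical
    obtain ⟨s, hs⟩ := exists_notMem (Finset.Icc 2 p ∪ {n - 2}) (fun i => cent X (min i (n - 2)))
      h.pgroup ((Finset.card_union_le _ _).trans (by simp; omega))
      (fun i hi => h.cent_ne_top (by
        simp only [Finset.mem_union, Finset.mem_Icc, Finset.mem_singleton] at hi
        omega) (by omega))
    have hsu : IsUnif X n s := by
      have h22 := hs (n - 2) (by simp)
      rw [min_self] at h22
      refine ⟨fun h' => h22 (lc_two_le_cent' (by omega) h'), fun i hi2 hi hc => ?_⟩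
      by_cases hi3 : i + 3 ≤ n
      · obtain ⟨k, k1, k2, k3, k4⟩ := hlow i hi2 hi3
        have := hs k (by simp; omega)
        rw [min_eq_left (by omega), ← k4] at this
        exact this hc
      · rw [show i = n - 2 by omega] at hc
        exact h22 hc
    rw [h.cent_periodic (by omega) hsu]
    exact hlow _ (by omega) (by omega)

/-- Uniform elements exist outside any proper subgroup. -/
theorem MaxCl.exists_unif (h : MaxCl X p n) {Q : Subgroup X} (hQ : Q ≠ ⊤) :
    ∃ s, s ∉ Q ∧ IsUnif X n s := by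
  classical
  have h4 := h.four
  have hp2 := hp.out.two_le
  obtain ⟨s, hs⟩ := exists_notMem (insert 1 (Finset.Icc 2 p))
    (fun i => if i = 1 then Q else cent X (min i (n - 2))) h.pgroup
    ((Finset.card_insert_le _ _).trans (by simp; omega)) (fun i hi => by
      by_cases h1 : i = 1
      · rw [if_pos h1]; exact hQ
      · rw [if_neg h1]
        simp only [Finset.mem_insert, Finset.mem_Icc] at hi
        exact h.cent_ne_top (by omega) (by omega))
  have h1 : s ∉ Q := by have := hs 1 (Finset.mem_insert_self _ _); rwa [if_pos rfl] at this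
  have hcent : ∀ k, 2 ≤ k → k ≤ p → k + 2 ≤ n → s ∉ cent X k := by
    intro k k1 k2 k3
    have := hs k (by simp; omega)
    rwa [if_neg (by omega), min_eq_left (by omega)] at this
  refine ⟨s, h1, fun h' => hcent 2 le_rfl hp2 (by omega) (lc_two_le_cent' (by omega) h'),
    fun j h2 hj hc => ?_⟩
  obtain ⟨k, k1, k2, k3, k4⟩ := cent_mem_first n h j h2 hj
  exact hcent k k1 k2 k3 (k4 ▸ hc)

end CfsgLib.PGroup.UniformElement
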