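import Cfsg.Agent.Lib.PGroup.MaxClassExponent
import Cfsg.Agent.Lib.PGroup.UniformElement
import Cfsg.Prelude.Def_PLocal

/-!
# Indices of power subgroups in `p`-groups of maximal class

Every subgroup `H` of a `p`-group of maximal class has `|H : ℧₁(H)| ≤ p ^ p`: below the derived
group the `p`-th power shifts positions by exactly `p - 1`, and no group of maximal class of order
`p ^ (p + 1)` has exponent `p`.
-/

set_option autoImplicit false

namespace CfsgLib.PGroup.UniformElement

open Subgroup Cfsg.Agent.S3806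
open scoped commutatorElement

universe u

variable {X : Type u} [Group X] [Finite X] {p n : ℕ} [hp : Fact p.Prime]

/-- The series of a group of maximal class, with a uniform element. -/
theorem MaxCl.exists_series (h : MaxCl X p n) :
    ∃ (s : X) (P : ℕ → Subgroup X), CfsgLib.PGroup.SmallCent.Setting p n s P ∧
      ∀ i, 2 ≤ i → P i = lc X i := by
  have h4 := h.four
  obtain ⟨s, -, hs⟩ := h.exists_unif (Q := ⊥) (by
    intro e
    have h1 := (card_top (G := X)).symm
    rw [← e, card_bot, h.card] at h1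
    have := Nat.one_lt_pow (show n ≠ 0 by omega) hp.out.one_lt
    omega)
  have hz : s ^ p ∈ center X := mem_center_iff.2 fun g =>
    (commutatorElement_eq_one_iff_mul_comm.1 (by
      have := comm_mem (d := n) (i := n - 1) (j := 1) (by omega) le_rfl (by omega) (h.unif_pow_mem hs)
        (lc_one (X := X) ▸ mem_top g)
      rwa [h.lc_bot le_rfl, mem_bot] at this)).symm
  obtain ⟨P, hS⟩ := CfsgLib.PGroup.SmallCent.exists_setting_central h.card (by omega) h.cls hz
    (h.card_centralizer hs).le
  refine ⟨s, P, hS, fun i hi => ?_⟩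
  rcases Nat.lt_or_ge n i with hin | hin
  · rw [hS.P_eq_bot (by omega) hin.le, h.lc_bot hin.le]
  haveI := hS.filt.normal i
  refine CfsgLib.Transfer.normal_eq_lowerCentralSeries h.card h.cls (by omega) (P i) hi ?_
  refine Nat.eq_of_mul_eq_mul_left (Nat.card_pos (α := P i)) ?_
  rw [card_mul_index, h.card, hS.card_P i (by omega) hin, ← pow_add]
  congr 1; omega

/-- A group of maximal class of order `p ^ (p + 1)` does not have exponent `p`. -/
theorem exponent_ne {Y : Type u} [Group Y] [Finite Y] (hY : Nat.card Y = p ^ (p + 1))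
    (hc : Group.nilpotencyClass Y = p) : ¬ ∀ g : Y, g ^ p = 1 := by
  intro hexp
  by_cases h3 : 3 ≤ p
  · have h : MaxCl Y p (p + 1) := ⟨hY, by omega, by omega⟩
    obtain ⟨s, P, hS, -⟩ := h.exists_series
    exact hS.exponent_ne hexp
  · have hp2 : p = 2 := by have := hp.out.two_le; omega
    subst hp2
    haveI := (IsPGroup.of_card hY).isNilpotent
    have : IsMulCommutative Y := ⟨⟨fun a b => by
      have hi : ∀ g : Y, g⁻¹ = g := fun g => inv_eq_of_mul_eq_one_right (by rw [← pow_two]; exact hexp g)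
      calc a * b = (a * b)⁻¹ := (hi _).symm
        _ = b * a := by rw [mul_inv_rev, hi, hi]⟩⟩
    have := (Group.IsNilpotent.nilpotencyClass_le_one_iff (G := Y)).2 inferInstance
    omega

theorem index_powerClosure_top (h : MaxCl X p n) :
    (Cfsg.powerClosure p 1 (⊤ : Subgroup X)).index ≤ p ^ p := by
  have h4 := h.four
  set N := Cfsg.powerClosure p 1 (⊤ : Subgroup X) with hN
  have hNn : N.Normal := ⟨fun y hy g => by
    have hle : N ≤ N.comap (MulAut.conj g).toMonoidHom := (closure_le _).2 fun z ⟨x, _, hx⟩ =>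
      show g * z * g⁻¹ ∈ N from subset_closure ⟨g * x * g⁻¹, mem_top _, by rw [conj_pow, hx]⟩
    exact hle hy⟩
  by_contra! hlt
  obtain ⟨r, hr, hr'⟩ := (Nat.dvd_prime_pow hp.out).1 (h.card ▸ N.index_dvd_card)
  have hpr : p + 1 ≤ r := (Nat.pow_lt_pow_iff_right hp.out.one_lt).1 (hr' ▸ hlt)
  have hp2 := hp.out.two_le
  have hNlc : N = lc X r := CfsgLib.Transfer.normal_eq_lowerCentralSeries h.card h.cls (by omega) N
    (by omega) hr'
  set M := lc X (p + 1) with hM
  have hcardQ : Nat.card (X ⧸ M) = p ^ (p + 1) := by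
    rw [← index_eq_card]
    refine Nat.eq_of_mul_eq_mul_left (Nat.card_pos (α := M)) ?_
    rw [card_mul_index, hM, h.lc_card (by omega) (by omega), h.card, ← pow_add]
    congr 1
    omega
  haveI := h.pgroup.isNilpotent
  refine exponent_ne (Y := X ⧸ M) hcardQ (le_antisymm ?_ (Nat.le_of_not_lt fun hc => ?_)) fun g => ?_
  · rw [← Subgroup.lowerCentralSeries_eq_bot_iff_nilpotencyClass_le]
    show lc (X ⧸ M) (p + 1) = ⊥
    rw [← map_lc, eq_bot_iff]
    rintro _ ⟨x, hx, rfl⟩
    exact mem_bot.2 ((QuotientGroup.eq_one_iff x).2 hx)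
  · have h1 : (⊤ : Subgroup (X ⧸ M)).lowerCentralSeries (p - 1) = ⊥ :=
      Subgroup.lowerCentralSeries_eq_bot_iff_nilpotencyClass_le.2 (by omega)
    have h2 : lc (X ⧸ M) p = ⊥ := h1
    rw [← map_lc, eq_bot_iff] at h2
    exact h.lc_lt (i := p) hp2 (by omega) fun x hx =>
      (QuotientGroup.eq_one_iff x).1 (mem_bot.1 (h2 ⟨x, hx, rfl⟩))
  · obtain ⟨x, rfl⟩ := QuotientGroup.mk'_surjective M g
    rw [← map_pow]
    refine (QuotientGroup.eq_one_iff _).2 ?_
    have hx : x ^ p ∈ N := subset_closure ⟨x, mem_top _, by rw [pow_one]⟩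
    rw [hNlc] at hx
    exact lc_anti hpr hx

theorem card_le_mul_card_powers (h : MaxCl X p n) {K N : Subgroup X} (hK : K ≤ lc X 2)
    (hN : ∀ k ∈ K, k ^ p ∈ N) : Nat.card K ≤ p ^ (p - 1) * Nat.card N := by
  obtain ⟨s, P, hS, hP⟩ := h.exists_series
  have h4 := h.four
  have hp2 := hp.out.two_le
  have hstep : ∀ (L : Subgroup X) (i : ℕ), 2 ≤ i → i < n →
      Nat.card (L ⊓ lc X i : Subgroup X) ≤ p * Nat.card (L ⊓ lc X (i + 1) : Subgroup X) := by
    intro L i hi hin
    set A := L ⊓ lc X i
    have h1 := ((lc X (i + 1)).subgroupOf A).card_mul_index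
    have h2 : Nat.card ((lc X (i + 1)).subgroupOf A) ≤ Nat.card (L ⊓ lc X (i + 1) : Subgroup X) :=
      Nat.card_le_card_of_injective (fun a => (⟨a.1.1, ⟨a.1.2.1, a.2⟩⟩ : (L ⊓ lc X (i + 1) : Subgroup X)))
        fun a b e => Subtype.ext (Subtype.ext (congrArg Subtype.val e :))
    have h5 : ((lc X (i + 1)).subgroupOf (lc X i)).index = p := by
      have h3 := ((lc X (i + 1)).subgroupOf (lc X i)).card_mul_index
      rw [Nat.card_congr (subgroupOfEquivOfLe (lc_anti (Nat.le_succ i))).toEquiv,
        h.lc_card hi hin.le, h.lc_card (by omega) hin,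
        show n - i = n - (i + 1) + 1 by omega, pow_succ] at h3
      exact Nat.eq_of_mul_eq_mul_left (pow_pos hp.out.pos _) h3
    have h6 : (lc X (i + 1)).relIndex A ≤ (lc X (i + 1)).relIndex (lc X i) :=
      relIndex_le_of_le_right inf_le_right (by rw [relIndex, h5]; exact hp.out.ne_zero)
    rw [relIndex, relIndex, h5] at h6
    rw [← h1, mul_comm p]
    exact Nat.mul_le_mul h2 h6
  have key : ∀ m i, n ≤ i + m → 2 ≤ i →
      Nat.card (K ⊓ lc X i : Subgroup X) ≤ p ^ (p - 1) * Nat.card (N ⊓ lc X (i + (p - 1)) : Subgroup X) := by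
    intro m
    induction m with
    | zero =>
      intro i hi _
      rw [h.lc_bot (show n ≤ i by omega), inf_bot_eq, card_bot]
      exact Nat.one_le_iff_ne_zero.2 (mul_ne_zero (pow_ne_zero _ hp.out.ne_zero) Nat.card_pos.ne')
    | succ m ih =>
      intro i hi h2
      by_cases hip : i + p ≤ n
      · have ih' := ih (i + 1) (by omega) (by omega)
        by_cases hlead : ∃ k ∈ K, k ∈ lc X i ∧ k ∉ lc X (i + 1)
        · obtain ⟨k, hkK, hk, hkn⟩ := hlead
          have e1 := hS.pow_mem h2 (a := k) (by rw [hP i h2]; exact hk)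
          have e2 := hS.pow_notMem h2 hip (a := k) (by rw [hP i h2]; exact hk)
            (by rw [hP (i + 1) (by omega)]; exact hkn)
          rw [hP _ (by omega), show i + p - 1 = i + (p - 1) by omega] at e1
          rw [hP _ (by omega)] at e2
          have hNN : p * Nat.card (N ⊓ lc X (i + p) : Subgroup X) ≤
              Nat.card (N ⊓ lc X (i + (p - 1)) : Subgroup X) :=
            CfsgLib.Transfer.prime_mul_card_le h.pgroup (lt_of_le_not_ge
              (inf_le_inf_left N (lc_anti (by omega))) fun hle => e2 (hle ⟨hN k hkK, e1⟩).2)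
          refine (hstep K i h2 (by omega)).trans ((Nat.mul_le_mul_left p ih').trans ?_)
          rw [show i + 1 + (p - 1) = i + p by omega, mul_left_comm]
          exact Nat.mul_le_mul_left _ hNN
        · push Not at hlead
          refine (card_le_of_le (le_inf inf_le_left fun k hk => hlead k hk.1 hk.2)).trans (ih'.trans ?_)
          exact Nat.mul_le_mul_left _ (card_le_of_le (inf_le_inf_left N (lc_anti (by omega))))
      · refine (card_le_of_le inf_le_right).trans ?_
        by_cases hin : i ≤ n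
        · rw [h.lc_card h2 hin]
          exact (Nat.pow_le_pow_right hp.out.pos (by omega)).trans
            (Nat.le_mul_of_pos_right _ Nat.card_pos)
        · rw [h.lc_bot (by omega), card_bot]
          exact Nat.one_le_iff_ne_zero.2 (mul_ne_zero (pow_ne_zero _ hp.out.ne_zero) Nat.card_pos.ne')
  have hh := key n 2 (by omega) le_rfl
  rw [inf_eq_left.2 hK] at hh
  exact hh.trans (Nat.mul_le_mul_left _ (card_le_of_le inf_le_left))

/-- `|H : ℧₁(H)| ≤ p ^ p` for every subgroup `H`. -/
theorem relIndex_powerClosure_le (hX : Nat.card X = p ^ n) (hn : 2 ≤ n)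
    (hc : Group.nilpotencyClass X = n - 1) (H : Subgroup X) :
    (Cfsg.powerClosure p 1 H).relIndex H ≤ p ^ p := by
  set N := Cfsg.powerClosure p 1 H with hN
  have hp2 := hp.out.two_le
  have hHle : Nat.card H ≤ p ^ n := hX ▸ H.card_le_card_group
  have hrel : Nat.card N * N.relIndex H = Nat.card H := by
    have hNH : N ≤ H := (closure_le _).2 fun y ⟨x, hx, e⟩ => e ▸ H.pow_mem hx _
    have := (N.subgroupOf H).card_mul_index
    rwa [Nat.card_congr (subgroupOfEquivOfLe hNH).toEquiv] at this
  have hsmall : ∀ B, Nat.card H ≤ B * Nat.card N → N.relIndex H ≤ B := fun B hB =>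
    Nat.le_of_mul_le_mul_left (hrel ▸ (hB.trans (mul_comm _ _).le)) Nat.card_pos
  by_cases hnp : n ≤ p
  · exact hsmall _ (hHle.trans ((Nat.pow_le_pow_right hp.out.pos hnp).trans
      (Nat.le_mul_of_pos_right _ Nat.card_pos)))
  by_cases hn4 : 4 ≤ n
  · have h : MaxCl X p n := ⟨hX, hc, hn4⟩
    by_cases hHt : H = ⊤
    · subst hHt
      rw [relIndex_top_right]
      exact index_powerClosure_top h
    have hidx : (lc X 2).index = p ^ 2 := by
      rw [lc_two_eq_commutator]
      exact CfsgLib.Transfer.index_commutator_eq_sq hX hn hc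
    have hsup : H ⊔ lc X 2 ≠ ⊤ := fun e => hHt (by
      haveI := h.pgroup.isNilpotent
      refine frattini_nongenerating (eq_top_iff.2 (e.ge.trans (sup_le_sup_left ?_ _)))
      rw [lc_two_eq_commutator]
      exact CfsgLib.PGroup.commutator_le_frattini h.pgroup)
    have hHidx : (lc X 2).relIndex H ≤ p := by
      rw [← relIndex_sup_right]
      obtain ⟨k, hk, hk'⟩ := (Nat.dvd_prime_pow hp.out).1
        (hidx ▸ relIndex_dvd_index_of_normal (lc X 2) (H ⊔ lc X 2))
      rw [hk']
      have : k ≠ 2 := fun e => hsup (by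
        have h1 := relIndex_mul_index (le_sup_right : lc X 2 ≤ H ⊔ lc X 2)
        rw [hk', e, hidx] at h1
        exact index_eq_one.1 (Nat.eq_of_mul_eq_mul_left (pow_pos hp.out.pos 2) (h1.trans (mul_one _).symm)))
      exact (Nat.pow_le_pow_right hp.out.pos (show k ≤ 1 by omega)).trans (pow_one p).le
    have hK := card_le_mul_card_powers h (K := H ⊓ lc X 2) (N := N) inf_le_right
      fun k hk => subset_closure ⟨k, hk.1, by rw [pow_one]⟩
    refine hsmall _ ?_
    have h1 := ((lc X 2).subgroupOf H).card_mul_index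
    rw [← h1, show p ^ p = p * p ^ (p - 1) by rw [← pow_succ']; congr 1; omega, mul_assoc,
      mul_comm p]
    refine Nat.mul_le_mul (le_trans ?_ hK) hHidx
    exact Nat.card_le_card_of_injective (fun a => (⟨a.1.1, ⟨a.1.2, a.2⟩⟩ : (H ⊓ lc X 2 : Subgroup X)))
      fun a b e => Subtype.ext (Subtype.ext (congrArg Subtype.val e :))
  · obtain rfl : p = 2 := by omega
    obtain rfl : n = 3 := by omega
    by_cases hHt : H = ⊤
    · subst hHt
      refine hsmall _ ?_
      have hne : ∃ x : X, x ^ 2 ≠ 1 := by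
        by_contra! hexp
        exact exponent_ne (p := 2) hX hc hexp
      obtain ⟨x, hx⟩ := hne
      have : Nontrivial N := ⟨⟨⟨x ^ 2, subset_closure ⟨x, mem_top _, by rw [pow_one]⟩⟩, 1,
        fun e => hx (congrArg Subtype.val e)⟩⟩
      have h2 := Finite.one_lt_card (α := N)
      rw [card_top, hX]
      omega
    · refine hsmall _ (le_trans ?_ (Nat.le_mul_of_pos_right _ Nat.card_pos))
      have h1 := CfsgLib.Transfer.prime_mul_card_le (IsPGroup.of_card hX) (lt_top_iff_ne_top.2 hHt)
      rw [card_top, hX] at h1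
      omega

end CfsgLib.PGroup.UniformElement
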