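import Cfsg.Agent.Lib.Solvable.UniqueSubgroup

/-!
Invariant complements in abelian `p`-groups under coprime action (Maschke for pure subgroups).
-/

namespace CfsgLib.PGroup

variable {A : Type*} [CommGroup A] [Finite A] {p : ℕ} [hp : Fact p.Prime]

/-- In an abelian group of exponent dividing `p ^ (e + 1)`, a subgroup in which every element killed
by `p ^ e` is a `p`-th power (of one of its elements) is a direct summand. -/
theorem exists_complement_of_free {e : ℕ} (hexp : ∀ a : A, a ^ p ^ (e + 1) = 1) (B : Subgroup A)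
    (hfree : ∀ b ∈ B, b ^ p ^ e = 1 → ∃ b₀ ∈ B, b₀ ^ p = b) :
    ∃ C : Subgroup A, B ⊓ C = ⊥ ∧ B ⊔ C = ⊤ := by
  obtain ⟨C, hC, hmax⟩ := WellFounded.has_min (wellFounded_gt (α := Subgroup A))
    {C | B ⊓ C = ⊥} ⟨⊥, inf_bot_eq _⟩
  refine ⟨C, hC, eq_top_iff.2 fun a0 _ => by_contra fun ha0 => ?_⟩
  obtain ⟨j, hj, hjp⟩ := CfsgLib.Solvable.exists_notMem_pow_mem (p := p)
    (fun a => ⟨e + 1, hexp a⟩) ha0
  obtain ⟨a, haeq⟩ : ∃ a, a0 ^ p ^ j = a := ⟨_, rfl⟩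
  rw [haeq] at hj hjp
  obtain ⟨b, hb, c, hc, hbc⟩ := Subgroup.mem_sup.1 hjp
  have h1 : b ^ p ^ e = 1 := by
    have h2 : b ^ p ^ e * c ^ p ^ e = 1 := by
      rw [← mul_pow, hbc, ← pow_mul, ← pow_succ', hexp]
    have h3 : b ^ p ^ e ∈ B ⊓ C :=
      ⟨pow_mem hb _, eq_inv_of_mul_eq_one_left h2 ▸ C.inv_mem (pow_mem hc _)⟩
    rwa [hC, Subgroup.mem_bot] at h3
  obtain ⟨b₀, hb₀, rfl⟩ := hfree b hb h1
  have ha' : (a * b₀⁻¹) ^ p = c := by rw [mul_pow, ← hbc, inv_pow, mul_comm (b₀ ^ p), mul_inv_cancel_right]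
  have ha'not : a * b₀⁻¹ ∉ B ⊔ C := fun h => hj (by
    simpa using (B ⊔ C).mul_mem h (Subgroup.mem_sup_left hb₀))
  have hlt : C < C ⊔ Subgroup.zpowers (a * b₀⁻¹) := left_lt_sup.2 fun h =>
    ha'not (Subgroup.mem_sup_right (h (Subgroup.mem_zpowers _)))
  have hne : B ⊓ (C ⊔ Subgroup.zpowers (a * b₀⁻¹)) ≠ ⊥ := fun h => hmax _ h hlt
  obtain ⟨b', hb', hb'1⟩ : ∃ b', b' ∈ B ⊓ (C ⊔ Subgroup.zpowers (a * b₀⁻¹)) ∧ b' ≠ 1 := by
    by_contra h
    push Not at h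
    exact hne ((Subgroup.eq_bot_iff_forall _).2 h)
  obtain ⟨c', hc', w, hw, hcw⟩ := Subgroup.mem_sup.1 hb'.2
  obtain ⟨i, rfl⟩ := hw
  by_cases hi : (p : ℤ) ∣ i
  · obtain ⟨k, rfl⟩ := hi
    refine hb'1 (Subgroup.mem_bot.1 (hC ▸ (⟨hb'.1, ?_⟩ : b' ∈ B ⊓ C)))
    rw [SetLike.mem_coe, ← hcw]
    simp only [zpow_mul, zpow_natCast, ha']
    exact C.mul_mem hc' (C.zpow_mem hc k)
  · obtain ⟨u, v, huv⟩ := ((Nat.prime_iff_prime_int.1 hp.out).coprime_iff_not_dvd.2 hi).symm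
    refine ha'not ?_
    have h5 : (a * b₀⁻¹) ^ i ∈ B ⊔ C := by
      rw [show (a * b₀⁻¹) ^ i = c'⁻¹ * b' by rw [← hcw, inv_mul_cancel_left]]
      exact Subgroup.mul_mem _ (Subgroup.mem_sup_right (C.inv_mem hc')) (Subgroup.mem_sup_left hb'.1)
    have h6 : (a * b₀⁻¹) ^ (p : ℤ) ∈ B ⊔ C := by
      rw [zpow_natCast, ha']; exact Subgroup.mem_sup_right hc
    have h7 := Subgroup.mul_mem _ (Subgroup.zpow_mem _ h5 u) (Subgroup.zpow_mem _ h6 v)
    rwa [← zpow_mul, ← zpow_mul, ← zpow_add, mul_comm i, mul_comm (p : ℤ), huv, zpow_one] at h7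

/-- A coprime group of automorphisms leaving a summand invariant leaves some complement
invariant. -/
theorem exists_invariant_complement {X : Type*} [Group X] [Finite X] (ρ : X →* MulAut A)
    (hcop : (Nat.card X).Coprime (Monoid.exponent A)) (B : Subgroup A)
    (hB : ∀ x, ∀ b ∈ B, ρ x b ∈ B) (C₀ : Subgroup A) (h₀ : B ⊓ C₀ = ⊥) (h₁ : B ⊔ C₀ = ⊤) :
    ∃ C : Subgroup A, (∀ x, ∀ c ∈ C, ρ x c ∈ C) ∧ B ⊓ C = ⊥ ∧ B ⊔ C = ⊤ := by
  classical
  haveI := Fintype.ofFinite X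
  obtain ⟨π, hπB, hπid⟩ : ∃ π : A →* A, (∀ a, π a ∈ B) ∧ ∀ b ∈ B, π b = b := by
    let f : B × C₀ →* A := MonoidHom.coprod B.subtype C₀.subtype
    have hf : Function.Bijective f := by
      refine ⟨(injective_iff_map_eq_one f).2 ?_, fun a => ?_⟩
      · rintro ⟨b, c⟩ hbc
        have hbc' : (b : A) * c = 1 := hbc
        have h3 : (b : A) ∈ B ⊓ C₀ := ⟨b.2, eq_inv_of_mul_eq_one_left hbc' ▸ C₀.inv_mem c.2⟩
        rw [h₀, Subgroup.mem_bot] at h3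
        rw [h3, one_mul] at hbc'
        exact Prod.ext (OneMemClass.coe_eq_one.1 h3) (OneMemClass.coe_eq_one.1 hbc')
      · obtain ⟨b, hb, c, hc, hbc⟩ := Subgroup.mem_sup.1 (h₁ ▸ Subgroup.mem_top a)
        exact ⟨(⟨b, hb⟩, ⟨c, hc⟩), hbc⟩
    let e := MulEquiv.ofBijective f hf
    refine ⟨B.subtype.comp ((MonoidHom.fst _ _).comp e.symm.toMonoidHom), fun a => Subtype.coe_prop _, fun b hb => ?_⟩
    have : e.symm b = (⟨b, hb⟩, 1) := e.symm_apply_eq.2 (show b = f (⟨b, hb⟩, 1) by simp [f])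
    simp [this]
  obtain ⟨m, -, hm⟩ := Nat.exists_mul_mod_eq_of_coprime 1 hcop Monoid.exponent_ne_zero_of_finite
  let F : A →* A := (powMonoidHom m).comp (∏ x : X, ((ρ x).toMonoidHom.comp (π.comp (ρ x⁻¹).toMonoidHom)))
  have hF : ∀ a, F a = (∏ x : X, ρ x (π (ρ x⁻¹ a))) ^ m := fun a => by
    simp [F, MonoidHom.finsetProd_apply, Finset.prod_pow]
  have hFB : ∀ a, F a ∈ B := fun a => by
    rw [hF]; exact pow_mem (Subgroup.prod_mem _ fun x _ => hB x _ (hπB _)) m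
  have hFid : ∀ b ∈ B, F b = b := by
    intro b hb
    rw [hF, Finset.prod_congr rfl fun x _ => show ρ x (π (ρ x⁻¹ b)) = b by
      rw [hπid _ (hB _ b hb), ← MulAut.mul_apply, ← map_mul, mul_inv_cancel, map_one]; rfl,
      Finset.prod_const, Finset.card_univ, ← Nat.card_eq_fintype_card, ← pow_mul,
      ← pow_mod_orderOf, ← Nat.mod_mod_of_dvd _ (Monoid.order_dvd_exponent b), hm,
      Nat.mod_mod_of_dvd _ (Monoid.order_dvd_exponent b), pow_mod_orderOf, pow_one]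
  have hFeq : ∀ y a, F (ρ y a) = ρ y (F a) := by
    intro y a
    rw [hF, hF, map_pow, map_prod]
    congr 1
    refine Fintype.prod_equiv (Equiv.mulLeft y⁻¹) _ _ fun x => ?_
    simp only [Equiv.coe_mulLeft, mul_inv_rev, inv_inv, map_mul, MulAut.mul_apply]
    simp [map_inv]
  refine ⟨F.ker, fun x c hc => by rw [MonoidHom.mem_ker, hFeq, hc, map_one], ?_, ?_⟩
  · rw [eq_bot_iff]
    rintro b ⟨hb, hb'⟩
    rw [Subgroup.mem_bot, ← hFid b hb]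
    exact hb'
  · rw [eq_top_iff]
    intro a _
    refine Subgroup.mem_sup.2 ⟨F a, hFB a, (F a)⁻¹ * a, ?_, mul_inv_cancel_left _ _⟩
    rw [MonoidHom.mem_ker, map_mul, map_inv, hFid _ (hFB a), inv_mul_cancel]

end CfsgLib.PGroup
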