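import Mathlib
import Cfsg.Agent.Lib.PGroup.Counting

/-!
# Groups of exponent two: characters, complements, and a Chevalley-Warning argument
-/

set_option autoImplicit false

namespace CfsgLib.PGroup

variable {Q : Type*} [Group Q] [Finite Q] (h2 : ∀ x : Q, x * x = 1)

include h2

omit [Finite Q] in
theorem exp2_comm (a b : Q) : a * b = b * a := by
  have h := h2 (a * b)
  have ha : a⁻¹ = a := inv_eq_of_mul_eq_one_right (h2 a)
  have hb : b⁻¹ = b := inv_eq_of_mul_eq_one_right (h2 b)
  calc a * b = (a * b)⁻¹ := (inv_eq_of_mul_eq_one_right h).symm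
    _ = b * a := by rw [mul_inv_rev, ha, hb]

omit [Finite Q] in
theorem exp2_normal (U : Subgroup Q) : U.Normal :=
  ⟨fun a ha g => by rw [exp2_comm h2 g a, mul_inv_cancel_right]; exact ha⟩

omit [Finite Q] in
theorem exp2_inv (a : Q) : a⁻¹ = a := inv_eq_of_mul_eq_one_right (h2 a)

/-- Elements outside a subgroup are detected by a character killing it. -/
theorem exp2_exists_char {R : Subgroup Q} {x : Q} (hx : x ∉ R) :
    ∃ μ : Q → ZMod 2, (∀ a b, μ (a * b) = μ a + μ b) ∧ (∀ r ∈ R, μ r = 0) ∧ μ x = 1 := by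
  classical
  obtain ⟨M, hRM, hM⟩ := Finite.exists_le_maximal (p := fun M : Subgroup Q => R ≤ M ∧ x ∉ M) (a := R) ⟨le_rfl, hx⟩
  have key : ∀ y, y ∉ M → x * y ∈ M := by
    intro y hy
    haveI := exp2_normal h2 M
    have hmem : x ∈ M ⊔ Subgroup.zpowers y := by
      by_contra hc
      exact hy (hM.2 ⟨hRM.trans le_sup_left, hc⟩ le_sup_left (Subgroup.mem_sup_right (Subgroup.mem_zpowers y)))
    rw [← SetLike.mem_coe, Subgroup.normal_mul, Set.mem_mul] at hmem
    obtain ⟨m, hm, z, hz, rfl⟩ := hmem
    obtain ⟨i, rfl⟩ := Subgroup.mem_zpowers_iff.1 hz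
    rcases Int.even_or_odd i with ⟨t, rfl⟩ | ⟨t, rfl⟩
    · exfalso
      refine hM.1.2 ?_
      rw [← two_mul, zpow_mul, zpow_two, h2, one_zpow, mul_one]
      exact hm
    · rw [zpow_add, zpow_mul, zpow_two, h2, one_zpow, one_mul, zpow_one, mul_assoc, h2, mul_one]
      exact hm
  refine ⟨fun y => if y ∈ M then 0 else 1, fun a b => ?_, fun r hr => if_pos (hRM hr), if_neg hM.1.2⟩
  by_cases ha : a ∈ M <;> by_cases hb : b ∈ M
  · simp [ha, hb, M.mul_mem ha hb]
  · simp [ha, hb, M.mul_mem_cancel_left ha]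
  · simp [ha, hb, M.mul_mem_cancel_right hb]
  · have hab : a * b ∈ M := by
      have h := M.mul_mem (M.inv_mem (key a ha)) (key b hb)
      rwa [mul_inv_rev, exp2_inv h2 a, exp2_inv h2 x, mul_assoc, ← mul_assoc x, h2, one_mul] at h
    simp [ha, hb, hab, show (1 : ZMod 2) + 1 = 0 from rfl]

/-- A list of characters cutting `R` out of `K`. -/
theorem exp2_exists_chars (R : Subgroup Q) (n : ℕ) : ∀ K : Subgroup Q, Nat.card K ≤ n → R ≤ K →
    ∃ k, 2 ^ k * Nat.card R = Nat.card K ∧ ∃ l : Fin k → Q → ZMod 2, (∀ i a b, l i (a * b) = l i a + l i b) ∧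
      (∀ i, ∀ r ∈ R, l i r = 0) ∧ ∀ y ∈ K, (∀ i, l i y = 0) → y ∈ R := by
  induction n with
  | zero => intro K hK; exact absurd hK (not_le.2 Nat.card_pos)
  | succ n ih =>
    intro K hK hRK
    rcases hRK.eq_or_lt with rfl | hlt
    · exact ⟨0, by simp, fun i => i.elim0, fun i => i.elim0, fun i => i.elim0, fun y hy _ => hy⟩
    obtain ⟨x, hxK, hxR⟩ := SetLike.exists_of_lt hlt
    obtain ⟨μ, hadd, hR, hx⟩ := exp2_exists_char h2 hxR
    have h0 : μ 1 = 0 := hR 1 R.one_mem
    let K' : Subgroup Q :=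
      { carrier := {y | y ∈ K ∧ μ y = 0}
        one_mem' := ⟨K.one_mem, h0⟩
        mul_mem' := fun {a b} ha hb => ⟨K.mul_mem ha.1 hb.1, by rw [hadd, ha.2, hb.2, add_zero]⟩
        inv_mem' := fun {a} ha => by rw [Set.mem_setOf_eq, exp2_inv h2 a]; exact ha }
    have hdouble : 2 * Nat.card K' = Nat.card K := by
      have e : K' × Fin 2 ≃ K := Equiv.ofBijective (fun u => ⟨if u.2 = 0 then (u.1 : Q) else u.1 * x, by
          split_ifs
          · exact u.1.2.1
          · exact K.mul_mem u.1.2.1 hxK⟩) ⟨fun u v huv => by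
            have h := congrArg Subtype.val huv
            obtain ⟨⟨a, ha⟩, i⟩ := u
            obtain ⟨⟨b, hb⟩, j⟩ := v
            have hmu := congrArg μ h
            have ha' : μ a = 0 := ha.2
            have hb' : μ b = 0 := hb.2
            fin_cases i <;> fin_cases j <;> simp [hadd, ha', hb', hx] at hmu h ⊢ <;> exact h,
          fun y => by
            obtain ⟨y, hy⟩ := y
            have hz : μ y = 0 ∨ μ y = 1 := by generalize μ y = z; revert z; decide
            rcases hz with hz | hz
            · exact ⟨(⟨y, hy, hz⟩, 0), rfl⟩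
            · refine ⟨(⟨y * x, K.mul_mem hy hxK, by rw [hadd, hz, hx]; rfl⟩, 1), Subtype.ext ?_⟩
              simp [mul_assoc, h2]⟩
      rw [← Nat.card_congr e, Nat.card_prod, Nat.card_fin, mul_comm]
    have hK' : Nat.card K' ≤ n := by
      have : 0 < Nat.card K' := Nat.card_pos
      omega
    obtain ⟨k, hk, l, hl, hlR, hlsep⟩ := ih K' hK' (fun r hr => ⟨hRK hr, hR r hr⟩)
    refine ⟨k + 1, by rw [pow_succ, mul_comm (2 ^ k) 2, mul_assoc, hk, hdouble], Fin.cons μ l,
      fun i a b => ?_, fun i r hr => ?_, fun y hy hall => ?_⟩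
    · refine Fin.cases ?_ (fun i => ?_) i
      · simpa using hadd a b
      · simpa using hl i a b
    · refine Fin.cases ?_ (fun i => ?_) i
      · simpa using hR r hr
      · simpa using hlR i r hr
    · refine hlsep y ⟨hy, by simpa using hall 0⟩ fun i => ?_
      simpa using hall i.succ

/-- A subgroup meeting `W` trivially extends to a complement. -/
theorem exp2_exists_complement {W U₀ : Subgroup Q} (h : U₀ ⊓ W = ⊥) :
    ∃ U : Subgroup Q, U₀ ≤ U ∧ U ⊓ W = ⊥ ∧ Nat.card U * Nat.card W = Nat.card Q := by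
  classical
  obtain ⟨U, hU0, hU⟩ := Finite.exists_le_maximal (p := fun U : Subgroup Q => U ⊓ W = ⊥) (a := U₀) h
  refine ⟨U, hU0, hU.1, ?_⟩
  haveI := exp2_normal h2 W
  have htop : U ⊔ W = ⊤ := by
    by_contra hne
    obtain ⟨x, -, hx⟩ := SetLike.exists_of_lt (lt_top_iff_ne_top.2 hne)
    haveI := exp2_normal h2 U
    refine hx (Subgroup.mem_sup_left ((hU.2 (y := U ⊔ Subgroup.zpowers x) ?_ le_sup_left)
      (Subgroup.mem_sup_right (Subgroup.mem_zpowers x))))
    show (U ⊔ Subgroup.zpowers x) ⊓ W = ⊥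
    rw [eq_bot_iff]
    rintro w ⟨hwU, hwW⟩
    change w ∈ U ⊔ Subgroup.zpowers x at hwU
    rw [← SetLike.mem_coe, Subgroup.normal_mul, Set.mem_mul] at hwU
    obtain ⟨u, hu, z, hz, rfl⟩ := hwU
    obtain ⟨i, rfl⟩ := Subgroup.mem_zpowers_iff.1 hz
    rcases Int.even_or_odd i with ⟨t, rfl⟩ | ⟨t, rfl⟩
    · rw [← two_mul, zpow_mul, zpow_two, h2, one_zpow, mul_one] at hwW ⊢
      exact hU.1 ▸ (⟨hu, hwW⟩ : u ∈ U ⊓ W)
    · rw [zpow_add, zpow_mul, zpow_two, h2, one_zpow, one_mul, zpow_one] at hwW
      exfalso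
      refine hx ?_
      have := Subgroup.mul_mem_sup (U.inv_mem hu) hwW
      rwa [inv_mul_cancel_left] at this
  have e := card_setMul_mul_card_inf U W
  rw [← Subgroup.mul_normal] at e
  change Nat.card ↥(U ⊔ W) * Nat.card ↥(U ⊓ W) = Nat.card U * Nat.card W at e
  rw [htop, hU.1, Subgroup.card_top, Subgroup.card_bot, mul_one] at e
  exact e.symm

end CfsgLib.PGroup

namespace CfsgLib.PGroup

/-- Degree at most `d` for functions to `ZMod 2`, by iterated differences. -/
inductive DegLE {Q : Type*} [Group Q] : ℕ → (Q → ZMod 2) → Prop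
  | const (d : ℕ) (c : ZMod 2) : DegLE d (fun _ => c)
  | diff {d : ℕ} {f : Q → ZMod 2} : (∀ a, DegLE d (fun v => f (v * a) + f v)) → DegLE (d + 1) f

variable {Q : Type*} [Group Q]

theorem DegLE.mono {d e : ℕ} {f : Q → ZMod 2} (h : DegLE d f) (hde : d ≤ e) : DegLE e f := by
  induction h generalizing e with
  | const d c => exact .const e c
  | diff _ ih =>
    obtain ⟨e, rfl⟩ := Nat.exists_eq_add_of_le hde
    rw [Nat.add_right_comm]
    exact .diff fun a => ih a (Nat.le_add_right _ _)

theorem DegLE.eq_const {d : ℕ} {f : Q → ZMod 2} (h : DegLE d f) (hd : d = 0) : ∀ v, f v = f 1 := by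
  cases h with
  | const _ c => exact fun v => rfl
  | diff _ => omega

theorem DegLE.diff_of {d : ℕ} {f : Q → ZMod 2} (h : DegLE (d + 1) f) (a : Q) :
    DegLE d (fun v => f (v * a) + f v) := by
  cases h with
  | const _ c =>
    simp only [CharTwo.add_self_eq_zero]
    exact .const _ 0
  | diff hf => exact hf a

theorem DegLE.add {d : ℕ} {f g : Q → ZMod 2} (hf : DegLE d f) (hg : DegLE d g) :
    DegLE d (fun v => f v + g v) := by
  induction d generalizing f g with
  | zero =>
    rw [show (fun v => f v + g v) = fun _ => f 1 + g 1 from funext fun v => by rw [hf.eq_const rfl v, hg.eq_const rfl v]]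
    exact .const _ _
  | succ d ih =>
    refine .diff fun a => ?_
    have h := ih (hf.diff_of a) (hg.diff_of a)
    convert h using 2 with v
    ring

theorem DegLE.shift {d : ℕ} {f : Q → ZMod 2} (hf : DegLE d f) (a : Q) : DegLE d (fun v => f (v * a)) := by
  cases d with
  | zero =>
    rw [show (fun v => f (v * a)) = fun _ => f 1 from funext fun v => hf.eq_const rfl _]
    exact .const _ _
  | succ d =>
    have h := DegLE.add hf ((hf.diff_of a).mono (Nat.le_succ d))
    convert h using 2 with v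
    linear_combination (-(f v)) * CharTwo.two_eq_zero (R := ZMod 2)

theorem DegLE.mul : ∀ (n : ℕ) {d e : ℕ} {f g : Q → ZMod 2}, d + e = n → DegLE d f → DegLE e g →
    DegLE n (fun v => f v * g v) := by
  intro n
  induction n with
  | zero =>
    intro d e f g h hf hg
    rw [show (fun v => f v * g v) = fun _ => f 1 * g 1 from funext fun v => by
      rw [hf.eq_const (by omega) v, hg.eq_const (by omega) v]]
    exact .const _ _
  | succ n ih =>
    intro d e f g h hf hg
    refine .diff fun a => ?_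
    have h1 : DegLE n (fun v => (f (v * a) + f v) * g (v * a)) := by
      cases d with
      | zero =>
        rw [show (fun v => (f (v * a) + f v) * g (v * a)) = fun _ => 0 from funext fun v => by
          rw [hf.eq_const rfl (v * a), hf.eq_const rfl v, CharTwo.add_self_eq_zero, zero_mul]]
        exact .const _ _
      | succ d => exact ih (by omega) (hf.diff_of a) (hg.shift a)
    have h2 : DegLE n (fun v => f v * (g (v * a) + g v)) := by
      cases e with
      | zero =>
        rw [show (fun v => f v * (g (v * a) + g v)) = fun _ => 0 from funext fun v => by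
          rw [hg.eq_const rfl (v * a), hg.eq_const rfl v, CharTwo.add_self_eq_zero, mul_zero]]
        exact .const _ _
      | succ e => exact ih (by omega) hf (hg.diff_of a)
    convert DegLE.add h1 h2 using 2 with v
    linear_combination (-(f v * g (v * a))) * CharTwo.two_eq_zero (R := ZMod 2)

theorem DegLE.comp {Q' : Type*} [Group Q'] {d : ℕ} {f : Q → ZMod 2} (hf : DegLE d f) (φ : Q' →* Q) :
    DegLE d (fun v => f (φ v)) := by
  induction hf with
  | const d c => exact .const d c
  | diff _ ih => exact .diff fun a => by simpa [map_mul] using ih (φ a)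

theorem degLE_char {μ : Q → ZMod 2} (hμ : ∀ a b, μ (a * b) = μ a + μ b) : DegLE 1 μ :=
  .diff fun a => by
    rw [show (fun v => μ (v * a) + μ v) = fun _ => μ a from funext fun v => by
      rw [hμ]; linear_combination (μ v) * CharTwo.two_eq_zero (R := ZMod 2)]
    exact .const _ _

/-- A function of degree less than `n` on a group of exponent two and order `2 ^ n` sums to zero. -/
theorem DegLE.sum_eq_zero : ∀ (n : ℕ) {Q : Type u_1} [Group Q] [Fintype Q], (∀ x : Q, x * x = 1) →
    Fintype.card Q = 2 ^ n → ∀ {d : ℕ} {f : Q → ZMod 2}, DegLE d f → d < n → ∑ v, f v = 0 := by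
  intro n
  induction n with
  | zero => intro Q _ _ _ _ d f _ h; exact absurd h (Nat.not_lt_zero d)
  | succ n ih =>
    intro Q _ _ h2 hc d f hf hdn
    classical
    rcases Nat.eq_zero_or_pos d with rfl | hd0
    · rw [Finset.sum_congr rfl (fun v _ => hf.eq_const rfl v), Finset.sum_const, Finset.card_univ, hc,
        nsmul_eq_mul, pow_succ]
      push_cast
      rw [CharTwo.two_eq_zero (R := ZMod 2), mul_zero, zero_mul]
    obtain ⟨d, rfl⟩ := Nat.exists_eq_succ_of_ne_zero hd0.ne'
    haveI : Nontrivial Q := Fintype.one_lt_card_iff_nontrivial.1 (by rw [hc]; exact Nat.one_lt_pow (by omega) (by norm_num))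
    obtain ⟨x, hx⟩ := exists_ne (1 : Q)
    obtain ⟨μ, hμ, -, hμx⟩ := exp2_exists_char h2 (R := ⊥) (x := x) (by rwa [Subgroup.mem_bot])
    have hμ1 : μ 1 = 0 := by simpa using hμ 1 1
    let H : Subgroup Q :=
      { carrier := {y | μ y = 0}
        one_mem' := hμ1
        mul_mem' := fun {a b} ha hb => by rw [Set.mem_setOf_eq] at *; rw [hμ, ha, hb, add_zero]
        inv_mem' := fun {a} ha => by rw [Set.mem_setOf_eq, exp2_inv h2 a]; exact ha }
    haveI : Fintype H := Fintype.ofFinite H
    have hsum : ∑ v, f v = ∑ v : H, (f ((v : Q) * x) + f v) := by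
      rw [Finset.sum_add_distrib, ← Finset.sum_filter_add_sum_filter_not Finset.univ (fun v => μ v = 0) f, add_comm]
      congr 1
      · refine Finset.sum_bij' (fun v hv => (⟨v * x, ?_⟩ : H)) (fun v _ => (v : Q) * x) ?_ ?_ ?_ ?_ ?_
        · show μ (v * x) = 0
          have hv1 : μ v ≠ 0 := (Finset.mem_filter.1 hv).2
          rw [hμ, hμx]
          revert hv1; generalize μ v = z; revert z; decide
        · intros; simp
        · intro v _
          refine Finset.mem_filter.2 ⟨Finset.mem_univ _, ?_⟩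
          rw [hμ, hμx, show μ (v : Q) = 0 from v.2, zero_add]
          decide
        · intros; simp [mul_assoc, h2]
        · intros; apply Subtype.ext; simp [mul_assoc, h2]
        · intros; simp [mul_assoc, h2]
      · exact Finset.sum_subtype _ (fun v => by simp [H]) f
    rw [hsum]
    refine ih (fun y => Subtype.ext (h2 y)) ?_ ((hf.diff_of x).comp H.subtype) (by omega)
    have hidx : Fintype.card Q = Fintype.card H * 2 := by
      rw [← Fintype.card_fin 2, ← Fintype.card_prod]
      refine Fintype.card_congr (Equiv.ofBijective (fun u : H × Fin 2 => if u.2 = 0 then (u.1 : Q) else u.1 * x) ⟨?_, ?_⟩).symm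
      · rintro ⟨⟨a, ha⟩, i⟩ ⟨⟨b, hb⟩, j⟩ h
        have ha' : μ a = 0 := ha
        have hb' : μ b = 0 := hb
        have hmu := congrArg μ h
        fin_cases i <;> fin_cases j <;> simp [hμ, ha', hb', hμx] at hmu h ⊢ <;> exact h
      · intro y
        have hz : μ y = 0 ∨ μ y = 1 := by generalize μ y = z; revert z; decide
        rcases hz with hz | hz
        · exact ⟨(⟨y, hz⟩, 0), rfl⟩
        · refine ⟨(⟨y * x, show μ (y * x) = 0 by rw [hμ, hz, hμx]; rfl⟩, 1), ?_⟩
          simp [mul_assoc, h2]
    rw [hc, pow_succ] at hidx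
    omega

/-- Chevalley-Warning for a group of exponent two. -/
theorem exp2_chevalley_warning {Q : Type*} [Group Q] [Finite Q] (h2 : ∀ x : Q, x * x = 1) {n : ℕ}
    (hc : Nat.card Q = 2 ^ n) {ι : Type*} (s : Finset ι) (d : ι → ℕ) (f : ι → Q → ZMod 2)
    (hf : ∀ i ∈ s, DegLE (d i) (f i)) (hd : ∑ i ∈ s, d i < n) (h0 : ∀ i ∈ s, f i 1 = 0) :
    ∃ v : Q, v ≠ 1 ∧ ∀ i ∈ s, f i v = 0 := by
  classical
  haveI := Fintype.ofFinite Q
  have hP : DegLE (∑ i ∈ s, d i) (fun v => ∏ i ∈ s, (1 + f i v)) := by
    clear hd h0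
    induction s using Finset.induction_on with
    | empty => simpa using DegLE.const 0 1
    | insert a s ha ih =>
      simp only [Finset.sum_insert ha, Finset.prod_insert ha]
      exact DegLE.mul _ rfl (DegLE.add (DegLE.const _ 1) (hf a (Finset.mem_insert_self _ _)))
        (ih fun i hi => hf i (Finset.mem_insert_of_mem hi))
  have hsum := DegLE.sum_eq_zero n h2 (by rw [← Nat.card_eq_fintype_card, hc]) hP hd
  by_contra! hno
  have hval : ∀ v : Q, (∏ i ∈ s, (1 + f i v)) = if v = 1 then 1 else 0 := by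
    intro v
    split_ifs with hv
    · refine Finset.prod_eq_one fun i hi => ?_
      rw [hv, h0 i hi, add_zero]
    · obtain ⟨i, hi, hne⟩ := hno v hv
      refine Finset.prod_eq_zero hi ?_
      revert hne; generalize f i v = z; revert z; decide
  rw [Finset.sum_congr rfl (fun v _ => hval v), Finset.sum_ite_eq' Finset.univ (1 : Q)] at hsum
  simp at hsum

end CfsgLib.PGroup
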