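import Cfsg.Agent.Lib.PGroup.Basic

/-!
# The groups `G(p, n; s)` of rank two

The third family of Blackburn's classification of the `p`-groups of rank two.
-/

set_option autoImplicit false

namespace CfsgLib.PGroup

open Subgroup
open scoped commutatorElement

variable {G : Type*} [Group G]

/-- The defining relations of `G(p, n; s)` in a group of order `p ^ n`. -/
structure BlackburnThird (p n s : ℕ) (x y z : G) : Prop where
  card : Nat.card G = p ^ n
  hn : 4 ≤ n
  hp5 : 5 ≤ p
  s_ndvd : ¬ p ∣ s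
  gen : closure ({x, y, z} : Set G) = ⊤
  xp : x ^ p = 1
  yp : y ^ p = 1
  zp : z ^ p ^ (n - 2) = 1
  comm : y * z = z * y
  cy : x⁻¹ * y * x = y * z ^ (s * p ^ (n - 3))
  cz : x⁻¹ * z * x = y * z

namespace BlackburnThird

variable [Finite G] {p n s : ℕ} [hp : Fact p.Prime] {x y z : G}

theorem isPGroup (h : BlackburnThird p n s x y z) : IsPGroup p G := IsPGroup.of_card h.card

/-- The centralising powers of `z`. -/
theorem zpow_p_central (h : BlackburnThird p n s x y z) : z ^ p ∈ center G := by
  have hyz : Commute y z := h.comm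
  have hx : x * z ^ p = z ^ p * x := by
    have h1 : x⁻¹ * z ^ p * x = z ^ p := by
      calc x⁻¹ * z ^ p * x = (x⁻¹ * z * x) ^ p := by
            conv_rhs => rw [show x⁻¹ * z * x = x⁻¹ * z * x⁻¹⁻¹ by group, conj_pow]
            group
        _ = y ^ p * z ^ p := by rw [h.cz, hyz.mul_pow]
        _ = z ^ p := by rw [h.yp, one_mul]
    calc x * z ^ p = x * (x⁻¹ * z ^ p * x) := by rw [h1]
      _ = z ^ p * x := by group
  refine mem_center_iff.2 fun g => ?_
  have hle : closure ({x, y, z} : Set G) ≤ centralizer ({z ^ p} : Set G) := by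
    rw [closure_le]
    rintro a (rfl | rfl | rfl)
    · exact mem_centralizer_singleton_iff.2 hx
    · exact mem_centralizer_singleton_iff.2 (hyz.pow_right p).eq
    · exact mem_centralizer_singleton_iff.2 (Commute.self_pow a p).eq
  exact mem_centralizer_singleton_iff.1 (hle (h.gen ▸ mem_top g))

theorem z0_mem_zpowers (h : BlackburnThird p n s x y z) :
    z ^ p ^ (n - 3) ∈ zpowers (z ^ p) := by
  have := h.hn
  rw [show p ^ (n - 3) = p * p ^ (n - 4) by rw [← pow_succ']; congr 1; omega, pow_mul]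
  exact pow_mem (mem_zpowers _) _

theorem z0_central (h : BlackburnThird p n s x y z) : z ^ p ^ (n - 3) ∈ center G :=
  zpowers_le.2 h.zpow_p_central h.z0_mem_zpowers

theorem z0_pow (h : BlackburnThird p n s x y z) : (z ^ p ^ (n - 3)) ^ p = 1 := by
  have := h.hn
  rw [← pow_mul, ← pow_succ, show n - 3 + 1 = n - 2 by omega, h.zp]

omit [Finite G] hp in
theorem mem_abelian_pair (h : BlackburnThird p n s x y z) {m : G}
    (hm : m ∈ closure ({y, z} : Set G)) : ∃ i j : ℤ, m = y ^ i * z ^ j := by
  have hyz : Commute y z := h.comm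
  induction hm using closure_induction with
  | mem a ha =>
    rcases ha with rfl | rfl
    · exact ⟨1, 0, by simp⟩
    · exact ⟨0, 1, by simp⟩
  | one => exact ⟨0, 0, by simp⟩
  | mul a b _ _ ha hb =>
    obtain ⟨i, j, rfl⟩ := ha
    obtain ⟨i', j', rfl⟩ := hb
    exact ⟨i + i', j + j', by
      rw [zpow_add, zpow_add]; exact (hyz.zpow_zpow i' j).symm.mul_mul_mul_comm _ _⟩
  | inv a _ ha =>
    obtain ⟨i, j, rfl⟩ := ha
    exact ⟨-i, -j, by rw [mul_inv_rev, zpow_neg, zpow_neg]; exact (hyz.zpow_zpow i j).inv_inv.symm.eq⟩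

omit [Finite G] hp in
theorem commute_pair (h : BlackburnThird p n s x y z) {a b : G}
    (ha : a ∈ closure ({y, z} : Set G)) (hb : b ∈ closure ({y, z} : Set G)) : Commute a b := by
  have hyz : Commute y z := h.comm
  obtain ⟨i, j, rfl⟩ := h.mem_abelian_pair ha
  obtain ⟨i', j', rfl⟩ := h.mem_abelian_pair hb
  exact Commute.mul_left
    (Commute.mul_right ((Commute.refl y).zpow_zpow i i') (hyz.zpow_zpow i j'))
    (Commute.mul_right (hyz.symm.zpow_zpow j i') ((Commute.refl z).zpow_zpow j j'))

omit hp in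
theorem normal_pair (h : BlackburnThird p n s x y z) : (closure ({y, z} : Set G)).Normal := by
  set M := closure ({y, z} : Set G) with hM
  have hy : y ∈ M := subset_closure (Set.mem_insert _ _)
  have hz : z ∈ M := subset_closure (Set.mem_insert_of_mem _ (Set.mem_singleton z))
  have hx : x⁻¹ ∈ normalizer (M : Set G) := by
    have hle : M.map (MulAut.conj x⁻¹).toMonoidHom ≤ M := by
      rw [map_le_iff_le_comap, hM, closure_le]
      rintro a (rfl | rfl)
      · show x⁻¹ * a * x⁻¹⁻¹ ∈ M
        rw [inv_inv, h.cy]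
        exact mul_mem hy (pow_mem hz _)
      · show x⁻¹ * a * x⁻¹⁻¹ ∈ M
        rw [inv_inv, h.cz]
        exact mul_mem hy hz
    have heq := eq_of_le_of_card_ge hle
      (by rw [card_map_of_injective (MulAut.conj x⁻¹).injective])
    rw [mem_normalizer_iff]
    intro a
    constructor
    · exact fun ha => hle ⟨a, ha, rfl⟩
    · intro ha
      obtain ⟨b, hb, hb'⟩ := heq.ge ha
      rwa [(MulAut.conj x⁻¹).injective (show MulAut.conj x⁻¹ b = MulAut.conj x⁻¹ a from hb')] at hb
  rw [← normalizer_eq_top_iff, eq_top_iff, ← h.gen, closure_le]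
  rintro a (rfl | rfl | rfl)
  · simpa using inv_mem hx
  · exact le_normalizer hy
  · exact le_normalizer hz

/-- Every element is a power of `x` times an element of the abelian maximal subgroup. -/
theorem exists_mul_pow (h : BlackburnThird p n s x y z) (g : G) :
    ∃ m ∈ closure ({y, z} : Set G), ∃ i : ℕ, g = m * x ^ i := by
  have := h.normal_pair
  set M := closure ({y, z} : Set G) with hM
  have htop : M ⊔ zpowers x = ⊤ := by
    rw [eq_top_iff, ← h.gen, closure_le]
    rintro a (rfl | rfl | rfl)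
    · exact mem_sup_right (mem_zpowers a)
    · exact mem_sup_left (subset_closure (Set.mem_insert _ _))
    · exact mem_sup_left (subset_closure (Set.mem_insert_of_mem _ (Set.mem_singleton a)))
  have hg : g ∈ M ⊔ zpowers x := htop ▸ mem_top g
  rw [← SetLike.mem_coe, normal_mul, Set.mem_mul] at hg
  obtain ⟨m, hm, w, hw, rfl⟩ := hg
  obtain ⟨i, rfl⟩ := ((isOfFinOrder_of_finite x).mem_powers_iff_mem_zpowers.2 hw)
  exact ⟨m, hm, i, rfl⟩

theorem orders (h : BlackburnThird p n s x y z) :
    orderOf z = p ^ (n - 2) ∧ y ∉ zpowers z ∧ Nat.card (closure ({y, z} : Set G)) = p ^ (n - 1) ∧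
      x ∉ closure ({y, z} : Set G) := by
  have hn := h.hn
  have := h.normal_pair
  set M := closure ({y, z} : Set G) with hM
  have hyz : Commute y z := h.comm
  have hz : orderOf z ≤ p ^ (n - 2) :=
    Nat.le_of_dvd (pow_pos hp.out.pos _) (orderOf_dvd_of_pow_eq_one h.zp)
  have hy : orderOf y ≤ p := Nat.le_of_dvd hp.out.pos (orderOf_dvd_of_pow_eq_one h.yp)
  have hMy : Nat.card M ≤ orderOf y * orderOf z := by
    rw [← Nat.card_zpowers, ← Nat.card_zpowers, ← Nat.card_prod]
    refine Nat.card_le_card_of_surjective (fun v : zpowers y × zpowers z =>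
      (⟨(v.1 : G) * v.2, mul_mem ((zpowers_le.2 (subset_closure (Set.mem_insert _ _))) v.1.2)
        ((zpowers_le.2 (subset_closure (Set.mem_insert_of_mem _ (Set.mem_singleton z)))) v.2.2)⟩ : M))
      fun m => ?_
    obtain ⟨i, j, hij⟩ := h.mem_abelian_pair m.2
    exact ⟨(⟨y ^ i, zpow_mem_zpowers y i⟩, ⟨z ^ j, zpow_mem_zpowers z j⟩), Subtype.ext hij.symm⟩
  have hGM : p ^ n ≤ Nat.card M * orderOf x := by
    rw [← h.card, ← Nat.card_zpowers, ← Nat.card_prod]
    refine Nat.card_le_card_of_surjective (fun v : M × zpowers x => (v.1 : G) * v.2) fun g => ?_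
    obtain ⟨m, hm, i, rfl⟩ := h.exists_mul_pow g
    exact ⟨(⟨m, hm⟩, ⟨x ^ i, pow_mem (mem_zpowers x) i⟩), rfl⟩
  have hx : orderOf x ≤ p := Nat.le_of_dvd hp.out.pos (orderOf_dvd_of_pow_eq_one h.xp)
  have hp1 : p ^ (n - 1) = p * p ^ (n - 2) := by rw [← pow_succ']; congr 1; omega
  have hp0 : p ^ n = p ^ (n - 1) * p := by rw [← pow_succ]; congr 1; omega
  have hM' : Nat.card M ≤ p ^ (n - 1) := hp1 ▸ hMy.trans (Nat.mul_le_mul hy hz)
  have hMe : Nat.card M = p ^ (n - 1) := le_antisymm hM' (by
    rw [hp0] at hGM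
    exact Nat.le_of_mul_le_mul_right (hGM.trans (Nat.mul_le_mul_left _ hx)) hp.out.pos)
  refine ⟨le_antisymm hz ?_, fun hyz' => ?_, hMe, fun hxM => ?_⟩
  · rw [hMe, hp1] at hMy
    exact Nat.le_of_mul_le_mul_left (hMy.trans (Nat.mul_le_mul_right _ hy)) hp.out.pos
  · have hle : M ≤ zpowers z := (closure_le _).2 (Set.insert_subset hyz'
      (Set.singleton_subset_iff.2 (mem_zpowers z)))
    have h1 := card_le_of_le hle
    rw [hMe, Nat.card_zpowers] at h1
    have := (Nat.pow_le_pow_iff_right hp.out.one_lt).1 (h1.trans hz)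
    omega
  · have hle : (⊤ : Subgroup G) ≤ M := fun g _ => by
      obtain ⟨m, hm, i, rfl⟩ := h.exists_mul_pow g
      exact mul_mem hm (pow_mem hxM i)
    have h1 := card_le_of_le hle
    rw [card_top, h.card, hMe] at h1
    have := (Nat.pow_le_pow_iff_right hp.out.one_lt).1 h1
    omega

theorem index_pair (h : BlackburnThird p n s x y z) :
    (closure ({y, z} : Set G)).index = p := by
  have h1 := (closure ({y, z} : Set G)).card_mul_index
  have := h.hn
  rw [h.orders.2.2.1, h.card, show p ^ n = p ^ (n - 1) * p by rw [← pow_succ]; congr 1; omega] at h1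
  exact Nat.eq_of_mul_eq_mul_left (pow_pos hp.out.pos _) h1

theorem pow_x_mem_pair (h : BlackburnThird p n s x y z) {i : ℕ} :
    x ^ i ∈ closure ({y, z} : Set G) ↔ p ∣ i := by
  constructor
  · intro hi
    by_contra hd
    obtain ⟨j, hj⟩ := exists_pow_eq_self_of_coprime (x := x) (n := i) (by
      rw [Nat.coprime_comm]
      exact Nat.Coprime.coprime_dvd_left (orderOf_dvd_of_pow_eq_one h.xp)
        (hp.out.coprime_iff_not_dvd.2 hd))
    exact h.orders.2.2.2 (hj ▸ pow_mem hi j)
  · rintro ⟨k, rfl⟩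
    rw [pow_mul, h.xp, one_pow]
    exact one_mem _

/-- The exponents of an element of the central subgroup `⟨z ^ p⟩`. -/
theorem mem_zpowers_p_iff (h : BlackburnThird p n s x y z) {i j : ℤ} :
    y ^ i * z ^ j ∈ zpowers (z ^ p) ↔ (p : ℤ) ∣ i ∧ (p : ℤ) ∣ j := by
  constructor
  · rintro ⟨k, hk⟩
    change (z ^ p) ^ k = y ^ i * z ^ j at hk
    rw [← zpow_natCast, ← zpow_mul] at hk
    have hyi : y ^ i = z ^ ((p : ℤ) * k - j) := by
      rw [zpow_sub, hk, mul_inv_cancel_right]
    have hi : (p : ℤ) ∣ i := by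
      by_contra hd
      obtain ⟨a, b, hab⟩ := (Nat.prime_iff_prime_int.1 hp.out).coprime_iff_not_dvd.2 hd
      refine h.orders.2.1 ?_
      have : y = (y ^ (p : ℤ)) ^ a * (y ^ i) ^ b := by
        rw [← zpow_mul, ← zpow_mul, ← zpow_add, mul_comm _ a, mul_comm i b, hab, zpow_one]
      rw [this, zpow_natCast, h.yp, one_zpow, one_mul, hyi]
      exact zpow_mem (zpow_mem (mem_zpowers z) _) _
    refine ⟨hi, ?_⟩
    obtain ⟨a, rfl⟩ := hi
    rw [zpow_mul, zpow_natCast, h.yp, one_zpow] at hyi
    have hd := orderOf_dvd_iff_zpow_eq_one.2 hyi.symm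
    rw [h.orders.1] at hd
    have := h.hn
    have : (p : ℤ) ∣ (p : ℤ) * k - j :=
      dvd_trans (by exact_mod_cast dvd_pow_self p (by omega : n - 2 ≠ 0)) hd
    exact (dvd_sub_right (dvd_mul_right _ _)).1 this
  · rintro ⟨⟨a, rfl⟩, ⟨b, rfl⟩⟩
    rw [zpow_mul, zpow_mul, zpow_natCast, zpow_natCast, h.yp, one_zpow, one_mul]
    exact zpow_mem (mem_zpowers _) b

theorem card_zpowers_p (h : BlackburnThird p n s x y z) :
    Nat.card (zpowers (z ^ p)) = p ^ (n - 3) := by
  have := h.hn
  rw [Nat.card_zpowers, orderOf_pow, h.orders.1, show n - 2 = n - 3 + 1 by omega, pow_succ,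
    Nat.gcd_eq_right (Dvd.intro_left _ rfl), Nat.mul_div_cancel _ hp.out.pos]

theorem normal_small (h : BlackburnThird p n s x y z) :
    (closure ({y, z ^ p ^ (n - 3)} : Set G)).Normal := by
  set Y := closure ({y, z ^ p ^ (n - 3)} : Set G) with hY
  have hyY : y ∈ Y := subset_closure (Set.mem_insert _ _)
  have hz0 : z ^ p ^ (n - 3) ∈ Y := subset_closure (Set.mem_insert_of_mem _ (Set.mem_singleton _))
  have hle : Y.map (MulAut.conj x⁻¹).toMonoidHom ≤ Y := by
    rw [map_le_iff_le_comap, hY, closure_le]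
    rintro a (rfl | rfl)
    · show x⁻¹ * a * x⁻¹⁻¹ ∈ Y
      rw [inv_inv, h.cy, mul_comm s, pow_mul]
      exact mul_mem hyY (pow_mem hz0 _)
    · show x⁻¹ * z ^ p ^ (n - 3) * x⁻¹⁻¹ ∈ Y
      rw [mem_center_iff.1 h.z0_central x⁻¹, mul_inv_cancel_right]
      exact hz0
  have heq := eq_of_le_of_card_ge hle (by rw [card_map_of_injective (MulAut.conj x⁻¹).injective])
  have hx : x⁻¹ ∈ normalizer (Y : Set G) := by
    rw [mem_normalizer_iff]
    intro a
    constructor
    · exact fun ha => hle ⟨a, ha, rfl⟩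
    · intro ha
      obtain ⟨b, hb, hb'⟩ := heq.ge ha
      rwa [(MulAut.conj x⁻¹).injective (show MulAut.conj x⁻¹ b = MulAut.conj x⁻¹ a from hb')] at hb
  have hc : ∀ a ∈ closure ({y, z} : Set G), a ∈ normalizer (Y : Set G) := by
    intro a ha
    have hYM : Y ≤ closure ({y, z} : Set G) := (closure_le _).2 (Set.insert_subset
      (subset_closure (Set.mem_insert _ _)) (Set.singleton_subset_iff.2
        (pow_mem (subset_closure (Set.mem_insert_of_mem _ (Set.mem_singleton z))) _)))
    rw [mem_normalizer_iff]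
    intro b
    constructor
    · intro hb
      rwa [(h.commute_pair ha (hYM hb)).eq, mul_inv_cancel_right]
    · intro hb
      have h1 := (h.commute_pair (inv_mem ha) (hYM hb)).eq
      have h2 : b = a * b * a⁻¹ := by
        calc b = a⁻¹ * (a * b * a⁻¹) * a := by group
          _ = a * b * a⁻¹ := by rw [h1, inv_mul_cancel_right]
      rwa [h2]
  rw [← normalizer_eq_top_iff, eq_top_iff, ← h.gen, closure_le]
  rintro a (rfl | rfl | rfl)
  · simpa using inv_mem hx
  · exact hc _ (subset_closure (Set.mem_insert _ _))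
  · exact hc _ (subset_closure (Set.mem_insert_of_mem _ (Set.mem_singleton a)))

/-- All commutators lie in `⟨y, z ^ p ^ (n - 3)⟩`. -/
theorem commutator_mem_small (h : BlackburnThird p n s x y z) (g g' : G) :
    ⁅g, g'⁆ ∈ closure ({y, z ^ p ^ (n - 3)} : Set G) := by
  have := h.normal_small
  set Y := closure ({y, z ^ p ^ (n - 3)} : Set G) with hY
  set π := QuotientGroup.mk' Y
  have hy : π y = 1 := (QuotientGroup.eq_one_iff _).2 (subset_closure (Set.mem_insert _ _))
  have hxz : Commute (π x) (π z) := by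
    have h1 := congrArg π h.cz
    simp only [map_mul, map_inv, hy, one_mul] at h1
    show π x * π z = π z * π x
    calc π x * π z = π x * ((π x)⁻¹ * π z * π x) := by rw [h1]
      _ = π z * π x := by group
  have hcl : closure ({π x, π y, π z} : Set (G ⧸ Y)) = ⊤ := by
    have h1 := congrArg (Subgroup.map π) h.gen
    rwa [MonoidHom.map_closure, Set.image_insert_eq, Set.image_insert_eq, Set.image_singleton,
      map_top_of_surjective _ (QuotientGroup.mk'_surjective Y)] at h1
  have hcen : center (G ⧸ Y) = ⊤ := by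
    rw [eq_top_iff, ← hcl, closure_le]
    intro a ha
    refine mem_center_iff.2 fun q => (mem_centralizer_singleton_iff.1
      ((show closure ({π x, π y, π z} : Set (G ⧸ Y)) ≤ centralizer ({a} : Set (G ⧸ Y)) from ?_)
        (hcl ▸ mem_top q)))
    rw [closure_le]
    rintro b hb
    refine mem_centralizer_singleton_iff.2 ?_
    rcases ha with rfl | rfl | rfl <;> rcases hb with rfl | rfl | rfl <;>
      simp [hy, hxz.eq]
  rw [← QuotientGroup.eq_one_iff]
  show π ⁅g, g'⁆ = 1
  rw [map_commutatorElement, commutatorElement_eq_one_iff_mul_comm]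
  exact mem_center_iff.1 (hcen ▸ mem_top (π g')) (π g)

/-- Commutators with `⟨y, z ^ p ^ (n - 3)⟩` lie in `⟨z ^ p ^ (n - 3)⟩`. -/
theorem commutator_small_mem (h : BlackburnThird p n s x y z) (g : G) {a : G}
    (ha : a ∈ closure ({y, z ^ p ^ (n - 3)} : Set G)) : ⁅g, a⁆ ∈ zpowers (z ^ p ^ (n - 3)) := by
  set Z := zpowers (z ^ p ^ (n - 3)) with hZ
  have hZc : Z ≤ center G := zpowers_le.2 h.z0_central
  have : Z.Normal := ⟨fun w hw b => by
    rwa [mem_center_iff.1 (hZc hw) b, mul_inv_cancel_right]⟩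
  set π := QuotientGroup.mk' Z
  have hz0 : π (z ^ p ^ (n - 3)) = 1 := (QuotientGroup.eq_one_iff _).2 (mem_zpowers _)
  have hxy : Commute (π x) (π y) := by
    have h1 := congrArg π h.cy
    rw [mul_comm s, pow_mul, map_mul, map_mul, map_inv, map_mul, map_pow π _ s, hz0, one_pow,
      mul_one] at h1
    show π x * π y = π y * π x
    calc π x * π y = π x * ((π x)⁻¹ * π y * π x) := by rw [h1]
      _ = π y * π x := by group
  have hc : closure ({x, y, z} : Set G) ≤
      (centralizer ({π y} : Set (G ⧸ Z))).comap π := by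
    rw [closure_le]
    rintro b (rfl | rfl | rfl)
    · exact mem_centralizer_singleton_iff.2 hxy.eq
    · exact mem_centralizer_singleton_iff.2 rfl
    · exact mem_centralizer_singleton_iff.2 ((show Commute y b from h.comm).symm.map π).eq
  rw [← QuotientGroup.eq_one_iff]
  show π ⁅g, a⁆ = 1
  rw [map_commutatorElement, commutatorElement_eq_one_iff_mul_comm]
  symm
  have hle : closure ({y, z ^ p ^ (n - 3)} : Set G) ≤
      (centralizer ({π g} : Set (G ⧸ Z))).comap π := by
    rw [closure_le]
    rintro b (rfl | rfl)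
    · exact mem_centralizer_singleton_iff.2
        (mem_centralizer_singleton_iff.1 (hc (h.gen ▸ mem_top g))).symm
    · show π (z ^ p ^ (n - 3)) ∈ centralizer ({π g} : Set (G ⧸ Z))
      rw [hz0]; exact one_mem _
  exact mem_centralizer_singleton_iff.1 (hle ha)

/-- The `p`-th power of a product with an element of order `p`. -/
theorem mul_pow_prime (h : BlackburnThird p n s x y z) {m v : G}
    (hm : m ∈ closure ({y, z} : Set G)) (hv : v ^ p = 1) : (m * v) ^ p = m ^ p := by
  set M := closure ({y, z} : Set G) with hM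
  set Y := closure ({y, z ^ p ^ (n - 3)} : Set G) with hY
  have hYM : Y ≤ M := (closure_le _).2 (Set.insert_subset (subset_closure (Set.mem_insert _ _))
    (Set.singleton_subset_iff.2
      (pow_mem (subset_closure (Set.mem_insert_of_mem _ (Set.mem_singleton z))) _)))
  set d := ⁅v, m⁆ with hd
  set e := ⁅v, d⁆ with he
  have hdY : d ∈ Y := h.commutator_mem_small v m
  have heZ : e ∈ zpowers (z ^ p ^ (n - 3)) := h.commutator_small_mem v hdY
  have hec : ∀ g, g * e = e * g := fun g =>
    mem_center_iff.1 (zpowers_le.2 h.z0_central heZ) g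
  have hep : e ^ p = 1 := by
    obtain ⟨i, hi⟩ := mem_zpowers_iff.1 heZ
    rw [← hi, ← zpow_natCast, ← zpow_mul, mul_comm, zpow_mul, zpow_natCast, h.z0_pow, one_zpow]
  have hdp : d ^ p = 1 := by
    have hYp : ∀ a ∈ Y, a ^ p = 1 := by
      intro a ha
      induction ha using closure_induction with
      | mem b hb =>
        rcases hb with rfl | rfl
        · exact h.yp
        · exact h.z0_pow
      | one => exact one_pow _
      | mul a b ha hb iha ihb =>
        rw [(h.commute_pair (hYM ha) (hYM hb)).mul_pow, iha, ihb, one_mul]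
      | inv a _ iha => rw [inv_pow, iha, inv_one]
    exact hYp d hdY
  have hdm : Commute d m := h.commute_pair (hYM hdY) hm
  have hvd : ∀ i : ℕ, v ^ i * d = e ^ i * d * v ^ i := by
    intro i
    induction i with
    | zero => simp
    | succ i ih =>
      calc v ^ (i + 1) * d = v * (v ^ i * d) := by rw [pow_succ', mul_assoc]
        _ = (v * e ^ i) * d * v ^ i := by rw [ih]; group
        _ = e ^ i * (v * d) * v ^ i := by
          rw [((show Commute v e from hec v).pow_right i).eq]; group
        _ = e ^ (i + 1) * d * v ^ (i + 1) := by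
          rw [show v * d = e * d * v by rw [he, commutatorElement_def]; group, pow_succ e,
            pow_succ' v]
          group
  have hvm : ∀ i : ℕ, v ^ i * m = d ^ i * e ^ i.choose 2 * m * v ^ i := by
    intro i
    induction i with
    | zero => simp
    | succ i ih =>
      calc v ^ (i + 1) * m = v ^ i * (v * m) := by rw [pow_succ, mul_assoc]
        _ = (v ^ i * d) * (m * v) := by
          rw [show v * m = d * m * v by rw [hd, commutatorElement_def]; group]; group
        _ = e ^ i * d * (v ^ i * m) * v := by rw [hvd]; group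
        _ = e ^ i * d ^ (i + 1) * e ^ i.choose 2 * m * (v ^ i * v) := by
          rw [ih, pow_succ' d]; group
        _ = d ^ (i + 1) * (e ^ i * e ^ i.choose 2) * m * (v ^ i * v) := by
          rw [← ((show Commute (d ^ (i + 1)) e from hec _).pow_right i).eq]; group
        _ = _ := by
          rw [← pow_add, ← pow_succ, Nat.choose_succ_succ' i 1, Nat.choose_one_right]
  have key : ∀ i : ℕ, (m * v) ^ i = m ^ i * d ^ i.choose 2 * e ^ i.choose 3 * v ^ i := by
    intro i
    induction i with
    | zero => simp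
    | succ i ih =>
      calc (m * v) ^ (i + 1) = m ^ i * d ^ i.choose 2 * e ^ i.choose 3 * (v ^ i * m) * v := by
            rw [pow_succ, ih]; group
        _ = m ^ i * d ^ i.choose 2 * (e ^ i.choose 3 * d ^ i) * e ^ i.choose 2 * m * (v ^ i * v) := by
          rw [hvm]; group
        _ = m ^ i * d ^ i.choose 2 * d ^ i * (e ^ i.choose 3 * e ^ i.choose 2 * m) * (v ^ i * v) := by
          rw [← ((show Commute (d ^ i) e from hec _).pow_right _).eq]; group
        _ = m ^ i * (d ^ i.choose 2 * d ^ i * m) * (e ^ i.choose 3 * e ^ i.choose 2) * (v ^ i * v) := by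
          rw [← pow_add e, ← ((show Commute m e from hec _).pow_right _).eq]; group
        _ = m ^ i * (m * (d ^ i.choose 2 * d ^ i)) * (e ^ i.choose 3 * e ^ i.choose 2) * (v ^ i * v) := by
          rw [← pow_add d, (hdm.pow_left _).eq]
        _ = _ := by
          rw [← pow_add, ← pow_add, ← pow_succ, ← mul_assoc (m ^ i), ← pow_succ,
            Nat.choose_succ_succ' i 1, Nat.choose_succ_succ' i 2, Nat.choose_one_right,
            add_comm i (i.choose 2), add_comm (i.choose 2) (i.choose (2 + 1))]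
  have h5 := h.hp5
  obtain ⟨a, ha⟩ := hp.out.dvd_choose_self (k := 2) (by norm_num) (by omega)
  obtain ⟨b, hb⟩ := hp.out.dvd_choose_self (k := 3) (by norm_num) (by omega)
  rw [key, ha, hb, pow_mul, pow_mul, hdp, hep, hv, one_pow, one_pow, mul_one, mul_one, mul_one]

/-- The elements of `⟨y, z ^ p⟩`. -/
theorem mem_pair_p (h : BlackburnThird p n s x y z) {u : G}
    (hu : u ∈ closure ({y, z ^ p} : Set G)) : ∃ j k : ℤ, u = y ^ j * (z ^ p) ^ k := by
  set M := closure ({y, z} : Set G) with hM
  set B := closure ({y, z ^ p} : Set G) with hB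
  set W := zpowers (z ^ p) with hW
  have hyM : y ∈ M := subset_closure (Set.mem_insert _ _)
  have hzM : z ∈ M := subset_closure (Set.mem_insert_of_mem _ (Set.mem_singleton z))
  have hyB : y ∈ B := subset_closure (Set.mem_insert _ _)
  have hzpB : z ^ p ∈ B := subset_closure (Set.mem_insert_of_mem _ (Set.mem_singleton _))
  have hBM : B ≤ M :=
    (closure_le _).2 (Set.insert_subset hyM (Set.singleton_subset_iff.2 (pow_mem hzM p)))
  obtain ⟨j, k, rfl⟩ := h.mem_abelian_pair (hBM hu)
  have hyz : Commute y z := h.comm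
  have hzk : z ^ k ∈ B := by
    have := mul_mem (inv_mem (B.zpow_mem hyB j)) hu
    rwa [inv_mul_cancel_left] at this
  have hk : (p : ℤ) ∣ k := by
    by_contra hk
    have hzB : z ∈ B := by
      obtain ⟨a, c, hac⟩ := (Nat.prime_iff_prime_int.1 hp.out).coprime_iff_not_dvd.2 hk
      have : z = (z ^ (p : ℤ)) ^ a * (z ^ k) ^ c := by
        rw [← zpow_mul, ← zpow_mul, ← zpow_add, mul_comm _ a, mul_comm k c, hac, zpow_one]
      rw [this, zpow_natCast]
      exact mul_mem (B.zpow_mem hzpB a) (B.zpow_mem hzk c)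
    have hW' : ∀ a ∈ B, ∃ j : ℤ, y ^ (-j) * a ∈ W := by
      intro a ha
      induction ha using Subgroup.closure_induction with
      | mem w hw =>
        rcases hw with rfl | rfl
        · exact ⟨1, by simp⟩
        · exact ⟨0, by rw [neg_zero, zpow_zero, one_mul]; exact Subgroup.mem_zpowers (z ^ p)⟩
      | one => exact ⟨0, by simp⟩
      | mul a c ha hc iha ihc =>
        obtain ⟨i, hi⟩ := iha
        obtain ⟨j, hj⟩ := ihc
        refine ⟨i + j, ?_⟩
        have e : y ^ (-(i + j)) * (a * c) = (y ^ (-i) * a) * (y ^ (-j) * c) := by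
          rw [show -(i + j) = -i + -j by ring, zpow_add]
          exact (h.commute_pair (M.zpow_mem hyM _) (hBM ha)).mul_mul_mul_comm _ _
        rw [e]; exact mul_mem hi hj
      | inv a ha iha =>
        obtain ⟨i, hi⟩ := iha
        refine ⟨-i, ?_⟩
        have e : y ^ (- -i) * a⁻¹ = (y ^ (-i) * a)⁻¹ := by
          rw [mul_inv_rev, ← zpow_neg]
          exact (h.commute_pair (M.zpow_mem hyM _) (inv_mem (hBM ha))).eq
        rw [e]; exact inv_mem hi
    obtain ⟨i, hi⟩ := hW' z hzB
    have := (h.mem_zpowers_p_iff (i := -i) (j := 1)).1 (by rwa [zpow_one])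
    exact hp.out.one_lt.ne' (by exact_mod_cast Int.eq_one_of_dvd_one (by positivity) this.2)
  obtain ⟨l, rfl⟩ := hk
  exact ⟨j, l, by rw [zpow_mul, zpow_natCast]⟩

theorem orderOf_z0 (h : BlackburnThird p n s x y z) : orderOf (z ^ p ^ (n - 3)) = p := by
  have := h.hn
  rw [orderOf_pow, h.orders.1, Nat.gcd_eq_right (pow_dvd_pow p (by omega)),
    Nat.pow_div (by omega) hp.out.pos, show n - 2 - (n - 3) = 1 by omega, pow_one]

/-- Commuting with `y` forces an element of `⟨y, z⟩`. -/
theorem dvd_of_commute (h : BlackburnThird p n s x y z) {i : ℕ} (hi : x ^ i * y = y * x ^ i) :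
    p ∣ i := by
  by_contra hd
  obtain ⟨j, hj⟩ := exists_pow_eq_self_of_coprime (x := x) (n := i) (by
    rw [Nat.coprime_comm]
    exact Nat.Coprime.coprime_dvd_left (orderOf_dvd_of_pow_eq_one h.xp)
      (hp.out.coprime_iff_not_dvd.2 hd))
  have hxyc : Commute x y := hj ▸ ((show Commute (x ^ i) y from hi).pow_left j)
  have h1 := h.cy
  rw [mul_assoc, ← hxyc.eq, inv_mul_cancel_left, eq_comm, mul_comm s, pow_mul,
    mul_eq_left] at h1
  exact h.s_ndvd (h.orderOf_z0 ▸ orderOf_dvd_of_pow_eq_one h1)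

theorem commutator_mem_pair_p (h : BlackburnThird p n s x y z) (g g' : G) :
    ⁅g, g'⁆ ∈ closure ({y, z ^ p} : Set G) :=
  ((closure_le _).2 (Set.insert_subset (subset_closure (Set.mem_insert _ _))
    (Set.singleton_subset_iff.2 (zpowers_le.2 (subset_closure
      (Set.mem_insert_of_mem _ (Set.mem_singleton _))) h.z0_mem_zpowers))) :
    closure ({y, z ^ p ^ (n - 3)} : Set G) ≤ _) (h.commutator_mem_small g g')

theorem normal_pair_p (h : BlackburnThird p n s x y z) :
    (closure ({y, z ^ p} : Set G)).Normal := ⟨fun a ha g => by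
  rw [show g * a * g⁻¹ = ⁅g, a⁆ * a by rw [commutatorElement_def]; group]
  exact mul_mem (h.commutator_mem_pair_p g a) ha⟩

theorem normal_triple_p (h : BlackburnThird p n s x y z) :
    (closure ({x, y, z ^ p} : Set G)).Normal := ⟨fun a ha g => by
  rw [show g * a * g⁻¹ = ⁅g, a⁆ * a by rw [commutatorElement_def]; group]
  exact mul_mem (closure_mono (Set.subset_insert _ _) (h.commutator_mem_pair_p g a)) ha⟩

theorem mem_triple_p (h : BlackburnThird p n s x y z) {g : G}
    (hg : g ∈ closure ({x, y, z ^ p} : Set G)) :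
    ∃ u ∈ closure ({y, z ^ p} : Set G), ∃ i : ℕ, g = u * x ^ i := by
  have := h.normal_pair_p
  have hle : closure ({x, y, z ^ p} : Set G) ≤ closure ({y, z ^ p} : Set G) ⊔ zpowers x := by
    rw [closure_le]
    rintro a (rfl | rfl | rfl)
    · exact mem_sup_right (mem_zpowers a)
    · exact mem_sup_left (subset_closure (Set.mem_insert _ _))
    · exact mem_sup_left (subset_closure (Set.mem_insert_of_mem _ (Set.mem_singleton _)))
  have h1 := hle hg
  rw [← SetLike.mem_coe, normal_mul, Set.mem_mul] at h1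
  obtain ⟨u, hu, w, hw, rfl⟩ := h1
  obtain ⟨i, rfl⟩ := ((isOfFinOrder_of_finite x).mem_powers_iff_mem_zpowers.2 hw)
  exact ⟨u, hu, i, rfl⟩

/-- The centre of `⟨x, y, z ^ p⟩`. -/
theorem mem_zpowers_of_commute (h : BlackburnThird p n s x y z) {g : G}
    (hg : g ∈ closure ({x, y, z ^ p} : Set G)) (hgx : Commute x g) (hgy : Commute y g) :
    g ∈ zpowers (z ^ p) := by
  obtain ⟨v, hv, i, rfl⟩ := h.mem_triple_p hg
  have hBM : closure ({y, z ^ p} : Set G) ≤ closure ({y, z} : Set G) :=
    (closure_le _).2 (Set.insert_subset (subset_closure (Set.mem_insert _ _))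
      (Set.singleton_subset_iff.2 (pow_mem (subset_closure
        (Set.mem_insert_of_mem _ (Set.mem_singleton z))) p)))
  have hyv : Commute y v := h.commute_pair (subset_closure (Set.mem_insert _ _)) (hBM hv)
  have h1 : y * (v * x ^ i) = v * x ^ i * y := hgy.eq
  rw [← mul_assoc, hyv.eq, mul_assoc, mul_assoc] at h1
  obtain ⟨k, rfl⟩ := h.dvd_of_commute (mul_left_cancel h1).symm
  rw [pow_mul, h.xp, one_pow, mul_one] at hgx ⊢
  obtain ⟨j, l, rfl⟩ := h.mem_pair_p hv
  have hwc : Commute x ((z ^ p) ^ l) :=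
    mem_center_iff.1 (zpow_mem (h.zpow_p_central) l) x
  have h3 : Commute x (y ^ j) := by
    have := hgx.mul_right hwc.inv_right
    rwa [mul_inv_cancel_right] at this
  have hj : (p : ℤ) ∣ j := by
    by_contra hj
    obtain ⟨a, c, hac⟩ := (Nat.prime_iff_prime_int.1 hp.out).coprime_iff_not_dvd.2 hj
    have hy' : y = (y ^ (p : ℤ)) ^ a * (y ^ j) ^ c := by
      rw [← zpow_mul, ← zpow_mul, ← zpow_add, mul_comm _ a, mul_comm j c, hac, zpow_one]
    rw [zpow_natCast, h.yp, one_zpow, one_mul] at hy'
    have h4 : Commute (x ^ 1) y := by rw [pow_one, hy']; exact h3.zpow_right c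
    exact hp.out.one_lt.ne' (Nat.dvd_one.1 (h.dvd_of_commute h4.eq))
  obtain ⟨a, rfl⟩ := hj
  rw [zpow_mul, zpow_natCast, h.yp, one_zpow, one_mul]
  exact zpow_mem (mem_zpowers _) _

/-- An element `m * x` of order `p` may replace `x`. -/
theorem replace (h : BlackburnThird p n s x y z) {m : G} (hm : m ∈ closure ({y, z} : Set G))
    (hu : (m * x) ^ p = 1) : BlackburnThird p n s (m * x) y z := by
  have hy : y ∈ closure ({y, z} : Set G) := subset_closure (Set.mem_insert _ _)
  have hz : z ∈ closure ({y, z} : Set G) :=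
    subset_closure (Set.mem_insert_of_mem _ (Set.mem_singleton z))
  have hconj : ∀ a ∈ closure ({y, z} : Set G), (m * x)⁻¹ * a * (m * x) = x⁻¹ * a * x := by
    intro a ha
    calc (m * x)⁻¹ * a * (m * x) = x⁻¹ * (m⁻¹ * (a * m)) * x := by group
      _ = x⁻¹ * a * x := by rw [(h.commute_pair ha hm).eq, inv_mul_cancel_left]
  refine ⟨h.card, h.hn, h.hp5, h.s_ndvd, ?_, hu, h.yp, h.zp, h.comm,
    by rw [hconj y hy, h.cy], by rw [hconj z hz, h.cz]⟩
  rw [eq_top_iff, ← h.gen, closure_le]
  have hle : closure ({y, z} : Set G) ≤ closure ({m * x, y, z} : Set G) :=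
    closure_mono (Set.subset_insert _ _)
  rintro a (rfl | rfl | rfl)
  · have := mul_mem (inv_mem (hle hm))
      (subset_closure (Set.mem_insert (m * a) ({y, z} : Set G)))
    rwa [inv_mul_cancel_left] at this
  · exact hle hy
  · exact hle hz

end BlackburnThird

end CfsgLib.PGroup
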