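import Mathlib
import Cfsg.Agent.Lib.PGroup.Basic

/-!
# Coprime groups of automorphisms of p-groups, in subgroup language
-/

set_option autoImplicit false

namespace CfsgLib.PGroup

open Subgroup
open scoped commutatorElement

variable {X : Type*} [Group X]

/-- The automorphisms of `P` induced by a subgroup `A` of its normalizer. -/
def inducedAut (A P : Subgroup X) (h : A ≤ normalizer (P : Set X)) : Subgroup (MulAut P) :=
  (P.normalizerMonoidHom.comp (inclusion h)).range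

variable {A P : Subgroup X} {h : A ≤ normalizer (P : Set X)}

theorem mem_inducedAut {α : MulAut P} :
    α ∈ inducedAut A P h ↔ ∃ a : A, P.normalizerMonoidHom (inclusion h a) = α := Iff.rfl

theorem normalizerMonoidHom_coe (P : Subgroup X) (n : normalizer (P : Set X)) (x : P) :
    ((P.normalizerMonoidHom n x : P) : X) = (n : X) * x * (n : X)⁻¹ := rfl

theorem coprime_card_inducedAut [Finite X] {n : ℕ} (hA : (Nat.card A).Coprime n) :
    (Nat.card (inducedAut A P h)).Coprime n :=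
  hA.coprime_dvd_left (card_range_dvd _)

theorem le_centralizer_of_inducedAut_fix (hfix : ∀ α ∈ inducedAut A P h, ∀ x : P, α x = x) :
    A ≤ centralizer (P : Set X) := by
  intro a ha
  refine mem_centralizer_iff.2 fun x hx => ?_
  have := congrArg Subtype.val (hfix _ ⟨⟨a, ha⟩, rfl⟩ ⟨x, hx⟩)
  change a * x * a⁻¹ = x at this
  exact (mul_inv_eq_iff_eq_mul.1 this).symm

/-- If `⁅P, A⁆ = P` then `P` is generated by the elements `g⁻¹ α g`. -/
theorem closure_inducedAut_eq_top (hPA : ⁅P, A⁆ = P) :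
    closure {x : P | ∃ g : P, ∃ α ∈ inducedAut A P h, x = g⁻¹ * α g} = ⊤ := by
  set K := closure {x : P | ∃ g : P, ∃ α ∈ inducedAut A P h, x = g⁻¹ * α g}
  suffices P ≤ K.map P.subtype by
    refine eq_top_iff.2 fun x _ => ?_
    obtain ⟨y, hy, hyx⟩ := this x.2
    rwa [← Subtype.ext (a1 := y) (a2 := x) hyx]
  conv_lhs => rw [← hPA]
  rw [commutator_le]
  intro g hg a ha
  refine ⟨(⟨g, hg⟩⁻¹)⁻¹ * P.normalizerMonoidHom (inclusion h ⟨a, ha⟩) (⟨g, hg⟩⁻¹),
    subset_closure ⟨⟨g, hg⟩⁻¹, _, ⟨⟨a, ha⟩, rfl⟩, rfl⟩, ?_⟩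
  show ((⟨g, hg⟩ : P)⁻¹⁻¹ : P).1 * (a * ((⟨g, hg⟩ : P)⁻¹ : P).1 * a⁻¹) = ⁅g, a⁆
  rw [inv_inv, commutatorElement_def, InvMemClass.coe_inv]
  group

/-- Fixed points of a coprime group of automorphisms `A` lie in the derived subgroup when
`P = [P, A]`. -/
theorem fixed_mem_commutator {Q : Type*} [Group Q] [Finite Q] {p : ℕ} [Fact p.Prime] (hQ : IsPGroup p Q)
    (𝔸 : Subgroup (MulAut Q)) (hA : (Nat.card 𝔸).Coprime p)
    (hgen : closure {x : Q | ∃ g : Q, ∃ α ∈ 𝔸, x = g⁻¹ * α g} = ⊤)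
    {u : Q} (hu : ∀ α ∈ 𝔸, α u = u) : u ∈ _root_.commutator Q := by
  classical
  let _ := Fintype.ofFinite 𝔸
  let f : Q →* Abelianization Q :=
    { toFun := fun g => ∏ a : 𝔸, Abelianization.of ((a : MulAut Q) g)
      map_one' := by simp
      map_mul' := fun u v => by simp [Finset.prod_mul_distrib] }
  have hf : ∀ g, f g = 1 := by
    have htop : (⊤ : Subgroup Q) ≤ f.ker := by
      rw [← hgen, closure_le]
      rintro _ ⟨g, b, hb, rfl⟩
      show f (g⁻¹ * b g) = 1
      rw [map_mul, map_inv, inv_mul_eq_one]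
      show ∏ a : 𝔸, Abelianization.of ((a : MulAut Q) g) = ∏ a : 𝔸, Abelianization.of ((a : MulAut Q) (b g))
      exact (Fintype.prod_equiv (Equiv.mulRight (⟨b, hb⟩ : 𝔸)) _ _ fun a => rfl).symm
    exact fun g => htop (mem_top g)
  have h1 : (Abelianization.of u) ^ Nat.card 𝔸 = 1 := by
    rw [← hf u]
    show _ = ∏ a : 𝔸, Abelianization.of ((a : MulAut Q) u)
    rw [Finset.prod_congr rfl (fun (a : 𝔸) _ => by rw [hu a a.2]), Finset.prod_const, Finset.card_univ,
      Nat.card_eq_fintype_card]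
  obtain ⟨k, hk⟩ := IsPGroup.iff_orderOf.1 hQ u
  have h2 : orderOf (Abelianization.of u) ∣ p ^ k := hk ▸ orderOf_map_dvd _ u
  have h3 : orderOf (Abelianization.of u) = 1 :=
    Nat.eq_one_of_dvd_coprimes (hA.pow_right k) (orderOf_dvd_of_pow_eq_one h1) h2
  rw [orderOf_eq_one_iff] at h3
  exact (QuotientGroup.eq_one_iff u).1 h3

end CfsgLib.PGroup
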