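import Cfsg.Agent.Lib.PGroup.HuppertMetacyclic
import Cfsg.Agent.Lib.Transfer.CyclicMaximal
import Cfsg.Agent.Lib.Transfer.MaximalClass
import Cfsg.Agent.Lib.Solvable.UniqueSubgroup
import Cfsg.Agent.Lib.Solvable.FrobeniusComplement

/-!
Blackburn's classification of the `p`-groups of rank at most two, `p` odd.

`A` is a normal elementary abelian subgroup of order `p ^ 2` and `M` its centralizer.
-/

set_option autoImplicit false
set_option linter.unusedSectionVars false

namespace CfsgLib.PGroup.RankTwoClass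

open Cfsg Subgroup
open scoped commutatorElement

universe u

variable {G : Type u} [Group G]

/-- Iterated conjugation along a chain `y → w → v → u` of commuting elements. -/
theorem conj_pow_chain {x y w v u : G} (hy : x * y * x⁻¹ = w * y) (hw : x * w * x⁻¹ = v * w)
    (hv : x * v * x⁻¹ = u * v) (hu : x * u * x⁻¹ = u) (hwv : Commute w v) (hwu : Commute w u)
    (hvu : Commute v u) (i : ℕ) :
    x ^ i * y * (x ^ i)⁻¹ = w ^ i * v ^ i.choose 2 * u ^ i.choose 3 * y := by
  induction i with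
  | zero => simp
  | succ i ih =>
    have e1 : x ^ (i + 1) * y * (x ^ (i + 1))⁻¹ =
        (x * w * x⁻¹) ^ i * (x * v * x⁻¹) ^ i.choose 2 * (x * u * x⁻¹) ^ i.choose 3 * (x * y * x⁻¹) := by
      rw [conj_pow, conj_pow, conj_pow, pow_succ', show x * x ^ i * y * (x * x ^ i)⁻¹ =
        x * (x ^ i * y * (x ^ i)⁻¹) * x⁻¹ by group, ih]
      group
    rw [e1, hw, hv, hu, hy, hwv.symm.mul_pow, hvu.symm.mul_pow, Nat.choose_succ_succ' i 1,
      Nat.choose_succ_succ' i 2, Nat.choose_one_right, pow_add, pow_add, pow_succ]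
    have c1 := (hwv.pow_pow i i).eq
    have c2 := fun a b => (hwu.pow_pow a b).eq
    have c3 := fun a b => (hvu.pow_pow a b).eq
    calc v ^ i * w ^ i * (u ^ i.choose 2 * v ^ i.choose 2) * u ^ i.choose 3 * (w * y)
        = v ^ i * w ^ i * (v ^ i.choose 2 * u ^ i.choose 2) * u ^ i.choose 3 * w * y := by
          rw [← c3]; group
      _ = w ^ i * v ^ i * v ^ i.choose 2 * (u ^ i.choose 2 * u ^ i.choose 3 * w) * y := by
          rw [← c1]; group
      _ = w ^ i * (v ^ i * v ^ i.choose 2 * w) * (u ^ i.choose 2 * u ^ i.choose 3) * y := by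
          rw [← pow_add u, ((hwu.pow_right _).symm.eq)]; group
      _ = w ^ i * w * (v ^ i * v ^ i.choose 2) * (u ^ i.choose 2 * u ^ i.choose 3) * y := by
          rw [← pow_add v, ((hwv.pow_right _).symm.eq)]; group
      _ = _ := by simp only [pow_add, pow_succ, pow_zero, one_mul, mul_assoc]

/-- A cube of a product. -/
theorem cube_conj {x g v u : G} (hg : x * g * x⁻¹ = v * g) (hv : x * v * x⁻¹ = u * v)
    (hu : x * u * x⁻¹ = u) (hgv : Commute g v) (hgu : Commute g u) (hvu : Commute v u)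
    (h3 : v ^ 3 = 1) : (g * x) ^ 3 = g ^ 3 * u * x ^ 3 := by
  have h2 : x * (x * g * x⁻¹) * x⁻¹ = u * (v * v) * g := by
    rw [hg, show x * (v * g) * x⁻¹ = (x * v * x⁻¹) * (x * g * x⁻¹) by group, hv, hg]; group
  calc (g * x) ^ 3 = g * (x * g * x⁻¹) * (x * (x * g * x⁻¹) * x⁻¹) * (x * x * x) := by
        rw [pow_succ, pow_succ, pow_one]; group
    _ = g * (v * (g * (u * (v * v)))) * g * (x * x * x) := by rw [h2, hg]; group
    _ = g * (v * (u * (v * v) * g)) * g * (x * x * x) := by
        rw [(hgu.mul_right (hgv.mul_right hgv)).eq]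
    _ = (g * u) * (v * v * v) * g * g * (x * x * x) := by
        rw [show v * (u * (v * v) * g) = (v * u) * (v * v) * g by group, hvu.eq]; group
    _ = g * (u * g) * g * (x * x * x) := by
        rw [show v * v * v = v ^ 3 by rw [pow_succ, pow_two], h3]; group
    _ = g ^ 3 * u * x ^ 3 := by
        rw [← hgu.eq, show g * (g * u) * g = g * g * (u * g) by group, ← hgu.eq]
        simp only [pow_succ, pow_zero, one_mul, mul_assoc]

variable [Finite G] {p : ℕ} [hp : Fact p.Prime]

/-- The standing hypotheses. -/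
structure Setup (p : ℕ) (A : Subgroup G) : Prop where
  odd : p ≠ 2
  pgroup : IsPGroup p G
  rank : PRankLE p 2 G
  normal : A.Normal
  elem : IsElementaryAbelian p A
  card : Nat.card A = p ^ 2

variable {A : Subgroup G}

local notation "M" => centralizer (A : Set G)

theorem Setup.mem_of_pow (h : Setup p A) {x : G} (hx : x ∈ M) (hxp : x ^ p = 1) : x ∈ A := by
  have he := elemAb_sup h.elem (elemAb_zpowers hxp) fun a ha b hb => by
    obtain ⟨i, rfl⟩ := mem_zpowers_iff.1 hb
    exact (Commute.zpow_right (show Commute a x from mem_centralizer_iff.1 hx a ha) i).eq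
  have := eq_of_le_of_card_ge (H := A) (K := A ⊔ zpowers x) le_sup_left
    (h.card ▸ pRankLE_iff.1 h.rank _ he)
  exact this.ge (mem_sup_right (mem_zpowers x))

theorem Setup.commute (_h : Setup p A) {a m : G} (ha : a ∈ A) (hm : m ∈ M) : Commute a m :=
  mem_centralizer_iff.1 hm a ha

theorem Setup.le_M (h : Setup p A) : A ≤ M := fun _ ha =>
  mem_centralizer_iff.2 fun _ hb => elemAb_comm h.elem hb ha

theorem Setup.M_normal (h : Setup p A) : (M).Normal := by
  haveI := h.normal
  exact Subgroup.normal_centralizer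

theorem Setup.comm_center (h : Setup p A) {a : G} (ha : a ∈ A) (g : G) : ⁅g, a⁆ ∈ A ⊓ center G := by
  haveI := h.normal
  refine mem_inf.2 ⟨?_, ?_⟩
  · rw [commutatorElement_def]
    exact mul_mem (h.normal.conj_mem a ha g) (inv_mem ha)
  · refine (CfsgLib.OddLocal.RankTwo.small_normal h.pgroup A h.card.le).1 ?_
    rw [commutator_comm]
    exact commutator_mem_commutator (mem_top g) ha

theorem Setup.card_inf_center (h : Setup p A) (hA : ¬ A ≤ center G) :
    Nat.card (A ⊓ center G : Subgroup G) = p := by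
  haveI := h.normal
  have hne : A ≠ ⊥ := fun e => hA (e ▸ bot_le)
  obtain ⟨i, hi, hi'⟩ := (Nat.dvd_prime_pow hp.out).1 (h.card ▸ card_dvd_of_le (inf_le_left : A ⊓ center G ≤ A))
  rcases i with _ | _ | i
  · exact absurd (card_eq_one.1 (hi'.trans (pow_zero p))) (inf_center_ne_bot h.pgroup A hne)
  · rw [hi', pow_one]
  · have h2 : i = 0 := by omega
    subst h2
    exact absurd (inf_eq_left.1 (eq_of_le_of_card_ge inf_le_left (h.card.trans hi'.symm).le)) hA

theorem Setup.exists_gen (h : Setup p A) (hA : ¬ A ≤ center G) :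
    ∃ a ∈ A, a ∉ center G ∧ zpowers a ⊔ (A ⊓ center G) = A ∧ centralizer ({a} : Set G) = M := by
  obtain ⟨a, ha, hac⟩ := SetLike.not_le_iff_exists.1 hA
  have hsup : zpowers a ⊔ (A ⊓ center G) = A := by
    refine eq_of_le_of_card_ge (sup_le (zpowers_le.2 ha) inf_le_left) ?_
    have hlt : A ⊓ center G < zpowers a ⊔ (A ⊓ center G) :=
      lt_of_le_of_ne le_sup_right fun e => hac (e.ge (mem_sup_left (mem_zpowers a))).2
    have := CfsgLib.Transfer.prime_mul_card_le h.pgroup hlt
    rw [h.card_inf_center hA] at this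
    rw [h.card, pow_two]
    exact this
  refine ⟨a, ha, hac, hsup, le_antisymm ?_ (centralizer_le (Set.singleton_subset_iff.2 ha))⟩
  intro g hg
  rw [mem_centralizer_singleton_iff] at hg
  have : A ≤ centralizer ({g} : Set G) := by
    rw [← hsup]
    refine sup_le (zpowers_le.2 (mem_centralizer_singleton_iff.2 hg.symm)) fun z hz => ?_
    exact mem_centralizer_singleton_iff.2 (mem_center_iff.1 hz.2 g).symm
  exact mem_centralizer_iff.2 fun b hb => mem_centralizer_singleton_iff.1 (this hb)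

theorem Setup.index_M (h : Setup p A) (hA : ¬ A ≤ center G) : (M).index = p := by
  obtain ⟨a, ha, hac, -, hCa⟩ := h.exists_gen hA
  let f : G →* G := MonoidHom.mk' (fun g => ⁅g, a⁆) fun g g' =>
    comm_mul_left (h.comm_center ha g').2
  have hker : f.ker = M := by
    rw [← hCa]
    ext g
    rw [MonoidHom.mem_ker, mem_centralizer_singleton_iff]
    exact commutatorElement_eq_one_iff_mul_comm
  rw [← hker, index_ker]
  have hle : f.range ≤ A ⊓ center G := by
    rintro _ ⟨g, rfl⟩
    exact h.comm_center ha g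
  rcases (Nat.dvd_prime hp.out).1 (h.card_inf_center hA ▸ card_dvd_of_le hle) with e | e
  · exfalso
    rw [← index_ker, hker] at e
    have htop := index_eq_one.1 e
    refine hac (mem_center_iff.2 fun g => ?_)
    exact (h.commute ha (htop ▸ mem_top g)).eq.symm
  · exact e

theorem Setup.mem_center_of_commute (h : Setup p A) (hA : ¬ A ≤ center G) {x b : G} (hx : x ∉ M)
    (hb : b ∈ A) (hc : x * b = b * x) : b ∈ A ⊓ center G := by
  refine ⟨hb, by_contra fun hbc => hx ?_⟩
  have hsup : zpowers b ⊔ (A ⊓ center G) = A := by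
    refine eq_of_le_of_card_ge (sup_le (zpowers_le.2 hb) inf_le_left) ?_
    have hlt : A ⊓ center G < zpowers b ⊔ (A ⊓ center G) :=
      lt_of_le_of_ne le_sup_right fun e => hbc (e.ge (mem_sup_left (mem_zpowers b))).2
    have := CfsgLib.Transfer.prime_mul_card_le h.pgroup hlt
    rw [h.card_inf_center hA] at this
    rw [h.card, pow_two]
    exact this
  have : A ≤ centralizer ({x} : Set G) := by
    rw [← hsup]
    refine sup_le (zpowers_le.2 (mem_centralizer_singleton_iff.2 hc.symm)) fun z hz => ?_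
    exact mem_centralizer_singleton_iff.2 (mem_center_iff.1 hz.2 x).symm
  exact mem_centralizer_iff.2 fun a ha => mem_centralizer_singleton_iff.1 (this ha)

/-- An element killed by `p` of `M` commuting with an element outside `M` is central. -/
theorem Setup.killed_central (h : Setup p A) (hA : ¬ A ≤ center G) {x m : G} (hx : x ∉ M)
    (hm : m ∈ M) (hc : x * m = m * x) (hmp : m ^ p = 1) : m ∈ A ⊓ center G :=
  h.mem_center_of_commute hA hx (h.mem_of_pow hm hmp) hc

theorem Setup.exists_cyc (h : Setup p A) (hA : ¬ A ≤ center G) {x : G} (hx : x ∉ M) :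
    ∃ (c : G) (k : ℕ), c ∈ M ∧ x * c = c * x ∧ 1 ≤ k ∧ orderOf c = p ^ k ∧
      zpowers c = M ⊓ centralizer {x} ∧ zpowers (c ^ p ^ (k - 1)) = A ⊓ center G := by
  set C := M ⊓ centralizer ({x} : Set G) with hC
  have hcyc : IsCyclic C := by
    refine ((CfsgLib.Solvable.isCyclic_or_quaternion (h.pgroup.to_subgroup C) fun s t hs ht => ?_).resolve_right
      fun e => h.odd e.1)
    have hZ : ∀ u : C, orderOf u = p → (u : G) ∈ A ⊓ center G := fun u hu =>
      h.killed_central hA hx u.2.1 (mem_centralizer_singleton_iff.1 u.2.2).symm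
        (by rw [← Subgroup.coe_pow, ← hu, pow_orderOf_eq_one, Subgroup.coe_one])
    have heq : zpowers (t : G) = A ⊓ center G := eq_of_le_of_card_ge (zpowers_le.2 (hZ t ht))
      (by rw [Nat.card_zpowers, Subgroup.orderOf_coe, ht, h.card_inf_center hA])
    obtain ⟨i, hi⟩ := mem_zpowers_iff.1 (heq.ge (hZ s hs))
    exact mem_zpowers_iff.2 ⟨i, Subtype.ext (by simpa using hi)⟩
  obtain ⟨g, hg⟩ := hcyc.exists_generator
  have hgen : zpowers (g : G) = C := le_antisymm (zpowers_le.2 g.2) fun t ht => by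
    obtain ⟨i, hi⟩ := mem_zpowers_iff.1 (hg ⟨t, ht⟩)
    exact mem_zpowers_iff.2 ⟨i, by simpa using congrArg Subtype.val hi⟩
  obtain ⟨k, hk⟩ := IsPGroup.iff_orderOf.1 h.pgroup (g : G)
  have hZC : A ⊓ center G ≤ C := fun z hz =>
    ⟨h.le_M hz.1, mem_centralizer_singleton_iff.2 (mem_center_iff.1 hz.2 x).symm⟩
  have hk1 : 1 ≤ k := by
    by_contra h0
    have := card_le_of_le hZC
    rw [← hgen, Nat.card_zpowers, hk, h.card_inf_center hA, show k = 0 by omega, pow_zero] at this
    exact absurd this (not_le.2 hp.out.one_lt)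
  refine ⟨g, k, g.2.1, (mem_centralizer_singleton_iff.1 g.2.2).symm, hk1, hk, hgen, ?_⟩
  have hord : orderOf ((g : G) ^ p ^ (k - 1)) = p := by
    rw [orderOf_pow' _ (pow_ne_zero _ hp.out.ne_zero), hk,
      Nat.gcd_eq_right (pow_dvd_pow p (by omega : k - 1 ≤ k)), Nat.pow_div (by omega) hp.out.pos,
      show k - (k - 1) = 1 by omega, pow_one]
  refine eq_of_le_of_card_ge (zpowers_le.2 ?_) (by rw [Nat.card_zpowers, hord, h.card_inf_center hA])
  exact h.killed_central hA hx (pow_mem g.2.1 _)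
    ((mem_centralizer_singleton_iff.1 (pow_mem g.2.2 _)).symm) (orderOf_dvd_iff_pow_eq_one.1 hord.dvd)

theorem Setup.commutator_mul (h : Setup p A) {x m m' : G} (hm : m ∈ M) (hv : ⁅x, m'⁆ ∈ A) :
    ⁅x, m * m'⁆ = ⁅x, m⁆ * ⁅x, m'⁆ := by
  rw [show ⁅x, m * m'⁆ = ⁅x, m⁆ * (m * ⁅x, m'⁆ * m⁻¹) by simp only [commutatorElement_def]; group,
    ← (h.commute hv hm).eq, mul_inv_cancel_right]

theorem Setup.pow_p_eq_one (h : Setup p A) {a : G} (ha : a ∈ A) : a ^ p = 1 := h.elem.2 a ha

/-- Outside the exceptional case the displacements of an element of order `p` outside `M` lie in `A`. -/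
theorem Setup.commutator_mem (h : Setup p A) (hA : ¬ A ≤ center G) {x : G} (hx : x ∉ M)
    (hxp : x ^ p = 1) (hex : p = 3 → ∀ c : G, zpowers c = M ⊓ centralizer {x} → orderOf c ≠ p) :
    ∀ m ∈ M, ⁅x, m⁆ ∈ A := by
  intro m0 hm0
  by_contra hm0N
  haveI := h.M_normal
  let s : ℕ → G := fun i => (fun y => ⁅x, y⁆)^[i] m0
  have hs0 : ∀ i, s i ∈ M := by
    intro i
    induction i with
    | zero => exact hm0
    | succ i ih =>
      simp only [s, Function.iterate_succ_apply']
      rw [commutatorElement_def]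
      exact mul_mem (h.M_normal.conj_mem _ ih x) (inv_mem ih)
  have hs1 : ∀ i, s i ∈ (⊤ : Subgroup G).lowerCentralSeries i := by
    intro i
    induction i with
    | zero => simp
    | succ i ih =>
      simp only [s, Function.iterate_succ_apply']
      rw [Subgroup.lowerCentralSeries_succ, commutator_comm]
      exact commutator_mem_commutator (mem_top x) ih
  have hnil := h.pgroup.isNilpotent
  obtain ⟨cl, hcl⟩ := Subgroup.nilpotent_iff_lowerCentralSeries.1 hnil
  have hex' : ∃ i, ⁅x, s i⁆ ∈ A := ⟨cl, by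
    have := hs1 cl
    rw [hcl, mem_bot] at this
    rw [this, commutatorElement_one_right]; exact one_mem A⟩
  classical
  obtain ⟨j, hj⟩ : ∃ j, Nat.find hex' = j + 1 := by
    rcases hf : Nat.find hex' with _ | j
    · have h0 := Nat.find_spec hex'
      rw [hf] at h0
      exact absurd h0 hm0N
    · exact ⟨j, rfl⟩
  set y := s j
  set w := s (j + 1) with hwdef
  have hyN : ⁅x, y⁆ ∉ A := Nat.find_min hex' (by omega)
  have hwN : ⁅x, w⁆ ∈ A := by
    have h0 := Nat.find_spec hex'
    rw [hj] at h0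
    exact h0
  have hwy : ⁅x, y⁆ = w := by simp only [w, y, s, Function.iterate_succ_apply']
  set v := ⁅x, w⁆ with hv
  set u := ⁅x, v⁆ with hu
  have huZ := h.comm_center hwN x
  have hwM : w ∈ M := hs0 (j + 1)
  have hwv : Commute w v := (h.commute hwN hwM).symm
  have hwu : Commute w u := (h.commute huZ.1 hwM).symm
  have hvu : Commute v u := (h.commute huZ.1 (h.le_M hwN)).symm
  have key := conj_pow_chain (x := x) (y := y) (w := w) (v := v) (u := u)
    (by rw [← hwy, commutatorElement_def]; group) (by rw [hv, commutatorElement_def]; group)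
    (by rw [hu, commutatorElement_def]; group)
    (by rw [mem_center_iff.1 huZ.2 x, mul_inv_cancel_right]) hwv hwu hvu p
  obtain ⟨i2, hi2⟩ := CfsgLib.Transfer.dvd_choose_two (p := p) h.odd
  rw [hxp, one_mul, inv_one, mul_one, hi2, pow_mul, h.pow_p_eq_one hwN, one_pow, mul_one,
    right_eq_mul] at key
  have hwA : w ^ p = 1 → False := fun e => hyN (hwy ▸ h.mem_of_pow hwM e)
  rcases eq_or_ne p 3 with hp3 | hp3
  swap
  · obtain ⟨i3, hi3⟩ := hp.out.dvd_choose_self (k := 3) (by norm_num)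
      (by have := hp.out.two_le; have := h.odd; omega)
    rw [hi3, pow_mul, h.pow_p_eq_one huZ.1, one_pow, mul_one] at key
    exact hwA key
  subst hp3
  rw [Nat.choose_self, pow_one] at key
  obtain ⟨c, k, hcM, hcx, hk1, hkord, hcgen, hcZ⟩ := h.exists_cyc hA hx
  have hk2 : 2 ≤ k := by
    by_contra h2
    exact hex rfl c hcgen (by rw [hkord, show k = 1 by omega, pow_one])
  obtain ⟨i, hi⟩ := mem_zpowers_iff.1 (hcZ.ge huZ)
  set c' := (c ^ 3 ^ (k - 2)) ^ i with hc'def
  have hc'3 : c' ^ 3 = u := by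
    show c' ^ 3 = ⁅x, v⁆
    rw [← hi, hc'def, ← zpow_natCast, ← zpow_mul, mul_comm i, zpow_mul, zpow_natCast, ← pow_mul,
      ← pow_succ, show k - 2 + 1 = k - 1 by omega]
  have hc'C : c' ∈ M ⊓ centralizer {x} := hcgen.le (zpow_mem (pow_mem (mem_zpowers c) _) i)
  have hc'x : x * c' = c' * x := (mem_centralizer_singleton_iff.1 hc'C.2).symm
  -- `w` maps `c'` to itself modulo the centre
  have hxcw : x * (w * c' * w⁻¹) = (w * c' * w⁻¹) * x := by
    apply mul_inv_eq_iff_eq_mul.1
    have hconj : x * w * x⁻¹ = v * w := by rw [hv, commutatorElement_def]; group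
    calc x * (w * c' * w⁻¹) * x⁻¹ = (x * w * x⁻¹) * (x * c' * x⁻¹) * (x * w * x⁻¹)⁻¹ := by group
      _ = v * (w * c' * w⁻¹) * v⁻¹ := by rw [hconj, hc'x, mul_inv_cancel_right]; group
      _ = w * c' * w⁻¹ := by
        rw [(h.commute hwN (mul_mem (mul_mem hwM hc'C.1) (inv_mem hwM))).eq, mul_inv_cancel_right]
  obtain ⟨r, hr⟩ : ∃ r : ℤ, w * c' * w⁻¹ = c' ^ r := by
    have hmem : w * c' * w⁻¹ ∈ zpowers c := hcgen.ge
      (mem_inf.2 ⟨mul_mem (mul_mem hwM hc'C.1) (inv_mem hwM), mem_centralizer_singleton_iff.2 hxcw.symm⟩)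
    have hsub : IsCyclic (zpowers c) := inferInstance
    have := CfsgLib.Solvable.mem_zpowers_of_isCyclic (x := (⟨_, hmem⟩ : zpowers c))
      (y := ⟨c', zpow_mem (pow_mem (mem_zpowers c) _) i⟩) (by
        rw [← Subgroup.orderOf_coe, ← Subgroup.orderOf_coe]
        exact (MulAut.conj w).orderOf_eq c')
    obtain ⟨r, hr⟩ := mem_zpowers_iff.1 this
    exact ⟨r, by simpa using (congrArg Subtype.val hr).symm⟩
  have hu3 : orderOf u = 3 := orderOf_eq_prime (h.pow_p_eq_one huZ.1) fun e => hwA (by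
    rw [e, mul_one] at key; exact key)
  obtain ⟨t, ht⟩ : (3 : ℤ) ∣ r - 1 := by
    have : u ^ (r - 1) = 1 := by
      rw [zpow_sub, zpow_one, mul_inv_eq_one, ← hc'3, ← zpow_natCast, ← zpow_mul, mul_comm, zpow_mul,
        ← hr, conj_zpow, zpow_natCast, hc'3, mem_center_iff.1 huZ.2 w, mul_inv_cancel_right]
    rw [← orderOf_dvd_iff_zpow_eq_one, hu3] at this
    exact this
  have hwc : ⁅w, c'⁆ = u ^ t := by
    rw [commutatorElement_def, hr, ← zpow_sub_one, ht, zpow_mul]
    exact congrArg (· ^ t) ((zpow_natCast c' 3).trans hc'3)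
  have hcen : ⁅c', w⁆ ∈ center G := by
    rw [← commutatorElement_inv, hwc]; exact inv_mem (Subgroup.zpow_mem _ huZ.2 t)
  have hcube : (w * c') ^ 3 = 1 := by
    rw [mul_pow_of_comm_mem_center hcen, hc'3, key, one_mul, ← commutatorElement_inv, hwc,
      Nat.choose_succ_succ' 2 1]
    rw [← zpow_natCast, inv_zpow', ← zpow_mul]
    rw [← orderOf_dvd_iff_zpow_eq_one, hu3]
    exact ⟨-t, by norm_num; ring⟩
  have hwcA := h.mem_of_pow (mul_mem hwM hc'C.1) hcube
  have hvZ : v ∈ A ⊓ center G := by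
    have := h.comm_center hwcA x
    rwa [h.commutator_mul hwM (by rw [commutatorElement_eq_one_iff_mul_comm.2 hc'x]; exact one_mem A),
      commutatorElement_eq_one_iff_mul_comm.2 hc'x, mul_one] at this
  apply hwA
  rwa [show u = 1 from commutatorElement_eq_one_iff_mul_comm.2 (mem_center_iff.1 hvZ.2 x), mul_one] at key

/-- An element generating with `M` gives the whole group. -/
theorem Setup.eq_top (h : Setup p A) (hA : ¬ A ≤ center G) {S : Subgroup G} (hS : M ≤ S) {x : G}
    (hxS : x ∈ S) (hx : x ∉ M) : S = ⊤ := by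
  have hd := index_dvd_of_le hS
  rw [h.index_M hA] at hd
  rcases (Nat.dvd_prime hp.out).1 hd with e | e
  · exact index_eq_one.1 e
  · refine absurd ((eq_of_le_of_card_ge hS ?_).ge hxS) hx
    have h1 := S.card_mul_index
    rw [e, ← (M).card_mul_index, h.index_M hA] at h1
    exact (Nat.eq_of_mul_eq_mul_right hp.out.pos h1).le

/-- The conjugation by the inverse. -/
theorem conj_inv_of {x b ζ : G} {j : ℕ} (hζ : ζ ∈ center G) (h : x * b * x⁻¹ = b * (ζ ^ j)⁻¹) :
    x⁻¹ * b * x = b * ζ ^ j := by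
  have hc : ζ ^ j ∈ center G := pow_mem hζ j
  calc x⁻¹ * b * x = x⁻¹ * ((b * (ζ ^ j)⁻¹) * ζ ^ j) * x := by group
    _ = x⁻¹ * (x * b * x⁻¹ * ζ ^ j) * x := by rw [h]
    _ = b * (x⁻¹ * (ζ ^ j * x)) := by group
    _ = b * ζ ^ j := by rw [← mem_center_iff.1 hc x, inv_mul_cancel_left]

/-- The two types with an extraspecial subgroup of exponent `p`. -/
theorem Setup.types (h : Setup p A) (hA : ¬ A ≤ center G) {x : G} (hx : x ∉ M) (hxp : x ^ p = 1)
    (hN : ∀ m ∈ M, ⁅x, m⁆ ∈ A) (n : ℕ) (hn : Nat.card G = p ^ n) :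
    (3 ≤ n ∧ ∃ x y z : G, closure ({x, y, z} : Set G) = ⊤ ∧ x ^ p = 1 ∧ y ^ p = 1 ∧ z ^ p ^ (n - 2) = 1 ∧
        x * z = z * x ∧ y * z = z * y ∧ x⁻¹ * y * x = y * z ^ p ^ (n - 3)) ∨
    (4 ≤ n ∧ ∃ (s : ℕ) (x y z : G), (s = 1 ∨ ¬ IsSquare (s : ZMod p)) ∧ closure ({x, y, z} : Set G) = ⊤ ∧
        x ^ p = 1 ∧ y ^ p = 1 ∧ z ^ p ^ (n - 2) = 1 ∧ y * z = z * y ∧
        x⁻¹ * y * x = y * z ^ (s * p ^ (n - 3)) ∧ x⁻¹ * z * x = y * z) := by
  classical
  obtain ⟨a, ha, hac, hsup, hCa⟩ := h.exists_gen hA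
  obtain ⟨c, k, hcM, hcx, hk1, hkord, hcgen, hcZ⟩ := h.exists_cyc hA hx
  haveI := h.normal
  let φ : M →* G := MonoidHom.mk' (fun m => ⁅x, (m : G)⁆) fun m m' =>
    h.commutator_mul m.2 (hN m' m'.2)
  have hφ : ∀ (m : G) (hm : m ∈ M), φ ⟨m, hm⟩ = ⁅x, m⁆ := fun _ _ => rfl
  have hker : φ.ker = (zpowers c).subgroupOf M := by
    ext m
    rw [MonoidHom.mem_ker, mem_subgroupOf, hcgen, mem_inf, mem_centralizer_singleton_iff]
    exact ⟨fun e => ⟨m.2, (commutatorElement_eq_one_iff_mul_comm.1 e).symm⟩,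
      fun e => commutatorElement_eq_one_iff_mul_comm.2 e.2.symm⟩
  have hkerc : Nat.card φ.ker = p ^ k := by
    rw [hker, Nat.card_congr (subgroupOfEquivOfLe (zpowers_le.2 hcM)).toEquiv, Nat.card_zpowers, hkord]
  have hRA : φ.range ≤ A := by rintro _ ⟨m, rfl⟩; exact hN m m.2
  set z₀ := ⁅x, a⁆ with hz₀
  have hz₀Z := h.comm_center ha x
  have hz₀1 : z₀ ≠ 1 := fun e => hac (h.mem_center_of_commute hA hx ha
    (commutatorElement_eq_one_iff_mul_comm.1 e)).2
  have hZgen : zpowers z₀ = A ⊓ center G := eq_of_le_of_card_ge (zpowers_le.2 hz₀Z)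
    (by rw [Nat.card_zpowers, orderOf_eq_prime (h.pow_p_eq_one hz₀Z.1) hz₀1, h.card_inf_center hA])
  have hZR : A ⊓ center G ≤ φ.range := hZgen ▸ zpowers_le.2 ⟨⟨a, h.le_M ha⟩, rfl⟩
  have hcardM : Nat.card M = p ^ k * Nat.card φ.range := by
    rw [← hkerc, ← index_ker, φ.ker.card_mul_index]
  have hn' : Nat.card G = p ^ k * Nat.card φ.range * p := by
    rw [← hcardM, ← h.index_M hA, (M).card_mul_index]
  obtain ⟨i, hi, hi'⟩ := (Nat.dvd_prime_pow hp.out).1 (h.card ▸ card_dvd_of_le hRA)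
  have hi1 : 1 ≤ i := by
    by_contra h0
    have := card_le_of_le hZR
    rw [h.card_inf_center hA, hi', show i = 0 by omega, pow_zero] at this
    exact absurd this (not_le.2 hp.out.one_lt)
  rw [hi', ← pow_add, ← pow_succ, hn] at hn'
  have hni := Nat.pow_right_injective hp.out.two_le hn'
  rcases (show i = 1 ∨ i = 2 by omega) with rfl | rfl
  · -- central product
    left
    have hn3 : 3 ≤ n := by omega
    refine ⟨hn3, ?_⟩
    set ζ := c ^ p ^ (n - 3) with hζdef
    have hζgen : zpowers ζ = A ⊓ center G := by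
      rw [hζdef, show n - 3 = k - 1 by omega, hcZ]
    have hζZ : ζ ∈ A ⊓ center G := hζgen ▸ mem_zpowers ζ
    have hζord : orderOf ζ = p := by rw [← Nat.card_zpowers, hζgen, h.card_inf_center hA]
    obtain ⟨t, ht⟩ : z₀⁻¹ ∈ Submonoid.powers ζ :=
      mem_powers_iff_mem_zpowers.2 (hζgen.ge (inv_mem hz₀Z))
    simp only at ht
    have htp : ((t : ℕ) : ZMod p) ≠ 0 := fun e => hz₀1 (by
      rw [ZMod.natCast_eq_zero_iff] at e
      rw [← inv_eq_one, ← ht]
      exact orderOf_dvd_iff_pow_eq_one.1 (hζord ▸ e))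
    set j := ((t : ZMod p)⁻¹).val
    have htj : ((t * j : ℕ) : ZMod p) = 1 := by
      rw [Nat.cast_mul, ZMod.natCast_zmod_val, mul_inv_cancel₀ htp]
    have hζ1 : ζ ^ (t * j) = ζ := by
      conv_rhs => rw [← pow_one ζ]
      rw [pow_eq_pow_iff_modEq, hζord]
      exact (ZMod.natCast_eq_natCast_iff _ _ _).1 (by rw [htj, Nat.cast_one])
    refine ⟨x, a ^ j, c, ?_, hxp, ?_, ?_, hcx, ?_, ?_⟩
    · set S := closure ({x, a ^ j, c} : Set G)
      have hxS : x ∈ S := subset_closure (by simp)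
      have hcS : c ∈ S := subset_closure (by simp)
      have hjS : a ^ j ∈ S := subset_closure (by simp)
      have haS : a ∈ S := by
        have e : a = (a ^ j) ^ t := by
          conv_lhs => rw [← pow_one a]
          rw [← pow_mul, pow_eq_pow_iff_modEq,
            orderOf_eq_prime (h.pow_p_eq_one ha) fun e => hac (e ▸ one_mem _)]
          exact (ZMod.natCast_eq_natCast_iff _ _ _).1 (by rw [mul_comm, htj, Nat.cast_one])
        rw [e]; exact pow_mem hjS t
      refine h.eq_top hA (fun m hm => ?_) hxS hx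
      have hrange : φ.range = A ⊓ center G :=
        (eq_of_le_of_card_ge hZR (by rw [h.card_inf_center hA, hi', pow_one])).symm
      obtain ⟨l, hl⟩ := mem_zpowers_iff.1 (hZgen.ge (hrange.le ⟨⟨m, hm⟩, rfl⟩))
      have hmem : (⟨a, h.le_M ha⟩ : M) ^ (-l) * ⟨m, hm⟩ ∈ φ.ker := by
        rw [hφ] at hl
        rw [MonoidHom.mem_ker, map_mul, map_zpow, hφ, hφ, ← hz₀, ← hl, zpow_neg, inv_mul_eq_one]
      rw [hker, mem_subgroupOf] at hmem
      have := mul_mem (zpow_mem haS l) (zpowers_le.2 hcS hmem)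
      simpa using this
    · rw [← pow_mul, mul_comm, pow_mul, h.pow_p_eq_one ha, one_pow]
    · rw [show n - 2 = k by omega, ← hkord, pow_orderOf_eq_one]
    · exact ((h.commute ha hcM).pow_left j).eq
    · have hconj : x * a ^ j * x⁻¹ = a ^ j * (ζ ^ (t * j))⁻¹ := by
        rw [← conj_pow, show x * a * x⁻¹ = z₀ * a by rw [hz₀, commutatorElement_def]; group,
          (show Commute z₀ a from (mem_center_iff.1 hz₀Z.2 a).symm).mul_pow,
          ← mem_center_iff.1 (pow_mem hz₀Z.2 j) (a ^ j), pow_mul, ht, inv_pow, inv_inv]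
      rw [conj_inv_of hζZ.2 hconj, hζ1]
  · -- the other type
    right
    have hrange : φ.range = A := eq_of_le_of_card_ge hRA (by rw [h.card, hi'])
    obtain ⟨⟨d, hdM⟩, hd⟩ := hrange.ge ha
    rw [hφ] at hd
    have hdC : d ∉ zpowers c := fun e => hac (by
      have : ⁅x, d⁆ = 1 := commutatorElement_eq_one_iff_mul_comm.2
        (mem_centralizer_singleton_iff.1 (hcgen.le e).2).symm
      rw [hd] at this
      rw [this]; exact one_mem _)
    have hap : orderOf a = p := orderOf_eq_prime (h.pow_p_eq_one ha) fun e => hac (e ▸ one_mem _)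
    -- `c` and `d` generate a cyclic group
    set D : Subgroup M := zpowers ⟨d, hdM⟩ ⊔ φ.ker with hD
    have hDmap : D.map φ = zpowers a := by
      rw [hD, Subgroup.map_sup, MonoidHom.map_zpowers, hφ, hd,
        (Subgroup.map_eq_bot_iff φ.ker).2 le_rfl, sup_bot_eq]
    have hDidx : (φ.ker.subgroupOf D).index = p := by
      show φ.ker.relIndex D = p
      rw [Subgroup.relIndex_ker, hDmap, Nat.card_zpowers, hap]
    have hkD : φ.ker ≤ D := le_sup_right
    have hDcyc : IsCyclic D := by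
      by_contra hnc
      have hcyc : IsCyclic (φ.ker.subgroupOf D) := by
        have h1 : IsCyclic φ.ker := by
          rw [hker]
          exact isCyclic_of_surjective (subgroupOfEquivOfLe (zpowers_le.2 hcM)).symm
            (MulEquiv.surjective _)
        exact isCyclic_of_surjective (subgroupOfEquivOfLe hkD).symm (MulEquiv.surjective _)
      obtain ⟨-, hcard, hexp⟩ := CfsgLib.Transfer.omega_of_cyclic_index
        ((h.pgroup.to_subgroup M).to_subgroup D) h.odd hnc hcyc hDidx
      set Ω := closure {t : D | t ^ p = 1}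
      have hle : Nat.card Ω ≤ Nat.card (A ⊓ center G : Subgroup G) := by
        refine Nat.card_le_card_of_injective (fun t : Ω =>
          (⟨(((t : D) : M) : G), ?_⟩ : (A ⊓ center G : Subgroup G)))
          (fun s t e => Subtype.ext (Subtype.ext (Subtype.ext (congrArg Subtype.val e :))))
        have htp : (((t : D) : M) : G) ^ p = 1 := by
          rw [← Subgroup.coe_pow, ← Subgroup.coe_pow, hexp _ t.2]; rfl
        have hA' := h.mem_of_pow ((t : D) : M).2 htp
        refine h.mem_center_of_commute hA hx hA' ?_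
        have h1 : φ ((t : D) : M) ∈ zpowers a := hDmap ▸ mem_map_of_mem φ (t : D).2
        have h2 : φ ((t : D) : M) ∈ A ⊓ center G := h.comm_center hA' x
        refine commutatorElement_eq_one_iff_mul_comm.1 (by_contra fun hne => hac ?_)
        have hne' : φ ((t : D) : M) ≠ 1 := hne
        have heq : zpowers (φ ((t : D) : M)) = zpowers a := eq_of_le_of_card_ge (zpowers_le.2 h1)
          (by rw [Nat.card_zpowers, Nat.card_zpowers, hap,
            orderOf_eq_prime (h.pow_p_eq_one h2.1) hne'])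
        exact (zpowers_le.2 h2 (heq ▸ mem_zpowers a)).2
      rw [hcard, h.card_inf_center hA, pow_two] at hle
      have := hp.out.one_lt
      nlinarith
    obtain ⟨⟨g, hgD⟩, hg⟩ := hDcyc.exists_generator
    have hggen : D ≤ zpowers g := fun t ht => by
      obtain ⟨e, he⟩ := mem_zpowers_iff.1 (hg ⟨t, ht⟩)
      exact mem_zpowers_iff.2 ⟨e, by simpa using congrArg Subtype.val he⟩
    obtain ⟨e, he⟩ := mem_zpowers_iff.1 (hggen (mem_sup_left (mem_zpowers (⟨d, hdM⟩ : M))))
    have hDd : D ≤ zpowers (⟨d, hdM⟩ : M) := by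
      refine hggen.trans (zpowers_le.2 ?_)
      have hep : ¬ (p : ℤ) ∣ e := by
        rintro ⟨e', rfl⟩
        refine hdC ?_
        have hgp : g ^ p ∈ φ.ker := by
          rw [MonoidHom.mem_ker, map_pow]
          exact h.pow_p_eq_one (hN g g.2)
        have : (⟨d, hdM⟩ : M) ∈ φ.ker := by
          rw [← he, zpow_mul, zpow_natCast]; exact zpow_mem hgp e'
        rwa [hker] at this
      obtain ⟨K, hK⟩ := IsPGroup.iff_orderOf.1 (h.pgroup.to_subgroup M) g
      obtain ⟨u, v, huv⟩ : IsCoprime e ((p : ℤ) ^ K) :=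
        ((Nat.prime_iff_prime_int.1 hp.out).coprime_iff_not_dvd.2 hep).symm.pow_right
      refine mem_zpowers_iff.2 ⟨u, ?_⟩
      rw [← he, ← zpow_mul]
      conv_rhs => rw [← zpow_one g, ← huv, zpow_add, show v * (p : ℤ) ^ K = ((p ^ K : ℕ) : ℤ) * v by
        push_cast; ring, zpow_mul g ((p ^ K : ℕ) : ℤ), zpow_natCast, ← hK, pow_orderOf_eq_one,
        one_zpow, mul_one, mul_comm]
    have hDeq : D = zpowers (⟨d, hdM⟩ : M) := le_antisymm hDd (le_sup_left)
    have hdord : orderOf d = p ^ (k + 1) := by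
      have h1 := (φ.ker.subgroupOf D).card_mul_index
      rw [hDidx, Nat.card_congr (subgroupOfEquivOfLe hkD).toEquiv, hkerc, hDeq, Nat.card_zpowers,
        Subgroup.orderOf_mk, ← pow_succ] at h1
      exact h1.symm
    have hcd : c ∈ zpowers d := by
      have : (⟨c, hcM⟩ : M) ∈ D := mem_sup_right (by rw [hker, mem_subgroupOf]; exact mem_zpowers c)
      obtain ⟨l, hl⟩ := mem_zpowers_iff.1 (hDeq ▸ this)
      exact mem_zpowers_iff.2 ⟨l, by simpa using congrArg Subtype.val hl⟩
    refine ⟨by omega, ?_⟩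
    set ζ := d ^ p ^ (n - 3) with hζdef
    have hζord : orderOf ζ = p := by
      rw [hζdef, orderOf_pow' _ (pow_ne_zero _ hp.out.ne_zero), hdord, show n - 3 = k by omega,
        Nat.gcd_eq_right (pow_dvd_pow p (Nat.le_succ k)), pow_succ, Nat.mul_div_cancel_left _
        (pow_pos hp.out.pos k)]
    have hζgen : zpowers ζ = A ⊓ center G := by
      refine eq_of_le_of_card_ge (zpowers_le.2 ?_) (by rw [Nat.card_zpowers, hζord, h.card_inf_center hA])
      refine h.killed_central hA hx (pow_mem hdM _) ?_ (orderOf_dvd_iff_pow_eq_one.1 hζord.dvd)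
      have hk' : d ^ p ^ k ∈ A := by
        refine h.mem_of_pow (pow_mem hdM _) ?_
        rw [← pow_mul, ← pow_succ, ← hdord, pow_orderOf_eq_one]
      have h1 : ⁅x, d ^ p ^ k⁆ = 1 := by
        rw [← hφ _ (pow_mem hdM _), show (⟨d ^ p ^ k, pow_mem hdM _⟩ : M) = ⟨d, hdM⟩ ^ p ^ k from rfl,
          map_pow, hφ, hd]
        rw [show k = k - 1 + 1 by omega, pow_succ', pow_mul, h.pow_p_eq_one ha, one_pow]
      rw [hζdef, show n - 3 = k by omega]
      exact commutatorElement_eq_one_iff_mul_comm.1 h1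
    have hζZ : ζ ∈ A ⊓ center G := hζgen ▸ mem_zpowers ζ
    set y₀ := (x⁻¹ * a * x)⁻¹ with hy₀def
    have hy₀A : y₀ ∈ A := inv_mem (by simpa using h.normal.conj_mem a ha x⁻¹)
    have hxd : x⁻¹ * d * x = y₀ * d := by
      rw [hy₀def, ← hd, commutatorElement_def]; group
    have hy₀c : y₀ ∉ center G := fun e => hac (by
      rw [hy₀def, inv_mem_iff] at e
      have := (inferInstance : (center G).Normal).conj_mem _ e x
      simpa [mul_assoc] using this)
    obtain ⟨t, ht⟩ : ⁅x, y₀⁆⁻¹ ∈ Submonoid.powers ζ :=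
      mem_powers_iff_mem_zpowers.2 (hζgen.ge (inv_mem (h.comm_center hy₀A x)))
    simp only at ht
    have hxy : x⁻¹ * y₀ * x = y₀ * ζ ^ t := by
      refine conj_inv_of hζZ.2 ?_
      rw [ht, inv_inv, show x * y₀ * x⁻¹ = ⁅x, y₀⁆ * y₀ by rw [commutatorElement_def]; group]
      exact (mem_center_iff.1 (h.comm_center hy₀A x).2 y₀).symm
    have htp : ((t : ℕ) : ZMod p) ≠ 0 := fun e => hy₀c (h.mem_center_of_commute hA hx hy₀A (by
      rw [ZMod.natCast_eq_zero_iff] at e
      rw [orderOf_dvd_iff_pow_eq_one.1 (hζord ▸ e), mul_one, mul_assoc, inv_mul_eq_iff_eq_mul] at hxy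
      exact hxy.symm)).2
    have hiter : ∀ l : ℕ, ∃ K : ℕ, (x ^ l)⁻¹ * y₀ * x ^ l = y₀ * ζ ^ (t * l) ∧
        (x ^ l)⁻¹ * d * x ^ l = y₀ ^ l * ζ ^ K * d := by
      intro l
      induction l with
      | zero => exact ⟨0, by simp, by simp⟩
      | succ l ih =>
        obtain ⟨K, h1, h2⟩ := ih
        have hz : ∀ N : ℕ, x⁻¹ * ζ ^ N * x = ζ ^ N := fun N => by
          rw [mul_assoc, ← mem_center_iff.1 (pow_mem hζZ.2 N) x, inv_mul_cancel_left]
        refine ⟨t * l + K, ?_, ?_⟩
        · rw [pow_succ, show (x ^ l * x)⁻¹ * y₀ * (x ^ l * x) = x⁻¹ * ((x ^ l)⁻¹ * y₀ * x ^ l) * x by group, h1,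
            show x⁻¹ * (y₀ * ζ ^ (t * l)) * x = (x⁻¹ * y₀ * x) * (x⁻¹ * ζ ^ (t * l) * x) by group,
            hxy, hz, mul_assoc, ← pow_add]
          congr 2; ring
        · rw [pow_succ x, show (x ^ l * x)⁻¹ * d * (x ^ l * x) = x⁻¹ * ((x ^ l)⁻¹ * d * x ^ l) * x by group, h2,
            show x⁻¹ * (y₀ ^ l * ζ ^ K * d) * x = (x⁻¹ * y₀ * x⁻¹⁻¹) ^ l * (x⁻¹ * ζ ^ K * x) * (x⁻¹ * d * x) by
              rw [conj_pow]; group,
            inv_inv, hxy, hz, hxd,
            (show Commute y₀ (ζ ^ t) from mem_center_iff.1 (pow_mem hζZ.2 t) y₀).mul_pow, ← pow_mul,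
            show y₀ ^ l * ζ ^ (t * l) * ζ ^ K * (y₀ * d) = y₀ ^ l * (ζ ^ (t * l) * ζ ^ K * y₀) * d by group,
            ← pow_add, ← mem_center_iff.1 (pow_mem hζZ.2 _) y₀, pow_succ y₀]
          group
    obtain ⟨s, l, hs, hl, hsl⟩ : ∃ s l : ℕ, (s = 1 ∨ ¬ IsSquare (s : ZMod p)) ∧ (l : ZMod p) ≠ 0 ∧
        ((t * l * l : ℕ) : ZMod p) = s := by
      by_cases hsq : IsSquare (t : ZMod p)
      · obtain ⟨r, hr⟩ := hsq
        have hr0 : r ≠ 0 := fun e => htp (by rw [hr, e, mul_zero])
        refine ⟨1, r⁻¹.val, Or.inl rfl, by rw [ZMod.natCast_zmod_val]; exact inv_ne_zero hr0, ?_⟩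
        rw [Nat.cast_mul, Nat.cast_mul, hr, ZMod.natCast_zmod_val, Nat.cast_one]
        field_simp
      · exact ⟨t, 1, Or.inr hsq, by rw [Nat.cast_one]; exact one_ne_zero, by rw [mul_one, mul_one]⟩
    obtain ⟨K, h1, h2⟩ := hiter l
    have hζpow : ∀ N : ℕ, (N : ZMod p) = (s : ZMod p) → ζ ^ N = ζ ^ s := fun N hN => by
      rw [pow_eq_pow_iff_modEq, hζord]
      exact (ZMod.natCast_eq_natCast_iff _ _ _).1 hN
    set y := y₀ ^ l * ζ ^ K with hy
    have hyA : y ∈ A := mul_mem (pow_mem hy₀A l) (pow_mem hζZ.1 K)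
    refine ⟨s, x ^ l, y, d, hs, ?_, ?_, h.pow_p_eq_one hyA, ?_, (h.commute hyA hdM).eq, ?_, h2⟩
    · set S := closure ({x ^ l, y, d} : Set G)
      have hlc : ∀ g : G, g ^ p = 1 → g ^ l ∈ S → g ∈ S := fun g hg hgl => by
        set l' := ((l : ZMod p)⁻¹).val
        have : g = (g ^ l) ^ l' := by
          rcases eq_or_ne g 1 with rfl | hg1
          · simp
          conv_lhs => rw [← pow_one g]
          rw [← pow_mul, pow_eq_pow_iff_modEq, orderOf_eq_prime hg hg1]
          exact (ZMod.natCast_eq_natCast_iff _ _ _).1 (by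
            rw [Nat.cast_one, Nat.cast_mul, ZMod.natCast_zmod_val, mul_inv_cancel₀ hl])
        rw [this]; exact pow_mem hgl l'
      have hdS : d ∈ S := subset_closure (by simp)
      have hxS : x ∈ S := hlc x hxp (subset_closure (by simp))
      have hZS : A ⊓ center G ≤ S := hζgen ▸ zpowers_le.2 (pow_mem hdS _)
      have hy₀S : y₀ ∈ S := hlc y₀ (h.pow_p_eq_one hy₀A) (by
        have hyS : y ∈ S := subset_closure (by simp)
        rw [show y₀ ^ l = y * (ζ ^ K)⁻¹ by rw [hy, mul_inv_cancel_right]]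
        exact mul_mem hyS (inv_mem (hZS (pow_mem hζZ K))))
      have hAS : A ≤ S := by
        have hsup' : zpowers y₀ ⊔ (A ⊓ center G) = A := by
          refine eq_of_le_of_card_ge (sup_le (zpowers_le.2 hy₀A) inf_le_left) ?_
          have hlt : A ⊓ center G < zpowers y₀ ⊔ (A ⊓ center G) :=
            lt_of_le_of_ne le_sup_right fun e => hy₀c (e.ge (mem_sup_left (mem_zpowers y₀))).2
          have := CfsgLib.Transfer.prime_mul_card_le h.pgroup hlt
          rw [h.card_inf_center hA] at this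
          rw [h.card, pow_two]
          exact this
        exact hsup' ▸ sup_le (zpowers_le.2 hy₀S) hZS
      refine h.eq_top hA (fun m hm => ?_) hxS hx
      obtain ⟨b, hb, z, hz, hbz⟩ := (Subgroup.mem_sup_of_normal_right (t := A ⊓ center G)).1
        (hsup.ge (hRA ⟨⟨m, hm⟩, rfl⟩))
      obtain ⟨e₁, rfl⟩ := mem_zpowers_iff.1 hb
      obtain ⟨e₂, rfl⟩ := mem_zpowers_iff.1 (hZgen.ge hz)
      have hmem : ((⟨d, hdM⟩ : M) ^ e₁ * ⟨a, h.le_M ha⟩ ^ e₂)⁻¹ * ⟨m, hm⟩ ∈ φ.ker := by
        rw [MonoidHom.mem_ker, map_mul, map_inv, map_mul, map_zpow, map_zpow, hφ, hφ, hd, hφ, ← hz₀,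
          inv_mul_eq_one]
        exact hbz
      rw [hker, mem_subgroupOf] at hmem
      have hcS : c ∈ S := zpowers_le.2 hdS hcd
      have := mul_mem (mul_mem (zpow_mem hdS e₁) (zpow_mem (hAS ha) e₂)) (zpowers_le.2 hcS hmem)
      simpa [mul_assoc] using this
    · rw [← pow_mul, mul_comm, pow_mul, hxp, one_pow]
    · rw [show n - 2 = k + 1 by omega, ← hdord, pow_orderOf_eq_one]
    · rw [mul_comm s, pow_mul, ← hζdef, hy,
        show (x ^ l)⁻¹ * (y₀ ^ l * ζ ^ K) * x ^ l =
          ((x ^ l)⁻¹ * y₀ * (x ^ l)⁻¹⁻¹) ^ l * ((x ^ l)⁻¹ * (ζ ^ K * x ^ l)) by rw [conj_pow]; group,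
        inv_inv, h1, ← mem_center_iff.1 (pow_mem hζZ.2 K) (x ^ l), inv_mul_cancel_left,
        (show Commute y₀ (ζ ^ (t * l)) from mem_center_iff.1 (pow_mem hζZ.2 _) y₀).mul_pow, ← pow_mul,
        ← hζpow _ hsl]
      simp only [mul_assoc, ← pow_add, add_comm]

/-- An element outside `M` with `p`-th power in the centre and small centralizer in `M` forces maximal class. -/
theorem Setup.maximal (h : Setup p A) (hA : ¬ A ≤ center G) {x c : G} (hx : x ∉ M)
    (hxZ : x ^ p ∈ A ⊓ center G) (hc : zpowers c = M ⊓ centralizer {x}) (hco : orderOf c = p)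
    (n : ℕ) (hn : Nat.card G = p ^ n) :
    2 ≤ n ∧ (⊤ : Subgroup G).lowerCentralSeries (n - 2) ≠ ⊥ := by
  haveI := h.M_normal
  set C := centralizer ({x} : Set G) with hC
  have hCle : Nat.card C ≤ p ^ 2 := by
    have h1 := ((M).subgroupOf C).card_mul_index
    have h2 : Nat.card ((M).subgroupOf C) = p := by
      rw [← Subgroup.inf_subgroupOf_right, Nat.card_congr (subgroupOfEquivOfLe (inf_le_right : M ⊓ C ≤ C)).toEquiv,
        ← hc, Nat.card_zpowers, hco]
    rw [← h1, h2, pow_two]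
    exact Nat.mul_le_mul_left p ((Nat.le_of_dvd hp.out.pos
      (h.index_M hA ▸ (M).relIndex_dvd_index_of_normal C)))
  have hZC : A ⊓ center G ≤ C := fun z hz => mem_centralizer_singleton_iff.2 (mem_center_iff.1 hz.2 x).symm
  have hlt : A ⊓ center G < C := lt_of_le_of_ne hZC fun e =>
    hx (h.le_M (e.ge (mem_centralizer_singleton_iff.2 rfl)).1)
  have hCge := CfsgLib.Transfer.prime_mul_card_le h.pgroup hlt
  rw [h.card_inf_center hA, ← pow_two] at hCge
  have hC2 := le_antisymm hCle hCge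
  have hcomm : IsMulCommutative C := IsPGroup.isMulCommutative_of_card_eq_prime_sq hC2
  have hself : centralizer (C : Set G) = C := le_antisymm
    (centralizer_le (Set.singleton_subset_iff.2 (mem_centralizer_singleton_iff.2 rfl)))
    fun g hg => mem_centralizer_iff.2 fun g' hg' =>
      congrArg Subtype.val (hcomm.is_comm.comm ⟨g', hg'⟩ ⟨g, hg⟩)
  have hn2 : 2 ≤ n := (Nat.pow_le_pow_iff_right hp.out.one_lt).1 (hC2 ▸ hn ▸ card_le_card_group C)
  refine ⟨hn2, fun e => ?_⟩
  have := h.pgroup.isNilpotent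
  have h1 := Subgroup.lowerCentralSeries_eq_bot_iff_nilpotencyClass_le.1 e
  rw [CfsgLib.Transfer.nilpotencyClass_of_self_centralizing hn C hC2 hself] at h1
  omega

/-- Equal `p`-th powers differ by an element killed by `p`, unless some element outside `M` has a central cube. -/
theorem Setup.rigid (h : Setup p A) (hall : ∀ g : G, g ^ p = 1 → g ∈ A)
    (hcase : A ≤ center G ∨ (p = 3 ∧ ¬ A ≤ center G ∧ ∀ g ∉ M, g ^ 3 ∉ A ⊓ center G)) :
    HuppertMetacyclic.PowRigid p G := by
  suffices H : ∀ (N : ℕ) (x y : G), Nat.card (closure ({x, y} : Set G)) ≤ N → x ^ p = y ^ p →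
      (x⁻¹ * y) ^ p = 1 from fun x y e => H _ x y le_rfl e
  intro N
  induction N with
  | zero => intro x y hc; exact absurd hc (not_le.2 Nat.card_pos)
  | succ N ih =>
    intro x₀ y₀ hcard hxy₀
    have hstep : ∀ x y : G, closure ({x, y} : Set G) = closure ({x₀, y₀} : Set G) → x ^ p = y ^ p →
        x⁻¹ * (y * x * y⁻¹) ∈ A := by
      intro x y hxy e
      refine hall _ ?_
      set H := closure ({x, y} : Set G) with hH
      have hxH : x ∈ H := subset_closure (by simp)
      have hyH : y ∈ H := subset_closure (by simp)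
      rcases eq_top_or_exists_le_coatom ((zpowers x).subgroupOf H) with ht | ⟨L, hL, hxL⟩
      · rw [subgroupOf_eq_top] at ht
        obtain ⟨i, rfl⟩ := mem_zpowers_iff.1 (ht hyH)
        rw [(Commute.zpow_self x i).eq, mul_inv_cancel_right, inv_mul_cancel, one_pow]
      have hLn := normal_of_isCoatom (h.pgroup.to_subgroup H) hL
      have hxL' : (⟨x, hxH⟩ : H) ∈ L := hxL (mem_subgroupOf.2 (mem_zpowers x))
      refine ih x _ ?_ (by rw [conj_pow, e, ← pow_succ', pow_succ, mul_inv_cancel_right])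
      have hle : closure ({x, y * x * y⁻¹} : Set G) ≤ L.map H.subtype := by
        rw [closure_le]
        rintro _ (rfl | rfl)
        · exact ⟨_, hxL', rfl⟩
        · exact ⟨_, hLn.conj_mem _ hxL' ⟨y, hyH⟩, rfl⟩
      have h1 := card_le_of_le hle
      rw [card_map_of_injective H.subtype_injective] at h1
      have h2 : Nat.card L < Nat.card H := lt_of_le_of_ne (card_le_card_group L) fun e' =>
        hL.1 (eq_top_of_card_eq L e')
      rw [← hxy] at hcard
      omega
    have hcentral : ∀ x y : G, closure ({x, y} : Set G) = closure ({x₀, y₀} : Set G) → x ^ p = y ^ p →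
        x ∈ M → y ∈ M → (x⁻¹ * y) ^ p = 1 := by
      intro x y hxy e hxM hyM
      set c := x⁻¹ * (y * x * y⁻¹) with hc
      have hcA := hstep x y hxy e
      have hcx : Commute x⁻¹ c := (h.commute hcA (inv_mem hxM)).symm
      have hcy : Commute y c := (h.commute hcA hyM).symm
      have key := CfsgLib.OddLocal.RankTwo.mul_pow_classThree (one_mem (center G)) (one_mem (center G))
        (x := x⁻¹) (w := y) (u := c⁻¹)
        (by
          calc y * x⁻¹ = c⁻¹ * x⁻¹ * y := by rw [hc]; group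
            _ = x⁻¹ * (c⁻¹ * y) := by rw [← hcx.inv_right.eq, mul_assoc]
            _ = x⁻¹ * y * c⁻¹ := by rw [← hcy.inv_right.eq, mul_assoc])
        (by rw [mul_one]; exact hcx.inv_right.eq.symm) (by rw [mul_one]; exact hcy.inv_right.eq.symm) p
      obtain ⟨i, hi⟩ := CfsgLib.Transfer.dvd_choose_two (p := p) h.odd
      rw [key, inv_pow, e, inv_mul_cancel, one_mul, hi, pow_mul, inv_pow, h.pow_p_eq_one hcA]
      simp
    rcases hcase with hAc | ⟨rfl, hA, hno⟩
    · have hM : ∀ g : G, g ∈ M := fun g => mem_centralizer_iff.2 fun a ha =>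
        (mem_center_iff.1 (hAc ha) g).symm
      exact hcentral x₀ y₀ rfl hxy₀ (hM _) (hM _)
    haveI := h.M_normal
    have hidx := h.index_M hA
    -- the main case
    have main : ∀ x y : G, closure ({x, y} : Set G) = closure ({x₀, y₀} : Set G) → x ^ 3 = y ^ 3 →
        x ∉ M → (x⁻¹ * y) ^ 3 = 1 := by
      intro x y hxy e hxM
      have hcA := hstep x y hxy e
      obtain ⟨j, m, hj, hmM, hym⟩ : ∃ j : ℕ, ∃ m : G, j < 3 ∧ m ∈ M ∧ y = x ^ j * m := by
        have hcy : zpowers (x : G ⧸ M) = ⊤ := by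
          refine eq_top_of_card_eq _ ?_
          rw [← (M).index_eq_card, hidx, Nat.card_zpowers]
          refine orderOf_eq_prime ?_ fun e1 => hxM ((QuotientGroup.eq_one_iff x).1 e1)
          rw [← QuotientGroup.mk_pow, QuotientGroup.eq_one_iff, ← hidx]
          exact (M).pow_index_mem x
        obtain ⟨j, hj⟩ := mem_powers_iff_mem_zpowers.2 (hcy ▸ mem_top (y : G ⧸ M))
        simp only at hj
        refine ⟨j % 3, (x ^ (j % 3))⁻¹ * y, Nat.mod_lt _ (by norm_num), ?_, by group⟩
        rw [← QuotientGroup.eq, ← hj, ← QuotientGroup.mk_pow, QuotientGroup.eq]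
        have : x ^ 3 ∈ M := hidx ▸ (M).pow_index_mem x
        rw [show (x ^ (j % 3))⁻¹ * x ^ j = (x ^ (j % 3))⁻¹ * (x ^ (j % 3) * (x ^ 3) ^ (j / 3)) by
          rw [← pow_mul, ← pow_add, Nat.mod_add_div], inv_mul_cancel_left]
        exact pow_mem this _
      set v := ⁅x, m⁆ with hv
      have hvA : v ∈ A := by
        have e1 : v = x * ((x ^ j)⁻¹ * (x⁻¹ * (y * x * y⁻¹)) * x ^ j)⁻¹ * x⁻¹ := by
          rw [hv, commutatorElement_def, hym]; group
        rw [e1]
        refine h.normal.conj_mem _ (inv_mem ?_) x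
        simpa using h.normal.conj_mem _ hcA (x ^ j)⁻¹
      set u := ⁅x, v⁆ with hu
      have huZ := h.comm_center hvA x
      have hxg : x * m * x⁻¹ = v * m := by rw [hv, commutatorElement_def]; group
      have hxv : x * v * x⁻¹ = u * v := by rw [hu, commutatorElement_def]; group
      have hxu : x * u * x⁻¹ = u := by rw [mem_center_iff.1 huZ.2 x, mul_inv_cancel_right]
      have hmv : Commute m v := (h.commute hvA hmM).symm
      have hmu : Commute m u := (h.commute huZ.1 hmM).symm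
      have hvu : Commute v u := (h.commute huZ.1 (h.le_M hvA)).symm
      have hv3 : v ^ 3 = 1 := h.pow_p_eq_one hvA
      have hx3m : Commute (x ^ 3) m := by
        have h1 : Commute (x ^ 3) y := e ▸ (Commute.refl y).pow_left 3
        have h2 : Commute (x ^ 3) x := (Commute.refl x).pow_left 3
        rw [show m = (x ^ j)⁻¹ * y by rw [hym, inv_mul_cancel_left]]
        exact (h2.pow_right j).inv_right.mul_right h1
      have hmx : m * x ∉ M := fun h1 => hxM (by simpa using mul_mem (inv_mem hmM) h1)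
      have cube := cube_conj hxg hxv hxu hmv hmu hvu hv3
      have hy3 : (m * x ^ j) ^ 3 = x ^ 3 := by
        rw [show m * x ^ j = (x ^ j)⁻¹ * (x ^ j * m) * (x ^ j)⁻¹⁻¹ by group, conj_pow, ← hym, ← e,
          ((Commute.refl x).pow_pow j 3).inv_left.eq, mul_inv_cancel_right]
      rcases (show j = 0 ∨ j = 1 ∨ j = 2 by omega) with rfl | rfl | rfl
      · exfalso
        rw [pow_zero, mul_one] at hy3
        have hxg' : x * m⁻¹ * x⁻¹ = v⁻¹ * m⁻¹ := by
          rw [show x * m⁻¹ * x⁻¹ = (x * m * x⁻¹)⁻¹ by group, hxg, mul_inv_rev]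
          exact hmv.inv_inv.eq
        have hxv' : x * v⁻¹ * x⁻¹ = u⁻¹ * v⁻¹ := by
          rw [show x * v⁻¹ * x⁻¹ = (x * v * x⁻¹)⁻¹ by group, hxv, mul_inv_rev]
          exact hvu.inv_inv.eq
        have hxu' : x * u⁻¹ * x⁻¹ = u⁻¹ := by
          rw [show x * u⁻¹ * x⁻¹ = (x * u * x⁻¹)⁻¹ by group, hxu]
        have cube' := cube_conj hxg' hxv' hxu' hmv.inv_inv hmu.inv_inv hvu.inv_inv
          (by rw [inv_pow, hv3, inv_one])
        refine hno (m⁻¹ * x) (fun h1 => hxM (by simpa using mul_mem hmM h1)) ?_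
        rw [cube', ← hy3, inv_pow, mem_center_iff.1 (inv_mem huZ.2), mul_assoc, inv_mul_cancel, mul_one]
        exact inv_mem huZ
      · rw [pow_one] at hy3
        rw [cube, mul_eq_right] at hy3
        -- `m ^ 3 * u = 1`
        have hx9 : ∃ w ∈ M, x * w = w * x ∧ Commute m w ∧ w ^ 3 = u := by
          obtain ⟨l, hl⟩ := IsPGroup.iff_orderOf.1 h.pgroup (x ^ 3)
          have hx3M : x ^ 3 ∈ M := hidx ▸ (M).pow_index_mem x
          have hx3x : x * x ^ 3 = x ^ 3 * x := by rw [← pow_succ, ← pow_succ']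
          rcases (show l ≤ 1 ∨ 2 ≤ l by omega) with hl1 | hl2
          · exfalso
            refine hno x hxM (h.killed_central hA hxM hx3M hx3x ?_)
            rw [← orderOf_dvd_iff_pow_eq_one, hl]
            exact (pow_dvd_pow 3 hl1).trans (by norm_num)
          set w₁ := (x ^ 3) ^ 3 ^ (l - 2) with hw₁
          have hord : orderOf (w₁ ^ 3) = 3 := by
            rw [hw₁, ← pow_mul, ← pow_succ, orderOf_pow' _ (pow_ne_zero _ (by norm_num)), hl,
              Nat.gcd_eq_right (pow_dvd_pow 3 (by omega)), Nat.pow_div (by omega) (by norm_num),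
              show l - (l - 2 + 1) = 1 by omega, pow_one]
          have hgen : zpowers (w₁ ^ 3) = A ⊓ center G := by
            refine eq_of_le_of_card_ge (zpowers_le.2 ?_) (by rw [Nat.card_zpowers, hord, h.card_inf_center hA])
            refine h.killed_central hA hxM (pow_mem (pow_mem hx3M _) _) ?_ (orderOf_dvd_iff_pow_eq_one.1 hord.dvd)
            rw [hw₁, ← pow_mul]
            exact ((show Commute x (x ^ 3) from hx3x).pow_right _).eq
          obtain ⟨i, hi⟩ := mem_powers_iff_mem_zpowers.2 (hgen.ge huZ)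
          simp only at hi
          exact ⟨w₁ ^ i, pow_mem (pow_mem hx3M _) _, (((show Commute x (x ^ 3) from hx3x).pow_right _).pow_right _).eq,
            ((hx3m.symm.pow_right _).pow_right _), by show (w₁ ^ i) ^ 3 = ⁅x, v⁆; rw [← hi, ← pow_mul w₁ i 3, ← pow_mul w₁ 3 i, mul_comm]⟩
        obtain ⟨w, hwM, hwx, hmw, hw3⟩ := hx9
        have hgA : m * w ∈ A := h.mem_of_pow (mul_mem hmM hwM) (by rw [hmw.mul_pow, hw3, hy3])
        have hvZ : v ∈ A ⊓ center G := by
          have := h.comm_center hgA x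
          rwa [h.commutator_mul hmM (by rw [commutatorElement_eq_one_iff_mul_comm.2 hwx]; exact one_mem A),
            commutatorElement_eq_one_iff_mul_comm.2 hwx, mul_one] at this
        rw [hym, pow_one, inv_mul_cancel_left]
        rwa [show u = 1 from commutatorElement_eq_one_iff_mul_comm.2 (mem_center_iff.1 hvZ.2 x), mul_one] at hy3
      · exfalso
        have h2 : x ^ 2 * m * (x ^ 2)⁻¹ = v ^ 2 * u * m := by
          have := conj_pow_chain (y := m) hxg hxv (by rw [one_mul]; exact hxu) (by rw [mul_one, mul_inv_cancel]) hvu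
            (Commute.one_right v) (Commute.one_right u) 2
          simpa using this
        have h4 : x ^ 4 * m * (x ^ 4)⁻¹ = x * m * x⁻¹ := by
          rw [show x ^ 4 * m * (x ^ 4)⁻¹ = x * (x ^ 3 * m * (x ^ 3)⁻¹) * x⁻¹ by group, hx3m.eq,
            mul_inv_cancel_right]
        have h6 : (m * x ^ 2) ^ 3 = m ^ 3 * u * x ^ 6 := by
          calc (m * x ^ 2) ^ 3 = m * (x ^ 2 * m * (x ^ 2)⁻¹) * (x ^ 4 * m * (x ^ 4)⁻¹) * x ^ 6 := by
                rw [pow_succ, pow_succ, pow_one]; group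
            _ = m * (v ^ 2 * u) * (m * v) * m * x ^ 6 := by rw [h2, h4, hxg]; group
            _ = m * m * (v ^ 2 * u * v) * m * x ^ 6 := by
              rw [show m * (v ^ 2 * u) * (m * v) = m * ((v ^ 2 * u) * m) * v by group,
                ← ((hmv.pow_right 2).mul_right hmu).eq]
              group
            _ = m * m * (u * m) * x ^ 6 := by
              rw [mul_assoc (v ^ 2), ← hvu.eq, ← mul_assoc (v ^ 2), ← pow_succ, hv3, one_mul]; group
            _ = m ^ 3 * u * x ^ 6 := by rw [← hmu.eq]; simp only [pow_succ, pow_zero, one_mul, mul_assoc]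
        rw [h6, show x ^ 6 = x ^ 3 * x ^ 3 by rw [← pow_add], ← mul_assoc, mul_eq_right] at hy3
        refine hno (m * x) hmx ?_
        rw [cube, hy3]; exact one_mem _
    by_cases hxM : x₀ ∈ M
    · by_cases hyM : y₀ ∈ M
      · exact hcentral x₀ y₀ rfl hxy₀ hxM hyM
      · have := main y₀ x₀ (by rw [Set.pair_comm]) hxy₀.symm hyM
        rw [show x₀⁻¹ * y₀ = (y₀⁻¹ * x₀)⁻¹ by group, inv_pow, this, inv_one]
    · exact main x₀ y₀ rfl hxy₀ hxM

end CfsgLib.PGroup.RankTwoClass
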