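import Mathlib
import Cfsg.Agent.Lib.InvolChar.ThreeInvolutions
import Cfsg.Agent.Lib.Solvable.FrobeniusComplement

/-!
Anisotropic quadratic maps between elementary abelian `2`-groups with a group of symmetries that
is transitive on the nonidentity elements of the target.
-/

set_option autoImplicit false
set_option linter.style.haveILetI false

namespace CfsgLib.PGroup.AnisoQuad

open Finset
open CfsgLib.InvolChar.ThreeInvolutions

/-- An anisotropic quadratic map between groups of exponent two. -/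
structure Form (M V : Type*) [CommGroup M] [CommGroup V] where
  q : M → V
  sqM : ∀ u : M, u ^ 2 = 1
  sqV : ∀ v : V, v ^ 2 = 1
  q_one : q 1 = 1
  aniso : ∀ u, q u = 1 → u = 1
  cubic : ∀ u v w, q (u * v * w) * q (u * v) * q (u * w) * q (v * w) * q u * q v * q w = 1

theorem eq_of_mul_eq_one {V : Type*} [CommGroup V] (h2 : ∀ v : V, v ^ 2 = 1) {a b : V}
    (h : a * b = 1) : a = b := by
  rw [mul_eq_one_iff_eq_inv.1 h]
  exact inv_eq_of_mul_eq_one_right (by rw [← sq, h2])

namespace Form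

variable {M V : Type*} [CommGroup M] [CommGroup V] (F : Form M V)

/-- The polar map. -/
def bil (u v : M) : V := F.q (u * v) * F.q u * F.q v

theorem bil_comm (u v : M) : F.bil u v = F.bil v u := by
  unfold Form.bil
  rw [mul_comm u v, mul_right_comm]

theorem bil_mul_left (u v w : M) : F.bil (u * v) w = F.bil u w * F.bil v w := by
  refine eq_of_mul_eq_one F.sqV ?_
  have h2 : ∀ a : V, a * a = 1 := fun a => by rw [← sq, F.sqV]
  rw [← F.cubic u v w]
  unfold Form.bil
  calc F.q (u * v * w) * F.q (u * v) * F.q w *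
        (F.q (u * w) * F.q u * F.q w * (F.q (v * w) * F.q v * F.q w))
      = F.q (u * v * w) * F.q (u * v) * F.q (u * w) * F.q (v * w) * F.q u * F.q v *
          (F.q w * (F.q w * F.q w)) := by ac_rfl
    _ = _ := by rw [h2, mul_one]

/-- The polar map as a homomorphism in the second variable. -/
def bilHom (u : M) : M →* V :=
  MonoidHom.mk' (F.bil u) fun v w => by
    rw [F.bil_comm u (v * w), F.bil_mul_left, F.bil_comm v u, F.bil_comm w u]

theorem bilHom_apply (u v : M) : F.bilHom u v = F.bil u v := rfl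

theorem eq_of_bil_eq_one {u v : M} (hb : F.bil u v = 1) (hq : F.q u = F.q v) : u = v := by
  refine eq_of_mul_eq_one F.sqM (F.aniso _ ?_)
  have hb' : F.q (u * v) * F.q u * F.q v = 1 := hb
  rwa [mul_assoc, hq, ← sq, F.sqV, mul_one] at hb'

include F in
/-- An anisotropic quadratic map has a source of order at most the square of the target's. -/
theorem card_le [Finite M] [Finite V] {n : ℕ} (hn : Nat.card V = 2 ^ n) :
    ∃ m : ℕ, Nat.card M = 2 ^ m ∧ m ≤ 2 * n := by
  classical
  haveI : Fact (Nat.Prime 2) := ⟨Nat.prime_two⟩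
  haveI : Fintype M := Fintype.ofFinite M
  obtain ⟨d, L, -, hd, hL, -, -⟩ :=
    CfsgLib.InvolChar.A8Section.exists_linear_model F.sqV
  obtain rfl : d = n := Nat.pow_right_injective (le_refl 2) (hd.symm.trans hn)
  obtain ⟨m, hm⟩ :=
    (IsPGroup.iff_card (p := 2) (G := M)).1 (fun u => ⟨1, by rw [pow_one, F.sqM]⟩)
  refine ⟨m, hm, ?_⟩
  by_contra hlt
  have hL1 : L 1 = 0 := by
    have := hL 1 1
    rw [mul_one] at this
    exact add_eq_left.1 this.symm
  have hone : ∀ i : Fin d, Deg 2 (fun u : M => L (F.q u) i) := by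
    intro i
    refine quad_deg fun u v w => ?_
    have h := congrArg (fun x => L x i) (F.cubic u v w)
    simp only [hL, Pi.add_apply, hL1, Pi.zero_apply] at h
    simp only [F.q_one, hL1, Pi.zero_apply, add_zero]
    exact h
  have hprod : ∀ s : Finset (Fin d), Deg (2 * s.card)
      (fun u : M => ∏ i ∈ s, (1 + L (F.q u) i)) := by
    intro s
    induction s using Finset.induction with
    | empty => simpa using Deg.const (V := M) 1 0
    | insert a s ha ih =>
      have e : (fun u : M => ∏ i ∈ insert a s, (1 + L (F.q u) i)) =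
          fun u => (1 + L (F.q u) a) * ∏ i ∈ s, (1 + L (F.q u) i) :=
        funext fun u => Finset.prod_insert ha
      rw [e, Finset.card_insert_of_notMem ha, show 2 * (s.card + 1) = 2 + 2 * s.card by ring]
      exact ((Deg.const 1 2).add (hone a)).mul ih
  have hsum := Deg.sum_eq_zero F.sqM (hprod univ) (by
    rw [hm, Finset.card_univ, Fintype.card_fin]
    exact Nat.pow_le_pow_right two_pos (by omega))
  rw [Finset.sum_eq_single_of_mem (1 : M) (mem_univ _) ?_] at hsum
  · simp [F.q_one, hL1] at hsum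
  intro u _ hu
  obtain ⟨i, hi⟩ : ∃ i, L (F.q u) i ≠ 0 := by
    by_contra h
    push Not at h
    exact hu (F.aniso u (L.injective ((funext h).trans hL1.symm)))
  refine Finset.prod_eq_zero (mem_univ i) ?_
  rcases CfsgLib.A8.zmod_two_cases (L (F.q u) i) with h | h
  · exact absurd h hi
  · rw [h]; rfl

end Form

theorem piece_arith {t d n : ℕ} (ht : Odd t) (ht1 : t ≠ 1) (htd : t * d ≤ 2 * n) (hd : 2 ≤ d)
    (hdvd : t ∣ 2 ^ n - 1) (hcov : 2 ^ n - 1 ≤ t * (2 ^ d - 1)) : False := by
  obtain ⟨k, rfl⟩ := ht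
  have hk : 1 ≤ k := by omega
  have h1 : 2 ^ n ≤ (2 * k + 1) * 2 ^ d := by
    rw [Nat.mul_sub_one] at hcov
    have : 1 ≤ 2 ^ n := Nat.one_le_two_pow
    have : (2 * k + 1) ≤ (2 * k + 1) * 2 ^ d := Nat.le_mul_of_pos_right _ (by positivity)
    omega
  have hkd : (2 * k + 1) * 2 ≤ (2 * k + 1) * d := Nat.mul_le_mul_left _ hd
  have hdn : d ≤ n := by
    have : 2 * d ≤ (2 * k + 1) * d := Nat.mul_le_mul_right _ (by omega)
    omega
  obtain ⟨m, rfl⟩ : ∃ m, n = d + m := ⟨n - d, by omega⟩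
  rw [pow_add, mul_comm (2 * k + 1)] at h1
  have h2 : 2 ^ m ≤ 2 * k + 1 := Nat.le_of_mul_le_mul_left h1 (by positivity)
  rcases eq_or_lt_of_le hk with rfl | hk2
  · -- three pieces
    have hm : m ≤ 1 := by
      by_contra h
      have : 2 ^ 2 ≤ 2 ^ m := Nat.pow_le_pow_right two_pos (by omega)
      omega
    have hd' : d ≤ 2 := by omega
    interval_cases m <;> interval_cases d <;> simp_all
  · have h5 : 5 * d ≤ (2 * k + 1) * d := Nat.mul_le_mul_right _ (by omega)
    have hm2 : ∀ j : ℕ, 2 * j ≤ 2 ^ j := by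
      intro j
      induction j with
      | zero => simp
      | succ j ih =>
        rcases Nat.eq_zero_or_pos j with rfl | hj
        · simp
        · rw [pow_succ]; omega
    have := hm2 m
    omega

variable {X M V : Type*} [Group X] [CommGroup M] [CommGroup V]

/-- The product of the images of `u` under a subgroup. -/
noncomputable def avg [Finite X] (φ : X →* MulAut M) (H : Subgroup X) : M →* M :=
  letI := Fintype.ofFinite H
  ∏ h : H, (φ (h : X)).toMonoidHom

/-- The subgroup fixed by `H`. -/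
def fixedBy (φ : X →* MulAut M) (H : Subgroup X) : Subgroup M where
  carrier := {u | ∀ h ∈ H, φ h u = u}
  one_mem' h _ := map_one _
  mul_mem' hu hv h hh := by rw [map_mul, hu h hh, hv h hh]
  inv_mem' hu h hh := by rw [map_inv, hu h hh]

theorem mem_fixedBy {φ : X →* MulAut M} {H : Subgroup X} {u : M} :
    u ∈ fixedBy φ H ↔ ∀ h ∈ H, φ h u = u := Iff.rfl

section

variable [Finite X] {φ : X →* MulAut M}

theorem avg_apply (H : Subgroup X) (u : M) [Fintype H] : avg φ H u = ∏ h : H, φ (h : X) u := by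
  unfold avg
  rw [MonoidHom.finsetProd_apply]
  exact Finset.prod_congr (by ext; simp) fun _ _ => rfl

theorem avg_mem_fixedBy (H : Subgroup X) (u : M) : avg φ H u ∈ fixedBy φ H := by
  haveI := Fintype.ofFinite H
  intro g hg
  rw [avg_apply, map_prod]
  refine Fintype.prod_equiv (Equiv.mulLeft (⟨g, hg⟩ : H)) _ _ fun h => ?_
  rw [← MulAut.mul_apply, ← map_mul]
  rfl

theorem avg_eq_self {H : Subgroup X} (hH : Odd (Nat.card H)) (h2 : ∀ u : M, u ^ 2 = 1) {u : M}
    (hu : u ∈ fixedBy φ H) : avg φ H u = u := by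
  haveI := Fintype.ofFinite H
  rw [avg_apply, Finset.prod_congr rfl (g := fun _ => u) (fun (h : H) _ => hu (h : X) h.2), Finset.prod_const, Finset.card_univ,
    ← Nat.card_eq_fintype_card]
  obtain ⟨k, hk⟩ := hH
  rw [hk, pow_succ, pow_mul, h2, one_pow, one_mul]

theorem avg_comm {A H : Subgroup X} (hA : ∀ a ∈ A, ∀ b ∈ A, a * b = b * a) (hHA : H ≤ A) {g : X}
    (hg : g ∈ A) (u : M) : φ g (avg φ H u) = avg φ H (φ g u) := by
  haveI := Fintype.ofFinite H
  rw [avg_apply, avg_apply, map_prod]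
  refine Finset.prod_congr rfl fun h _ => ?_
  rw [← MulAut.mul_apply, ← map_mul, ← MulAut.mul_apply, ← map_mul, hA g hg h (hHA h.2)]

theorem avg_mem {H : Subgroup X} {W : Subgroup M} (hW : ∀ h ∈ H, ∀ w ∈ W, φ h w ∈ W) {u : M}
    (hu : u ∈ W) : avg φ H u ∈ W := by
  haveI := Fintype.ofFinite H
  rw [avg_apply]
  exact Subgroup.prod_mem W fun h _ => hW h h.2 u hu

omit [Finite X] in
/-- In an invariant subgroup without fixed points some subgroup of index `r` has a fixed point. -/
theorem exists_index_prime_fixed [Finite M] {A : Subgroup X}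
    (hA : ∀ a ∈ A, ∀ b ∈ A, a * b = b * a) {r : ℕ} (hr : r.Prime) (hAr : ∀ a ∈ A, a ^ r = 1)
    (W0 : Subgroup M) (hW0 : ∀ a ∈ A, ∀ w ∈ W0, φ a w ∈ W0) (hne : W0 ≠ ⊥)
    (hfix : ∀ w ∈ W0, (∀ a ∈ A, φ a w = w) → w = 1) :
    ∃ H : Subgroup X, H ≤ A ∧ H.relIndex A = r ∧ ∃ u ∈ W0, u ≠ 1 ∧ u ∈ fixedBy φ H := by
  classical
  obtain ⟨W, -, ⟨hWle, hWne, hWinv⟩, hWmin⟩ := Finite.exists_le_minimal
    (p := fun W : Subgroup M => W ≤ W0 ∧ W ≠ ⊥ ∧ ∀ a ∈ A, ∀ w ∈ W, φ a w ∈ W) (a := W0)
    ⟨le_rfl, hne, hW0⟩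
  let res : A →* MulAut W :=
    { toFun := fun a =>
        { toFun := fun w => ⟨φ (a : X) w, hWinv a a.2 w w.2⟩
          invFun := fun w => ⟨φ ((a⁻¹ : A) : X) w, hWinv _ (a⁻¹).2 w w.2⟩
          left_inv := fun w => Subtype.ext (by
            show φ ((a⁻¹ : A) : X) (φ (a : X) w) = w
            rw [← MulAut.mul_apply, ← map_mul, ← Subgroup.coe_mul, inv_mul_cancel, Subgroup.coe_one,
              map_one]
            rfl)
          right_inv := fun w => Subtype.ext (by
            show φ (a : X) (φ ((a⁻¹ : A) : X) w) = w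
            rw [← MulAut.mul_apply, ← map_mul, ← Subgroup.coe_mul, mul_inv_cancel, Subgroup.coe_one,
              map_one]
            rfl)
          map_mul' := fun v w => Subtype.ext (map_mul (φ (a : X)) (v : M) w) }
      map_one' := MulEquiv.ext fun w => Subtype.ext (by
        show φ ((1 : A) : X) w = w
        rw [Subgroup.coe_one, map_one]; rfl)
      map_mul' := fun a b => MulEquiv.ext fun w => Subtype.ext (by
        show φ ((a * b : A) : X) w = φ (a : X) (φ (b : X) w)
        rw [Subgroup.coe_mul, map_mul]; rfl) }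
  have hres : ∀ (a : A) (w : W), ((res a w : W) : M) = φ (a : X) w := fun _ _ => rfl
  haveI : Nontrivial W := (Subgroup.nontrivial_iff_ne_bot W).2 hWne
  have hcomm : ∀ a b : res.range, a * b = b * a := by
    rintro ⟨_, a, rfl⟩ ⟨_, b, rfl⟩
    exact Subtype.ext (show res a * res b = res b * res a by
      rw [← map_mul, ← map_mul,
        show a * b = b * a from Subtype.ext (hA _ a.2 _ b.2)])
  have hcyc : IsCyclic res.range := by
    refine CfsgLib.Solvable.isCyclic_of_fpf_comm res.range.subtype ?_ hcomm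
    rintro ⟨_, a, rfl⟩ he v hv
    by_contra hv1
    let W1 : Subgroup M := W ⊓ fixedBy φ (Subgroup.zpowers (a : X))
    have hfa : ∀ g ∈ Subgroup.zpowers (a : X), φ g (v : M) = v := by
      intro g hg
      obtain ⟨i, rfl⟩ := hg
      show φ ((a : X) ^ i) (v : M) = v
      have h0 : φ (a : X) (v : M) = v := by rw [← hres]; exact congrArg Subtype.val hv
      have h1 : φ (a : X) ∈ MulAction.stabilizer (MulAut M) (v : M) := h0
      rw [map_zpow]
      exact Subgroup.zpow_mem _ h1 i
    have hW1 : W ≤ W1 := hWmin (y := W1) ⟨inf_le_left.trans hWle, ?_, ?_⟩ inf_le_left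
    · refine he (Subtype.ext (MulEquiv.ext fun w => Subtype.ext ?_))
      exact ((hres a w).trans ((hW1 w.2).2 a (Subgroup.mem_zpowers _)) : ((res a w : W) : M) = w)
    · intro h
      have : (v : M) ∈ W1 := ⟨v.2, hfa⟩
      rw [h, Subgroup.mem_bot] at this
      exact hv1 (Subtype.ext this)
    · intro g hg w hw
      refine ⟨hWinv g hg w hw.1, fun h hh => ?_⟩
      have hhA : h ∈ A := Subgroup.zpowers_le.2 a.2 hh
      rw [← MulAut.mul_apply, ← map_mul, hA h hhA g hg, map_mul, MulAut.mul_apply, hw.2 h hh]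
  obtain ⟨c, hc⟩ := hcyc
  have hcr : c ^ r = 1 := by
    obtain ⟨_, a, rfl⟩ := c
    refine Subtype.ext ?_
    show res a ^ r = 1
    rw [← map_pow, show a ^ r = 1 from Subtype.ext (hAr a a.2), map_one]
  have hcard : Nat.card res.range = r := by
    have hdvd : orderOf c ∣ r := orderOf_dvd_of_pow_eq_one hcr
    rw [orderOf_eq_card_of_forall_mem_zpowers hc] at hdvd
    refine ((Nat.dvd_prime hr).1 hdvd).resolve_left fun h1 => hWne ?_
    rw [eq_bot_iff]
    intro w hw
    rw [Subgroup.mem_bot]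
    refine hfix w (hWle hw) fun a ha => ?_
    have h2 : res ⟨a, ha⟩ = 1 := by
      have : res ⟨a, ha⟩ ∈ res.range := ⟨_, rfl⟩
      rwa [Subgroup.card_eq_one.1 h1, Subgroup.mem_bot] at this
    exact congrArg Subtype.val (DFunLike.congr_fun h2 ⟨w, hw⟩)
  refine ⟨res.ker.map A.subtype, Subgroup.map_subtype_le _, ?_, ?_⟩
  · rw [Subgroup.relIndex, Subgroup.subgroupOf, Subgroup.comap_map_eq_self_of_injective
      A.subtype_injective, Subgroup.index_ker, hcard]
  · obtain ⟨⟨u, hu⟩, hu1'⟩ := Subgroup.ne_bot_iff_exists_ne_one.1 hWne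
    have hu1 : u ≠ 1 := fun h => hu1' (Subtype.ext h)
    refine ⟨u, hWle hu, hu1, ?_⟩
    rintro _ ⟨a, ha, rfl⟩
    exact congrArg Subtype.val (DFunLike.congr_fun (MonoidHom.mem_ker.1 ha) ⟨u, hu⟩)

end

/-- A commutative normal subgroup of exponent an odd prime `r`, acting trivially on the target and
faithfully on the source of an anisotropic quadratic map, has order at most `r` when the symmetries
are transitive on the nonidentity elements of the target. -/
theorem card_le_prime [Finite X] [Finite M] [Finite V] (F : Form M V) (φ : X →* MulAut M)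
    (ψ : X →* MulAut V) (hq : ∀ x u, F.q (φ x u) = ψ x (F.q u))
    (htrans : ∀ v w : V, v ≠ 1 → w ≠ 1 → ∃ x, ψ x v = w) {n : ℕ} (hn : Nat.card V = 2 ^ n)
    (A : Subgroup X) [A.Normal] (hA : ∀ a ∈ A, ∀ b ∈ A, a * b = b * a) {r : ℕ} (hr : r.Prime)
    (hr2 : r ≠ 2) (hAr : ∀ a ∈ A, a ^ r = 1) (hψ : ∀ a ∈ A, ψ a = 1)
    (hφ : ∀ a ∈ A, φ a = 1 → a = 1) : Nat.card A ≤ r := by
  classical
  haveI := Fact.mk hr
  haveI : Fintype M := Fintype.ofFinite M
  haveI : Fintype V := Fintype.ofFinite V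
  haveI : Fintype X := Fintype.ofFinite X
  obtain ⟨m, hm, hmn⟩ := F.card_le hn
  have hodd : ∀ H : Subgroup X, H ≤ A → Odd (Nat.card H) := by
    intro H hH
    obtain ⟨k, hk⟩ := (IsPGroup.iff_card (p := r) (G := H)).1
      (fun a => ⟨1, Subtype.ext (by rw [pow_one, Subgroup.coe_pow, hAr _ (hH a.2), Subgroup.coe_one])⟩)
    rw [hk]
    exact (hr.odd_of_ne_two hr2).pow
  -- fixed points and pieces
  have hfixA : ∀ u, avg φ A u = 1 → u ∈ fixedBy φ A → u = 1 := fun u h hu => by
    rw [← avg_eq_self (hodd A le_rfl) F.sqM hu, h]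
  let P : Subgroup X → Subgroup M := fun H => fixedBy φ H ⊓ (avg φ A).ker
  let 𝓗 : Set (Subgroup X) := {H | H ≤ A ∧ H.relIndex A = r}
  have havg : ∀ {H H'}, H ∈ 𝓗 → H' ∈ 𝓗 → H ≠ H' → ∀ u ∈ P H', avg φ H u = 1 := by
    intro H H' hH hH' hne u hu
    refine hfixA _ ?_ ?_
    · haveI := Fintype.ofFinite H
      rw [avg_apply (H := H), map_prod]
      refine Finset.prod_eq_one fun h _ => ?_
      rw [← avg_comm hA le_rfl (hH.1 h.2), MonoidHom.mem_ker.1 hu.2, map_one]
    · have hsup : H ⊔ H' = A := by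
        have hle : H ≤ H ⊔ H' := le_sup_left
        have hmul := Subgroup.relIndex_mul_relIndex _ _ A hle (sup_le hH.1 hH'.1)
        rw [hH.2] at hmul
        rcases (Nat.dvd_prime hr).1 (dvd_of_mul_left_eq _ hmul) with h | h
        · exact le_antisymm (sup_le hH.1 hH'.1) (Subgroup.relIndex_eq_one.1 h)
        · rw [h] at hmul
          have hone : H.relIndex (H ⊔ H') = 1 := (Nat.mul_eq_right hr.ne_zero).1 hmul
          have hle' : H' ≤ H := le_sup_right.trans (Subgroup.relIndex_eq_one.1 hone)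
          exfalso
          have hmul' := Subgroup.relIndex_mul_relIndex _ _ A hle' hH.1
          rw [hH.2, hH'.2] at hmul'
          exact hne (le_antisymm
            (Subgroup.relIndex_eq_one.1 ((Nat.mul_eq_right hr.ne_zero).1 hmul')) hle')
      have h1 : H ⊔ H' ≤ (MulAction.stabilizer (MulAut M) (avg φ H u)).comap φ :=
        sup_le (fun g hg => avg_mem_fixedBy H u g hg) fun g hg => by
          show φ g (avg φ H u) = avg φ H u
          rw [avg_comm hA hH.1 (hH'.1 hg), hu.1 g hg]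
      exact fun g hg => h1 (hsup.symm ▸ hg)
  have horth : ∀ {H : Subgroup X}, H ≤ A → ∀ u ∈ fixedBy φ H, ∀ w, avg φ H w = 1 → F.bil u w = 1 := by
    intro H hH u hu w hw
    haveI := Fintype.ofFinite H
    have h1 : F.bilHom u (avg φ H w) = F.bil u w ^ Nat.card H := by
      rw [avg_apply, map_prod, Finset.prod_congr rfl (g := fun _ => F.bil u w) ?_, Finset.prod_const,
        Finset.card_univ, ← Nat.card_eq_fintype_card]
      intro h _
      rw [F.bilHom_apply]
      unfold Form.bil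
      conv_lhs => rw [← hu h h.2, ← map_mul, hq, hq, hq, hψ _ (hH h.2)]
      rfl
    rw [hw, map_one] at h1
    obtain ⟨k, hk⟩ := hodd H hH
    rw [hk, pow_succ, pow_mul, F.sqV, one_pow, one_mul] at h1
    exact h1.symm
  have hdisj : ∀ {H H'}, H ∈ 𝓗 → H' ∈ 𝓗 → H ≠ H' → ∀ u ∈ P H, ∀ w ∈ P H', F.q u = F.q w → u = 1 := by
    intro H H' hH hH' hne u hu w hw hqe
    have hb : F.bil u w = 1 := horth hH.1 u hu.1 w (havg hH hH' hne w hw)
    have huw := F.eq_of_bil_eq_one hb hqe
    rw [← huw] at hw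
    rw [← avg_eq_self (hodd H hH.1) F.sqM hu.1]
    exact havg hH hH' hne u hw
  -- conjugation
  have hconjA : ∀ (x : X), ∀ a ∈ A, x * a * x⁻¹ ∈ A := fun x a ha => ‹A.Normal›.conj_mem a ha x
  have hmapA : ∀ x : X, A.map (MulAut.conj x).toMonoidHom = A := by
    intro x
    refine le_antisymm ?_ fun a ha =>
      ⟨x⁻¹ * a * x, by simpa using hconjA x⁻¹ a ha, by simp [mul_assoc]⟩
    rintro _ ⟨a, ha, rfl⟩
    exact hconjA x a ha
  have hPconj : ∀ (x : X) (H : Subgroup X), ∀ u ∈ P H,
      φ x u ∈ P (H.map (MulAut.conj x).toMonoidHom) := by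
    intro x H u hu
    refine ⟨?_, MonoidHom.mem_ker.2 ?_⟩
    · rintro _ ⟨h, hh, rfl⟩
      show φ (x * h * x⁻¹) (φ x u) = φ x u
      rw [← MulAut.mul_apply, ← map_mul, inv_mul_cancel_right, map_mul, MulAut.mul_apply, hu.1 h hh]
    · haveI := Fintype.ofFinite A
      rw [avg_apply]
      have h1 : ∏ a : A, φ (a : X) (φ x u) = φ x (avg φ A u) := by
        rw [avg_apply, map_prod]
        refine (Fintype.prod_equiv (MulAut.conjNormal x : MulAut A).toEquiv _ _ fun a => ?_).symm
        rw [MulEquiv.toEquiv_eq_coe, EquivLike.coe_coe, MulAut.conjNormal_apply, ← MulAut.mul_apply,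
          ← map_mul, ← MulAut.mul_apply, ← map_mul, inv_mul_cancel_right]
      rw [h1, MonoidHom.mem_ker.1 hu.2, map_one]
  have hPback : ∀ (x : X) (H : Subgroup X), ∀ u ∈ P (H.map (MulAut.conj x).toMonoidHom),
      φ x⁻¹ u ∈ P H := by
    intro x H u hu
    have h := hPconj x⁻¹ _ u hu
    rwa [Subgroup.map_map, show (MulAut.conj x⁻¹).toMonoidHom.comp (MulAut.conj x).toMonoidHom =
      MonoidHom.id X from MonoidHom.ext fun g => by simp [mul_assoc], Subgroup.map_id] at h
  have hconj𝓗 : ∀ (x : X) {H}, H ∈ 𝓗 → H.map (MulAut.conj x).toMonoidHom ∈ 𝓗 := by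
    intro x H hH
    refine ⟨(Subgroup.map_mono hH.1).trans (hmapA x).le, ?_⟩
    have hinj : Function.Injective (MulAut.conj x).toMonoidHom := (MulAut.conj x).injective
    conv_lhs => rw [← hmapA x]
    rw [Subgroup.relIndex_map_map_of_injective _ _ hinj]
    exact hH.2
  by_cases hex : ∃ H ∈ 𝓗, P H ≠ ⊥
  swap
  · -- no piece: `A` acts trivially
    push Not at hex
    have hker : (avg φ A).ker = ⊥ := by
      by_contra hne
      obtain ⟨H, hHA, hHr, u, hu, hu1, huf⟩ := exists_index_prime_fixed hA hr hAr (avg φ A).ker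
        (fun a ha w hw => by
          rw [MonoidHom.mem_ker] at hw ⊢
          rw [← avg_comm hA le_rfl ha, hw, map_one]) hne (fun w hw hwf => hfixA w hw hwf)
      have h : u ∈ P H := ⟨huf, hu⟩
      rw [hex H ⟨hHA, hHr⟩, Subgroup.mem_bot] at h
      exact hu1 h
    have : A = ⊥ := by
      rw [eq_bot_iff]
      intro a ha
      rw [Subgroup.mem_bot]
      refine hφ a ha (MulEquiv.ext fun u => ?_)
      have h1 : u * avg φ A u ∈ (avg φ A).ker := by
        rw [MonoidHom.mem_ker, map_mul, avg_eq_self (hodd A le_rfl) F.sqM (avg_mem_fixedBy A u),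
          ← sq, F.sqM]
      rw [hker, Subgroup.mem_bot] at h1
      rw [eq_of_mul_eq_one F.sqM h1]
      exact avg_mem_fixedBy A u a ha
    rw [this, Subgroup.card_bot]
    exact hr.one_le
  obtain ⟨H0, hH0, hP0⟩ := hex
  obtain ⟨⟨u0, hu0⟩, hu01'⟩ := Subgroup.ne_bot_iff_exists_ne_one.1 hP0
  have hu01 : u0 ≠ 1 := fun h => hu01' (Subtype.ext h)
  have hqu0 : F.q u0 ≠ 1 := fun h => hu01 (F.aniso _ h)
  let O : Finset (Subgroup X) := Finset.univ.image fun x : X => H0.map (MulAut.conj x).toMonoidHom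
  have hO : ∀ H ∈ O, H ∈ 𝓗 := by
    intro H hH
    obtain ⟨x, -, rfl⟩ := Finset.mem_image.1 hH
    exact hconj𝓗 x hH0
  let S : Subgroup X → Finset V := fun H =>
    (Finset.univ.filter fun u : M => u ∈ P H ∧ u ≠ 1).image F.q
  have hmemS : ∀ {H v}, v ∈ S H ↔ ∃ u, (u ∈ P H ∧ u ≠ 1) ∧ F.q u = v := by
    intro H v; simp [S]
  have hScard : ∀ H ∈ O, (S H).card = (S H0).card := by
    intro H hH
    obtain ⟨x, -, rfl⟩ := Finset.mem_image.1 hH
    refine (Finset.card_bij' (fun v _ => ψ x v) (fun v _ => ψ x⁻¹ v) ?_ ?_ ?_ ?_).symm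
    · intro v hv
      obtain ⟨u, ⟨hu, hu1⟩, rfl⟩ := hmemS.1 hv
      exact hmemS.2 ⟨φ x u, ⟨hPconj x H0 u hu, fun h => hu1 ((map_eq_one_iff _ (φ x).injective).1 h)⟩,
        hq x u⟩
    · intro v hv
      obtain ⟨u, ⟨hu, hu1⟩, rfl⟩ := hmemS.1 hv
      exact hmemS.2 ⟨φ x⁻¹ u,
        ⟨hPback x H0 u hu, fun h => hu1 ((map_eq_one_iff _ (φ x⁻¹).injective).1 h)⟩, hq x⁻¹ u⟩
    · intro v _; rw [← MulAut.mul_apply, ← map_mul, inv_mul_cancel, map_one]; rfl
    · intro v _; rw [← MulAut.mul_apply, ← map_mul, mul_inv_cancel, map_one]; rfl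
  have hcover : O.biUnion S = Finset.univ.erase (1 : V) := by
    ext v
    simp only [Finset.mem_biUnion, Finset.mem_erase, Finset.mem_univ, and_true]
    constructor
    · rintro ⟨H, -, hv⟩
      obtain ⟨u, ⟨-, hu1⟩, rfl⟩ := hmemS.1 hv
      exact fun h => hu1 (F.aniso _ h)
    · intro hv
      obtain ⟨x, hx⟩ := htrans _ v hqu0 hv
      exact ⟨_, Finset.mem_image_of_mem _ (Finset.mem_univ x), hmemS.2
        ⟨φ x u0, ⟨hPconj x H0 u0 hu0, fun h => hu01 ((map_eq_one_iff _ (φ x).injective).1 h)⟩,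
          by rw [hq, hx]⟩⟩
  have hpd : (↑O : Set (Subgroup X)).PairwiseDisjoint S := by
    intro H hH H' hH' hne
    refine Finset.disjoint_left.2 fun v hv hv' => ?_
    obtain ⟨u, ⟨hu, hu1⟩, rfl⟩ := hmemS.1 hv
    obtain ⟨w, ⟨hw, -⟩, hwq⟩ := hmemS.1 hv'
    exact hu1 (hdisj (hO H hH) (hO H' hH') hne u hu w hw hwq.symm)
  have hcount : 2 ^ n - 1 = O.card * (S H0).card := by
    rw [← hn, Nat.card_eq_fintype_card, ← Finset.card_univ,
      ← Finset.card_erase_of_mem (Finset.mem_univ (1 : V)), ← hcover, Finset.card_biUnion hpd,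
      Finset.sum_congr rfl hScard, Finset.sum_const, smul_eq_mul]
  have hS : (S H0).card ≤ Nat.card (P H0) - 1 := by
    refine Finset.card_image_le.trans (le_of_eq ?_)
    have : (Finset.univ.filter fun u : M => u ∈ P H0 ∧ u ≠ 1) =
        (Finset.univ.filter fun u : M => u ∈ P H0).erase 1 := by
      ext u; simp [and_comm]
    rw [this, Finset.card_erase_of_mem (by simp), Nat.card_eq_fintype_card, Fintype.card_subtype]
  obtain ⟨d, hd⟩ := (IsPGroup.iff_card (p := 2) (G := P H0)).1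
    (fun u => ⟨1, Subtype.ext (by rw [pow_one, Subgroup.coe_pow, F.sqM, Subgroup.coe_one])⟩)
  have hd2 : 2 ≤ d := by
    by_contra h
    have hle : Nat.card (P H0) ≤ 2 := by
      rw [hd]
      calc 2 ^ d ≤ 2 ^ 1 := Nat.pow_le_pow_right two_pos (by omega)
        _ = 2 := pow_one 2
    refine hu01 (hfixA u0 (MonoidHom.mem_ker.1 hu0.2) fun a ha => ?_)
    by_contra hne
    have ha0 : φ a u0 ∈ P H0 := by
      refine ⟨fun g hg => ?_, MonoidHom.mem_ker.2 ?_⟩
      · rw [← MulAut.mul_apply, ← map_mul, hA g (hH0.1 hg) a ha, map_mul, MulAut.mul_apply,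
          hu0.1 g hg]
      · rw [← avg_comm hA le_rfl ha, MonoidHom.mem_ker.1 hu0.2, map_one]
    have h3 : ({⟨u0, hu0⟩, ⟨φ a u0, ha0⟩, 1} : Finset (P H0)).card = 3 := by
      rw [Finset.card_eq_three]
      refine ⟨_, _, _, ?_, ?_, ?_, rfl⟩
      · exact fun h => hne (congrArg Subtype.val h).symm
      · exact fun h => hu01 (congrArg Subtype.val h)
      · exact fun h => hu01 ((map_eq_one_iff _ (φ a).injective).1 (congrArg Subtype.val h))
    have := Finset.card_le_univ ({⟨u0, hu0⟩, ⟨φ a u0, ha0⟩, 1} : Finset (P H0))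
    rw [← Nat.card_eq_fintype_card, h3] at this
    omega
  have hindep : d * O.card ≤ m := by
    have hinj : Function.Injective fun (u : (H : O) → P (H : Subgroup X)) => ∏ H, (u H : M) := by
      intro u v huv
      funext H
      refine Subtype.ext ?_
      have key : ∀ w : (H : O) → P (H : Subgroup X),
          avg φ (H : Subgroup X) (∏ H', (w H' : M)) = w H := by
        intro w
        rw [map_prod, Finset.prod_eq_single H]
        · exact avg_eq_self (hodd _ (hO _ H.2).1) F.sqM (w H).2.1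
        · intro H' _ hne
          exact havg (hO _ H.2) (hO _ H'.2) (fun h => hne (Subtype.ext h.symm)) _ (w H').2
        · simp
      rw [← key u, ← key v]
      exact congrArg _ huv
    have hc := Nat.card_le_card_of_injective _ hinj
    rw [Nat.card_pi, hm] at hc
    have hall : ∀ H : O, Nat.card (P (H : Subgroup X)) = 2 ^ d := by
      intro H
      obtain ⟨x, -, hx⟩ := Finset.mem_image.1 H.2
      rw [← hd, ← hx]
      exact Nat.card_congr
        { toFun := fun u => ⟨φ x⁻¹ (u : M), hPback x H0 _ u.2⟩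
          invFun := fun u => ⟨φ x (u : M), hPconj x H0 _ u.2⟩
          left_inv := fun u => Subtype.ext (by
            show φ x (φ x⁻¹ (u : M)) = u
            rw [← MulAut.mul_apply, ← map_mul, mul_inv_cancel, map_one]; rfl)
          right_inv := fun u => Subtype.ext (by
            show φ x⁻¹ (φ x (u : M)) = u
            rw [← MulAut.mul_apply, ← map_mul, inv_mul_cancel, map_one]; rfl) }
    rw [Finset.prod_congr rfl (fun H _ => hall H), Finset.prod_const, Finset.card_univ,
      Fintype.card_coe, ← pow_mul] at hc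
    exact (Nat.pow_le_pow_iff_right (le_refl 2)).1 hc
  have hn1 : 1 ≤ n := by
    by_contra h
    have h0 : n = 0 := by omega
    rw [h0, pow_zero] at hn
    exact hqu0 ((Finite.card_le_one_iff_subsingleton.1 hn.le).elim _ _)
  have hO1 : O.card = 1 := by
    by_contra hne
    have hodd' : Odd O.card := by
      have h1 : Odd (2 ^ n - 1) := by
        obtain ⟨k, rfl⟩ : ∃ k, n = k + 1 := ⟨n - 1, by omega⟩
        exact ⟨2 ^ k - 1, by have := Nat.one_le_two_pow (n := k); rw [pow_succ]; omega⟩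
      rw [hcount] at h1
      exact (Nat.odd_mul.1 h1).1
    refine piece_arith hodd' hne (n := n) (d := d) (by rw [mul_comm]; omega) hd2 ⟨_, hcount⟩ ?_
    rw [hcount]
    exact Nat.mul_le_mul_left _ (hS.trans_eq (by rw [hd]))
  -- every vector of the target comes from `H0`
  have hH0O : H0 ∈ O := by
    refine Finset.mem_image.2 ⟨1, Finset.mem_univ _, ?_⟩
    rw [map_one]
    exact Subgroup.map_id H0
  have hall0 : ∀ v : V, v ≠ 1 → ∃ u ∈ P H0, u ≠ 1 ∧ F.q u = v := by
    intro v hv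
    have : v ∈ O.biUnion S := by rw [hcover]; simp [hv]
    obtain ⟨H, hH, hvH⟩ := Finset.mem_biUnion.1 this
    rw [Finset.card_le_one.1 hO1.le H hH H0 hH0O] at hvH
    obtain ⟨u, ⟨hu, hu1⟩, h⟩ := hmemS.1 hvH
    exact ⟨u, hu, hu1, h⟩
  have huniq : ∀ H ∈ 𝓗, P H ≠ ⊥ → H = H0 := by
    intro H hH hPH
    by_contra hne
    obtain ⟨⟨u, hu⟩, hu1'⟩ := Subgroup.ne_bot_iff_exists_ne_one.1 hPH
    have hu1 : u ≠ 1 := fun h => hu1' (Subtype.ext h)
    obtain ⟨w, hw, -, hwq⟩ := hall0 _ (fun h => hu1 (F.aniso u h))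
    exact hu1 (hdisj hH hH0 hne u hu w hw hwq.symm)
  have hnofix : ∀ u, u ∈ fixedBy φ A → u = 1 := by
    intro u hu
    by_contra hu1
    obtain ⟨w, hw, -, hwq⟩ := hall0 _ (fun h => hu1 (F.aniso u h))
    have huw := F.eq_of_bil_eq_one (horth le_rfl u hu w (MonoidHom.mem_ker.1 hw.2)) hwq.symm
    exact hu1 (hfixA u (huw ▸ MonoidHom.mem_ker.1 hw.2) hu)
  have hker0 : (avg φ H0).ker = ⊥ := by
    by_contra hne
    obtain ⟨H, hHA, hHr, u, hu, hu1, huf⟩ := exists_index_prime_fixed hA hr hAr (avg φ H0).ker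
      (fun a ha w hw => by
        rw [MonoidHom.mem_ker] at hw ⊢
        rw [← avg_comm hA hH0.1 ha, hw, map_one]) hne (fun w _ hwf => hnofix w hwf)
    have huP : u ∈ P H := ⟨huf, MonoidHom.mem_ker.2 (hnofix _ (avg_mem_fixedBy A u))⟩
    have hHeq := huniq H ⟨hHA, hHr⟩ (fun h => hu1 (by rwa [h, Subgroup.mem_bot] at huP))
    subst hHeq
    exact hu1 (by rw [← avg_eq_self (hodd H hHA) F.sqM huf]; exact MonoidHom.mem_ker.1 hu)
  have hbot : H0 = ⊥ := by
    rw [eq_bot_iff]
    intro a ha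
    rw [Subgroup.mem_bot]
    refine hφ a (hH0.1 ha) (MulEquiv.ext fun u => ?_)
    have h1 : u * avg φ H0 u ∈ (avg φ H0).ker := by
      rw [MonoidHom.mem_ker, map_mul, avg_eq_self (hodd H0 hH0.1) F.sqM (avg_mem_fixedBy H0 u),
        ← sq, F.sqM]
    rw [hker0, Subgroup.mem_bot] at h1
    rw [eq_of_mul_eq_one F.sqM h1]
    exact avg_mem_fixedBy H0 u a ha
  have := hH0.2
  rw [hbot, Subgroup.relIndex_bot_left] at this
  exact this.le

end CfsgLib.PGroup.AnisoQuad
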