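import Mathlib
import Cfsg.Agent.Lib.PGroup.Basic

/-!
# The Baer trick and coprime automorphisms of abelian p-groups
-/

set_option autoImplicit false

namespace CfsgLib.PGroup

open scoped commutatorElement

/-- A group of class at most two with a chosen "half" exponent for commutators. -/
structure BaerData (U : Type*) [Group U] where
  h : ℕ
  cen : ∀ a b : U, ⁅a, b⁆ ∈ Subgroup.center U
  half : ∀ a b : U, ⁅a, b⁆ ^ (2 * h) = ⁅a, b⁆

variable {U : Type*} [Group U]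

/-- The Baer abelian group on the underlying set of `U`. -/
@[ext] structure Baer (D : BaerData U) where
  val : U

namespace Baer

variable {D : BaerData U}

instance : Mul (Baer D) := ⟨fun x y => ⟨x.val * y.val * ⁅y.val, x.val⁆ ^ D.h⟩⟩
instance : One (Baer D) := ⟨⟨1⟩⟩
instance : Inv (Baer D) := ⟨fun x => ⟨x.val⁻¹⟩⟩

theorem mul_val (x y : Baer D) : (x * y).val = x.val * y.val * ⁅y.val, x.val⁆ ^ D.h := rfl
theorem one_val : (1 : Baer D).val = 1 := rfl
theorem inv_val (x : Baer D) : x⁻¹.val = x.val⁻¹ := rfl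

theorem comm_of_center_mul {a z b : U} (hz : z ∈ Subgroup.center U) : ⁅a, b * z⁆ = ⁅a, b⁆ := by
  have h1 : ⁅a, z⁆ = 1 := commutatorElement_eq_one_iff_mul_comm.2 (Subgroup.mem_center_iff.1 hz a)
  rw [comm_mul_right (by rw [h1]; exact Subgroup.one_mem _), h1, mul_one]

theorem comm_of_center_mul' {a z b : U} (hz : z ∈ Subgroup.center U) : ⁅a * z, b⁆ = ⁅a, b⁆ := by
  have h1 : ⁅z, b⁆ = 1 := commutatorElement_eq_one_iff_mul_comm.2 (Subgroup.mem_center_iff.1 hz b).symm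
  rw [comm_mul_left (by rw [h1]; exact Subgroup.one_mem _), h1, mul_one]

instance : CommGroup (Baer D) where
  mul_assoc x y z := by
    ext
    simp only [mul_val]
    set a := x.val
    set b := y.val
    set c := z.val
    have hc : ∀ (u v : U) (k : ℕ) (g : U), g * ⁅u, v⁆ ^ k = ⁅u, v⁆ ^ k * g := fun u v k g =>
      Subgroup.mem_center_iff.1 (Subgroup.pow_mem _ (D.cen u v) k) g
    have hm : ∀ u v : U, ⁅u, v⁆ ^ D.h ∈ Subgroup.center U := fun u v => Subgroup.pow_mem _ (D.cen u v) _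
    rw [comm_of_center_mul (hm b a), comm_of_center_mul' (hm c b), comm_mul_right (D.cen c b),
      comm_mul_left (D.cen c a),
      (show Commute ⁅c, a⁆ ⁅c, b⁆ from Subgroup.mem_center_iff.1 (D.cen c b) _).mul_pow,
      (show Commute ⁅b, a⁆ ⁅c, a⁆ from Subgroup.mem_center_iff.1 (D.cen c a) _).mul_pow]
    calc a * b * ⁅b, a⁆ ^ D.h * c * (⁅c, a⁆ ^ D.h * ⁅c, b⁆ ^ D.h)
        = a * b * (⁅b, a⁆ ^ D.h * c) * (⁅c, a⁆ ^ D.h * ⁅c, b⁆ ^ D.h) := by group
      _ = a * b * (c * ⁅b, a⁆ ^ D.h) * (⁅c, b⁆ ^ D.h * ⁅c, a⁆ ^ D.h) := by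
          rw [hc b a D.h c, hc c b D.h (⁅c, a⁆ ^ D.h)]
      _ = a * b * c * (⁅b, a⁆ ^ D.h * ⁅c, b⁆ ^ D.h) * ⁅c, a⁆ ^ D.h := by group
      _ = a * b * c * (⁅c, b⁆ ^ D.h * ⁅b, a⁆ ^ D.h) * ⁅c, a⁆ ^ D.h := by rw [hc c b D.h (⁅b, a⁆ ^ D.h)]
      _ = a * (b * c * ⁅c, b⁆ ^ D.h) * (⁅b, a⁆ ^ D.h * ⁅c, a⁆ ^ D.h) := by group
  one_mul x := by ext; simp [mul_val, one_val]
  mul_one x := by ext; simp [mul_val, one_val]
  inv_mul_cancel x := by
    ext
    simp only [mul_val, inv_val, one_val]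
    rw [show ⁅x.val, x.val⁻¹⁆ = 1 from commutatorElement_eq_one_iff_mul_comm.2 (by simp)]
    simp
  mul_comm x y := by
    ext
    simp only [mul_val]
    set a := x.val
    set b := y.val
    have h1 : ⁅a, b⁆ = ⁅b, a⁆⁻¹ := (commutatorElement_inv b a).symm
    have h2 : ⁅b, a⁆ ^ D.h * ⁅b, a⁆ ^ D.h = ⁅b, a⁆ := by rw [← pow_add, ← two_mul, D.half]
    have h3 : b * a = a * b * ⁅b, a⁆ := by
      rw [Subgroup.mem_center_iff.1 (D.cen b a) (a * b), commutatorElement_def]; group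
    rw [h3, h1, inv_pow, mul_assoc (a * b)]
    congr 1
    exact (mul_inv_eq_iff_eq_mul.2 h2.symm).symm

/-- The underlying bijection. -/
def equiv (D : BaerData U) : Baer D ≃ U := ⟨Baer.val, Baer.mk, fun _ => rfl, fun _ => rfl⟩

instance [Finite U] : Finite (Baer D) := Finite.of_equiv _ (equiv D).symm

theorem pow_val (x : Baer D) (n : ℕ) : (x ^ n).val = x.val ^ n := by
  induction n with
  | zero => simp [one_val]
  | succ n ih =>
    have h1 : ⁅x.val, x.val ^ n⁆ = 1 := commutatorElement_eq_one_iff_mul_comm.2 (Commute.self_pow _ n).eq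
    rw [pow_succ, mul_val, ih, h1, one_pow, mul_one, pow_succ]

theorem isPGroup {p : ℕ} (hU : IsPGroup p U) : IsPGroup p (Baer D) := fun x => by
  obtain ⟨k, hk⟩ := hU x.val
  exact ⟨k, Baer.ext (by rw [pow_val, hk, one_val])⟩

/-- Automorphisms of `U` act on the Baer group. -/
def mapAut (D : BaerData U) : MulAut U →* MulAut (Baer D) where
  toFun φ :=
    { toFun := fun x => ⟨φ x.val⟩
      invFun := fun x => ⟨φ.symm x.val⟩
      left_inv := fun x => Baer.ext (φ.symm_apply_apply _)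
      right_inv := fun x => Baer.ext (φ.apply_symm_apply _)
      map_mul' := fun x y => Baer.ext (by simp [mul_val, map_mul, map_pow, map_commutatorElement]) }
  map_one' := by ext x; rfl
  map_mul' φ ψ := by ext x; rfl

theorem mapAut_val (φ : MulAut U) (x : Baer D) : (mapAut D φ x).val = φ x.val := rfl

end Baer

/-- Coprime action on an abelian `p`-group: if `𝔸` has order prime to `p`, `𝔹` is a `p`-group
normalizing it, and every fixed point of `𝔹` is fixed by `𝔸`, then `𝔸` is trivial. -/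
theorem eq_one_of_fixed_le {V : Type*} [CommGroup V] [Finite V] {p : ℕ} [hp : Fact p.Prime]
    (hV : IsPGroup p V) (𝔸 𝔹 : Subgroup (MulAut V)) (hA : (Nat.card 𝔸).Coprime p) (hB : IsPGroup p 𝔹)
    (hnorm : ∀ β ∈ 𝔹, ∀ α ∈ 𝔸, β * α * β⁻¹ ∈ 𝔸)
    (hfix : ∀ v : V, (∀ β ∈ 𝔹, β v = v) → ∀ α ∈ 𝔸, α v = v) : ∀ α ∈ 𝔸, α = 1 := by
  classical
  let _ := Fintype.ofFinite 𝔸
  set D := Subgroup.closure {x : V | ∃ v : V, ∃ α ∈ 𝔸, x = α v * v⁻¹} with hD
  have hDinv : ∀ β ∈ 𝔹, ∀ d ∈ D, β d ∈ D := by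
    intro β hβ d hd
    suffices h : D ≤ D.comap (β : V ≃* V).toMonoidHom from h hd
    rw [hD, Subgroup.closure_le]
    rintro _ ⟨v, α, hα, rfl⟩
    refine Subgroup.subset_closure ⟨β v, β * α * β⁻¹, hnorm β hβ α hα, ?_⟩
    show β (α v * v⁻¹) = _
    rw [map_mul, map_inv, MulAut.mul_apply, MulAut.mul_apply, MulAut.inv_apply_self]
  let N : V →* V :=
    { toFun := fun v => ∏ a : 𝔸, (a : MulAut V) v
      map_one' := by simp
      map_mul' := fun u v => by simp [Finset.prod_mul_distrib] }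
  have hND : ∀ d ∈ D, N d = 1 := by
    suffices D ≤ N.ker from fun d hd => this hd
    rw [hD, Subgroup.closure_le]
    rintro _ ⟨v, α, hα, rfl⟩
    show N (α v * v⁻¹) = 1
    rw [map_mul, map_inv, mul_inv_eq_one]
    exact Fintype.prod_equiv (Equiv.mulRight (⟨α, hα⟩ : 𝔸)) _ _ fun a => rfl
  have hdfix : ∀ d ∈ D, (∀ β ∈ 𝔹, β d = d) → d = 1 := by
    intro d hd hbd
    have h1 := hND d hd
    have h2 : d ^ Nat.card 𝔸 = 1 := by
      rw [← h1]
      show _ = ∏ a : 𝔸, (a : MulAut V) d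
      rw [Finset.prod_congr rfl (fun (a : 𝔸) _ => hfix d hbd a a.2), Finset.prod_const, Finset.card_univ,
        Nat.card_eq_fintype_card]
    obtain ⟨k, hk⟩ := hV d
    exact orderOf_eq_one_iff.1 (Nat.eq_one_of_dvd_coprimes (hA.pow_right k) (orderOf_dvd_of_pow_eq_one h2)
      (orderOf_dvd_of_pow_eq_one hk))
  have hDbot : D = ⊥ := by
    by_contra hne
    letI : MulAction 𝔹 D :=
      { smul := fun β d => ⟨(β : MulAut V) d, hDinv β β.2 d d.2⟩
        one_smul := fun d => rfl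
        mul_smul := fun β γ d => rfl }
    have hdvd : p ∣ Nat.card D := by
      obtain ⟨k, hk⟩ := IsPGroup.iff_card.1 (hV.to_subgroup D)
      rw [hk]
      exact dvd_pow_self p fun h => hne (Subgroup.eq_bot_of_card_eq _ (by rw [hk, h, pow_zero]))
    obtain ⟨d, hd, hd1⟩ := hB.exists_fixed_point_of_prime_dvd_card_of_fixed_point D hdvd (a := (1 : D))
      (fun β => Subtype.ext (map_one (β : MulAut V)))
    exact hd1 (Subtype.ext (hdfix d d.2 fun β hβ => congrArg Subtype.val (hd ⟨β, hβ⟩)).symm)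
  intro α hα
  ext v
  have h : α v * v⁻¹ ∈ D := Subgroup.subset_closure ⟨v, α, hα, rfl⟩
  rw [hDbot, Subgroup.mem_bot, mul_inv_eq_one] at h
  exact h

/-- The same for groups of class two with commutators of exponent `p`, `p` odd. -/
theorem eq_one_of_fixed_le_classTwo {U : Type*} [Group U] [Finite U] {p : ℕ} [hp : Fact p.Prime]
    (hp2 : p ≠ 2) (hU : IsPGroup p U) (hcen : ∀ a b : U, ⁅a, b⁆ ∈ Subgroup.center U)
    (hcp : ∀ a b : U, ⁅a, b⁆ ^ p = 1) (𝔸 𝔹 : Subgroup (MulAut U)) (hA : (Nat.card 𝔸).Coprime p)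
    (hB : IsPGroup p 𝔹) (hnorm : ∀ β ∈ 𝔹, ∀ α ∈ 𝔸, β * α * β⁻¹ ∈ 𝔸)
    (hfix : ∀ v : U, (∀ β ∈ 𝔹, β v = v) → ∀ α ∈ 𝔸, α v = v) : ∀ α ∈ 𝔸, α = 1 := by
  obtain ⟨t, ht⟩ := hp.out.odd_of_ne_two hp2
  let D : BaerData U :=
    { h := t + 1
      cen := hcen
      half := fun a b => by rw [show 2 * (t + 1) = p + 1 by omega, pow_succ, hcp, one_mul] }
  intro α hα
  have h := eq_one_of_fixed_le (Baer.isPGroup (D := D) hU) (𝔸.map (Baer.mapAut D)) (𝔹.map (Baer.mapAut D))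
    (hA.coprime_dvd_left (Subgroup.card_map_dvd _ _)) (hB.map _)
    (by
      rintro _ ⟨β, hβ, rfl⟩ _ ⟨γ, hγ, rfl⟩
      exact ⟨β * γ * β⁻¹, hnorm β hβ γ hγ, by rw [map_mul, map_mul, map_inv]⟩)
    (by
      intro v hv
      rintro _ ⟨γ, hγ, rfl⟩
      refine Baer.ext (hfix v.val (fun β hβ => ?_) γ hγ)
      exact congrArg Baer.val (hv _ ⟨β, hβ, rfl⟩))
    _ ⟨α, hα, rfl⟩
  ext u
  exact congrArg Baer.val (DFunLike.congr_fun h (⟨u⟩ : Baer D))

end CfsgLib.PGroup
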