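import Mathlib
import Cfsg.Agent.Lib.PGroup.Extraspecial

/-!
An automorphism of large prime power order of a group with a small central commutator subgroup
that fixes the centre is trivial (no large primes in small symplectic groups).
-/

set_option autoImplicit false
set_option linter.style.haveILetI false

namespace CfsgLib.PGroup.SympFixed

open Subgroup
open scoped commutatorElement

variable {R : Type*} [Group R] [Finite R] {r : ℕ}

theorem eq_of_lt_of_card_mul [hr : Fact r.Prime] {A B C : Subgroup R} (hAB : A < B) (hBC : B ≤ C)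
    (hcard : Nat.card A * r = Nat.card C) : B = C := by
  refine eq_of_le_of_card_ge hBC ?_
  obtain ⟨k, hk⟩ := card_dvd_of_le hAB.le
  obtain ⟨l, hl⟩ := card_dvd_of_le hBC
  have hkl : k * l = r := by
    refine Nat.eq_of_mul_eq_mul_left (Nat.card_pos (α := A)) ?_
    rw [hcard, hl, hk, mul_assoc]
  rcases (Nat.dvd_prime hr.out).1 (Dvd.intro l hkl) with h | h
  · rw [h, mul_one] at hk
    exact absurd (eq_of_le_of_card_ge hAB.le hk.le) hAB.ne
  · rw [← hcard, hk, h]

/-- The configuration: a subgroup whose centre lies in `Z`. -/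
structure Nondeg (Z D : Subgroup R) : Prop where
  le : Z ≤ D
  centre : D ⊓ centralizer (D : Set R) ≤ Z

variable {Z Zc : Subgroup R}

theorem exists_pair [hr : Fact r.Prime] (hZ : Z ≤ center R) (hZc : Zc ≤ center R)
    (hcard : Nat.card Zc = r) (hcomm : ∀ a b : R, ⁅a, b⁆ ∈ Zc) {D : Subgroup R} (hD : Nondeg Z D)
    {x : R} (hx : x ∈ D) (hxZ : x ∉ Z) :
    Nat.card ↥(D ⊓ centralizer ({x} : Set R)) * r = Nat.card D ∧
      ∀ y ∈ D, y ∉ centralizer ({x} : Set R) →
        Nondeg Z (D ⊓ centralizer ({x} : Set R) ⊓ centralizer ({y} : Set R)) ∧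
        Nat.card ↥(D ⊓ centralizer ({x} : Set R) ⊓ centralizer ({y} : Set R)) * r ^ 2 = Nat.card D ∧
        ∀ T : Subgroup R, D ⊓ centralizer ({x} : Set R) ⊓ centralizer ({y} : Set R) ≤ T →
          x ∈ T → y ∈ T → D ≤ T := by
  have hne : ¬ D ≤ centralizer ({x} : Set R) := fun hle => hxZ (hD.centre ⟨hx,
    mem_centralizer_iff.2 fun k hk => mem_centralizer_singleton_iff.1 (hle hk)⟩)
  have e1 := CfsgLib.PGroup.card_inf_centralizer_mul hZc hcard (fun k _ => hcomm k x) hne
  refine ⟨e1, fun y hy hyx => ?_⟩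
  have hxcx : x ∈ D ⊓ centralizer ({x} : Set R) := ⟨hx, mem_centralizer_singleton_iff.2 rfl⟩
  have hne2 : ¬ D ⊓ centralizer ({x} : Set R) ≤ centralizer ({y} : Set R) := fun hle =>
    hyx (mem_centralizer_singleton_iff.2 (mem_centralizer_singleton_iff.1 (hle hxcx)).symm)
  have e2 := CfsgLib.PGroup.card_inf_centralizer_mul hZc hcard (fun k _ => hcomm k y) hne2
  set D1 := D ⊓ centralizer ({x} : Set R) ⊓ centralizer ({y} : Set R) with hD1
  have hcl : ∀ T : Subgroup R, D1 ≤ T → x ∈ T → y ∈ T → D ≤ T := by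
    intro T hT hxT hyT
    have hlt : D1 < D ⊓ centralizer ({x} : Set R) ⊓ T := by
      refine lt_of_le_of_ne (le_inf inf_le_left hT) fun h => hyx ?_
      have hx1 : x ∈ D1 := h ▸ ⟨hxcx, hxT⟩
      exact mem_centralizer_singleton_iff.2 (mem_centralizer_singleton_iff.1 hx1.2).symm
    have h1 : D ⊓ centralizer ({x} : Set R) ≤ T :=
      (eq_of_lt_of_card_mul hlt inf_le_left e2).symm.le.trans inf_le_right
    have hlt2 : D ⊓ centralizer ({x} : Set R) < D ⊓ T :=
      lt_of_le_of_ne (le_inf inf_le_left h1) fun h => hyx (h ▸ ⟨hy, hyT⟩ :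
        y ∈ D ⊓ centralizer ({x} : Set R)).2
    exact (eq_of_lt_of_card_mul hlt2 inf_le_left e1).symm.le.trans inf_le_right
  refine ⟨⟨fun z hz => ?_, fun w hw => ?_⟩, by rw [sq, ← mul_assoc, e2, e1], hcl⟩
  · have hc := mem_center_iff.1 (hZ hz)
    exact ⟨⟨hD.le hz, mem_centralizer_singleton_iff.2 (hc x).symm⟩,
      mem_centralizer_singleton_iff.2 (hc y).symm⟩
  · refine hD.centre ⟨hw.1.1.1, ?_⟩
    refine (fun h => mem_centralizer_iff.2 fun k hk => mem_centralizer_singleton_iff.1 (h hk))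
      (hcl (centralizer ({w} : Set R)) ?_ ?_ ?_)
    · exact fun k hk => mem_centralizer_singleton_iff.2 (mem_centralizer_iff.1 hw.2 k hk)
    · exact mem_centralizer_singleton_iff.2 (mem_centralizer_singleton_iff.1 hw.1.1.2).symm
    · exact mem_centralizer_singleton_iff.2 (mem_centralizer_singleton_iff.1 hw.1.2).symm

set_option maxHeartbeats 800000 in
/-- Order of a nondegenerate subgroup, and triviality of a large prime power automorphism on it. -/
theorem fixed_aux [hr : Fact r.Prime] (hZ : Z ≤ center R) (hZc : Zc ≤ Z) (hcard : Nat.card Zc = r)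
    (hcomm : ∀ a b : R, ⁅a, b⁆ ∈ Zc) {s : ℕ} [hs : Fact s.Prime] (a : MulAut R) {e : ℕ}
    (ha : a ^ s ^ e = 1) (hfix : ∀ z ∈ Z, a z = z) {w : ℕ}
    (hbig : ∀ j : ℕ, 1 ≤ j → j ≤ w → ¬ s ∣ r ^ j - 1 ∧ ¬ s ∣ r ^ j + 1)
    (hpr : IsPGroup r R) (hsr : s ≠ r) :
    ∀ D : Subgroup R, Nondeg Z D → ∃ k, Nat.card D = Nat.card Z * r ^ (2 * k) ∧
      (k ≤ w → (∀ d ∈ D, a d ∈ D) → ∀ d ∈ D, a d = d) := by
  intro D
  induction hc : Nat.card D using Nat.strong_induction_on generalizing D with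
  | _ c ih =>
    subst hc
    intro hD
    rcases hD.le.eq_or_lt with h | h
    · exact ⟨0, by rw [← h]; simp, fun _ _ d hd => hfix d (h ▸ hd)⟩
    obtain ⟨x0, hx0, hx0Z⟩ := SetLike.exists_of_lt h
    have step : ∀ x ∈ D, x ∉ Z → ∃ k, Nat.card D = Nat.card Z * r ^ (2 * (k + 1)) ∧
        ∃ y0 ∈ D, y0 ∉ centralizer ({x} : Set R) ∧
        ∀ y ∈ D, y ∉ centralizer ({x} : Set R) → a x = x → a y = y → k ≤ w →
          (∀ d ∈ D, a d ∈ D) → ∀ d ∈ D, a d = d := by
      intro x hx hxZ
      obtain ⟨e1, hp⟩ := exists_pair hZ (hZc.trans hZ) hcard hcomm hD hx hxZ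
      have hlt1 : ¬ D ≤ centralizer ({x} : Set R) := fun hle => hxZ (hD.centre ⟨hx,
        mem_centralizer_iff.2 fun k hk => mem_centralizer_singleton_iff.1 (hle hk)⟩)
      obtain ⟨y0, hy0, hy0x⟩ := SetLike.not_le_iff_exists.1 hlt1
      obtain ⟨-, c0, -⟩ := hp y0 hy0 hy0x
      have hlt : ∀ y ∈ D, y ∉ centralizer ({x} : Set R) →
          Nat.card ↥(D ⊓ centralizer ({x} : Set R) ⊓ centralizer ({y} : Set R)) < Nat.card D := by
        intro y hy hyx
        rw [← (hp y hy hyx).2.1]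
        exact lt_mul_of_one_lt_right Nat.card_pos (Nat.one_lt_pow two_ne_zero hr.out.one_lt)
      obtain ⟨k, hk, -⟩ := ih _ (hlt y0 hy0 hy0x) _ rfl (hp y0 hy0 hy0x).1
      refine ⟨k, ?_, y0, hy0, hy0x, fun y hy hyx hax hay hkw hinv => ?_⟩
      · rw [← c0, hk, mul_assoc, ← pow_add, mul_add, mul_one]
      obtain ⟨hnd, c1, hcl⟩ := hp y hy hyx
      obtain ⟨k', hk', hfix'⟩ := ih _ (hlt y hy hyx) _ rfl hnd
      have hk'k : k' = k := by
        have h1 : Nat.card Z * r ^ (2 * k') * r ^ 2 = Nat.card Z * r ^ (2 * k) * r ^ 2 := by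
          rw [← hk', ← hk, c1, c0]
        have h2 := Nat.eq_of_mul_eq_mul_right (by positivity [hr.out.pos]) h1
        have h3 := Nat.eq_of_mul_eq_mul_left Nat.card_pos h2
        have := Nat.pow_right_injective hr.out.two_le h3
        omega
      have hinv1 : ∀ d ∈ D ⊓ centralizer ({x} : Set R) ⊓ centralizer ({y} : Set R),
          a d ∈ D ⊓ centralizer ({x} : Set R) ⊓ centralizer ({y} : Set R) := by
        rintro d ⟨⟨hd1, hd2⟩, hd3⟩
        refine ⟨⟨hinv d hd1, mem_centralizer_singleton_iff.2 ?_⟩, mem_centralizer_singleton_iff.2 ?_⟩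
        · conv_lhs => rw [← hax, ← map_mul, mem_centralizer_singleton_iff.1 hd2, map_mul, hax]
        · conv_lhs => rw [← hay, ← map_mul, mem_centralizer_singleton_iff.1 hd3, map_mul, hay]
      exact hcl ((a.toMonoidHom).eqLocus (MonoidHom.id R))
        (fun d hd => hfix' (hk'k ▸ hkw) hinv1 d hd) hax hay
    obtain ⟨k, hk, -⟩ := step x0 hx0 hx0Z
    refine ⟨k + 1, hk, fun hkw hinv => ?_⟩
    have hA : IsPGroup s (zpowers a) := by
      refine fun g => ⟨e, Subtype.ext ?_⟩
      obtain ⟨i, hi⟩ := g.2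
      rw [Subgroup.coe_pow, Subgroup.coe_one, ← hi, ← zpow_natCast, ← zpow_mul, mul_comm, zpow_mul,
        zpow_natCast, ha, one_zpow]
    have hzinv : ∀ g ∈ zpowers a, ∀ d ∈ D, g d ∈ D := by
      intro g hg
      obtain ⟨i, rfl⟩ := Submonoid.mem_powers_iff _ _ |>.1 (mem_powers_iff_mem_zpowers.2 hg)
      clear hg
      induction i with
      | zero => simp
      | succ i ihi =>
        intro d hd
        rw [pow_succ', MulAut.mul_apply]
        exact hinv _ (ihi d hd)
    have count : ∀ S : Set R, (∀ g ∈ zpowers a, ∀ d ∈ S, g d ∈ S) →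
        Nat.card S ≡ Nat.card {d : R | d ∈ S ∧ a d = d} [MOD s] := by
      intro S hS
      letI : MulAction (zpowers a) S :=
        { smul := fun g d => ⟨(g : MulAut R) d, hS g g.2 d d.2⟩
          one_smul := fun d => Subtype.ext rfl
          mul_smul := fun g g' d => Subtype.ext rfl }
      suffices h : Nat.card (MulAction.fixedPoints (zpowers a) S) = Nat.card {d : R | d ∈ S ∧ a d = d} by
        exact h ▸ hA.card_modEq_card_fixedPoints S
      refine Nat.card_congr
        { toFun := fun d => ⟨(d.1 : R), d.1.2, congrArg Subtype.val (d.2 ⟨a, mem_zpowers a⟩)⟩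
          invFun := fun d => ⟨⟨d.1, d.2.1⟩, fun g => Subtype.ext ?_⟩
          left_inv := fun _ => rfl
          right_inv := fun _ => rfl }
      have h1 : a ∈ MulAction.stabilizer (MulAut R) (d.1 : R) := d.2.2
      exact zpowers_le.2 h1 g.2
    obtain ⟨x, hx, hxZ, hax⟩ : ∃ x ∈ D, x ∉ Z ∧ a x = x := by
      by_contra hno
      push Not at hno
      have hset : {d : R | d ∈ (D : Set R) ∧ a d = d} = (Z : Set R) := by
        ext d
        exact ⟨fun hd => by_contra fun hdZ => hno d hd.1 hdZ hd.2,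
          fun hd => ⟨hD.le hd, hfix d hd⟩⟩
      have hm := count (D : Set R) hzinv
      rw [hset] at hm
      change Nat.card D ≡ Nat.card Z [MOD s] at hm
      rw [hk] at hm
      have hcop : (Nat.card Z).Coprime s := by
        obtain ⟨i, hi⟩ := (IsPGroup.iff_card (p := r)).1 (hpr.to_subgroup Z)
        rw [hi]
        exact Nat.Coprime.pow_left _ ((Nat.coprime_primes hr.out hs.out).2 hsr.symm)
      have h1 : s ∣ Nat.card Z * (r ^ (2 * (k + 1)) - 1) := by
        rw [Nat.mul_sub_one]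
        exact (Nat.modEq_iff_dvd' (Nat.le_mul_of_pos_right _ (by positivity [hr.out.pos]))).1 hm.symm
      have h2 := hcop.symm.dvd_of_dvd_mul_left h1
      obtain ⟨hb1, hb2⟩ := hbig (k + 1) (by omega) hkw
      rw [mul_comm 2, pow_mul, ← one_pow 2, Nat.sq_sub_sq] at h2
      rcases (Nat.Prime.dvd_mul hs.out).1 h2 with h' | h'
      · exact hb2 h'
      · exact hb1 h'
    obtain ⟨k', hk', y0, hy0, hy0x, hfin⟩ := step x hx hxZ
    have hkk : k' ≤ w := by
      have h3 := Nat.eq_of_mul_eq_mul_left Nat.card_pos (hk.symm.trans hk')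
      have := Nat.pow_right_injective hr.out.two_le h3
      omega
    obtain ⟨y, hy, hyx, hay⟩ : ∃ y ∈ D, y ∉ centralizer ({x} : Set R) ∧ a y = y := by
      let S : Set R := {y : R | y ∈ D ∧ ⁅y, x⁆ = ⁅y0, x⁆}
      have hgx : ∀ g ∈ zpowers a, g x = x := fun g hg =>
        zpowers_le.2 (show a ∈ MulAction.stabilizer (MulAut R) x from hax) hg
      have hgz : ∀ g ∈ zpowers a, ∀ z ∈ Z, g z = z := fun g hg z hz =>
        zpowers_le.2 (show a ∈ MulAction.stabilizer (MulAut R) z from hfix z hz) hg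
      have hSinv : ∀ g ∈ zpowers a, ∀ d ∈ S, g d ∈ S := by
        intro g hg d hd
        refine ⟨hzinv g hg d hd.1, ?_⟩
        conv_lhs => rw [← hgx g hg, ← map_commutatorElement, hd.2, hgz g hg _ (hZc (hcomm _ _))]
      have hm := count S hSinv
      by_contra hno
      push Not at hno
      have hemp : {d : R | d ∈ S ∧ a d = d} = ∅ := by
        ext d
        simp only [Set.mem_setOf_eq, Set.mem_empty_iff_false, iff_false, not_and]
        intro hd hd'
        refine hno d hd.1 (fun hc => hy0x (mem_centralizer_singleton_iff.2 ?_)) hd'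
        rw [← commutatorElement_eq_one_iff_mul_comm, ← hd.2, commutatorElement_eq_one_iff_mul_comm]
        exact mem_centralizer_singleton_iff.1 hc
      have hScard : Nat.card S = Nat.card ↥(D ⊓ centralizer ({x} : Set R)) := by
        refine Nat.card_congr
          { toFun := fun d => ⟨y0⁻¹ * d.1, mul_mem (D.inv_mem hy0) d.2.1,
              mem_centralizer_singleton_iff.2 ?_⟩
            invFun := fun c => ⟨y0 * c.1, mul_mem hy0 c.2.1, ?_⟩
            left_inv := fun d => Subtype.ext (mul_inv_cancel_left _ _)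
            right_inv := fun c => Subtype.ext (inv_mul_cancel_left _ _) }
        · have h1 := d.2.2
          simp only [commutatorElement_def] at h1
          have h2 : (d.1 : R) * x * (d.1 : R)⁻¹ = y0 * x * y0⁻¹ := mul_right_cancel h1
          calc y0⁻¹ * d.1 * x = y0⁻¹ * ((d.1 : R) * x * (d.1 : R)⁻¹) * d.1 := by group
            _ = x * (y0⁻¹ * d.1) := by rw [h2]; group
        · have h1 := mem_centralizer_singleton_iff.1 c.2.2
          simp only [commutatorElement_def]
          calc y0 * c.1 * x * (y0 * c.1)⁻¹ * x⁻¹ = y0 * (c.1 * x) * c.1⁻¹ * y0⁻¹ * x⁻¹ := by group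
            _ = y0 * x * y0⁻¹ * x⁻¹ := by rw [h1]; group
      rw [hemp, hScard] at hm
      rw [show Nat.card (∅ : Set R) = 0 from Nat.card_of_isEmpty] at hm
      obtain ⟨i, hi⟩ := (IsPGroup.iff_card (p := r)).1
        (hpr.to_subgroup (D ⊓ centralizer ({x} : Set R)))
      rw [hi] at hm
      exact hsr ((Nat.prime_dvd_prime_iff_eq hs.out hr.out).1
        (hs.out.dvd_of_dvd_pow (Nat.modEq_zero_iff_dvd.1 hm)))
    exact hfin y hy hyx hax hay hkk hinv

/-- An automorphism of `s`-power order fixing the centre is trivial when `s` divides no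
`r ^ j ± 1` with `r ^ (2 * j) ≤` the index of the centre. -/
theorem eq_one_of_fixed [hr : Fact r.Prime] (hpr : IsPGroup r R) {Zc : Subgroup R}
    (hZc : Zc ≤ center R) (hcard : Nat.card Zc = r) (hcomm : ∀ a b : R, ⁅a, b⁆ ∈ Zc) {w : ℕ}
    (hw : Nat.card R ≤ Nat.card (center R) * r ^ (2 * w)) {s : ℕ} [hs : Fact s.Prime] (hsr : s ≠ r)
    (hbig : ∀ j : ℕ, 1 ≤ j → j ≤ w → ¬ s ∣ r ^ j - 1 ∧ ¬ s ∣ r ^ j + 1)
    (a : MulAut R) {e : ℕ} (ha : a ^ s ^ e = 1) (hfix : ∀ z ∈ center R, a z = z) : a = 1 := by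
  obtain ⟨k, hk, hfin⟩ := fixed_aux le_rfl hZc hcard hcomm a ha hfix hbig hpr hsr ⊤
    ⟨le_top, fun z hz => mem_center_iff.2 fun g => mem_centralizer_iff.1 hz.2 g (mem_top g)⟩
  rw [card_top] at hk
  rw [hk] at hw
  have h1 := Nat.le_of_mul_le_mul_left hw Nat.card_pos
  have h2 := (Nat.pow_le_pow_iff_right hr.out.one_lt).1 h1
  exact MulEquiv.ext fun d => hfin (by omega) (fun _ _ => mem_top _) d (mem_top _)

end CfsgLib.PGroup.SympFixed
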