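import Mathlib
import Cfsg.Agent.Lib.PGroup.AnisoQuadratic
import Cfsg.Agent.Lib.PGroup.SymplecticFixed
import Cfsg.Agent.Lib.PGroup.AbelianConjSylow
import Cfsg.Agent.Lib.PGroup.BaerTrick
import Cfsg.Agent.Lib.LocalEven.ExtraspecialModule
import Cfsg.Agent.Lib.Recognition.Zsigmondy
import Cfsg.Agent.Lib.Transfer.Critical
import Cfsg.Agent.Lib.Solvable.Hall
import Cfsg.Agent.S3762

/-!
Solvable groups with one class of involutions and more than one involution: with trivial odd core
the normal `2`-core has odd index.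
-/

set_option autoImplicit false
set_option linter.style.haveILetI false

namespace CfsgLib.PGroup.OneClass

open Subgroup Cfsg
open scoped commutatorElement Pointwise
open CfsgLib.PGroup.AnisoQuad CfsgLib.PGroup.ConjAb

theorem exists_prime_gt_dvd {n : ℕ} (hn : 2 ≤ n) :
    ∃ p : ℕ, p.Prime ∧ p ∣ 2 ^ n - 1 ∧ n < p := by
  by_cases h2 : n = 2
  · exact ⟨3, by norm_num, by subst h2; norm_num, by omega⟩
  by_cases hexc : (n, 2) ∈ CfsgLib.Recognition.Zsigmondy.exceptions
  · simp only [CfsgLib.Recognition.Zsigmondy.exceptions, List.mem_cons, Prod.mk.injEq,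
      List.not_mem_nil] at hexc
    rcases hexc with h | h | h | h | h | h | h | h | h
    · exact ⟨5, by norm_num, by rw [h.1]; norm_num, by omega⟩
    · omega
    · exact ⟨7, by norm_num, by rw [h.1]; norm_num, by omega⟩
    · omega
    · omega
    · exact ⟨11, by norm_num, by rw [h.1]; norm_num, by omega⟩
    · exact ⟨13, by norm_num, by rw [h.1]; norm_num, by omega⟩
    · exact ⟨19, by norm_num, by rw [h.1]; norm_num, by omega⟩
    · exact h.elim
  · obtain ⟨p, hp, hdvd, hmin, -⟩ :=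
      CfsgLib.Recognition.Zsigmondy.exists_large_primitive (by omega : 3 ≤ n) le_rfl hexc
    refine ⟨p, hp, hdvd, ?_⟩
    by_contra hle
    have hp2 : p ≠ 2 := by
      rintro rfl
      have h1 := Nat.one_le_two_pow (n := n)
      have h3 : 2 ∣ 2 ^ n := dvd_pow_self 2 (by omega)
      omega
    haveI := Fact.mk hp
    have h4 : (2 : ZMod p) ≠ 0 := by
      intro h
      have : ((2 : ℕ) : ZMod p) = 0 := by exact_mod_cast h
      rw [ZMod.natCast_eq_zero_iff, Nat.prime_dvd_prime_iff_eq hp Nat.prime_two] at this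
      exact hp2 this
    refine hmin (p - 1) (by have := hp.two_le; omega) (by have := hp.two_le; omega) ?_
    rw [← ZMod.natCast_eq_zero_iff, Nat.cast_sub Nat.one_le_two_pow]
    push_cast
    rw [ZMod.pow_card_sub_one_eq_one h4, sub_self]

/-- A commutative `r`-group with at most `r` solutions of `x ^ r = 1` is cyclic. -/
theorem isCyclic_of_card_omega_le {G : Type*} [Group G] [Finite G] {r : ℕ} [hr : Fact r.Prime]
    (hG : IsPGroup r G) (hc : ∀ x y : G, x * y = y * x) (h : Nat.card {x : G | x ^ r = 1} ≤ r) :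
    IsCyclic G := by
  refine CfsgLib.Solvable.isCyclic_of_unique_of_comm hG hc fun x y hx hy => ?_
  have hsub : (zpowers y : Set G) ⊆ {g : G | g ^ r = 1} := fun g hg => by
    obtain ⟨i, rfl⟩ := hg
    show (y ^ i) ^ r = 1
    rw [← zpow_natCast, ← zpow_mul, mul_comm, zpow_mul, zpow_natCast, ← hy, pow_orderOf_eq_one,
      one_zpow]
  have heq : (zpowers y : Set G) = {g : G | g ^ r = 1} := by
    refine Set.eq_of_subset_of_ncard_le hsub ?_ (Set.toFinite _)
    rw [← Nat.card_coe_set_eq, ← Nat.card_coe_set_eq]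
    exact h.trans_eq (by rw [show Nat.card (zpowers y : Set G) = Nat.card (zpowers y) from rfl,
      Nat.card_zpowers, hy])
  show x ∈ (zpowers y : Set G)
  rw [heq]
  show x ^ r = 1
  rw [← hx, pow_orderOf_eq_one]

/-- An element of `s`-power order, `s` a prime beyond `r`, centralises a normal cyclic `r`-group. -/
theorem mem_centralizer_of_cyclic_pgroup {X : Type*} [Group X] [Finite X] {r s : ℕ} (hr : r.Prime)
    (hs : s.Prime) (hrs : r < s) {N : Subgroup X} [N.Normal] (hN : IsPGroup r N) [IsCyclic N]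
    {a : X} {e : ℕ} (ha : a ^ s ^ e = 1) : a ∈ centralizer (N : Set X) := by
  haveI := Fact.mk hr
  let f : X →* MulAut N := MulAut.conjNormal
  have h1 : orderOf (f a) ∣ s ^ e := orderOf_dvd_of_pow_eq_one (by rw [← map_pow, ha, map_one])
  have h2 : orderOf (f a) ∣ Nat.totient (Nat.card N) :=
    IsCyclic.card_mulAut N ▸ _root_.orderOf_dvd_natCard _
  have hcop : (s ^ e).Coprime (Nat.totient (Nat.card N)) := by
    refine Nat.Coprime.pow_left _ (hs.coprime_iff_not_dvd.2 fun hdvd => ?_)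
    obtain ⟨m, hm⟩ := (IsPGroup.iff_card (p := r)).1 hN
    rcases Nat.eq_zero_or_pos m with rfl | hm0
    · rw [hm, pow_zero, Nat.totient_one, Nat.dvd_one] at hdvd
      exact hs.ne_one hdvd
    · rw [hm, Nat.totient_prime_pow hr hm0] at hdvd
      rcases hs.dvd_mul.1 hdvd with h | h
      · exact hrs.ne' ((Nat.prime_dvd_prime_iff_eq hs hr).1 (hs.dvd_of_dvd_pow h))
      · have := Nat.le_of_dvd (by have := hr.two_le; omega) h
        omega
  have h3 : f a = 1 := orderOf_eq_one_iff.1 (Nat.eq_one_of_dvd_coprimes hcop h1 h2)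
  refine mem_centralizer_iff.2 fun x hx => ?_
  have h4 : a * x * a⁻¹ = x := by
    have := congrArg Subtype.val (DFunLike.congr_fun h3 ⟨x, hx⟩)
    rwa [MulAut.conjNormal_apply] at this
  exact (mul_inv_eq_iff_eq_mul.1 h4).symm

/-- The symmetries of an anisotropic quadratic map cannot be transitive on the target if every odd
normal subgroup fixes a nonidentity element there. -/
theorem core_false {X M V : Type*} [Group X] [Finite X] [Group.IsSolvable X] [CommGroup M] [Finite M]
    [CommGroup V] [Finite V] (F : Form M V) (φ : X →* MulAut M) (ψ : X →* MulAut V)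
    (hq : ∀ x u, F.q (φ x u) = ψ x (F.q u))
    (htrans : ∀ v w : V, v ≠ 1 → w ≠ 1 → ∃ x, ψ x v = w) {n : ℕ} (hn : Nat.card V = 2 ^ n)
    (hn2 : 2 ≤ n) (hO : pCore 2 X = ⊥)
    (hfaith : ∀ x : X, Odd (orderOf x) → ψ x = 1 → φ x = 1 → x = 1)
    (hfix : ∀ Y : Subgroup X, Y.Normal → Odd (Nat.card Y) →
      ∃ v : V, v ≠ 1 ∧ ∀ y ∈ Y, ψ y v = v) : False := by
  classical
  have htriv : ∀ Y : Subgroup X, Y.Normal → Odd (Nat.card Y) → ∀ y ∈ Y, ψ y = 1 := by
    intro Y hY hYo y hy
    obtain ⟨v, hv, hvy⟩ := hfix Y hY hYo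
    refine MulEquiv.ext fun w => ?_
    rcases eq_or_ne w 1 with rfl | hw
    · rw [map_one]; rfl
    obtain ⟨x, rfl⟩ := htrans v w hv hw
    show ψ y (ψ x v) = ψ x v
    rw [← MulAut.mul_apply, ← map_mul, show y * x = x * (x⁻¹ * y * x) by group, map_mul,
      MulAut.mul_apply, hvy _ (by simpa using hY.conj_mem y hy x⁻¹)]
  obtain ⟨s, hs, hsdvd, hns⟩ := exists_prime_gt_dvd hn2
  haveI := Fact.mk hs
  have hsodd : Odd s := hs.odd_of_ne_two (by omega)
  -- an `s`-element moving a nonidentity element of `V`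
  obtain ⟨v0, hv0⟩ : ∃ v : V, v ≠ 1 := by
    haveI : Nontrivial V := Finite.one_lt_card_iff_nontrivial.1 (by
      rw [hn]; exact Nat.one_lt_two_pow (by omega))
    exact exists_ne 1
  letI : MulAction X V := MulAction.compHom V ψ
  have hsmul : ∀ (x : X) (v : V), x • v = ψ x v := fun _ _ => rfl
  have horb : MulAction.orbit X v0 = {v : V | v ≠ 1} := by
    ext w
    constructor
    · rintro ⟨x, rfl⟩
      exact fun h => hv0 ((map_eq_one_iff _ (ψ x).injective).1 h)
    · exact fun hw => htrans v0 w hv0 hw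
  have hidx : s ∣ (MulAction.stabilizer X v0).index := by
    rw [Subgroup.index, ← Nat.card_congr (MulAction.orbitEquivQuotientStabilizer X v0), horb,
      Nat.card_coe_set_eq, show {v : V | v ≠ 1} = ({1} : Set V)ᶜ by ext; simp, Set.ncard_compl,
      Set.ncard_singleton, hn]
    exact hsdvd
  obtain ⟨a, ⟨e, hae⟩, haout⟩ : ∃ a : X, (∃ e, a ^ s ^ e = 1) ∧ ψ a v0 ≠ v0 := by
    obtain ⟨P⟩ : Nonempty (Sylow s X) := inferInstance
    by_contra h
    push Not at h
    have hle : (P : Subgroup X) ≤ MulAction.stabilizer X v0 := fun g hg => by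
      obtain ⟨e, he⟩ := P.2 ⟨g, hg⟩
      exact h g ⟨e, congrArg Subtype.val he⟩
    exact P.not_dvd_index (hidx.trans (Subgroup.index_dvd_of_le hle))
  haveI : (fittingSubgroup X).Normal := Cores.fittingSubgroup_normal
  have hFodd : Odd (Nat.card (fittingSubgroup X)) := by
    rw [← Nat.not_even_iff_odd, even_iff_two_dvd]
    intro h2
    haveI : Fact (Nat.Prime 2) := ⟨Nat.prime_two⟩
    obtain ⟨t, ht⟩ := exists_prime_orderOf_dvd_card' (G := fittingSubgroup X) 2 h2
    have h := mem_pCore_of_mem_fitting Nat.prime_two t.2 (n := 1)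
      (by rw [Subgroup.orderOf_coe, ht, pow_one])
    rw [hO, mem_bot] at h
    rw [show t = 1 from Subtype.ext h, orderOf_one] at ht
    omega
  -- `a` centralises the Fitting subgroup up to commutators
  have hcen : ∀ x : X, ∀ r : ℕ, r.Prime → ⁅a, x⁆ ∈ centralizer (pCore r X : Set X) := by
    intro x r hr
    haveI := Fact.mk hr
    by_cases hr2 : r = 2
    · subst hr2
      rw [hO]
      exact mem_centralizer_iff.2 fun y hy => by simp [Set.mem_singleton_iff.1 hy]
    haveI hRn : (pCore r X).Normal := sSup_normal _ fun N hN => hN.1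
    have hR : IsPGroup r (pCore r X) := Cores.isPGroup_pCore r
    have hRodd : ∀ g ∈ pCore r X, Odd (orderOf g) := fun g hg => by
      obtain ⟨k, hk⟩ := hR.exists_card_eq
      have hdvd := Subgroup.orderOf_dvd_natCard _ hg
      rw [hk] at hdvd
      exact Odd.of_dvd_nat ((hr.odd_of_ne_two hr2).pow) hdvd
    have hRψ : ∀ g ∈ pCore r X, ψ g = 1 := htriv _ hRn (by
      obtain ⟨k, hk⟩ := hR.exists_card_eq
      rw [hk]; exact (hr.odd_of_ne_two hr2).pow)
    have hsymp : ∀ A : Subgroup (pCore r X), A.Characteristic → IsMulCommutative A → IsCyclic A := by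
      intro A hAc hAcomm
      have hcomm : ∀ b c : A, b * c = c * b := fun b c => hAcomm.is_comm.comm b c
      refine isCyclic_of_card_omega_le (hR.to_subgroup A) hcomm ?_
      let A' : Subgroup X := A.map (pCore r X).subtype
      haveI : A'.Normal := ConjAct.normal_of_characteristic_of_normal
      let Ω : Subgroup X :=
        { carrier := {g | g ∈ A' ∧ g ^ r = 1}
          one_mem' := ⟨one_mem _, one_pow _⟩
          mul_mem' := by
            rintro b c ⟨hb, hb'⟩ ⟨hc, hc'⟩
            refine ⟨mul_mem hb hc, ?_⟩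
            obtain ⟨b, hbA, rfl⟩ := hb
            obtain ⟨c, hcA, rfl⟩ := hc
            have h : Commute b c := congrArg Subtype.val (hcomm ⟨b, hbA⟩ ⟨c, hcA⟩)
            rw [(h.map (pCore r X).subtype).mul_pow, hb', hc', one_mul]
          inv_mem' := by
            rintro b ⟨hb, hb'⟩
            exact ⟨inv_mem hb, by rw [inv_pow, hb', inv_one]⟩ }
      haveI : Ω.Normal := ⟨fun g hg y => ⟨‹A'.Normal›.conj_mem g hg.1 y, by
        rw [conj_pow, hg.2, mul_one, mul_inv_cancel]⟩⟩
      have hΩR : ∀ g ∈ Ω, g ∈ pCore r X := fun g hg => by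
        obtain ⟨b, -, rfl⟩ := hg.1
        exact b.2
      have hΩ : Nat.card Ω ≤ r := by
        refine card_le_prime F φ ψ hq htrans hn Ω ?_ hr hr2 (fun g hg => hg.2)
          (fun g hg => hRψ g (hΩR g hg))
          (fun g hg h => hfaith g (hRodd g (hΩR g hg)) (hRψ g (hΩR g hg)) h)
        rintro _ ⟨⟨b, hbA, rfl⟩, -⟩ _ ⟨⟨c, hcA, rfl⟩, -⟩
        have e : b * c = c * b := congrArg Subtype.val (hcomm ⟨b, hbA⟩ ⟨c, hcA⟩)
        rw [← map_mul, ← map_mul, e]
      refine le_trans (Nat.card_le_card_of_injective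
        (fun g : {b : A | b ^ r = 1} => (⟨((g.1 : pCore r X) : X),
          ⟨⟨(g.1 : pCore r X), g.1.2, rfl⟩, ?_⟩⟩ : Ω)) ?_) hΩ
      · have h1 : (((g.1 ^ r : A) : pCore r X) : X) = (((1 : A) : pCore r X) : X) :=
          congrArg (fun b : A => ((b : pCore r X) : X)) g.2
        simpa using h1
      · intro g g' h
        exact Subtype.ext (Subtype.ext (Subtype.ext (congrArg Subtype.val h :)))
    obtain ⟨E, R0, hER, hsup, hE, hR0⟩ := Cfsg.Agent.S3762.result hR hsymp
    have hR0c : IsCyclic R0 := hR0.resolve_right fun h => hr2 h.1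
    rcases hE with rfl | hE
    · rw [bot_sup_eq] at hsup
      subst hsup
      haveI := hR0c
      exact comm_mem_centralizer_of_cyclic hRn
        (isCyclic_of_surjective (Subgroup.topEquiv (G := pCore r X)).toMonoidHom
          (Subgroup.topEquiv (G := pCore r X)).surjective) a x
    -- the extraspecial case
    obtain ⟨w, hw1, hw⟩ := extraspecial_card hE
    obtain ⟨z, hzc, hz1⟩ : ∃ z : E, z ∈ center E ∧ z ≠ 1 := by
      haveI : Nontrivial (center E) := Finite.one_lt_card_iff_nontrivial.1 (by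
        rw [hE.2]; exact hr.one_lt)
      obtain ⟨z, hz⟩ := exists_ne (1 : center E)
      exact ⟨z, z.2, fun h => hz (Subtype.ext h)⟩
    have hzX : φ (((z : pCore r X) : X)) ≠ 1 := fun h => hz1 (Subtype.ext (Subtype.ext
      (hfaith _ (hRodd _ (z : pCore r X).2) (hRψ _ (z : pCore r X).2) h)))
    obtain ⟨m, hm, hmn⟩ := F.card_le hn
    have hrw : r ^ w ≤ n := by
      haveI : Fact (Nat.Prime 2) := ⟨Nat.prime_two⟩
      have h := CfsgLib.LocalEven.ExtMod.card_le_mulAut (p := r) (r := 2) hr2 F.sqM hE w hw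
        ((φ.comp (pCore r X).subtype).comp E.subtype) z hzc hzX 2 (fun k hk hdvd => by
          by_contra hk2
          obtain rfl : k = 1 := by omega
          simp at hdvd
          exact hr.ne_one hdvd)
      rw [hm, Nat.pow_le_pow_iff_right (le_refl 2)] at h
      omega
    have hrs : r < s := lt_of_le_of_lt ((Nat.le_self_pow (by omega) r).trans hrw) hns
    let Zc : Subgroup (pCore r X) := (center E).map E.subtype
    have hcommE : ∀ y ∈ E, ∀ y' ∈ E, ⁅y, y'⁆ ∈ Zc := fun y hy y' hy' =>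
      ⟨⁅(⟨y, hy⟩ : E), ⟨y', hy'⟩⁆, special_comm_mem_center hE.1 _ _,
        map_commutatorElement E.subtype _ _⟩
    have hR0comm : ∀ y ∈ R0, ∀ y' ∈ R0, y * y' = y' * y := by
      intro y hy y' hy'
      letI := hR0c.commGroup
      exact congrArg Subtype.val (mul_comm (⟨y, hy⟩ : R0) ⟨y', hy'⟩)
    have hcenE : ∀ g : pCore r X, (∀ y ∈ E, g * y = y * g) → (∀ y ∈ R0, g * y = y * g) →
        g ∈ center (pCore r X) := by
      intro g h1 h2
      have : (⊤ : Subgroup (pCore r X)) ≤ centralizer {g} := hsup ▸ sup_le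
        (fun y hy => mem_centralizer_singleton_iff.2 (h1 y hy).symm)
        (fun y hy => mem_centralizer_singleton_iff.2 (h2 y hy).symm)
      exact mem_center_iff.2 fun y => mem_centralizer_singleton_iff.1 (this (mem_top y))
    have hR0Z : R0 ≤ center (pCore r X) := fun g hg =>
      hcenE g (fun y hy => (hER y hy g hg).symm) (fun y hy => hR0comm g hg y hy)
    have hZcZ : Zc ≤ center (pCore r X) := by
      rintro _ ⟨c, hc, rfl⟩
      refine hcenE _ (fun y hy => ?_) (fun y hy => hER _ c.2 y hy)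
      exact (congrArg Subtype.val (mem_center_iff.1 hc ⟨y, hy⟩)).symm
    have hsupZ : E ⊔ center (pCore r X) = ⊤ :=
      top_le_iff.1 (hsup ▸ sup_le_sup le_rfl hR0Z)
    have hcomm : ∀ y y' : pCore r X, ⁅y, y'⁆ ∈ Zc := by
      intro y y'
      obtain ⟨e1, he1, c1, hc1, rfl⟩ := mem_sup_of_normal_right.1 (hsupZ.symm ▸ mem_top y)
      obtain ⟨e2, he2, c2, hc2, rfl⟩ := mem_sup_of_normal_right.1 (hsupZ.symm ▸ mem_top y')
      rw [Baer.comm_of_center_mul' hc1, Baer.comm_of_center_mul hc2]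
      exact hcommE e1 he1 e2 he2
    have hwbound : Nat.card (pCore r X) ≤ Nat.card (center (pCore r X)) * r ^ (2 * w) := by
      rw [← (center (pCore r X)).card_mul_index]
      refine Nat.mul_le_mul_left _ ?_
      let π : E →* pCore r X ⧸ center (pCore r X) := (QuotientGroup.mk' _).comp E.subtype
      have hπ : Function.Surjective π := fun c => by
        obtain ⟨y, rfl⟩ := QuotientGroup.mk_surjective c
        obtain ⟨e1, he1, c1, hc1, rfl⟩ := mem_sup_of_normal_right.1 (hsupZ.symm ▸ mem_top y)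
        exact ⟨⟨e1, he1⟩, QuotientGroup.eq.2 (by simpa using hc1)⟩
      have hker : center E ≤ π.ker := fun c hc =>
        MonoidHom.mem_ker.2 ((QuotientGroup.eq_one_iff _).2 (hZcZ ⟨c, hc, rfl⟩))
      have h1 : (center (pCore r X)).index = π.ker.index := by
        rw [Subgroup.index_ker, MonoidHom.range_eq_top.2 hπ, Subgroup.card_top, Subgroup.index]
      have h2 : (center E).index = r ^ (2 * w) := by
        have h := (center E).card_mul_index
        rw [hE.2, hw, pow_succ, mul_comm (r ^ _)] at h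
        exact Nat.eq_of_mul_eq_mul_left hr.pos h
      rw [h1, ← h2]
      exact Nat.le_of_dvd (Nat.pos_of_ne_zero Subgroup.index_ne_zero_of_finite)
        (Subgroup.index_dvd_of_le hker)
    haveI : IsCyclic (center (pCore r X)) := hsymp _ inferInstance inferInstance
    haveI hZn : ((center (pCore r X)).map (pCore r X).subtype).Normal :=
      ConjAct.normal_of_characteristic_of_normal
    haveI : IsCyclic ((center (pCore r X)).map (pCore r X).subtype) :=
      isCyclic_of_surjective _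
        (MonoidHom.subgroupMap_surjective (pCore r X).subtype (center (pCore r X)))
    have hca : a ∈ centralizer ((center (pCore r X)).map (pCore r X).subtype : Set X) :=
      mem_centralizer_of_cyclic_pgroup hr hs hrs
        (((hR.to_subgroup _).map (pCore r X).subtype)) hae
    have ha1 : (MulAut.conjNormal a : MulAut (pCore r X)) = 1 := by
      refine SympFixed.eq_one_of_fixed hR hZcZ ?_ hcomm hwbound hrs.ne' ?_ _
        (e := e) (by rw [← map_pow, hae, map_one]) ?_
      · rw [Subgroup.card_map_of_injective E.subtype_injective, hE.2]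
      · intro j hj hjw
        have hle : r ^ j ≤ n := (Nat.pow_le_pow_right hr.pos hjw).trans hrw
        have h1 : 1 < r ^ j := Nat.one_lt_pow (by omega) hr.one_lt
        refine ⟨fun h => ?_, fun h => ?_⟩
        · have := Nat.le_of_dvd (by omega) h
          omega
        · have h2 := Nat.le_of_dvd (by omega) h
          have heq : s = r ^ j + 1 := by omega
          obtain ⟨k, hk⟩ := (hr.odd_of_ne_two hr2).pow (n := j)
          obtain ⟨l, hl⟩ := hsodd
          omega
      · intro c hc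
        refine Subtype.ext ?_
        rw [MulAut.conjNormal_apply, mul_inv_eq_iff_eq_mul]
        exact (mem_centralizer_iff.1 hca (c : X) ⟨c, hc, rfl⟩).symm
    have haR : a ∈ centralizer (pCore r X : Set X) := mem_centralizer_iff.2 fun g hg => by
      have h := congrArg Subtype.val (DFunLike.congr_fun ha1 ⟨g, hg⟩)
      rw [MulAut.conjNormal_apply, mul_inv_eq_iff_eq_mul] at h
      exact h.symm
    haveI : (centralizer (pCore r X : Set X)).Normal := inferInstance
    rw [commutatorElement_def, mul_assoc, mul_assoc]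
    refine mul_mem haR ?_
    rw [← mul_assoc]
    exact ‹(centralizer (pCore r X : Set X)).Normal›.conj_mem _
      ((centralizer (pCore r X : Set X)).inv_mem haR) x
  have hcF : ∀ x : X, ⁅a, x⁆ ∈ fittingSubgroup X := fun x =>
    CfsgLib.Solvable.centralizer_fittingSubgroup_le (le_centralizer_fitting (hcen x))
  -- an odd normal subgroup moving `v0`
  set Y := fittingSubgroup X ⊔ zpowers a with hY
  haveI hYn : Y.Normal := by
    refine ⟨fun g hg x => ?_⟩
    have hle : Y ≤ Y.comap (MulAut.conj x).toMonoidHom := by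
      refine sup_le (fun f hf => ?_) (zpowers_le.2 ?_)
      · exact mem_sup_left (Cores.fittingSubgroup_normal.conj_mem f hf x)
      · show x * a * x⁻¹ ∈ Y
        rw [show x * a * x⁻¹ = ⁅a, x⁆⁻¹ * a by rw [commutatorElement_def]; group]
        exact mul_mem (mem_sup_left (Subgroup.inv_mem _ (hcF x))) (mem_sup_right (mem_zpowers a))
    exact hle hg
  have hYodd : Odd (Nat.card Y) := by
    refine Odd.of_dvd_nat (hFodd.mul ?_) (Cores.card_sup_dvd_mul (fittingSubgroup X) (zpowers a))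
    rw [Nat.card_zpowers]
    exact Odd.of_dvd_nat hsodd.pow (orderOf_dvd_of_pow_eq_one hae)
  exact haout (by rw [htriv Y hYn hYodd a (mem_sup_right (mem_zpowers a))]; rfl)

/-- Conjugation of a normal section. -/
def quotConj {H : Type*} [Group H] (A B : Subgroup H) [A.Normal] [B.Normal]
    [(B.subgroupOf A).Normal] : H →* MulAut (A ⧸ B.subgroupOf A) where
  toFun g := QuotientGroup.congr (B.subgroupOf A) (B.subgroupOf A) (MulAut.conjNormal g) (by
    refine le_antisymm ?_ fun x hx => ⟨(MulAut.conjNormal g).symm x, ?_, by simp⟩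
    · rintro _ ⟨x, hx, rfl⟩
      show ((MulAut.conjNormal g x : A) : H) ∈ B
      rw [MulAut.conjNormal_apply]
      exact ‹B.Normal›.conj_mem _ hx g
    · show (((MulAut.conjNormal g).symm x : A) : H) ∈ B
      rw [MulAut.conjNormal_symm_apply]
      simpa using ‹B.Normal›.conj_mem _ hx g⁻¹)
  map_one' := MulEquiv.ext fun c => by
    obtain ⟨x, rfl⟩ := QuotientGroup.mk_surjective c
    show ((MulAut.conjNormal (1 : H) x : A) : A ⧸ B.subgroupOf A) = _
    rw [map_one]; rfl
  map_mul' g g' := MulEquiv.ext fun c => by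
    obtain ⟨x, rfl⟩ := QuotientGroup.mk_surjective c
    show ((MulAut.conjNormal (g * g') x : A) : A ⧸ B.subgroupOf A) = _
    rw [map_mul]; rfl

theorem quotConj_mk {H : Type*} [Group H] (A B : Subgroup H) [A.Normal] [B.Normal]
    [(B.subgroupOf A).Normal] (g : H) (x : A) :
    quotConj A B g (x : A ⧸ B.subgroupOf A) = ((MulAut.conjNormal g x : A) : A ⧸ B.subgroupOf A) :=
  rfl

theorem cubic_identity {V : Type*} [CommGroup V] (h2 : ∀ v : V, v ^ 2 = 1) (a b c x y z : V) :
    a * b * x * c * (y * z) * (a * b * x) * (a * c * y) * (b * c * z) * a * b * c = 1 := by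
  have e : a * b * x * c * (y * z) * (a * b * x) * (a * c * y) * (b * c * z) * a * b * c =
      (a ^ 2) ^ 2 * (b ^ 2) ^ 2 * (c ^ 2) ^ 2 * x ^ 2 * y ^ 2 * z ^ 2 := by
    simp only [sq]
    ac_rfl
  rw [e, h2, h2, h2, h2, h2, h2]
  simp only [mul_one]

/-- Iterating a step `x ↦ x q` with `q` fixed. -/
theorem pow_eq_one_of_step {H : Type*} [Group H] {h x q : H} (h1 : h * x * h⁻¹ = x * q)
    (h2 : h * q * h⁻¹ = q) : q ^ orderOf h = 1 := by
  have key : ∀ k : ℕ, h ^ k * x * (h ^ k)⁻¹ = x * q ^ k := by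
    intro k
    induction k with
    | zero => simp
    | succ k ih =>
      have h3 : h * q ^ k * h⁻¹ = q ^ k := by rw [← conj_pow, h2]
      calc h ^ (k + 1) * x * (h ^ (k + 1))⁻¹ = h * (h ^ k * x * (h ^ k)⁻¹) * h⁻¹ := by
            rw [pow_succ']; group
        _ = (h * x * h⁻¹) * (h * q ^ k * h⁻¹) := by rw [ih]; group
        _ = x * q ^ (k + 1) := by rw [h1, h3, pow_succ', mul_assoc]
  have h4 := key (orderOf h)
  rw [pow_orderOf_eq_one, one_mul, inv_one, mul_one] at h4
  exact mul_eq_left.1 h4.symm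

theorem eq_one_of_pow_odd_of_two {H : Type*} [Group H] {q : H} {k j : ℕ} (hk : Odd k)
    (h1 : q ^ k = 1) (h2 : q ^ 2 ^ j = 1) : q = 1 := by
  have hcop : k.Coprime (2 ^ j) := Nat.Coprime.pow_right _ (Nat.coprime_two_right.2 hk)
  exact orderOf_eq_one_iff.1
    (Nat.eq_one_of_dvd_coprimes hcop (orderOf_dvd_of_pow_eq_one h1) (orderOf_dvd_of_pow_eq_one h2))

set_option maxHeartbeats 2000000 in
/-- In a solvable group with trivial odd core, one class of involutions and at least two
involutions, the `2`-core has odd index. -/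
theorem odd_index_pCore {H : Type*} [Group H] [Finite H] [Group.IsSolvable H]
    (hO : pPrimeCore 2 H = ⊥) (htwo : ∃ x y : H, x ≠ y ∧ orderOf x = 2 ∧ orderOf y = 2)
    (hconj : ∀ x y : H, orderOf x = 2 → orderOf y = 2 → IsConj x y) :
    Odd (pCore 2 H).index := by
  classical
  haveI : Fact (Nat.Prime 2) := ⟨Nat.prime_two⟩
  obtain ⟨x0, y0, hxy0, hx0, hy0⟩ := htwo
  set P := pCore 2 H with hP
  haveI hPn : P.Normal := sSup_normal _ fun N hN => hN.1
  have hP2 : IsPGroup 2 P := Cores.isPGroup_pCore 2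
  have hCP : centralizer (P : Set H) ≤ P := CfsgLib.Solvable.centralizer_pCore_le 2 hO
  have hPne : P ≠ ⊥ := fun h => by
    have h1 : x0 ∈ P := hCP (mem_centralizer_iff.2 fun g hg => by
      rw [h, SetLike.mem_coe, mem_bot] at hg
      rw [hg, one_mul, mul_one])
    rw [h, mem_bot] at h1
    rw [h1, orderOf_one] at hx0
    omega
  haveI : Nontrivial P := (Subgroup.nontrivial_iff_ne_bot P).2 hPne
  obtain ⟨z, hz⟩ : ∃ z : center P, orderOf z = 2 := by
    haveI := hP2.center_nontrivial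
    obtain ⟨k, hk⟩ := (IsPGroup.iff_card (p := 2)).1 (hP2.to_subgroup (center P))
    refine exists_prime_orderOf_dvd_card' 2 ?_
    rw [hk]
    refine dvd_pow_self 2 fun h0 => ?_
    rw [h0, pow_zero] at hk
    have := Finite.one_lt_card (α := center P)
    omega
  have hinv : ∀ x : H, x ^ 2 = 1 → x ∈ P ∧ ∀ g ∈ P, g * x = x * g := by
    intro x hx
    rcases eq_or_ne x 1 with rfl | hx1
    · exact ⟨one_mem _, fun g _ => by simp⟩
    have hzo : orderOf ((z : P) : H) = 2 := by rw [Subgroup.orderOf_coe, Subgroup.orderOf_coe, hz]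
    obtain ⟨c, hc⟩ := isConj_iff.1 (hconj _ x hzo (orderOf_eq_prime hx hx1))
    refine ⟨hc ▸ hPn.conj_mem _ (z : P).2 c, fun g hg => ?_⟩
    have hg' : c⁻¹ * g * c ∈ P := by simpa using hPn.conj_mem g hg c⁻¹
    have h := congrArg Subtype.val (mem_center_iff.1 z.2 ⟨_, hg'⟩)
    simp only [Subgroup.coe_mul] at h
    rw [← hc]
    calc g * (c * ((z : P) : H) * c⁻¹) = c * (c⁻¹ * g * c * ((z : P) : H)) * c⁻¹ := by group
      _ = _ := by rw [h]; group
  have hinv_comm : ∀ x y : H, x ^ 2 = 1 → y ^ 2 = 1 → x * y = y * x := fun x y hx hy =>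
    (hinv y hy).2 x (hinv x hx).1
  let V : Subgroup H :=
    { carrier := {x | x ^ 2 = 1}
      one_mem' := one_pow 2
      mul_mem' := fun {x y} hx hy => by
        show (x * y) ^ 2 = 1
        rw [Commute.mul_pow (hinv_comm x y hx hy), hx, hy, one_mul]
      inv_mem' := fun {x} hx => by
        show x⁻¹ ^ 2 = 1
        rw [inv_pow, (hx : x ^ 2 = 1), inv_one] }
  haveI : V.Normal := ⟨fun x hx g => by
    show (g * x * g⁻¹) ^ 2 = 1
    rw [conj_pow, (hx : x ^ 2 = 1), mul_one, mul_inv_cancel]⟩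
  have hVmem : ∀ x, x ∈ V ↔ x ^ 2 = 1 := fun _ => Iff.rfl
  -- the critical subgroup
  obtain ⟨Qp, hQc, hQsq, hQcomm, hQcen⟩ := CfsgLib.Transfer.exists_critical hP2
  let Q : Subgroup H := Qp.map P.subtype
  haveI hQn : Q.Normal := ConjAct.normal_of_characteristic_of_normal
  have hQP : Q ≤ P := map_subtype_le _
  have hQsq' : ∀ x ∈ Q, ∀ y ∈ Q, x ^ 2 * y = y * x ^ 2 := by
    rintro _ ⟨x, hx, rfl⟩ _ ⟨y, hy, rfl⟩
    exact (congrArg Subtype.val (mem_centralizer_iff.1 (hQsq x hx).2 y hy)).symm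
  have hQcomm' : ∀ x ∈ Q, ∀ g ∈ P, ∀ y ∈ Q, ⁅x, g⁆ * y = y * ⁅x, g⁆ := by
    rintro _ ⟨x, hx, rfl⟩ g hg _ ⟨y, hy, rfl⟩
    have h := mem_centralizer_iff.1
      (hQcomm (commutator_mem_commutator hx (mem_top ⟨g, hg⟩))).2 y hy
    exact (congrArg Subtype.val h).symm
  have hQcen' : ∀ g ∈ P, (∀ y ∈ Q, g * y = y * g) → g ∈ Q := fun g hg h =>
    ⟨⟨g, hg⟩, hQcen (mem_centralizer_iff.2 fun y hy => Subtype.ext (h _ ⟨y, hy, rfl⟩).symm), rfl⟩
  have hVQ : V ≤ Q := fun x hx => hQcen' x (hinv x hx).1 fun y hy => ((hinv x hx).2 y (hQP hy)).symm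
  -- commutators in `Q` are involutions
  have hcV : ∀ x ∈ Q, ∀ y ∈ Q, ⁅x, y⁆ ∈ V := by
    intro x hx y hy
    rw [hVmem]
    have hc := hQcomm' x hx y (hQP hy) x hx
    have h1 : ⁅x ^ 2, y⁆ = 1 := commutatorElement_eq_one_iff_mul_comm.2 (hQsq' x hx y hy)
    have h2 : ⁅x ^ 2, y⁆ = x * ⁅x, y⁆ * x⁻¹ * ⁅x, y⁆ := by
      simp only [commutatorElement_def, sq]; group
    rw [h2, ← hc, mul_inv_cancel_right] at h1
    rw [sq, h1]
  have hsq : ∀ x ∈ Q, ∀ y ∈ Q, (x * y) ^ 2 = x ^ 2 * y ^ 2 * ⁅x, y⁆ := by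
    intro x hx y hy
    have hc : ⁅x, y⁆⁻¹ = ⁅x, y⁆ :=
      inv_eq_of_mul_eq_one_right (by rw [← sq]; exact hcV x hx y hy)
    have hcy := hQcomm' x hx y (hQP hy) (y ^ 2) (pow_mem hy 2)
    calc (x * y) ^ 2 = x ^ 2 * (x⁻¹ * (y * x * y⁻¹ * x⁻¹) * x) * y ^ 2 := by
          simp only [sq]; group
      _ = x ^ 2 * (x⁻¹ * ⁅x, y⁆⁻¹ * x) * y ^ 2 := by rw [commutatorElement_inv, commutatorElement_def y x]
      _ = x ^ 2 * (⁅x, y⁆ * y ^ 2) := by
          rw [hc, mul_assoc x⁻¹, hQcomm' x hx y (hQP hy) x hx, inv_mul_cancel_left, mul_assoc]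
      _ = _ := by rw [hcy, mul_assoc]
  let Q2 : Subgroup H :=
    { carrier := {x | x ∈ Q ∧ x ^ 4 = 1}
      one_mem' := ⟨one_mem _, one_pow _⟩
      mul_mem' := by
        rintro x y ⟨hx, hx4⟩ ⟨hy, hy4⟩
        refine ⟨mul_mem hx hy, ?_⟩
        have hxV : x ^ 2 ∈ V := by rw [hVmem, ← pow_mul]; exact hx4
        have hyV : y ^ 2 ∈ V := by rw [hVmem, ← pow_mul]; exact hy4
        have h := mul_mem (mul_mem hxV hyV) (hcV x hx y hy)
        rw [hVmem, ← hsq x hx y hy, ← pow_mul] at h
        exact h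
      inv_mem' := by
        rintro x ⟨hx, hx4⟩
        exact ⟨inv_mem hx, by rw [inv_pow, hx4, inv_one]⟩ }
  haveI hQ2n : Q2.Normal := ⟨fun x hx g => ⟨hQn.conj_mem x hx.1 g, by
    rw [conj_pow, hx.2, mul_one, mul_inv_cancel]⟩⟩
  have hsqV : ∀ x ∈ Q2, x ^ 2 ∈ V := fun x hx => by rw [hVmem, ← pow_mul]; exact hx.2
  -- `P` centralises the section `Q2 / V`
  have hPact : ∀ g ∈ P, ∀ x ∈ Q2, x⁻¹ * (g * x * g⁻¹) ∈ V := by
    intro g hg x hx
    have hx' : g * x * g⁻¹ ∈ Q2 := hQ2n.conj_mem x hx g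
    rw [hVmem]
    have e : x⁻¹ * (g * x * g⁻¹) = x⁻¹ * ⁅x, g⁆⁻¹ * x := by rw [commutatorElement_def]; group
    have hc := hQcomm' x hx.1 g hg x hx.1
    have e' : x⁻¹ * (g * x * g⁻¹) = ⁅x, g⁆⁻¹ := by
      rw [e, mul_assoc, (Commute.inv_left (show Commute ⁅x, g⁆ x from hc)).eq, inv_mul_cancel_left]
    have h2 : (g * x * g⁻¹) ^ 2 = x ^ 2 := by
      rw [conj_pow, (hinv _ (hsqV x hx)).2 g hg, mul_inv_cancel_right]
    have hcc : Commute x (x⁻¹ * (g * x * g⁻¹)) := by
      rw [e']; exact (Commute.inv_left (show Commute ⁅x, g⁆ x from hc)).symm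
    have h3 : (x * (x⁻¹ * (g * x * g⁻¹))) ^ 2 = x ^ 2 := by rwa [mul_inv_cancel_left]
    rw [hcc.mul_pow, mul_eq_left] at h3
    exact h3
  haveI : (V.subgroupOf Q2).Normal := Normal.subgroupOf ‹V.Normal› _
  letI : CommGroup V :=
    { (inferInstance : Group V) with
      mul_comm := fun x y => Subtype.ext (hinv_comm _ _ x.2 y.2) }
  letI : CommGroup (Q2 ⧸ V.subgroupOf Q2) :=
    { (inferInstance : Group (Q2 ⧸ V.subgroupOf Q2)) with
      mul_comm := fun a b => by
        obtain ⟨x, rfl⟩ := QuotientGroup.mk_surjective a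
        obtain ⟨y, rfl⟩ := QuotientGroup.mk_surjective b
        rw [← QuotientGroup.mk_mul, ← QuotientGroup.mk_mul, QuotientGroup.eq, mem_subgroupOf]
        have h := hcV (y : H)⁻¹ (inv_mem y.2.1) (x : H)⁻¹ (inv_mem x.2.1)
        simpa [commutatorElement_def, mul_assoc] using h }
  let qf : Q2 ⧸ V.subgroupOf Q2 → V :=
    fun c => Quotient.liftOn' c (fun x => ⟨(x : H) ^ 2, hsqV _ x.2⟩) fun x y hxy => by
      rw [QuotientGroup.leftRel_apply] at hxy
      have hv : (x : H)⁻¹ * y ∈ V := hxy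
      refine Subtype.ext ?_
      show (x : H) ^ 2 = (y : H) ^ 2
      have hcom : Commute (x : H) ((x : H)⁻¹ * y) := (hinv _ hv).2 x (hQP x.2.1)
      conv_rhs => rw [← mul_inv_cancel_left (x : H) (y : H), hcom.mul_pow, (hVmem _).1 hv, mul_one]
  have hqf : ∀ x : Q2, qf (x : Q2 ⧸ V.subgroupOf Q2) = ⟨(x : H) ^ 2, hsqV _ x.2⟩ := fun _ => rfl
  let F : AnisoQuad.Form (Q2 ⧸ V.subgroupOf Q2) V :=
    { q := qf
      sqM := fun a => by
        obtain ⟨x, rfl⟩ := QuotientGroup.mk_surjective a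
        rw [← QuotientGroup.mk_pow, QuotientGroup.eq_one_iff, mem_subgroupOf]
        simpa using hsqV _ x.2
      sqV := fun v => Subtype.ext (by simpa using (hVmem _).1 v.2)
      q_one := Subtype.ext (one_pow 2)
      aniso := fun a ha => by
        obtain ⟨x, rfl⟩ := QuotientGroup.mk_surjective a
        rw [QuotientGroup.eq_one_iff, mem_subgroupOf, hVmem]
        exact congrArg Subtype.val ha
      cubic := fun a b c => by
        obtain ⟨x, rfl⟩ := QuotientGroup.mk_surjective a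
        obtain ⟨y, rfl⟩ := QuotientGroup.mk_surjective b
        obtain ⟨w, rfl⟩ := QuotientGroup.mk_surjective c
        let cm : Q2 → Q2 → V := fun x y => ⟨⁅(x : H), (y : H)⁆, hcV _ x.2.1 _ y.2.1⟩
        have hcm : ∀ x y w : Q2, cm (x * y) w = cm x w * cm y w := fun x y w => Subtype.ext (by
          show ⁅(x : H) * y, (w : H)⁆ = ⁅(x : H), (w : H)⁆ * ⁅(y : H), (w : H)⁆
          have h := (hinv _ (hcV _ y.2.1 _ w.2.1)).2 x (hQP x.2.1)
          have h' := hinv_comm _ _ (hcV _ x.2.1 _ w.2.1) (hcV _ y.2.1 _ w.2.1)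
          calc ⁅(x : H) * y, (w : H)⁆ = x * ⁅(y : H), (w : H)⁆ * (x : H)⁻¹ * ⁅(x : H), (w : H)⁆ := by
                simp only [commutatorElement_def]; group
            _ = _ := by rw [h, mul_inv_cancel_right, h'])
        have hqm : ∀ x y : Q2, qf ((x * y : Q2) : Q2 ⧸ V.subgroupOf Q2) =
            qf x * qf y * cm x y := fun x y => Subtype.ext (hsq _ x.2.1 _ y.2.1)
        have h2 : ∀ v : V, v * v = 1 := fun v => Subtype.ext (by
          rw [Subgroup.coe_mul, ← sq]; exact v.2)
        simp only [← QuotientGroup.mk_mul, hqm, hcm]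
        exact cubic_identity (fun v => by rw [sq, h2]) _ _ _ _ _ _ }
  let φ0 : H →* MulAut (Q2 ⧸ V.subgroupOf Q2) := quotConj Q2 V
  let ψ0 : H →* MulAut V := MulAut.conjNormal
  have hφP : P ≤ φ0.ker := fun g hg => MonoidHom.mem_ker.2 (MulEquiv.ext fun c => by
    obtain ⟨x, rfl⟩ := QuotientGroup.mk_surjective c
    show quotConj Q2 V g (x : Q2 ⧸ V.subgroupOf Q2) = x
    rw [quotConj_mk]
    refine (QuotientGroup.eq.2 ?_).symm
    rw [mem_subgroupOf]
    simpa using hPact g hg x x.2)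
  have hψP : P ≤ ψ0.ker := fun g hg => MonoidHom.mem_ker.2 (MulEquiv.ext fun v => Subtype.ext (by
    show ((MulAut.conjNormal g v : V) : H) = v
    rw [MulAut.conjNormal_apply, (hinv _ v.2).2 g hg, mul_inv_cancel_right]))
  let φ : H ⧸ P →* MulAut (Q2 ⧸ V.subgroupOf Q2) := QuotientGroup.lift P φ0 hφP
  let ψ : H ⧸ P →* MulAut V := QuotientGroup.lift P ψ0 hψP
  obtain ⟨n, hn⟩ := (IsPGroup.iff_card (p := 2) (G := V)).1
    (fun v => ⟨1, Subtype.ext (by simpa using (hVmem _).1 v.2)⟩)
  have hn2 : 2 ≤ n := by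
    by_contra h
    have hle : Nat.card V ≤ 2 := by
      rw [hn]
      calc 2 ^ n ≤ 2 ^ 1 := Nat.pow_le_pow_right two_pos (by omega)
        _ = 2 := pow_one 2
    haveI : Fintype V := Fintype.ofFinite V
    have hxV : ∀ x : H, orderOf x = 2 → x ∈ V := fun x hx => by
      rw [hVmem, ← hx, pow_orderOf_eq_one]
    have hne : ∀ x : H, orderOf x = 2 → x ≠ 1 := fun x hx h => by
      rw [h, orderOf_one] at hx; omega
    have h3 : ({⟨x0, hxV _ hx0⟩, ⟨y0, hxV _ hy0⟩, 1} : Finset V).card = 3 :=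
      Finset.card_eq_three.2 ⟨_, _, _, fun h => hxy0 (congrArg Subtype.val h),
        fun h => hne _ hx0 (congrArg Subtype.val h), fun h => hne _ hy0 (congrArg Subtype.val h), rfl⟩
    have := Finset.card_le_univ ({⟨x0, hxV _ hx0⟩, ⟨y0, hxV _ hy0⟩, 1} : Finset V)
    rw [← Nat.card_eq_fintype_card, h3] at this
    omega
  haveI : Group.IsSolvable (H ⧸ P) :=
    Group.isSolvable_of_surjective (QuotientGroup.mk'_surjective P)
  have hPodd : ∀ x ∈ P, Odd (orderOf x) → x = 1 := fun x hx ho => by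
    obtain ⟨j, hj⟩ := hP2 ⟨x, hx⟩
    exact eq_one_of_pow_odd_of_two ho (pow_orderOf_eq_one x) (congrArg Subtype.val hj)
  by_contra hev
  rw [Nat.not_odd_iff_even, even_iff_two_dvd, Subgroup.index] at hev
  refine core_false F φ ψ ?_ ?_ hn hn2 (Cores.pCore_quotient_self 2) ?_ ?_
  · intro g c
    obtain ⟨g, rfl⟩ := QuotientGroup.mk_surjective g
    obtain ⟨x, rfl⟩ := QuotientGroup.mk_surjective c
    refine Subtype.ext ?_
    show ((MulAut.conjNormal g x : Q2) : H) ^ 2 = ((MulAut.conjNormal g (qf x) : V) : H)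
    rw [MulAut.conjNormal_apply, MulAut.conjNormal_apply, conj_pow, hqf]
  · intro v w hv hw
    have ho : ∀ u : V, u ≠ 1 → orderOf (u : H) = 2 := fun u hu =>
      orderOf_eq_prime ((hVmem _).1 u.2) fun h => hu (Subtype.ext h)
    obtain ⟨c, hc⟩ := isConj_iff.1 (hconj _ _ (ho v hv) (ho w hw))
    refine ⟨(c : H ⧸ P), Subtype.ext ?_⟩
    show ((MulAut.conjNormal c v : V) : H) = w
    rw [MulAut.conjNormal_apply, hc]
  · -- faithfulness on odd elements
    intro g hg hψg hφg
    obtain ⟨g0, rfl⟩ := QuotientGroup.mk_surjective g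
    obtain ⟨h, hh, hho⟩ : ∃ h : H, (h : H ⧸ P) = (g0 : H ⧸ P) ∧ Odd (orderOf h) := by
      obtain ⟨i, m, hm, him⟩ := Nat.exists_eq_two_pow_mul_odd (orderOf_pos g0).ne'
      rcases Nat.eq_or_lt_of_le (Nat.succ_le_of_lt (orderOf_pos (g0 : H ⧸ P))) with h1 | h1
      · exact ⟨1, (orderOf_eq_one_iff.1 h1.symm).symm, by rw [orderOf_one]; exact odd_one⟩
      obtain ⟨u, -, hu⟩ := Nat.exists_mul_mod_eq_one_of_coprime (n := 2 ^ i)
        (k := orderOf (g0 : H ⧸ P)) (Nat.Coprime.pow_left i (Nat.coprime_two_left.2 hg)) h1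
      refine ⟨g0 ^ (2 ^ i * u), ?_, ?_⟩
      · rw [QuotientGroup.mk_pow, ← pow_mod_orderOf, hu, pow_one]
      · rw [pow_mul]
        refine Odd.of_dvd_nat hm (orderOf_dvd_of_pow_eq_one ?_)
        rw [← pow_mul, ← pow_mul, show 2 ^ i * (u * m) = orderOf g0 * u by rw [him]; ring, pow_mul,
          pow_orderOf_eq_one, one_pow]
    rw [← hh] at hψg hφg ⊢
    have hfixV : ∀ v ∈ V, h * v * h⁻¹ = v := fun v hv => by
      have := congrArg Subtype.val (DFunLike.congr_fun hψg (⟨v, hv⟩ : V))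
      rwa [show ψ (h : H ⧸ P) (⟨v, hv⟩ : V) = MulAut.conjNormal h (⟨v, hv⟩ : V) from rfl,
        MulAut.conjNormal_apply] at this
    have hfix2 : ∀ x ∈ Q2, h * x * h⁻¹ = x := fun x hx => by
      have h1 : x⁻¹ * (h * x * h⁻¹) ∈ V := by
        have := DFunLike.congr_fun hφg ((⟨x, hx⟩ : Q2) : Q2 ⧸ V.subgroupOf Q2)
        rw [show φ (h : H ⧸ P) ((⟨x, hx⟩ : Q2) : Q2 ⧸ V.subgroupOf Q2) =
          ((MulAut.conjNormal h (⟨x, hx⟩ : Q2) : Q2) : Q2 ⧸ V.subgroupOf Q2) from rfl] at this
        have h0 := QuotientGroup.eq.1 this.symm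
        rw [mem_subgroupOf] at h0
        simpa using h0
      have h2 : (x⁻¹ * (h * x * h⁻¹)) ^ orderOf h = 1 :=
        pow_eq_one_of_step (x := x) (by group) (hfixV _ h1)
      have h3 := eq_one_of_pow_odd_of_two hho h2 (j := 1) (by rw [pow_one]; exact h1)
      rw [inv_mul_eq_one] at h3
      exact h3.symm
    have hfixQ : ∀ j : ℕ, ∀ x ∈ Q, x ^ 2 ^ j = 1 → h * x * h⁻¹ = x := by
      intro j
      induction j with
      | zero => intro x _ hx; rw [pow_zero, pow_one] at hx; subst hx; simp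
      | succ j ih =>
        intro x hx hxj
        have h1 : h * x ^ 2 * h⁻¹ = x ^ 2 :=
          ih _ (pow_mem hx 2) (by rw [← pow_mul, ← pow_succ']; exact hxj)
        set q := x⁻¹ * (h * x * h⁻¹) with hq
        have hqQ : q ∈ Q := mul_mem (inv_mem hx) (hQn.conj_mem x hx h)
        have h2 : x ^ 2 * q ^ 2 * ⁅x, q⁆ = x ^ 2 := by
          rw [← hsq x hx q hqQ, hq, mul_inv_cancel_left, conj_pow, h1]
        rw [mul_assoc, mul_eq_left] at h2
        have hq2 : q ^ 2 ∈ V := by
          rw [mul_eq_one_iff_eq_inv.1 h2]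
          exact V.inv_mem (hcV x hx q hqQ)
        have hqQ2 : q ∈ Q2 := ⟨hqQ, by
          rw [hVmem, ← pow_mul] at hq2
          exact hq2⟩
        have h3 := eq_one_of_pow_odd_of_two hho
          (pow_eq_one_of_step (x := x) (by rw [hq]; group) (hfix2 q hqQ2)) (j := 2) hqQ2.2
        rw [hq, inv_mul_eq_one] at h3
        exact h3.symm
    have hfixQ' : ∀ x ∈ Q, h * x * h⁻¹ = x := fun x hx => by
      obtain ⟨j, hj⟩ := hP2 ⟨x, hQP hx⟩
      exact hfixQ j x hx (congrArg Subtype.val hj)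
    have hhP : h ∈ centralizer (P : Set H) := mem_centralizer_iff.2 fun g hg => by
      have hu : g⁻¹ * (h * g * h⁻¹) ∈ P := mul_mem (P.inv_mem hg) (hPn.conj_mem g hg h)
      have huQ : g⁻¹ * (h * g * h⁻¹) ∈ Q := hQcen' _ hu fun y hy => by
        have hy' : g * y * g⁻¹ ∈ Q := hQn.conj_mem y hy g
        have e1 := hfixQ' _ hy'
        have e2 := hfixQ' y hy
        have e3 : (h * g * h⁻¹) * y * (h * g * h⁻¹)⁻¹ = g * y * g⁻¹ := by
          conv_rhs => rw [← e1]
          conv_lhs => rw [← e2]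
          group
        calc g⁻¹ * (h * g * h⁻¹) * y
            = g⁻¹ * ((h * g * h⁻¹) * y * (h * g * h⁻¹)⁻¹) * (h * g * h⁻¹) := by group
          _ = y * (g⁻¹ * (h * g * h⁻¹)) := by rw [e3]; group
      obtain ⟨j, hj⟩ := hP2 ⟨_, hu⟩
      have h3 := eq_one_of_pow_odd_of_two hho
        (pow_eq_one_of_step (x := g) (by group) (hfixQ' _ huQ)) (congrArg Subtype.val hj)
      rw [inv_mul_eq_one] at h3
      calc g * h = h * g * h⁻¹ * h := by rw [← h3]
        _ = h * g := by group
    rw [QuotientGroup.eq_one_iff]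
    exact hCP hhP
  · -- odd normal subgroups fix an involution
    intro Y hY hYodd
    haveI := hY
    set Yc := Y.comap (QuotientGroup.mk' P) with hYc
    haveI : Yc.Normal := hY.comap _
    haveI : Group.IsSolvable Yc := inferInstance
    obtain ⟨p, hp⟩ := (IsPGroup.iff_card (p := 2)).1 hP2
    have hcard : Nat.card Yc = Nat.card Y * Nat.card P := by
      rw [hYc, mul_comm, ← CfsgLib.Solvable.card_comap_mk' P Y]
    have hcop : (Nat.card Y).Coprime (Nat.card P) := by
      rw [hp]; exact Nat.Coprime.pow_right _ (Nat.coprime_two_right.2 hYodd)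
    obtain ⟨C, hC⟩ := CfsgLib.Solvable.exists_hall hcard hcop
    set CH := C.map Yc.subtype with hCH
    have hCHc : Nat.card CH = Nat.card Y := by
      rw [hCH, card_map_of_injective Yc.subtype_injective, hC]
    have hCY : CH ≤ Yc := map_subtype_le _
    -- an involution normalising the complement
    obtain ⟨x, hx2, hxY⟩ : ∃ x : H, x ^ 2 ∈ Yc ∧ x ∉ Yc := by
      have hXY : 2 ∣ Yc.index := by
        rw [hYc, index_comap_of_surjective _ (QuotientGroup.mk'_surjective P)]
        have h := Y.card_mul_index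
        rw [← h] at hev
        rcases (Nat.Prime.dvd_mul Nat.prime_two).1 hev with h' | h'
        · obtain ⟨k, hk⟩ := hYodd; omega
        · exact h'
      obtain ⟨c, hc⟩ := exists_prime_orderOf_dvd_card' (G := H ⧸ Yc) 2 hXY
      obtain ⟨x, rfl⟩ := QuotientGroup.mk_surjective c
      refine ⟨x, ?_, fun h => ?_⟩
      · rw [← QuotientGroup.eq_one_iff, QuotientGroup.mk_pow, ← hc, pow_orderOf_eq_one]
      · rw [(QuotientGroup.eq_one_iff x).2 h, orderOf_one] at hc; omega
    have hconjC : ∃ g ∈ normalizer (CH : Set H), g ^ 2 ∈ Yc ∧ g ∉ Yc := by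
      have hle : CH.map (MulAut.conj x).toMonoidHom ≤ Yc := by
        rintro _ ⟨c, hc, rfl⟩
        exact ‹Yc.Normal›.conj_mem c (hCY hc) x
      obtain ⟨y, hy⟩ := CfsgLib.Solvable.exists_conj_eq_hall (H := C)
        (K := (CH.map (MulAut.conj x).toMonoidHom).subgroupOf Yc) hcard hcop hC (by
          rw [Nat.card_congr (subgroupOfEquivOfLe hle).toEquiv,
            card_map_of_injective (K := CH) (MulAut.conj x).injective, hCHc])
      have hmap : CH.map (MulAut.conj (y : H)).toMonoidHom = CH.map (MulAut.conj x).toMonoidHom := by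
        have h := congrArg (map Yc.subtype) hy
        rw [map_subgroupOf_eq_of_le hle] at h
        rw [← h, hCH, map_map]
        show _ = (C.map (MulAut.conj y).toMonoidHom).map Yc.subtype
        rw [map_map]
        rfl
      refine ⟨(y : H)⁻¹ * x, ?_, ?_, fun h => hxY ?_⟩
      · rw [mem_normalizer_iff_map_conj_eq, ← MulEquiv.toMonoidHom_eq_coe, map_mul,
          show ((MulAut.conj (y : H)⁻¹) * MulAut.conj x).toMonoidHom =
            (MulAut.conj (y : H)⁻¹).toMonoidHom.comp (MulAut.conj x).toMonoidHom from rfl,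
          ← map_map, ← hmap, map_map]
        convert map_id CH
        ext g
        simp [mul_assoc]
      · rw [← QuotientGroup.eq_one_iff, QuotientGroup.mk_pow, QuotientGroup.mk_mul,
          (QuotientGroup.eq_one_iff _).2 (inv_mem y.2), one_mul, ← QuotientGroup.mk_pow,
          QuotientGroup.eq_one_iff]
        exact hx2
      · simpa using mul_mem y.2 h
    obtain ⟨g, hgN, hg2, hgY⟩ := hconjC
    have hgev : 2 ∣ orderOf g := by
      by_contra h
      refine hgY ((QuotientGroup.eq_one_iff g).1 ?_)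
      refine eq_one_of_pow_odd_of_two (j := 1) (Nat.odd_iff.2 (by omega) : Odd (orderOf g)) ?_ ?_
      · rw [← QuotientGroup.mk_pow, pow_orderOf_eq_one]; rfl
      · rw [pow_one, ← QuotientGroup.mk_pow, QuotientGroup.eq_one_iff]; exact hg2
    set t := g ^ (orderOf g / 2) with ht
    have hto : orderOf t = 2 := by
      obtain ⟨k, hk⟩ := hgev
      have hk0 : k ≠ 0 := fun h => (orderOf_pos g).ne' (by rw [hk, h, mul_zero])
      rw [ht, orderOf_pow' g (by omega), hk, Nat.mul_div_cancel_left _ two_pos,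
        Nat.gcd_eq_right (dvd_mul_left k 2), Nat.mul_div_cancel _ (Nat.pos_of_ne_zero hk0)]
    have htV : t ∈ V := by rw [hVmem, ← hto, pow_orderOf_eq_one]
    have htN : t ∈ normalizer (CH : Set H) := pow_mem hgN _
    refine ⟨⟨t, htV⟩, fun h => ?_, fun y hy => ?_⟩
    · have h' : t = 1 := congrArg Subtype.val h
      rw [h', orderOf_one] at hto
      omega
    -- the stabiliser contains the image of the complement
    have himg : CH.map (QuotientGroup.mk' P) = Y := by
      refine eq_of_le_of_card_ge (map_le_iff_le_comap.2 hCY) ?_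
      rw [← relIndex_ker, QuotientGroup.ker_mk', ← hCHc, ← relIndex_bot_left CH]
      refine le_of_eq ?_
      have hdisj : CH ⊓ P = ⊥ := inf_eq_bot_of_coprime (by rw [hCHc]; exact hcop)
      rw [← inf_relIndex_right P CH, inf_comm, hdisj]
    rw [← himg] at hy
    obtain ⟨c, hc, rfl⟩ := hy
    refine Subtype.ext ?_
    show ((MulAut.conjNormal c (⟨t, htV⟩ : V) : V) : H) = t
    rw [MulAut.conjNormal_apply]
    have h1 : t * c * t⁻¹ * c⁻¹ ∈ CH :=
      mul_mem ((mem_normalizer_iff.1 htN c).1 hc) (CH.inv_mem hc)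
    have h2 : t * c * t⁻¹ * c⁻¹ ∈ V := by
      rw [mul_assoc, mul_assoc]
      refine mul_mem htV ?_
      rw [← mul_assoc]
      exact ‹V.Normal›.conj_mem _ (V.inv_mem htV) c
    have h3 : CH ⊓ V = ⊥ := inf_eq_bot_of_coprime (by
      rw [hCHc, hn]
      exact Nat.Coprime.pow_right _ (Nat.coprime_two_right.2 hYodd))
    have h4 : t * c * t⁻¹ * c⁻¹ = 1 := by rw [← mem_bot, ← h3]; exact ⟨h1, h2⟩
    calc c * t * c⁻¹ = (t * c * t⁻¹ * c⁻¹)⁻¹ * t := by group
      _ = t := by rw [h4, inv_one, one_mul]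

end CfsgLib.PGroup.OneClass
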