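import Mathlib

/-!
# Wielandt: minimal normal subgroups normalize subnormal subgroups
-/

set_option autoImplicit false

namespace CfsgLib.PGroup

open Subgroup

universe u

private theorem minimalNormal_le_normalizer_aux (n : ℕ) : ∀ (G : Type u) [Group G] [Finite G],
    Nat.card G = n → ∀ N S : Subgroup G, N.Normal →
      (∀ M : Subgroup G, M.Normal → M ≤ N → M = ⊥ ∨ M = N) → S.IsSubnormal →
      N ≤ normalizer (S : Set G) := by
  induction n using Nat.strong_induction_on with
  | _ n ih =>
    intro G _ _ hn N S hNn hmin hS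
    by_cases hN : N = ⊥
    · rw [hN]; exact bot_le
    rcases hS.lt_normal with rfl | ⟨K, hKn, hSK, hK⟩
    · exact le_top.trans (eq_top_iff.1 (normalizer_eq_top_iff.2 inferInstance))
    haveI := hKn
    haveI := hNn
    rcases hmin (N ⊓ K) inferInstance inf_le_left with h | h
    · refine le_trans (fun x hx => mem_centralizer_iff.2 fun s hs => ?_) (centralizer_le_normalizer _)
      exact (commute_of_normal_of_disjoint N K hNn hKn (disjoint_iff.2 h) x s hx (hSK hs)).symm.eq
    have hNK : N ≤ K := inf_eq_left.1 h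
    let Fam : Set (Subgroup G) :=
      {M | M ≤ N ∧ M ≠ ⊥ ∧ K ≤ normalizer (M : Set G) ∧
        ∀ L : Subgroup G, L ≤ M → L ≠ ⊥ → K ≤ normalizer (L : Set G) → L = M}
    have hX : ∀ M ∈ Fam, M ≤ normalizer (S : Set G) := by
      rintro M ⟨hMN, -, hMn, hMmin⟩
      have hMK : M ≤ K := hMN.trans hNK
      have hlt : Nat.card K < n := by
        rw [← hn]
        exact lt_of_le_of_ne (card_le_card_group K) fun h =>
          hK.ne (eq_top_of_card_eq K h)
      have := ih _ hlt K rfl (M.subgroupOf K) (S.subgroupOf K)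
        ((normal_subgroupOf_iff_le_normalizer hMK).2 hMn) (fun L hL hLM => by
          haveI := hL
          rcases eq_or_ne L ⊥ with hLb | hLb
          · exact Or.inl hLb
          right
          have h1 : L.map K.subtype ≤ M := by
            rintro _ ⟨x, hx, rfl⟩; exact hLM hx
          have h2 : L.map K.subtype = M := by
            refine hMmin _ h1 (fun h => hLb (map_injective K.subtype_injective (by rw [h, Subgroup.map_bot]))) ?_
            refine (normal_subgroupOf_iff_le_normalizer (h1.trans hMK)).1 ?_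
            rw [subgroupOf, comap_map_eq_self_of_injective K.subtype_injective]
            exact hL
          rw [← h2, subgroupOf, comap_map_eq_self_of_injective K.subtype_injective])
        hS.subgroupOf
      intro x hx
      have h3 := this (x := ⟨x, hMK hx⟩) hx
      rw [← subgroupOf_normalizer_eq hSK] at h3
      exact h3
    have hXN : sSup Fam ≤ N := sSup_le fun M hM => hM.1
    have hXn : (sSup Fam).Normal := by
      refine ⟨fun x hx g => ?_⟩
      suffices hle : (sSup Fam).map (MulAut.conj g).toMonoidHom ≤ sSup Fam from hle ⟨x, hx, rfl⟩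
      rw [map_le_iff_le_comap]
      refine sSup_le fun M hM => map_le_iff_le_comap.1 (le_sSup ?_)
      obtain ⟨hMN, hMb, hMn, hMmin⟩ := hM
      have hconjK : ∀ (L : Subgroup G) (g : G), K ≤ normalizer (L : Set G) →
          K ≤ normalizer ((L.map (MulAut.conj g).toMonoidHom : Subgroup G) : Set G) := by
        intro L g hL k hk
        have hk' : g⁻¹ * k * g ∈ normalizer (L : Set G) := hL (by
          simpa using hKn.conj_mem k hk g⁻¹)
        refine mem_normalizer_iff.2 fun y => ⟨?_, ?_⟩
        · rintro ⟨l, hl, rfl⟩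
          refine ⟨g⁻¹ * k * g * l * (g⁻¹ * k * g)⁻¹, (mem_normalizer_iff.1 hk' l).1 hl, ?_⟩
          simp [mul_assoc]
        · rintro ⟨l, hl, hly⟩
          refine ⟨(g⁻¹ * k * g)⁻¹ * l * (g⁻¹ * k * g), (mem_normalizer_iff.1 hk' _).2 (by
            simpa [mul_assoc] using hl), ?_⟩
          have hly' : g * l * g⁻¹ = k * y * k⁻¹ := hly
          show g * ((g⁻¹ * k * g)⁻¹ * l * (g⁻¹ * k * g)) * g⁻¹ = y
          calc g * ((g⁻¹ * k * g)⁻¹ * l * (g⁻¹ * k * g)) * g⁻¹ = k⁻¹ * (g * l * g⁻¹) * k := by group
            _ = y := by rw [hly']; group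
      refine ⟨?_, fun h => hMb ((Subgroup.map_eq_bot_iff_of_injective _ (MulAut.conj g).injective).1 h),
        hconjK M g hMn, fun L hL hLb hLn => ?_⟩
      · rintro _ ⟨m, hm, rfl⟩
        exact hNn.conj_mem m (hMN hm) g
      · have h1 : L.map (MulAut.conj g⁻¹).toMonoidHom ≤ M := by
          rintro _ ⟨l, hl, rfl⟩
          obtain ⟨m, hm, rfl⟩ := hL hl
          simpa [mul_assoc] using hm
        have h2 := hMmin _ h1
          (fun h => hLb ((Subgroup.map_eq_bot_iff_of_injective _ (MulAut.conj g⁻¹).injective).1 h))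
          (hconjK L g⁻¹ hLn)
        rw [← h2, map_map]
        ext y; simp [mul_assoc]
    have hXb : sSup Fam ≠ ⊥ := by
      obtain ⟨M, hMN, ⟨hMb, hMn⟩, hMmin⟩ := Finite.exists_le_minimal
        (p := fun M : Subgroup G => M ≠ ⊥ ∧ K ≤ normalizer (M : Set G)) (a := N)
        ⟨hN, le_top.trans (eq_top_iff.1 (normalizer_eq_top_iff.2 hNn))⟩
      intro hb
      refine hMb (le_bot_iff.1 (hb ▸ le_sSup ⟨hMN, hMb, hMn, fun L hL hLb hLn => ?_⟩))
      exact le_antisymm hL (hMmin ⟨hLb, hLn⟩ hL)
    rw [← (hmin _ hXn hXN).resolve_left hXb]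
    exact sSup_le hX

variable {G : Type u} [Group G] [Finite G]

/-- A minimal normal subgroup normalizes every subnormal subgroup. -/
theorem minimalNormal_le_normalizer {N S : Subgroup G} [hN : N.Normal]
    (hmin : ∀ M : Subgroup G, M.Normal → M ≤ N → M = ⊥ ∨ M = N) (hS : S.IsSubnormal) :
    N ≤ normalizer (S : Set G) :=
  minimalNormal_le_normalizer_aux _ G rfl N S hN hmin hS

/-- A nontrivial subnormal subgroup contained in `M` has a nontrivial normal closure in `M`
unless `M` contains a minimal normal subgroup: the basic dichotomy. -/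
theorem normalClosure_le_of_isSubnormal_of_isCoatom {M S : Subgroup G} (hM : IsCoatom M)
    (hS : S.IsSubnormal) (hSM : S ≤ M) {N : Subgroup G} [N.Normal]
    (hmin : ∀ L : Subgroup G, L.Normal → L ≤ N → L = ⊥ ∨ L = N) (hNM : ¬ N ≤ M) :
    normalClosure (S : Set G) ≤ M := by
  have htop : N ⊔ M = ⊤ := hM.2 _ (lt_of_le_not_ge le_sup_right fun h => hNM (le_sup_left.trans h))
  refine (closure_le _).2 fun x hx => ?_
  obtain ⟨s, hs, hsx⟩ := Group.mem_conjugatesOfSet_iff.1 hx
  obtain ⟨g, rfl⟩ := isConj_iff.1 hsx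
  have hg : g ∈ (M ⊔ N : Subgroup G) := by rw [sup_comm, htop]; exact mem_top g
  rw [← SetLike.mem_coe, mul_normal, Set.mem_mul] at hg
  obtain ⟨m, hm, a, ha, rfl⟩ := hg
  have h1 : a * s * a⁻¹ ∈ S :=
    (mem_normalizer_iff.1 (minimalNormal_le_normalizer hmin hS ha) s).1 hs
  have h2 : m * a * s * (m * a)⁻¹ = m * (a * s * a⁻¹) * m⁻¹ := by group
  rw [SetLike.mem_coe, h2]
  exact M.mul_mem (M.mul_mem hm (hSM h1)) (M.inv_mem hm)

/-- In a finite nilpotent group every subgroup is subnormal. -/
theorem isSubnormal_of_isNilpotent [hG : Group.IsNilpotent G] (H : Subgroup G) : H.IsSubnormal := by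
  induction hc : H.index using Nat.strong_induction_on generalizing H with
  | _ c ih =>
    subst hc
    rcases eq_or_ne H ⊤ with rfl | hne
    · exact Normal.isSubnormal inferInstance
    have hlt := Group.normalizerCondition_of_isNilpotent H (lt_top_iff_ne_top.2 hne)
    refine IsSubnormal.trans le_normalizer ?_ (ih _ (index_strictAnti hlt) _ rfl)
    exact Normal.isSubnormal inferInstance

end CfsgLib.PGroup
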