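import Cfsg.Agent.Lib.Transfer.PSolvable

/-!
Index arithmetic for the upper `p`-series: behaviour of `p`-length under quotients.
-/

namespace CfsgLib.PGroup

open Cfsg Subgroup

variable {G H : Type*} [Group G] [Group H] {p : ℕ}

/-- The terms of the upper `p`-series, as subgroups. -/
abbrev useries (p : ℕ) (G : Type*) [Group G] (n : ℕ) : Subgroup G := (upperPSeries p G n).1

instance useries_normal (p : ℕ) (G : Type*) [Group G] (n : ℕ) : (useries p G n).Normal :=
  (upperPSeries p G n).2

/-- The condition on the index at step `n` of the upper `p`-series. -/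
def StepCond (p n m : ℕ) : Prop := (Even n → m.Coprime p) ∧ (¬ Even n → ∃ k, m = p ^ k)

theorem StepCond.of_dvd [hp : Fact p.Prime] {n m m' : ℕ} (h : StepCond p n m) (hd : m' ∣ m) :
    StepCond p n m' :=
  ⟨fun hn => (h.1 hn).coprime_dvd_left hd, fun hn => by
    obtain ⟨k, hk⟩ := h.2 hn
    obtain ⟨j, -, hj⟩ := (Nat.dvd_prime_pow hp.out).1 (hk ▸ hd)
    exact ⟨j, hj⟩⟩

theorem StepCond.mul {n m m' : ℕ} (h : StepCond p n m) (h' : StepCond p n m') :
    StepCond p n (m * m') :=
  ⟨fun hn => (h.1 hn).mul_left (h'.1 hn), fun hn => by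
    obtain ⟨k, hk⟩ := h.2 hn
    obtain ⟨j, hj⟩ := h'.2 hn
    exact ⟨k + j, by rw [hk, hj, pow_add]⟩⟩

theorem StepCond.congr {n n' m : ℕ} (h : StepCond p n m) (e : Even n ↔ Even n') : StepCond p n' m :=
  ⟨fun hn => h.1 (e.2 hn), fun hn => h.2 (fun hh => hn (e.1 hh))⟩

theorem relIndex_eq_card_map (A K : Subgroup G) [A.Normal] :
    A.relIndex K = Nat.card (K.map (QuotientGroup.mk' A)) := by
  conv_lhs => rw [← QuotientGroup.ker_mk' A]
  rw [relIndex_ker]

theorem stepCond_series [Finite G] [hp : Fact p.Prime] (n : ℕ) :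
    StepCond p n ((useries p G n).relIndex (useries p G (n + 1))) := by
  rw [relIndex_eq_card_map]
  refine ⟨fun hn => ?_, fun hn => ?_⟩
  · rw [show useries p G (n + 1) = _ from CfsgLib.Transfer.upperPSeries_succ_of_even p G hn,
      map_comap_eq_self_of_surjective (QuotientGroup.mk'_surjective _)]
    exact CfsgLib.Cores.coprime_card_pPrimeCore p
  · rw [show useries p G (n + 1) = _ from CfsgLib.Transfer.upperPSeries_succ_of_odd p G hn,
      map_comap_eq_self_of_surjective (QuotientGroup.mk'_surjective _)]
    exact (CfsgLib.Cores.isPGroup_pCore p).exists_card_eq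

theorem le_series_succ [Finite G] [hp : Fact p.Prime] {n : ℕ} {N : Subgroup G} [hN : N.Normal]
    (h : StepCond p n ((useries p G n).relIndex N)) : N ≤ useries p G (n + 1) := by
  rw [relIndex_eq_card_map] at h
  have hn' : (N.map (QuotientGroup.mk' (useries p G n))).Normal :=
    hN.map _ (QuotientGroup.mk'_surjective _)
  by_cases hn : Even n
  · rw [show useries p G (n + 1) = _ from CfsgLib.Transfer.upperPSeries_succ_of_even p G hn,
      ← map_le_iff_le_comap]
    exact CfsgLib.Cores.le_pPrimeCore (h.1 hn)
  · rw [show useries p G (n + 1) = _ from CfsgLib.Transfer.upperPSeries_succ_of_odd p G hn,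
      ← map_le_iff_le_comap]
    obtain ⟨k, hk⟩ := h.2 hn
    exact CfsgLib.Cores.le_pCore (IsPGroup.of_card hk)

theorem relIndex_dvd_of_le_right [Finite G] {A K L : Subgroup G} [A.Normal] (h : K ≤ L) :
    A.relIndex K ∣ A.relIndex L := by
  rw [relIndex_eq_card_map, relIndex_eq_card_map]
  exact card_dvd_of_le (map_mono h)

theorem relIndex_map_le [Finite G] {A A' : Subgroup H} [A.Normal] {B B' : Subgroup G} [B.Normal]
    (f : G →* H) (hB : B.map f ≤ A) (hA' : A' = B'.map f) : A.relIndex A' ∣ B.relIndex B' := by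
  subst hA'
  rw [← relIndex_comap A f B']
  exact relIndex_dvd_of_le_left B' (map_le_iff_le_comap.1 hB)

/-- If the term `a` of the series of `G` maps into the term `b` of the series of `H`, the same holds
for all later pairs of equal parity. -/
theorem map_series_le [Finite G] [Finite H] [hp : Fact p.Prime] (f : G →* H)
    (hf : Function.Surjective f) {a b : ℕ} (hab : Even a ↔ Even b)
    (h0 : (useries p G a).map f ≤ useries p H b) :
    ∀ i, (useries p G (a + i)).map f ≤ useries p H (b + i) := by
  intro i
  induction i with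
  | zero => exact h0
  | succ i ih =>
    haveI : ((useries p G (a + i + 1)).map f).Normal := (useries_normal p G _).map f hf
    refine le_series_succ (n := b + i) ?_
    exact ((stepCond_series (p := p) (G := G) (a + i)).of_dvd (relIndex_map_le f ih rfl)).congr
      (by rw [Nat.even_add, Nat.even_add, hab])

/-- If the preimage of the term `b` of the series of `H` lies in the term `a` of the series of `G`,
the same holds for all later pairs of equal parity. -/
theorem comap_series_le [Finite G] [Finite H] [hp : Fact p.Prime] (f : G →* H)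
    (hf : Function.Surjective f) {a b : ℕ} (hab : Even a ↔ Even b)
    (h0 : (useries p H b).comap f ≤ useries p G a) :
    ∀ i, (useries p H (b + i)).comap f ≤ useries p G (a + i) := by
  intro i
  induction i with
  | zero => exact h0
  | succ i ih =>
    haveI : ((useries p H (b + i + 1)).comap f).Normal := (useries_normal p H _).comap f
    refine le_series_succ (n := a + i) ?_
    refine ((stepCond_series (p := p) (G := H) (b + i)).of_dvd ?_).congr
      (by rw [Nat.even_add, Nat.even_add, hab])
    refine (relIndex_dvd_of_le_left _ ih).trans ?_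
    rw [relIndex_comap, map_comap_eq_self_of_surjective hf, add_assoc]

theorem pLengthLE_mono {k k' : ℕ} (hk : k ≤ k') (h : PLengthLE p k G) : PLengthLE p k' G :=
  top_le_iff.1 (h ▸ CfsgLib.Transfer.upperPSeries_mono p G (show 2 * k + 1 ≤ 2 * k' + 1 by omega))

theorem pLengthLE_of_surjective [Finite G] [Finite H] [Fact p.Prime] (f : G →* H)
    (hf : Function.Surjective f) {k : ℕ} (h : PLengthLE p k G) : PLengthLE p k H := by
  have h1 := map_series_le (p := p) f hf (a := 0) (b := 0) Iff.rfl
    (by show (⊥ : Subgroup G).map f ≤ _; rw [Subgroup.map_bot]; exact bot_le) (2 * k + 1)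
  rw [zero_add, show useries p G (2 * k + 1) = ⊤ from h, map_top_of_surjective f hf] at h1
  exact top_le_iff.1 h1

/-- `p`-length of a preimage with kernel inside `O_{p',p}`. -/
theorem pLengthLE_succ_of_ker_le [Finite G] [Finite H] [Fact p.Prime] (f : G →* H)
    (hf : Function.Surjective f) (hker : f.ker ≤ useries p G 2) {k : ℕ} (h : PLengthLE p k H) :
    PLengthLE p (k + 1) G := by
  have h1 := comap_series_le (p := p) f hf (a := 2) (b := 0) (by decide) hker (2 * k + 1)
  rw [zero_add, show useries p H (2 * k + 1) = ⊤ from h, comap_top] at h1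
  show useries p G (2 * (k + 1) + 1) = ⊤
  rw [show 2 * (k + 1) + 1 = 2 + (2 * k + 1) by ring]
  exact top_le_iff.1 h1

/-- A kernel of order prime to `p` does not change the `p`-length. -/
theorem pLengthLE_of_coprime_ker [Finite G] [Finite H] [Fact p.Prime] (f : G →* H)
    (hf : Function.Surjective f) (hker : (Nat.card f.ker).Coprime p) {k : ℕ} (h : PLengthLE p k H) :
    PLengthLE p k G := by
  haveI : ((useries p H 1).comap f).Normal := (useries_normal p H _).comap f
  have h0 : (useries p H 1).comap f ≤ useries p G (0 + 1) := by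
    refine le_series_succ ⟨fun _ => ?_, fun hn => absurd Even.zero hn⟩
    show ((⊥ : Subgroup G).relIndex ((useries p H 1).comap f)).Coprime p
    rw [relIndex_bot_left]
    have hle : f.ker ≤ (useries p H 1).comap f := MonoidHom.ker_le_comap f _
    rw [← card_mul_index (f.ker.subgroupOf ((useries p H 1).comap f)),
      Nat.card_congr (subgroupOfEquivOfLe hle).toEquiv]
    refine hker.mul_left ?_
    show (f.ker.relIndex ((useries p H 1).comap f)).Coprime p
    rw [relIndex_ker, map_comap_eq_self_of_surjective hf]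
    have h2 := (stepCond_series (p := p) (G := H) 0).1 Even.zero
    rwa [show useries p H 0 = ⊥ from rfl, relIndex_bot_left] at h2
  have h1 := comap_series_le (p := p) f hf (a := 0 + 1) (b := 1) Iff.rfl h0 (2 * k)
  rw [show 1 + 2 * k = 2 * k + 1 by ring, show useries p H (2 * k + 1) = ⊤ from h, comap_top] at h1
  show useries p G (2 * k + 1) = ⊤
  exact top_le_iff.1 (by simpa [add_comm] using h1)

/-- Passing to the quotient by `O_{p',p}` lowers the `p`-length. -/
theorem pLengthLE_quotient_pred [Finite G] [Finite H] [Fact p.Prime] (f : G →* H)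
    (hf : Function.Surjective f) (hker : useries p G 2 ≤ f.ker) {k : ℕ} (h : PLengthLE p (k + 1) G) :
    PLengthLE p k H := by
  have h1 := map_series_le (p := p) f hf (a := 2) (b := 0) (by decide)
    (((Subgroup.map_eq_bot_iff _).2 hker).le.trans bot_le) (2 * k + 1)
  rw [show 2 + (2 * k + 1) = 2 * (k + 1) + 1 by ring, show useries p G (2 * (k + 1) + 1) = ⊤ from h,
    map_top_of_surjective f hf, zero_add] at h1
  exact top_le_iff.1 h1

theorem useries_one (p : ℕ) (G : Type*) [Group G] [Finite G] [Fact p.Prime] :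
    useries p G 1 = pPrimeCore p G := by
  refine le_antisymm (CfsgLib.Cores.le_pPrimeCore ?_) ?_
  · have h := (stepCond_series (p := p) (G := G) 0).1 Even.zero
    rwa [show useries p G 0 = ⊥ from rfl, relIndex_bot_left] at h
  · refine le_series_succ (n := 0) ⟨fun _ => ?_, fun hn => absurd Even.zero hn⟩
    rw [show useries p G 0 = ⊥ from rfl, relIndex_bot_left]
    exact CfsgLib.Cores.coprime_card_pPrimeCore p

/-- With trivial `O_{p'}`, the second term is `O_p`. -/
theorem useries_two_of_pPrimeCore_eq_bot (p : ℕ) (G : Type*) [Group G] [Finite G] [Fact p.Prime]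
    (h : pPrimeCore p G = ⊥) : useries p G 2 = pCore p G := by
  refine le_antisymm (CfsgLib.Cores.le_pCore ?_) ?_
  · obtain ⟨k, hk⟩ := (stepCond_series (p := p) (G := G) 1).2 (by decide)
    rw [useries_one, h, relIndex_bot_left] at hk
    exact IsPGroup.of_card hk
  · refine le_series_succ (n := 1) ⟨fun hn => absurd hn (by decide), fun _ => ?_⟩
    rw [useries_one, h, relIndex_bot_left]
    exact (CfsgLib.Cores.isPGroup_pCore p).exists_card_eq

/-- `p`-length is inherited by subdirect products of two quotients. -/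
theorem pLengthLE_inf [Finite G] [Fact p.Prime] (A B : Subgroup G) [A.Normal] [B.Normal] {k : ℕ}
    (hA : PLengthLE p k (G ⧸ A)) (hB : PLengthLE p k (G ⧸ B)) : PLengthLE p k (G ⧸ (A ⊓ B)) := by
  let N := A ⊓ B
  have hA' : A.map (QuotientGroup.mk' N) ⊓ B.map (QuotientGroup.mk' N) = ⊥ := by
    rw [eq_bot_iff]
    rintro x ⟨⟨a, ha, rfl⟩, b, hb, hab⟩
    have h1 : b⁻¹ * a ∈ N := QuotientGroup.eq.1 hab
    refine Subgroup.mem_bot.2 ((QuotientGroup.eq_one_iff a).2 ⟨ha, ?_⟩)
    simpa using mul_mem hb h1.2
  let fA : G ⧸ N →* G ⧸ A := QuotientGroup.map N A (MonoidHom.id G) (fun x hx => hx.1)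
  let fB : G ⧸ N →* G ⧸ B := QuotientGroup.map N B (MonoidHom.id G) (fun x hx => hx.2)
  have hsA : Function.Surjective fA := fun x => by
    obtain ⟨g, rfl⟩ := QuotientGroup.mk_surjective x; exact ⟨(g : G ⧸ N), rfl⟩
  have hsB : Function.Surjective fB := fun x => by
    obtain ⟨g, rfl⟩ := QuotientGroup.mk_surjective x; exact ⟨(g : G ⧸ N), rfl⟩
  have key : ∀ i, (useries p (G ⧸ A) i).comap fA ⊓ (useries p (G ⧸ B) i).comap fB ≤
      useries p (G ⧸ N) i := by
    intro i
    induction i with
    | zero =>
      show (⊥ : Subgroup (G ⧸ A)).comap fA ⊓ (⊥ : Subgroup (G ⧸ B)).comap fB ≤ ⊥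
      intro x hx
      obtain ⟨g, rfl⟩ := QuotientGroup.mk_surjective x
      exact Subgroup.mem_bot.2 ((QuotientGroup.eq_one_iff g).2
        ⟨(QuotientGroup.eq_one_iff (N := A) g).1 hx.1, (QuotientGroup.eq_one_iff (N := B) g).1 hx.2⟩)
    | succ i ih =>
      haveI : ((useries p (G ⧸ A) (i + 1)).comap fA ⊓ (useries p (G ⧸ B) (i + 1)).comap fB).Normal :=
        @Subgroup.normal_inf_normal _ _ _ _ ((useries_normal p _ _).comap fA) ((useries_normal p _ _).comap fB)
      refine le_series_succ (n := i) ?_
      haveI : ((useries p (G ⧸ A) i).comap fA).Normal := (useries_normal p _ _).comap fA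
      haveI : ((useries p (G ⧸ B) i).comap fB).Normal := (useries_normal p _ _).comap fB
      refine StepCond.of_dvd ((stepCond_series (p := p) (G := G ⧸ A) i).mul
        (stepCond_series (p := p) (G := G ⧸ B) i)) ?_
      set T := (useries p (G ⧸ A) (i + 1)).comap fA ⊓ (useries p (G ⧸ B) (i + 1)).comap fB with hT
      refine (relIndex_dvd_of_le_left T ih).trans ?_
      rw [← relIndex_inf_mul_relIndex ((useries p (G ⧸ A) i).comap fA) ((useries p (G ⧸ B) i).comap fB) T]
      refine Nat.mul_dvd_mul ?_ ?_
      · rw [relIndex_comap]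
        exact relIndex_dvd_of_le_right (map_le_iff_le_comap.2 (inf_le_right.trans inf_le_left))
      · rw [relIndex_comap]
        exact relIndex_dvd_of_le_right (map_le_iff_le_comap.2 inf_le_right)
  have h1 := key (2 * k + 1)
  rw [show useries p (G ⧸ A) (2 * k + 1) = ⊤ from hA, show useries p (G ⧸ B) (2 * k + 1) = ⊤ from hB,
    comap_top, comap_top, top_inf_eq] at h1
  exact top_le_iff.1 h1

end CfsgLib.PGroup
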