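import Mathlib
import Cfsg.Agent.Lib.LocalEven.S4Section
import Cfsg.Agent.Lib.Transfer.PSolvable
import Cfsg.Agent.Lib.PStab.QuadPair

/-!
A cyclic group acting as a transvection on a faithful module of a `p`-solvable group, with its `p`-th power
on the line of the transvection, is impossible for odd `p`.
-/

set_option autoImplicit false

open scoped commutatorElement

namespace CfsgLib.PGroup.CyclicTransvection

open Subgroup Cfsg

theorem pow_mem_of_stabilizes {G : Type*} [Group G] {p : ℕ} {V U : Subgroup G}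
    (hU : ∀ u ∈ U, u ^ p = 1) {c : G} (hcU : ∀ u ∈ U, c * u * c⁻¹ = u)
    (hcV : ∀ v ∈ V, c * v * c⁻¹ * v⁻¹ ∈ U) : ∀ v ∈ V, c ^ p * v * (c ^ p)⁻¹ = v := by
  intro v hv
  set u := c * v * c⁻¹ * v⁻¹ with hu
  have huU : u ∈ U := hcV v hv
  have hpow : ∀ j : ℕ, c ^ j * v * (c ^ j)⁻¹ = u ^ j * v := by
    intro j
    induction j with
    | zero => simp
    | succ j ih =>
      calc c ^ (j + 1) * v * (c ^ (j + 1))⁻¹ = c * (c ^ j * v * (c ^ j)⁻¹) * c⁻¹ := by rw [pow_succ']; group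
        _ = c * (u ^ j) * c⁻¹ * (c * v * c⁻¹) := by rw [ih]; group
        _ = u ^ j * (c * v * c⁻¹) := by rw [hcU _ (pow_mem huU j)]
        _ = u ^ (j + 1) * v := by rw [hu, pow_succ]; group
  rw [hpow p, hU u huU, one_mul]

theorem pow_conj_of_fixed {G : Type*} [Group G] {a w x : G} (h : a * x * a⁻¹ = x * w) (hw : a * w * a⁻¹ = w) :
    ∀ i : ℕ, a ^ i * x * (a ^ i)⁻¹ = x * w ^ i := by
  intro i
  induction i with
  | zero => simp
  | succ i ih =>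
    calc a ^ (i + 1) * x * (a ^ (i + 1))⁻¹ = a * (a ^ i * x * (a ^ i)⁻¹) * a⁻¹ := by rw [pow_succ']; group
      _ = a * x * a⁻¹ * (a * w * a⁻¹) ^ i := by rw [ih, conj_pow]; group
      _ = x * w ^ (i + 1) := by rw [h, hw, pow_succ']; group

variable {G : Type*} [Group G] [Finite G] {p : ℕ} [hp : Fact p.Prime]

theorem centralizer_pPrimeCore_le (hsol : IsPSolvable p G) (hO : pCore p G = ⊥) :
    centralizer (pPrimeCore p G : Set G) ≤ pPrimeCore p G := by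
  set C := centralizer (pPrimeCore p G : Set G) with hC
  haveI hCn : C.Normal := by
    haveI : (pPrimeCore p G).Normal := by haveI := Cores.pPrimeCore_characteristic (G := G) p; infer_instance
    refine ⟨fun c hc g => mem_centralizer_iff.2 fun y hy => ?_⟩
    have h1 := mem_centralizer_iff.1 hc (g⁻¹ * y * g)
      (by simpa using (inferInstance : (pPrimeCore p G).Normal).conj_mem y hy g⁻¹)
    calc y * (g * c * g⁻¹) = g * (g⁻¹ * y * g * c) * g⁻¹ := by group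
      _ = g * (c * (g⁻¹ * y * g)) * g⁻¹ := by rw [h1]
      _ = g * c * g⁻¹ * y := by group
  haveI := Cores.pCore_characteristic (G := C) p
  haveI := Cores.pPrimeCore_characteristic (G := C) p
  set Z := pPrimeCore p C with hZ
  have hZG : Z.map C.subtype ≤ pPrimeCore p G := by
    refine Cores.le_pPrimeCore ?_
    rw [card_map_of_injective C.subtype_injective]
    exact Cores.coprime_card_pPrimeCore p
  have hZc : ∀ z ∈ Z, ∀ c : C, c * z = z * c := fun z hz c =>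
    Subtype.ext (mem_centralizer_iff.1 c.2 _ (hZG ⟨z, hz, rfl⟩)).symm
  haveI hZn : Z.Normal := inferInstance
  have hq : pCore p (C ⧸ Z) = ⊥ := by
    set U := (pCore p (C ⧸ Z)).comap (QuotientGroup.mk' Z) with hU
    haveI hUn : U.Normal := by
      haveI := Cores.pCore_characteristic (G := C ⧸ Z) p
      exact Normal.comap inferInstance _
    obtain ⟨T⟩ : Nonempty (Sylow p U) := inferInstance
    set Z' := Z.subgroupOf U with hZ'
    have hZU : Z ≤ U := fun z hz => by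
      show QuotientGroup.mk' Z z ∈ pCore p (C ⧸ Z)
      rw [QuotientGroup.mk'_apply, (QuotientGroup.eq_one_iff z).2 hz]
      exact one_mem _
    haveI : Z'.Normal := inferInstance
    obtain ⟨k, hk⟩ := IsPGroup.iff_card.1 (Cores.isPGroup_pCore (G := C ⧸ Z) p)
    have hidx : Z'.index = p ^ k := by
      have h1 := relIndex_comap (⊥ : Subgroup (C ⧸ Z)) (QuotientGroup.mk' Z) U
      rw [MonoidHom.comap_bot, QuotientGroup.ker_mk', hU,
        map_comap_eq_self_of_surjective (QuotientGroup.mk'_surjective Z), relIndex_bot_left, hk] at h1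
      exact h1
    have htop : (Z' : Subgroup U) ⊔ (T : Subgroup U) = ⊤ := Transfer.sup_sylow_eq_top T hidx
    haveI hTn : (T : Subgroup U).Normal := by
      refine ⟨fun t ht g => ?_⟩
      obtain ⟨z, hz, s, hs, rfl⟩ := mem_sup_of_normal_left.1 (show g ∈ Z' ⊔ (T : Subgroup U) by rw [htop]; trivial)
      have h1 : z * (s * t * s⁻¹) * z⁻¹ = s * t * s⁻¹ := by
        rw [mul_inv_eq_iff_eq_mul]
        exact Subtype.ext (hZc _ hz ((s * t * s⁻¹ : U) : C)).symm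
      rw [show z * s * t * (z * s)⁻¹ = z * (s * t * s⁻¹) * z⁻¹ by group, h1]
      exact mul_mem (mul_mem hs ht) (inv_mem hs)
    haveI : (T : Subgroup U).Characteristic := Sylow.characteristic_of_normal T inferInstance
    have hTC : ((T : Subgroup U).map U.subtype) ≤ pCore p C := Cores.le_pCore (T.2.map _)
    have hCp : pCore p C = ⊥ := by
      refine (map_eq_bot_iff_of_injective _ C.subtype_injective).1 (eq_bot_iff.2 ?_)
      rw [← hO]
      exact Cores.le_pCore ((Cores.isPGroup_pCore p).map _)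
    have hTbot : (T : Subgroup U) = ⊥ := by
      rw [hCp, le_bot_iff, map_eq_bot_iff_of_injective _ U.subtype_injective] at hTC
      exact hTC
    rw [hTbot, sup_bot_eq] at htop
    rw [← map_comap_eq_self_of_surjective (QuotientGroup.mk'_surjective Z) (pCore p (C ⧸ Z)), ← hU,
      eq_bot_iff, map_le_iff_le_comap, MonoidHom.comap_bot, QuotientGroup.ker_mk']
    exact subgroupOf_eq_top.1 htop
  have hbot := Transfer.centralizer_pCore_le_of_isPSolvable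
    (Transfer.isPSolvable_quotient (Transfer.isPSolvable_subgroup hsol C) Z) (Cores.pPrimeCore_quotient_self p)
  rw [hq] at hbot
  intro c hc
  refine hZG ⟨⟨c, hc⟩, (QuotientGroup.eq_one_iff _).1 (Subgroup.mem_bot.1 (hbot ?_)), rfl⟩
  rw [mem_centralizer_iff]
  intro y hy
  rw [SetLike.mem_coe, Subgroup.mem_bot] at hy
  rw [hy, one_mul, mul_one]

/-- The core configuration for odd `p`. -/
theorem false_of_odd {V K : Subgroup G} [V.Normal] [K.Normal] (hp2 : p ≠ 2)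
    (hV : IsElementaryAbelian p V) (hCV : centralizer (V : Set G) = V) (hK : (V.relIndex K).Coprime p)
    (hfaith : ∀ y : G, IsPGroup p (zpowers y) → (∀ k ∈ K, ⁅y, k⁆ ∈ V) → y ∈ V)
    {a : G} (ha : IsPGroup p (zpowers a)) (haV : a ∉ V) (hap : a ^ p ∈ V)
    (hδ : ∀ v ∈ V, a * v * a⁻¹ * v⁻¹ ∈ zpowers (a ^ p)) : False := by
  set w₁ := a ^ p with hw₁
  have hVc : ∀ x ∈ V, ∀ y ∈ V, x * y = y * x := fun x hx y hy =>
    congrArg Subtype.val (hV.1.is_comm.comm ⟨x, hx⟩ ⟨y, hy⟩)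
  have hVp : IsPGroup p V := CfsgLib.PGroup.elemAb_isPGroup hV
  have hmemC : ∀ x : G, (∀ v ∈ V, x * v * x⁻¹ = v) → x ∈ V := fun x hx => by
    rw [← hCV, mem_centralizer_iff]
    intro v hv
    exact (mul_inv_eq_iff_eq_mul.1 (hx v hv)).symm
  have haw₁ : a * w₁ * a⁻¹ = w₁ := by rw [hw₁]; group
  have hw₁1 : w₁ ≠ 1 := fun h => haV (hmemC a fun v hv => by
    have h1 := hδ v hv
    rw [h, zpowers_one_eq_bot, mem_bot, mul_inv_eq_one] at h1
    exact h1)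
  obtain ⟨k, hk, hak⟩ : ∃ k ∈ K, ⁅a, k⁆ ∉ V := by
    by_contra hall
    push Not at hall
    exact haV (hfaith _ ha hall)
  obtain ⟨a', ha'⟩ : ∃ x : G, x = k * a * k⁻¹ := ⟨_, rfl⟩
  obtain ⟨w₂, hw₂⟩ : ∃ x : G, x = k * w₁ * k⁻¹ := ⟨_, rfl⟩
  have hw₂V : w₂ ∈ V := hw₂ ▸ (inferInstance : V.Normal).conj_mem _ hap k
  have ha'w₂ : a' * w₂ * a'⁻¹ = w₂ := by
    rw [ha', hw₂, show k * a * k⁻¹ * (k * w₁ * k⁻¹) * (k * a * k⁻¹)⁻¹ = k * (a * w₁ * a⁻¹) * k⁻¹ by group, haw₁]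
  have hδ' : ∀ v ∈ V, a' * v * a'⁻¹ * v⁻¹ ∈ zpowers w₂ := by
    intro v hv
    obtain ⟨i, hi⟩ := mem_zpowers_iff.1
      (hδ (k⁻¹ * v * k) (by simpa using (inferInstance : V.Normal).conj_mem v hv k⁻¹))
    refine ⟨i, ?_⟩
    show w₂ ^ i = _
    rw [hw₂, conj_zpow, hi, ha']; group
  set W := zpowers w₁ ⊔ zpowers w₂ with hW
  have hWV : W ≤ V := sup_le (zpowers_le.2 hap) (zpowers_le.2 hw₂V)
  have hWfix : ∀ c : G, c * w₁ * c⁻¹ = w₁ → c * w₂ * c⁻¹ = w₂ → ∀ u ∈ W, c * u * c⁻¹ = u := by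
    intro c h1 h2 u hu
    have : W ≤ centralizer ({c} : Set G) :=
      sup_le (zpowers_le.2 (mem_centralizer_singleton_iff.2 (mul_inv_eq_iff_eq_mul.1 h1).symm))
        (zpowers_le.2 (mem_centralizer_singleton_iff.2 (mul_inv_eq_iff_eq_mul.1 h2).symm))
    rw [mul_inv_eq_iff_eq_mul]
    exact (mem_centralizer_singleton_iff.1 (this hu)).symm
  have hWp : ∀ u ∈ W, u ^ p = 1 := fun u hu => hV.2 u (hWV hu)
  -- an element stabilizing `V > W > U > 1` lies in `V` when its image has order prime to `p`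
  set π := QuotientGroup.mk' V with hπ
  have hπV : ∀ x : G, π x = 1 ↔ x ∈ V := fun x => QuotientGroup.eq_one_iff x
  have hunip : ∀ (c : G) (U : Subgroup G), U ≤ W → (orderOf (π c)).Coprime p →
      (∀ u ∈ U, c * u * c⁻¹ = u) → (∀ u ∈ W, c * u * c⁻¹ * u⁻¹ ∈ U) →
      (∀ v ∈ V, c * v * c⁻¹ * v⁻¹ ∈ W) → c ∈ V := by
    intro c U hUW hco hcU hcW hcV
    have h1 : ∀ u ∈ W, c ^ p * u * (c ^ p)⁻¹ = u :=
      pow_mem_of_stabilizes (fun u hu => hWp u (hUW hu)) hcU hcW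
    have h2 : ∀ v ∈ V, c ^ p * v * (c ^ p)⁻¹ * v⁻¹ ∈ W := by
      intro v hv
      have hnorm : ∀ u ∈ W, c * u * c⁻¹ ∈ W := fun u hu => by
        have := mul_mem (hUW (hcW u hu)) hu
        rwa [inv_mul_cancel_right] at this
      have : ∀ j : ℕ, c ^ j * v * (c ^ j)⁻¹ * v⁻¹ ∈ W := by
        intro j
        induction j with
        | zero => simp
        | succ j ih =>
          have h := mul_mem (hnorm _ ih) (hcV v hv)
          rwa [show c * (c ^ j * v * (c ^ j)⁻¹ * v⁻¹) * c⁻¹ * (c * v * c⁻¹ * v⁻¹) =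
            c ^ (j + 1) * v * (c ^ (j + 1))⁻¹ * v⁻¹ by rw [pow_succ']; group] at h
      exact this p
    have h3 : (c ^ p) ^ p ∈ V := hmemC _ (pow_mem_of_stabilizes hWp h1 h2)
    rw [← hπV]
    have h4 : (π c) ^ (p * p) = 1 := by rw [← map_pow, hπV, pow_mul]; exact h3
    exact orderOf_eq_one_iff.1 (Nat.eq_one_of_dvd_coprimes (hco.mul_right hco) dvd_rfl (orderOf_dvd_of_pow_eq_one h4))
  -- the commutator of `a` and `k`
  obtain ⟨c, hc⟩ : ∃ x : G, x = a * a'⁻¹ := ⟨_, rfl⟩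
  have hcc : ⁅a, k⁆ = c := by rw [commutatorElement_def, hc, ha']; group
  have hco : (orderOf (π c)).Coprime p := by
    refine Nat.Coprime.coprime_dvd_left (Subgroup.orderOf_dvd_natCard (K.map π) ⟨c, ?_, rfl⟩) ?_
    · rw [← hcc, commutatorElement_def]
      exact mul_mem ((inferInstance : K.Normal).conj_mem _ hk a) (inv_mem hk)
    · rw [← Subgroup.relIndex_ker, QuotientGroup.ker_mk']; exact hK
  have hδWW : ∀ v ∈ V, c * v * c⁻¹ * v⁻¹ ∈ W := by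
    intro v hv
    have hv' : a'⁻¹ * v * a' ∈ V := by simpa using (inferInstance : V.Normal).conj_mem v hv a'⁻¹
    have h2 := inv_mem (Subgroup.mem_sup_right (hδ' _ hv') : a' * (a'⁻¹ * v * a') * a'⁻¹ * (a'⁻¹ * v * a')⁻¹ ∈ W)
    have h1 : a * (a'⁻¹ * v * a') * a⁻¹ * (a'⁻¹ * v * a')⁻¹ ∈ W := Subgroup.mem_sup_left (hδ _ hv')
    have := mul_mem h1 h2
    convert this using 1
    rw [hc]; group
  have hcne : c ∉ V := hcc ▸ hak
  have haN : ∀ v ∈ V, a * v * a⁻¹ ∈ V := fun v hv => (inferInstance : V.Normal).conj_mem v hv a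
  have hne2 : a * w₂ * a⁻¹ ≠ w₂ := by
    intro h
    have hcw2 : c * w₂ * c⁻¹ = w₂ := by
      calc c * w₂ * c⁻¹ = a * (a'⁻¹ * (a' * w₂ * a'⁻¹) * a') * a⁻¹ := by rw [ha'w₂, hc]; group
        _ = a * w₂ * a⁻¹ := by group
        _ = w₂ := h
    refine hcne (hunip c (zpowers w₂) le_sup_right hco (fun u hu => ?_) ?_ hδWW)
    · obtain ⟨i, rfl⟩ := mem_zpowers_iff.1 hu
      rw [← conj_zpow, hcw2]
    · intro u hu
      have hu' : u ∈ V := hWV hu
      obtain ⟨i, hi⟩ := mem_zpowers_iff.1 (hδ' _ (show a'⁻¹ * u * a' ∈ V by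
        simpa using (inferInstance : V.Normal).conj_mem u hu' a'⁻¹))
      have hz : ∀ j : ℤ, a * w₂ ^ j * a⁻¹ = w₂ ^ j := fun j => by rw [← conj_zpow, h]
      have e1 : a'⁻¹ * u * a' = w₂ ^ (-i) * u := by
        rw [zpow_neg, hi]; group
      have hau : a * u * a⁻¹ = u := hWfix a haw₁ h u hu
      refine ⟨-i, ?_⟩
      show w₂ ^ (-i) = _
      calc w₂ ^ (-i) = a * w₂ ^ (-i) * a⁻¹ * (a * u * a⁻¹) * u⁻¹ := by rw [hz, hau]; group
        _ = a * (w₂ ^ (-i) * u) * a⁻¹ * u⁻¹ := by group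
        _ = c * u * c⁻¹ * u⁻¹ := by rw [← e1, hc]; group
  have hne1 : a' * w₁ * a'⁻¹ ≠ w₁ := by
    intro h
    have h' : a'⁻¹ * w₁ * a' = w₁ := by
      calc a'⁻¹ * w₁ * a' = a'⁻¹ * (a' * w₁ * a'⁻¹) * a' := by rw [h]
        _ = w₁ := by group
    have hcw1 : c * w₁ * c⁻¹ = w₁ := by
      calc c * w₁ * c⁻¹ = a * (a'⁻¹ * w₁ * a') * a⁻¹ := by rw [hc]; group
        _ = w₁ := by rw [h', haw₁]
    refine hcne (hunip c (zpowers w₁) le_sup_left hco (fun u hu => ?_) ?_ hδWW)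
    · obtain ⟨i, rfl⟩ := mem_zpowers_iff.1 hu
      rw [← conj_zpow, hcw1]
    · intro u hu
      have hau : a' * u * a'⁻¹ = u := hWfix a' h ha'w₂ u hu
      have e : c * u * c⁻¹ = a * u * a⁻¹ := by
        calc c * u * c⁻¹ = a * (a'⁻¹ * (a' * u * a'⁻¹) * a') * a⁻¹ := by rw [hau, hc]; group
          _ = a * u * a⁻¹ := by group
      rw [e]; exact hδ u (hWV hu)
  -- suitable powers of the two transvections
  have hgen : ∀ w x : G, w ∈ V → x ∈ zpowers w → x ≠ 1 → ∃ i : ℕ, x ^ i = w := by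
    intro w x hw hx hx1
    have hwp : w ^ p = 1 := hV.2 w hw
    have hxp : x ^ p = 1 := hV.2 x (zpowers_le.2 hw hx)
    have heq : zpowers x = zpowers w := by
      refine eq_of_le_of_card_ge (zpowers_le.2 hx) ?_
      rw [Nat.card_zpowers, Nat.card_zpowers, orderOf_eq_prime hxp hx1]
      exact orderOf_le_of_pow_eq_one hp.out.pos hwp
    exact (mem_powers_iff_mem_zpowers.2 (heq.symm ▸ mem_zpowers w : w ∈ zpowers x)).elim fun i hi => ⟨i, hi⟩
  obtain ⟨x, hx⟩ : ∃ x, x = w₂⁻¹ * (a * w₂ * a⁻¹) := ⟨_, rfl⟩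
  have hxz : x ∈ zpowers w₁ := by
    have := hδ w₂ hw₂V
    rwa [hVc _ (haN w₂ hw₂V) _ (inv_mem hw₂V), ← hx] at this
  obtain ⟨i, hi⟩ := hgen w₁ x hap hxz (fun h => hne2 (by rw [hx, inv_mul_eq_one] at h; exact h.symm))
  have hax : a * w₂ * a⁻¹ = w₂ * x := by rw [hx]; group
  have haxf : a * x * a⁻¹ = x := by
    obtain ⟨j, rfl⟩ := mem_zpowers_iff.1 hxz
    rw [← conj_zpow, haw₁]
  have hA : a ^ i * w₂ * (a ^ i)⁻¹ = w₂ * w₁ := by rw [pow_conj_of_fixed hax haxf i, hi]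
  have hA1 : a ^ i * w₁ * (a ^ i)⁻¹ = w₁ := by rw [hw₁]; group
  obtain ⟨y, hy⟩ : ∃ y, y = w₁⁻¹ * (a' * w₁ * a'⁻¹) := ⟨_, rfl⟩
  have hyz : y ∈ zpowers w₂⁻¹ := by
    rw [zpowers_inv]
    have := hδ' w₁ hap
    rwa [hVc _ ((inferInstance : V.Normal).conj_mem w₁ hap a') _ (inv_mem hap), ← hy] at this
  obtain ⟨j, hj⟩ := hgen w₂⁻¹ y (inv_mem hw₂V) hyz (fun h => hne1 (by rw [hy, inv_mul_eq_one] at h; exact h.symm))
  have hby : a' * w₁ * a'⁻¹ = w₁ * y := by rw [hy]; group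
  have hbyf : a' * y * a'⁻¹ = y := by
    obtain ⟨l, rfl⟩ := mem_zpowers_iff.1 hyz
    rw [← conj_zpow]
    congr 1
    calc a' * w₂⁻¹ * a'⁻¹ = (a' * w₂ * a'⁻¹)⁻¹ := by group
      _ = w₂⁻¹ := by rw [ha'w₂]
  have hB : a' ^ j * w₁ * (a' ^ j)⁻¹ = w₁ * w₂⁻¹ := by rw [pow_conj_of_fixed hby hbyf j, hj]
  have hB2 : a' ^ j * w₂ * (a' ^ j)⁻¹ = w₂ := by
    have := pow_conj_of_fixed (a := a') (x := w₂) (w := 1) (by rw [ha'w₂, mul_one]) (by group) j
    rwa [one_pow, mul_one] at this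
  obtain ⟨A, hAd⟩ : ∃ x : G, x = a ^ i := ⟨_, rfl⟩
  rw [← hAd] at hA hA1
  obtain ⟨B, hBd⟩ : ∃ x : G, x = a' ^ j := ⟨_, rfl⟩
  rw [← hBd] at hB hB2
  obtain ⟨g, hg⟩ : ∃ x : G, x = A * B * A := ⟨_, rfl⟩
  have hA21 : A * w₂⁻¹ * A⁻¹ = w₁⁻¹ * w₂⁻¹ := by
    calc A * w₂⁻¹ * A⁻¹ = (A * w₂ * A⁻¹)⁻¹ := by group
      _ = w₁⁻¹ * w₂⁻¹ := by rw [hA, mul_inv_rev]
  have hg1 : g * w₁ * g⁻¹ = w₂⁻¹ := by
    calc g * w₁ * g⁻¹ = A * (B * (A * w₁ * A⁻¹) * B⁻¹) * A⁻¹ := by rw [hg]; group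
      _ = A * (w₁ * w₂⁻¹) * A⁻¹ := by rw [hA1, hB]
      _ = A * w₁ * A⁻¹ * (A * w₂⁻¹ * A⁻¹) := by group
      _ = w₂⁻¹ := by rw [hA1, hA21]; group
  have hg2 : g * w₂ * g⁻¹ = w₁ := by
    calc g * w₂ * g⁻¹ = A * (B * (A * w₂ * A⁻¹) * B⁻¹) * A⁻¹ := by rw [hg]; group
      _ = A * (B * w₂ * B⁻¹ * (B * w₁ * B⁻¹)) * A⁻¹ := by rw [hA]; group
      _ = A * (w₂ * (w₁ * w₂⁻¹)) * A⁻¹ := by rw [hB2, hB]
      _ = A * w₁ * A⁻¹ := by rw [← mul_assoc w₂, hVc w₂ hw₂V w₁ hap, mul_inv_cancel_right]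
      _ = w₁ := hA1
  obtain ⟨z₀, hz₀⟩ : ∃ x : G, x = g * g := ⟨_, rfl⟩
  have hz1 : z₀ * w₁ * z₀⁻¹ = w₁⁻¹ := by
    calc z₀ * w₁ * z₀⁻¹ = g * (g * w₁ * g⁻¹) * g⁻¹ := by rw [hz₀]; group
      _ = (g * w₂ * g⁻¹)⁻¹ := by rw [hg1]; group
      _ = w₁⁻¹ := by rw [hg2]
  have hz2 : z₀ * w₂ * z₀⁻¹ = w₂⁻¹ := by
    calc z₀ * w₂ * z₀⁻¹ = g * (g * w₂ * g⁻¹) * g⁻¹ := by rw [hz₀]; group
      _ = w₂⁻¹ := by rw [hg2, hg1]
  -- `V` is `W` times the common fixed points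
  set C := V ⊓ centralizer ({a} : Set G) ⊓ centralizer ({a'} : Set G) with hCdef
  have hCfix : ∀ v ∈ C, a * v = v * a ∧ a' * v = v * a' := fun v hv =>
    ⟨(mem_centralizer_singleton_iff.1 hv.1.2).symm, (mem_centralizer_singleton_iff.1 hv.2).symm⟩
  have hdec : ∀ v ∈ V, ∃ u ∈ W, ∃ f ∈ C, v = u * f := by
    intro v hv
    -- correct `v` by the two lines
    obtain ⟨s, hs⟩ := mem_zpowers_iff.1 (hδ v hv)
    obtain ⟨t, ht⟩ := mem_zpowers_iff.1 (hδ' v hv)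
    have hau : a * (w₂ ^ ((i : ℤ) * s) * w₁ ^ (-(j : ℤ) * t)) * a⁻¹ =
        w₂ ^ ((i : ℤ) * s) * w₁ ^ (-(j : ℤ) * t) * w₁ ^ s := by
      have e : (w₂ * x) ^ ((i : ℤ) * s) = w₂ ^ ((i : ℤ) * s) * w₁ ^ s := by
        rw [(show Commute w₂ x from hVc _ hw₂V _ (zpowers_le.2 hap hxz)).mul_zpow, zpow_mul x, zpow_natCast, hi]
      calc a * (w₂ ^ ((i : ℤ) * s) * w₁ ^ (-(j : ℤ) * t)) * a⁻¹
          = (a * w₂ * a⁻¹) ^ ((i : ℤ) * s) * (a * w₁ * a⁻¹) ^ (-(j : ℤ) * t) := by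
            rw [conj_zpow, conj_zpow]; group
        _ = w₂ ^ ((i : ℤ) * s) * w₁ ^ s * w₁ ^ (-(j : ℤ) * t) := by rw [hax, e, haw₁]
        _ = _ := by group
    have ha'u : a' * (w₂ ^ ((i : ℤ) * s) * w₁ ^ (-(j : ℤ) * t)) * a'⁻¹ =
        w₂ ^ ((i : ℤ) * s) * w₁ ^ (-(j : ℤ) * t) * w₂ ^ t := by
      have e : (w₁ * y) ^ (-(j : ℤ) * t) = w₁ ^ (-(j : ℤ) * t) * w₂ ^ t := by
        rw [(show Commute w₁ y from hVc _ hap _ (zpowers_le.2 (inv_mem hw₂V) hyz)).mul_zpow,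
          zpow_mul y, zpow_neg, zpow_natCast, hj, inv_inv]
      calc a' * (w₂ ^ ((i : ℤ) * s) * w₁ ^ (-(j : ℤ) * t)) * a'⁻¹
          = (a' * w₂ * a'⁻¹) ^ ((i : ℤ) * s) * (a' * w₁ * a'⁻¹) ^ (-(j : ℤ) * t) := by
            rw [conj_zpow, conj_zpow]; group
        _ = _ := by rw [ha'w₂, hby, e, mul_assoc]
    obtain ⟨u, hu⟩ : ∃ u, u = w₂ ^ ((i : ℤ) * s) * w₁ ^ (-(j : ℤ) * t) := ⟨_, rfl⟩
    rw [← hu] at hau ha'u
    have huW : u ∈ W := hu ▸ mul_mem (zpow_mem (mem_sup_right (mem_zpowers _)) _) (zpow_mem (mem_sup_left (mem_zpowers _)) _)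
    have huV : u ∈ V := hWV huW
    have hav : a * v * a⁻¹ = w₁ ^ s * v := by rw [hs]; group
    have ha'v : a' * v * a'⁻¹ = w₂ ^ t * v := by rw [ht]; group
    refine ⟨u, huW, u⁻¹ * v, ⟨⟨V.mul_mem (V.inv_mem huV) hv, ?_⟩, ?_⟩, by group⟩
    · refine mem_centralizer_singleton_iff.2 (mul_inv_eq_iff_eq_mul.1 ?_).symm
      calc a * (u⁻¹ * v) * a⁻¹ = (a * u * a⁻¹)⁻¹ * (a * v * a⁻¹) := by group
        _ = (w₁ ^ s)⁻¹ * (u⁻¹ * w₁ ^ s) * v := by rw [hau, hav]; group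
        _ = (w₁ ^ s)⁻¹ * (w₁ ^ s * u⁻¹) * v := by rw [hVc _ (inv_mem huV) _ (zpow_mem hap s)]
        _ = u⁻¹ * v := by group
    · refine mem_centralizer_singleton_iff.2 (mul_inv_eq_iff_eq_mul.1 ?_).symm
      calc a' * (u⁻¹ * v) * a'⁻¹ = (a' * u * a'⁻¹)⁻¹ * (a' * v * a'⁻¹) := by group
        _ = (w₂ ^ t)⁻¹ * (u⁻¹ * w₂ ^ t) * v := by rw [ha'u, ha'v]; group
        _ = (w₂ ^ t)⁻¹ * (w₂ ^ t * u⁻¹) * v := by rw [hVc _ (inv_mem huV) _ (zpow_mem hw₂V t)]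
        _ = u⁻¹ * v := by group
  -- a 2-element inverting `W` and fixing `C`
  have hzW : ∀ u ∈ W, z₀ * u * z₀⁻¹ = u⁻¹ := by
    intro u hu
    let R : Subgroup G :=
      { carrier := {v | v ∈ V ∧ z₀ * v * z₀⁻¹ = v⁻¹}
        one_mem' := ⟨V.one_mem, by group⟩
        mul_mem' := by
          rintro u v ⟨hu, hu'⟩ ⟨hv, hv'⟩
          refine ⟨mul_mem hu hv, ?_⟩
          calc z₀ * (u * v) * z₀⁻¹ = (z₀ * u * z₀⁻¹) * (z₀ * v * z₀⁻¹) := by group
            _ = (v * u)⁻¹ := by rw [hu', hv', mul_inv_rev]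
            _ = (u * v)⁻¹ := by rw [hVc v hv u hu]
        inv_mem' := by
          rintro u ⟨hu, hu'⟩
          refine ⟨inv_mem hu, ?_⟩
          calc z₀ * u⁻¹ * z₀⁻¹ = (z₀ * u * z₀⁻¹)⁻¹ := by group
            _ = u⁻¹⁻¹ := by rw [hu'] }
    exact ((sup_le (zpowers_le.2 (show w₁ ∈ R from ⟨hap, hz1⟩)) (zpowers_le.2 (show w₂ ∈ R from ⟨hw₂V, hz2⟩))
      : W ≤ R) hu).2
  have hzC : ∀ f ∈ C, z₀ * f * z₀⁻¹ = f := by
    intro f hf
    obtain ⟨h1, h2⟩ := hCfix f hf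
    have hA' : Commute A f := hAd ▸ (show Commute a f from h1).pow_left i
    have hB' : Commute B f := hBd ▸ (show Commute a' f from h2).pow_left j
    have hg' : Commute g f := hg ▸ (hA'.mul_left hB').mul_left hA'
    exact mul_inv_eq_iff_eq_mul.2 (hz₀ ▸ (hg'.mul_left hg').eq)
  obtain ⟨l, hl⟩ : ∃ l, orderOf z₀ = 2 ^ (orderOf z₀).factorization 2 * l ∧ Odd l :=
    ⟨orderOf z₀ / 2 ^ (orderOf z₀).factorization 2, (Nat.ordProj_mul_ordCompl_eq_self _ 2).symm,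
      Nat.not_even_iff_odd.1 fun he => Nat.not_dvd_ordCompl Nat.prime_two (orderOf_pos z₀).ne' he.two_dvd⟩
  set z := z₀ ^ l with hz
  haveI : Fact (Nat.Prime 2) := ⟨Nat.prime_two⟩
  have hz2p : IsPGroup 2 (zpowers z) := by
    obtain ⟨e, -, he⟩ := (Nat.dvd_prime_pow Nat.prime_two).1 (orderOf_dvd_of_pow_eq_one
      (show z ^ 2 ^ (orderOf z₀).factorization 2 = 1 by rw [hz, ← pow_mul, mul_comm, ← hl.1, pow_orderOf_eq_one]))
    exact IsPGroup.of_card (n := e) (by rw [Nat.card_zpowers, he])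
  have hpowW : ∀ (e : ℕ), ∀ u ∈ W, z₀ ^ e * u * (z₀ ^ e)⁻¹ = u ^ ((-1 : ℤ) ^ e) := by
    intro e
    induction e with
    | zero => intro u _; simp
    | succ e ih =>
      intro u hu
      calc z₀ ^ (e + 1) * u * (z₀ ^ (e + 1))⁻¹ = z₀ ^ e * (z₀ * u * z₀⁻¹) * (z₀ ^ e)⁻¹ := by rw [pow_succ]; group
        _ = (u⁻¹) ^ ((-1 : ℤ) ^ e) := by rw [hzW u hu, ih _ (inv_mem hu)]
        _ = u ^ ((-1 : ℤ) ^ (e + 1)) := by rw [inv_zpow', pow_succ, mul_neg_one]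
  have hzW' : ∀ u ∈ W, z * u * z⁻¹ = u⁻¹ := fun u hu => by
    rw [hz, hpowW l u hu, Odd.neg_one_pow hl.2, zpow_neg, zpow_one]
  have hzC' : ∀ f ∈ C, z * f * z⁻¹ = f := fun f hf => by
    rw [hz]; exact mul_inv_eq_iff_eq_mul.2 ((show Commute z₀ f from mul_inv_eq_iff_eq_mul.1 (hzC f hf)).pow_left l).eq
  have hza : z * a * z⁻¹ * a⁻¹ ∈ V := by
    have haW : ∀ u ∈ W, a * u * a⁻¹ ∈ W := fun u hu => by
      have := mul_mem (mem_sup_left (hδ u (hWV hu)) : a * u * a⁻¹ * u⁻¹ ∈ W) hu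
      rwa [inv_mul_cancel_right] at this
    have hza' : ∀ v ∈ V, z * (a * v * a⁻¹) * z⁻¹ = a * (z * v * z⁻¹) * a⁻¹ := by
      intro v hv
      obtain ⟨u, hu, f, hf, rfl⟩ := hdec v hv
      have haf : a * f * a⁻¹ = f := mul_inv_eq_iff_eq_mul.2 (hCfix f hf).1
      calc z * (a * (u * f) * a⁻¹) * z⁻¹ = (z * (a * u * a⁻¹) * z⁻¹) * (z * (a * f * a⁻¹) * z⁻¹) := by group
        _ = (a * u * a⁻¹)⁻¹ * (a * f * a⁻¹) := by rw [hzW' _ (haW u hu), haf, hzC' f hf]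
        _ = a * (u⁻¹ * f) * a⁻¹ := by group
        _ = a * (z * u * z⁻¹ * (z * f * z⁻¹)) * a⁻¹ := by rw [hzW' u hu, hzC' f hf]
        _ = _ := by group
    refine hmemC _ fun v hv => ?_
    have hv' : a⁻¹ * v * a ∈ V := by simpa using (inferInstance : V.Normal).conj_mem v hv a⁻¹
    have hv'' : z⁻¹ * (a⁻¹ * v * a) * z ∈ V := by simpa using (inferInstance : V.Normal).conj_mem _ hv' z⁻¹
    calc z * a * z⁻¹ * a⁻¹ * v * (z * a * z⁻¹ * a⁻¹)⁻¹
        = z * (a * (z⁻¹ * (a⁻¹ * v * a) * z) * a⁻¹) * z⁻¹ := by group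
      _ = a * (z * (z⁻¹ * (a⁻¹ * v * a) * z) * z⁻¹) * a⁻¹ := hza' _ hv''
      _ = v := by group
  -- a fixed point in the coset of `a`
  letI : MulAction (zpowers z) {v : G // a⁻¹ * v ∈ V} :=
    { smul := fun e v => ⟨(e : G) * v * (e : G)⁻¹, by
        have hle : zpowers z ≤ normalizer (V : Set G) := by rw [Subgroup.normalizer_eq_top]; exact le_top
        have h1 : QuotientGroup.mk' V (e : G) * π a = π a * π e := by
          have hzc : Commute (π z) (π a) := by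
            show π z * π a = π a * π z
            rw [← mul_inv_eq_iff_eq_mul, ← mul_inv_eq_one, ← map_inv, ← map_inv, ← map_mul, ← map_mul, ← map_mul, hπV]
            exact hza
          obtain ⟨r, hr⟩ := mem_zpowers_iff.1 e.2
          rw [← hr, map_zpow]
          exact (hzc.zpow_left r).eq
        have hv' : π (v : G) = π a := (inv_mul_eq_one.1 (by rw [← map_inv, ← map_mul, hπV]; exact v.2)).symm
        rw [← hπV, map_mul, map_mul, map_mul, map_inv, map_inv, hv', h1, mul_inv_cancel_right, inv_mul_cancel]⟩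
      one_smul := fun v => Subtype.ext (by show (1 : G) * v * (1 : G)⁻¹ = v; simp)
      mul_smul := fun e e' v => Subtype.ext (by
        show (e * e' : G) * v * (e * e' : G)⁻¹ = (e : G) * ((e' : G) * v * (e' : G)⁻¹) * (e : G)⁻¹
        group) }
  have hcardS : Nat.card {v : G // a⁻¹ * v ∈ V} = Nat.card V :=
    Nat.card_congr
      { toFun := fun v => ⟨a⁻¹ * v, v.2⟩
        invFun := fun v => ⟨a * v, by simp⟩
        left_inv := fun v => Subtype.ext (by simp)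
        right_inv := fun v => Subtype.ext (by simp) }
  obtain ⟨⟨r, hr⟩, hfix⟩ := hz2p.nonempty_fixed_point_of_prime_not_dvd_card {v : G // a⁻¹ * v ∈ V} (by
    rw [hcardS]
    obtain ⟨e, he⟩ := IsPGroup.iff_card.1 hVp
    rw [he]
    exact fun h => hp2 ((Nat.prime_dvd_prime_iff_eq Nat.prime_two hp.out).1 (Nat.prime_two.dvd_of_dvd_pow h)).symm)
  have hzr : z * r * z⁻¹ = r := congrArg Subtype.val (hfix ⟨z, mem_zpowers z⟩)
  obtain ⟨v, hv, rfl⟩ : ∃ v ∈ V, a * v = r := ⟨a⁻¹ * r, hr, mul_inv_cancel_left a r⟩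
  -- its `p`-th power is `w₁`
  set e := v⁻¹ * (a⁻¹ * v * a) with he
  have hev : a⁻¹ * v * a ∈ V := by simpa using (inferInstance : V.Normal).conj_mem v hv a⁻¹
  have heV : e ∈ V := mul_mem (inv_mem hv) hev
  have hez : e ∈ zpowers w₁ := by
    have h := inv_mem (hδ _ hev)
    rwa [show (a * (a⁻¹ * v * a) * a⁻¹ * (a⁻¹ * v * a)⁻¹)⁻¹ = a⁻¹ * v * a * v⁻¹ by group,
      hVc _ hev _ (inv_mem hv)] at h
  have hea : a⁻¹ * e * a = e := by
    obtain ⟨r', hr'⟩ := mem_zpowers_iff.1 hez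
    calc a⁻¹ * e * a = a⁻¹ * (a * w₁ * a⁻¹) ^ r' * a := by rw [haw₁, hr']
      _ = e := by rw [conj_zpow, hr']; group
  have hpow : ∀ n : ℕ, (a * v) ^ n = a ^ n * (v ^ n * e ^ n.choose 2) := by
    intro n
    induction n with
    | zero => simp
    | succ n ih =>
      have hce : Commute v e := hVc _ hv _ heV
      have h1 : a⁻¹ * (v ^ n * e ^ n.choose 2) * a = v ^ n * e ^ n * e ^ n.choose 2 := by
        calc a⁻¹ * (v ^ n * e ^ n.choose 2) * a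
            = (a⁻¹ * v * a⁻¹⁻¹) ^ n * (a⁻¹ * e * a⁻¹⁻¹) ^ n.choose 2 := by rw [conj_pow, conj_pow]; group
          _ = (v * e) ^ n * e ^ n.choose 2 := by rw [inv_inv, hea, he]; group
          _ = _ := by rw [hce.mul_pow]
      calc (a * v) ^ (n + 1) = a ^ n * a * (a⁻¹ * (v ^ n * e ^ n.choose 2) * a) * v := by rw [pow_succ, ih]; group
        _ = a ^ (n + 1) * (v ^ n * (e ^ n * e ^ n.choose 2 * v)) := by rw [h1, pow_succ]; group
        _ = a ^ (n + 1) * (v ^ n * (v * (e ^ n * e ^ n.choose 2))) := by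
          rw [← (hce.pow_right n).mul_right (hce.pow_right _) |>.eq]
        _ = _ := by rw [← mul_assoc (v ^ n), ← pow_succ, ← pow_add, show n + n.choose 2 = (n + 1).choose 2 by
              rw [Nat.choose_succ_succ, Nat.choose_one_right]]
  have hzw : z * w₁ * z⁻¹ = w₁ := by
    have h1 : (a * v) ^ p = w₁ := by
      obtain ⟨d, hd⟩ := hp.out.dvd_choose_self (k := 2) (by norm_num)
        (lt_of_le_of_ne hp.out.two_le (Ne.symm hp2))
      rw [hpow p, hV.2 v hv, one_mul, hd, pow_mul, hV.2 e heV, one_pow, mul_one]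
    rw [← h1, ← conj_pow, hzr]
  rw [hzW' w₁ (mem_sup_left (mem_zpowers _))] at hzw
  refine hw₁1 (orderOf_eq_one_iff.1 (Nat.eq_one_of_dvd_coprimes ?_ (orderOf_dvd_of_pow_eq_one (hV.2 w₁ hap))
    (orderOf_dvd_of_pow_eq_one (show w₁ ^ 2 = 1 by rw [pow_two]; nth_rewrite 1 [← hzw]; exact inv_mul_cancel w₁))))
  exact (Nat.coprime_primes hp.out Nat.prime_two).2 hp2

end CfsgLib.PGroup.CyclicTransvection
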