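import Cfsg.Agent.Lib.PGroup.PLength
import Cfsg.Agent.Lib.PGroup.CyclicTransvection
import Cfsg.Agent.Lib.PGroup.Basic
import Cfsg.Agent.Lib.InvolChar.SmallAut
import Cfsg.Agent.Lib.Solvable.ShultGross
import Cfsg.Agent.Lib.Solvable.CharProjection
import Cfsg.Agent.Lib.Transfer.PSolvable

/-!
A `p`-solvable group whose Sylow subgroups for the primes other than `p` are abelian: `p`-length is
bounded by the exponent of the Sylow `p`-subgroups.
-/

set_option autoImplicit false

namespace CfsgLib.PGroup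

open CfsgLib.Solvable Cfsg

universe u

theorem exists_norm_rep_aux (A : Type u) [CommGroup A] [Finite A] (r : ℕ) [hr : Fact r.Prime]
    [Module (ZMod r) (Additive A)] :
    ∃ (d : ℕ) (f : MulAut A →* Module.End (AlgebraicClosure (ZMod r))
        (Fin d → AlgebraicClosure (ZMod r))),
      Function.Injective f ∧ ∀ (a : MulAut A) (m : ℕ),
        (∀ v, (∏ i ∈ Finset.range m, (a ^ i) v) = 1) → ∑ i ∈ Finset.range m, f (a ^ i) = 0 := by
  classical
  haveI : Finite (Additive A) := Finite.of_equiv A Additive.ofMul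
  haveI : Module.Finite (ZMod r) (Additive A) := Module.Finite.of_finite
  let B := Module.finBasis (ZMod r) (Additive A)
  let d := Module.finrank (ZMod r) (Additive A)
  let k := AlgebraicClosure (ZMod r)
  let g : Module.End (ZMod r) (Additive A) →+* Module.End k (Fin d → k) :=
    ((Matrix.toLinAlgEquiv' : Matrix (Fin d) (Fin d) k ≃ₐ[k] _).toRingEquiv.toRingHom).comp
      (((algebraMap (ZMod r) k).mapMatrix).comp (LinearMap.toMatrixAlgEquiv B).toRingEquiv.toRingHom)
  have hginj : Function.Injective g :=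
    (Matrix.toLinAlgEquiv' : Matrix (Fin d) (Fin d) k ≃ₐ[k] _).injective.comp
      ((Matrix.map_injective (algebraMap (ZMod r) k).injective).comp
        (LinearMap.toMatrixAlgEquiv B).injective)
  refine ⟨d, (g : _ →* _).comp (zmodAut r), ?_, ?_⟩
  · intro a b hab
    refine MulEquiv.ext fun x => ?_
    have h := LinearMap.congr_fun (hginj hab) (Additive.ofMul x)
    rw [zmodAut_apply, zmodAut_apply] at h
    exact Additive.ofMul.injective h
  · intro a m h
    have hz : ∑ i ∈ Finset.range m, zmodAut r (a ^ i) = 0 := by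
      refine LinearMap.ext fun v => ?_
      rw [LinearMap.sum_apply, LinearMap.zero_apply]
      simp only [zmodAut_apply]
      rw [← ofMul_prod]
      exact (congrArg Additive.ofMul (h v.toMul)).trans ofMul_one
    show ∑ i ∈ Finset.range m, g (zmodAut r (a ^ i)) = 0
    rw [← map_sum, hz, map_zero]

theorem exists_norm_rep (A : Type u) [CommGroup A] [Finite A] (r : ℕ) [hr : Fact r.Prime]
    (hexp : ∀ a : A, a ^ r = 1) :
    ∃ (d : ℕ) (f : MulAut A →* Module.End (AlgebraicClosure (ZMod r))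
        (Fin d → AlgebraicClosure (ZMod r))),
      Function.Injective f ∧ ∀ (a : MulAut A) (m : ℕ),
        (∀ v, (∏ i ∈ Finset.range m, (a ^ i) v) = 1) → ∑ i ∈ Finset.range m, f (a ^ i) = 0 := by
  have h0 : ∀ v : Additive A, r • v = 0 := fun v => by
    refine Additive.toMul.injective ?_
    rw [toMul_nsmul, toMul_zero]
    exact hexp _
  exact @exists_norm_rep_aux A _ _ r _ (AddCommGroup.zmodModule h0)

/-- An operator normalising an abelian group whose power of index `p ^ n` moves it has nonzero norm. -/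
theorem sum_pow_ne_zero {k : Type*} [Field k] [IsAlgClosed k] {V : Type*} [AddCommGroup V]
    [Module k V] {U : Type*} [CommGroup U] [Finite U] (hU : (Nat.card U : k) ≠ 0) {p n : ℕ}
    [hp : Fact p.Prime] (φ : MulAut U) (hφ : φ ^ (p ^ (n + 1)) = 1) (ρ : U →* Module.End k V)
    (S : Module.End k V) (hS : ∀ u, S * ρ u = ρ (φ u) * S) {u : U}
    (hu : ρ ((φ ^ (p ^ n)) u) ≠ ρ u) : ∑ i ∈ Finset.range (p ^ (n + 1)), S ^ i ≠ 0 := by
  intro hsum
  refine hu (ext_charProj ρ hU fun χ => ?_)
  rw [charProj_mul_apply, charProj_mul_apply]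
  obtain ⟨a, ha, hper, hne⟩ := exists_period φ hφ χ
  rcases ha.lt_or_eq with hlt | rfl
  · obtain ⟨j, hj⟩ : p ^ a ∣ p ^ n := pow_dvd_pow p (by omega)
    have key : ∀ j, χ.comp (φ ^ (p ^ a * j)).toMonoidHom = χ := by
      intro j
      induction j with
      | zero => ext v; simp
      | succ j ih =>
        have e : χ.comp (φ ^ (p ^ a * (j + 1))).toMonoidHom =
            (χ.comp (φ ^ (p ^ a * j)).toMonoidHom).comp (φ ^ (p ^ a)).toMonoidHom := by
          rw [mul_add, mul_one, pow_add]; rfl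
        rw [e, ih, hper]
    have h1 : χ ((φ ^ (p ^ n)) u) = χ u := by
      rw [hj]
      exact DFunLike.congr_fun (key j) u
    rw [h1]
  · have hz : charProj ρ χ = 0 := by
      refine LinearMap.ext fun v => ?_
      have h0 : (∑ i ∈ Finset.range (p ^ (n + 1)), S ^ i) (charProj ρ χ v) = 0 := by
        rw [hsum, LinearMap.zero_apply]
      have h1 := congrArg (charProj ρ χ) h0
      rw [map_zero, LinearMap.sum_apply, map_sum, Finset.sum_eq_single 0] at h1
      · rw [pow_zero, Module.End.one_apply] at h1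
        rwa [← Module.End.mul_apply, charProj_idem ρ hU] at h1
      · intro i hi hi0
        have h2 : charProj ρ χ ((S ^ i) (charProj ρ χ v)) =
            (S ^ i) (charProj ρ (χ.comp (φ ^ i).toMonoidHom) (charProj ρ χ v)) :=
          (LinearMap.congr_fun (charProj_semiconj ρ (φ ^ i) (semiconj_pow ρ φ hS i) χ) _).symm
        rw [h2]
        have h3 : charProj ρ (χ.comp (φ ^ i).toMonoidHom) (charProj ρ χ v) = 0 :=
          LinearMap.congr_fun (charProj_mul_of_ne ρ
            (hne i (Nat.pos_of_ne_zero hi0) (Finset.mem_range.1 hi))) v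
        rw [h3, map_zero]
      · intro h; exact absurd (Finset.mem_range.2 (pow_pos hp.out.pos _)) h
    rw [hz, smul_zero, smul_zero]

/-- Abelian Sylow subgroups pass to quotients. -/
theorem sylow_comm_of_surjective {G H : Type*} [Group G] [Finite G] [Group H] {f : G →* H}
    (hf : Function.Surjective f) {q : ℕ} [Fact q.Prime]
    (hab : ∀ Q : Sylow q G, IsMulCommutative (Q : Subgroup G)) (Q : Sylow q H) :
    IsMulCommutative (Q : Subgroup H) := by
  obtain ⟨P, rfl⟩ := Sylow.mapSurjective_surjective hf q Q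
  rw [Sylow.coe_mapSurjective]
  refine ⟨⟨?_⟩⟩
  rintro ⟨_, a, ha, rfl⟩ ⟨_, b, hb, rfl⟩
  refine Subtype.ext ?_
  show f a * f b = f b * f a
  rw [← map_mul, ← map_mul]
  exact congrArg f (congrArg Subtype.val ((hab P).is_comm.comm ⟨a, ha⟩ ⟨b, hb⟩) :)

theorem exp_sylow_of_surjective {G H : Type*} [Group G] [Finite G] [Group H] {f : G →* H}
    (hf : Function.Surjective f) {p m : ℕ} [Fact p.Prime]
    (hexp : ∀ (P : Sylow p G), ∀ x ∈ (P : Subgroup G), x ^ m = 1) (P : Sylow p H) :
    ∀ x ∈ (P : Subgroup H), x ^ m = 1 := by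
  obtain ⟨P, rfl⟩ := Sylow.mapSurjective_surjective hf p P
  rw [Sylow.coe_mapSurjective]
  rintro _ ⟨a, ha, rfl⟩
  rw [← map_pow, hexp P a ha, map_one]

/-- The key step: exponent `p ^ (n + 1)` for `G` gives exponent `p ^ n` for `G / O_p(G)`. -/
theorem pow_mem_pCore_of_abelian_sylow {G : Type u} [Group G] [Finite G] {p n : ℕ}
    [hp : Fact p.Prime] (hsol : IsPSolvable p G) (hO : pPrimeCore p G = ⊥)
    (hab : ∀ (q : ℕ) [Fact q.Prime], q ≠ p → ∀ Q : Sylow q G, IsMulCommutative (Q : Subgroup G))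
    (hexp : ∀ (P : Sylow p G), ∀ x ∈ (P : Subgroup G), x ^ p ^ (n + 1) = 1)
    (P : Sylow p G) {x : G} (hxP : x ∈ (P : Subgroup G)) : x ^ p ^ n ∈ pCore p G := by
  classical
  set R := pCore p G with hR
  have hRp : IsPGroup p R := CfsgLib.Cores.isPGroup_pCore p
  letI : CommGroup (↥R ⧸ frattini ↥R) :=
    { (inferInstance : Group (↥R ⧸ frattini ↥R)) with mul_comm := quotient_frattini_comm hRp }
  obtain ⟨d, f, hfinj, hfnorm⟩ := exists_norm_rep (↥R ⧸ frattini ↥R) p (quotient_frattini_pow hRp)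
  let act : G →* MulAut (↥R ⧸ frattini ↥R) := CfsgLib.A8.frattiniAct R
  have hker : act.ker = R :=
    CfsgLib.A8.ker_frattiniAct (CfsgLib.Transfer.centralizer_pCore_le_of_isPSolvable hsol hO)
  let actb : G ⧸ R →* MulAut (↥R ⧸ frattini ↥R) := QuotientGroup.lift R act hker.ge
  have hactb : Function.Injective actb := by
    rw [injective_iff_map_eq_one]
    intro t ht
    obtain ⟨g, rfl⟩ := QuotientGroup.mk'_surjective R t
    refine (QuotientGroup.eq_one_iff g).2 ?_
    rw [← hker]; exact ht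
  obtain ⟨xb, hxb⟩ : ∃ xb : G ⧸ R, xb = QuotientGroup.mk' R x := ⟨_, rfl⟩
  have hxm : x ^ p ^ (n + 1) = 1 := hexp P x hxP
  have hxbm : xb ^ p ^ (n + 1) = 1 := by rw [hxb, ← map_pow, hxm, map_one]
  by_contra hnot
  set K := pPrimeCore p (G ⧸ R) with hK
  haveI hKn : K.Normal := by
    haveI := CfsgLib.Cores.pPrimeCore_characteristic (G := G ⧸ R) p
    infer_instance
  have hcent := CyclicTransvection.centralizer_pPrimeCore_le (CfsgLib.Transfer.isPSolvable_quotient hsol R)
    (CfsgLib.Cores.pCore_quotient_self (G := G) p)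
  have hKcop : (Nat.card K).Coprime p := CfsgLib.Cores.coprime_card_pPrimeCore p
  have hnotc : xb ^ p ^ n ∉ Subgroup.centralizer (K : Set (G ⧸ R)) := fun h => by
    refine hnot ((QuotientGroup.eq_one_iff (x ^ p ^ n)).1 ?_)
    show QuotientGroup.mk' R (x ^ p ^ n) = 1
    rw [map_pow, ← hxb, ← orderOf_eq_one_iff]
    refine Nat.eq_one_of_dvd_coprimes (hKcop.symm.pow_left (n + 1))
      (orderOf_dvd_of_pow_eq_one ?_) ((Subgroup.orderOf_mk (xb ^ p ^ n) (hcent h)) ▸
        orderOf_dvd_natCard (⟨xb ^ p ^ n, hcent h⟩ : K))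
    rw [← pow_mul, mul_comm, pow_mul, hxbm, one_pow]
  have hAK : Subgroup.zpowers xb ≤ Subgroup.normalizer (K : Set (G ⧸ R)) := by
    rw [Subgroup.normalizer_eq_top]; exact le_top
  have hcop : (Nat.card (Subgroup.zpowers xb)).Coprime (Nat.card K) := by
    rw [Nat.card_zpowers]
    exact Nat.Coprime.coprime_dvd_left (orderOf_dvd_of_pow_eq_one hxbm) (hKcop.symm.pow_left _)
  obtain ⟨q, hq, hqK, Q, hQn, hQnot⟩ : ∃ (q : ℕ), q.Prime ∧ q ∣ Nat.card K ∧ ∃ Q : Sylow q K,
      Subgroup.zpowers xb ≤ Subgroup.normalizer ((Q : Subgroup K).map K.subtype : Set (G ⧸ R)) ∧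
      ¬ (Q : Subgroup K).map K.subtype ≤ Subgroup.centralizer {xb ^ p ^ n} := by
    by_contra hcon
    push Not at hcon
    refine hnotc (Subgroup.mem_centralizer_iff.2 fun y hy => ?_)
    have hle : Nat.card K ∣ Nat.card (Subgroup.centralizer {xb ^ p ^ n} ⊓ K : Subgroup (G ⧸ R)) := by
      refine (Nat.dvd_iff_prime_pow_dvd_dvd _ _).2 fun q k hq hqk => ?_
      rcases Nat.eq_zero_or_pos k with rfl | hk
      · simp
      haveI := Fact.mk hq
      obtain ⟨Q, hQ⟩ := exists_invariant_sylow (Subgroup.zpowers xb) K hAK hcop (Or.inl inferInstance) q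
      have h1 := hcon q hq ((dvd_pow_self q hk.ne').trans hqk) Q hQ
      refine dvd_trans ?_ (Subgroup.card_dvd_of_le (le_inf h1 (Subgroup.map_subtype_le _)))
      rw [card_sylow_map, Q.card_eq_multiplicity]
      exact pow_dvd_pow _ ((Nat.Prime.pow_dvd_iff_le_factorization hq Nat.card_pos.ne').1 hqk)
    have heq := Subgroup.eq_of_le_of_card_ge inf_le_right (Nat.le_of_dvd Nat.card_pos hle)
    exact Subgroup.mem_centralizer_singleton_iff.1 (heq.ge hy).1
  haveI := Fact.mk hq
  have hqp : q ≠ p := fun h =>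
    hq.ne_one (Nat.eq_one_of_dvd_coprimes hKcop hqK (h ▸ dvd_refl q))
  set Qb := (Q : Subgroup K).map K.subtype with hQb
  have hQq : IsPGroup q Qb := Q.2.map _
  obtain ⟨T, hT⟩ := hQq.exists_le_sylow
  have hTab := sylow_comm_of_surjective (QuotientGroup.mk'_surjective R) (hab q hqp) T
  letI : CommGroup Qb :=
    { (inferInstance : Group Qb) with
      mul_comm := fun a b => Subtype.ext
        (congrArg Subtype.val (hTab.is_comm.comm ⟨a, hT a.2⟩ ⟨b, hT b.2⟩) :) }
  obtain ⟨b, hbQ, hbne⟩ := SetLike.not_le_iff_exists.1 hQnot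
  rw [Subgroup.mem_centralizer_singleton_iff] at hbne
  let φ : MulAut Qb := Subgroup.normalizerMonoidHom Qb ⟨xb, hQn (Subgroup.mem_zpowers xb)⟩
  have hφpow : ∀ (i : ℕ) (z : Qb), (((φ ^ i) z : Qb) : G ⧸ R) = xb ^ i * z * (xb ^ i)⁻¹ := by
    intro i z
    rw [← map_pow]
    rfl
  let ρ : Qb →* Module.End (AlgebraicClosure (ZMod p)) (Fin d → AlgebraicClosure (ZMod p)) :=
    f.comp (actb.comp Qb.subtype)
  have hS : ∀ z, f (actb xb) * ρ z = ρ (φ z) * f (actb xb) := fun z => by
    show f (actb xb) * f (actb z) = f (actb ((φ z : Qb) : G ⧸ R)) * f (actb xb)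
    rw [← map_mul f, ← map_mul f, ← map_mul actb, ← map_mul actb]
    refine congrArg _ (congrArg _ ?_)
    show xb * (z : G ⧸ R) = xb * z * xb⁻¹ * xb
    rw [inv_mul_cancel_right]
  have hU : (Nat.card Qb : AlgebraicClosure (ZMod p)) ≠ 0 := fun h => by
    obtain ⟨j, hj⟩ := hQq.exists_card_eq
    rw [hj, CharP.cast_eq_zero_iff (AlgebraicClosure (ZMod p)) p] at h
    exact hqp ((Nat.prime_dvd_prime_iff_eq hp.out hq).1 (hp.out.dvd_of_dvd_pow h)).symm
  refine sum_pow_ne_zero hU φ (MulEquiv.ext fun z => Subtype.ext (by rw [hφpow, hxbm]; simp))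
    ρ (f (actb xb)) hS (n := n) (u := ⟨b, hbQ⟩) (fun h => hbne ?_) ?_
  · have h1 : ((φ ^ p ^ n) ⟨b, hbQ⟩ : Qb).1 = b := hactb (hfinj h)
    rw [hφpow] at h1
    exact (mul_inv_eq_iff_eq_mul.1 h1).symm
  · simp only [← map_pow]
    rw [show (fun i : ℕ => f (actb (xb ^ i))) = fun i => f (act (x ^ i)) from funext fun i => by
      rw [hxb, ← map_pow]; rfl]
    simp only [map_pow act]
    refine hfnorm (act x) _ fun v => ?_
    obtain ⟨r, rfl⟩ := QuotientGroup.mk_surjective v
    have key : ∀ m : ℕ, ∃ c : R, (c : G) * x ^ m = ((r : G) * x) ^ m ∧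
        (QuotientGroup.mk c : ↥R ⧸ frattini ↥R) =
          ∏ i ∈ Finset.range m, ((act x) ^ i) (QuotientGroup.mk r) := by
      intro m
      induction m with
      | zero => exact ⟨1, by simp, by simp⟩
      | succ m ih =>
        obtain ⟨c, hc1, hc2⟩ := ih
        refine ⟨c * MulAut.conjNormal (x ^ m) r, ?_, ?_⟩
        · rw [pow_succ ((r : G) * x) m, ← hc1, Subgroup.coe_mul, MulAut.conjNormal_apply, pow_succ]
          group
        · rw [Finset.prod_range_succ, ← hc2, ← map_pow]
          rfl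
    obtain ⟨c, hc1, hc2⟩ := key (p ^ (n + 1))
    have hPx : (r : G) * x ∈ (P : Subgroup G) := mul_mem (CfsgLib.Cores.pCore_le_sylow P r.2) hxP
    rw [hexp P _ hPx, hxm, mul_one] at hc1
    rw [← hc2, show c = 1 from Subtype.ext hc1]
    rfl

end CfsgLib.PGroup
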