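import Cfsg.Agent.Lib.LocalEven.SubnormalSylow
import Cfsg.Agent.Lib.Transfer.MaximalClass
import Cfsg.Agent.Lib.Recognition.SimplePower
import Mathlib

/-!
Sylow `p`-subgroups with abelianization of order `p ^ 2` and `p`-elements whose centralizer has
`p`-part `p ^ 2`.
-/

set_option autoImplicit false

namespace CfsgLib.PGroup.AbelianizationSquare

open Subgroup
open scoped commutatorElement

variable {p : ℕ} [hp : Fact p.Prime]

section pgroup

variable {X : Type*} [Group X] [Finite X]

theorem pow_two_le_of_lt {H : Subgroup X} (hX : IsPGroup p X) (h : p < Nat.card H) :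
    p ^ 2 ≤ Nat.card H := by
  obtain ⟨k, hk⟩ := (hX.to_subgroup H).exists_card_eq
  rw [hk] at h ⊢
  refine Nat.pow_le_pow_right hp.out.pos ?_
  by_contra hc
  have : p ^ k ≤ p ^ 1 := Nat.pow_le_pow_right hp.out.pos (by omega)
  rw [pow_one] at this
  omega

/-- A normal subgroup of index at least `p ^ 2` lies in a commutator subgroup of index `p ^ 2`. -/
theorem le_commutator_of_sq_le_index (hX : IsPGroup p X) (hc : (commutator X).index = p ^ 2)
    (K : Subgroup X) [K.Normal] (hK : p ^ 2 ≤ K.index) : K ≤ commutator X := by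
  have h := CfsgLib.Transfer.prime_sq_le_index_commutator (p := p) (hX.to_quotient K)
    (by rwa [← index_eq_card])
  have hmap : commutator (X ⧸ K) = (commutator X).map (QuotientGroup.mk' K) := by
    rw [commutator_def, commutator_def, map_commutator,
      map_top_of_surjective _ (QuotientGroup.mk'_surjective K)]
  rw [hmap, index_map, QuotientGroup.ker_mk', MonoidHom.range_eq_top_of_surjective _
    (QuotientGroup.mk'_surjective K), index_top, mul_one, ← hc] at h
  have heq : commutator X = commutator X ⊔ K := by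
    refine eq_of_le_of_card_ge le_sup_left ?_
    have h1 := (commutator X).card_mul_index
    have h2 := (commutator X ⊔ K).card_mul_index
    rw [← h1] at h2
    by_contra hlt
    have := Nat.mul_lt_mul_of_lt_of_le (Nat.not_le.1 hlt) h
      (Nat.pos_of_ne_zero (Subgroup.FiniteIndex.index_ne_zero (H := commutator X ⊔ K)))
    omega
  exact heq ▸ le_sup_right

/-- An element with centralizer of order `p ^ 2` gives a commutator subgroup of index `p ^ 2`. -/
theorem index_commutator_eq (hX : IsPGroup p X) {x : X}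
    (hx : Nat.card (centralizer ({x} : Set X)) = p ^ 2) : (commutator X).index = p ^ 2 := by
  obtain ⟨n, hn⟩ := hX.exists_card_eq
  have hn2 : 2 ≤ n := (Nat.pow_le_pow_iff_right hp.out.one_lt).1
    (hn ▸ hx ▸ card_le_card_group _)
  set A := centralizer ({x} : Set X) with hA
  have hxA : x ∈ A := mem_centralizer_singleton_iff.2 rfl
  have hCA : centralizer (A : Set X) = A := by
    refine le_antisymm (fun g hg => mem_centralizer_singleton_iff.2
      (mem_centralizer_iff.1 hg x hxA).symm) fun a ha => mem_centralizer_iff.2 fun b hb => ?_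
    have hcomm := _root_.IsPGroup.commutative_of_card_eq_prime_sq (G := A) hx
    exact congrArg Subtype.val (hcomm ⟨b, hb⟩ ⟨a, ha⟩)
  exact CfsgLib.Transfer.index_commutator_eq_sq hn hn2
    (CfsgLib.Transfer.nilpotencyClass_of_self_centralizing hn A hx hCA)

theorem exists_mul_pow {S : Subgroup X} [S.Normal] (hS : S.index = p) {y : X} (hy : y ∉ S)
    (g : X) : ∃ s ∈ S, ∃ j : ℕ, g = s * y ^ j := by
  have hne : (QuotientGroup.mk' S y) ≠ 1 := fun h => hy ((QuotientGroup.eq_one_iff y).1 h)
  have hcard : Nat.card (X ⧸ S) = p := by rw [← index_eq_card, hS]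
  obtain ⟨j, hj⟩ := (mem_powers_iff_mem_zpowers).2
    (zpowers_eq_top_of_prime_card hcard hne ▸ mem_top (QuotientGroup.mk' S g))
  refine ⟨g * (y ^ j)⁻¹, ?_, j, by group⟩
  rw [← QuotientGroup.eq_one_iff]
  have hj' : (QuotientGroup.mk' S y) ^ j = QuotientGroup.mk' S g := hj
  rw [QuotientGroup.mk'_apply, QuotientGroup.mk'_apply] at hj'
  simp [hj']

/-- If a kernel `K ≤ S` is normal and `S` is central modulo it, with `X/S` of prime order, then
`X/K` is abelian. -/
theorem commutator_le_of_central {S : Subgroup X} [S.Normal] (hS : S.index = p) {y : X}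
    (hy : y ∉ S) (K : Subgroup X) [K.Normal] (hc : ∀ s ∈ S, ∀ g : X, ⁅s, g⁆ ∈ K) :
    commutator X ≤ K := by
  rw [commutator_def, commutator_le]
  intro a _ b _
  rw [← QuotientGroup.eq_one_iff, ← QuotientGroup.mk'_apply, map_commutatorElement,
    commutatorElement_eq_one_iff_commute]
  have hcs : ∀ s ∈ S, ∀ g : X, Commute (QuotientGroup.mk' K s) (QuotientGroup.mk' K g) := by
    intro s hs g
    rw [← commutatorElement_eq_one_iff_commute, ← map_commutatorElement, QuotientGroup.mk'_apply,
      QuotientGroup.eq_one_iff]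
    exact hc s hs g
  obtain ⟨s, hs, i, rfl⟩ := exists_mul_pow hS hy a
  rw [map_mul, map_pow]
  refine (hcs s hs b).mul_left ?_
  obtain ⟨t, ht, j, rfl⟩ := exists_mul_pow hS hy b
  rw [map_mul, map_pow]
  refine ((hcs t ht y).symm.pow_left i).mul_right ((Commute.refl _).pow_pow i j)

/-- An abelian normal subgroup of index `p` meets the centralizer of an outer element in at most
`p` elements, if the commutator subgroup has index `p ^ 2`. -/
theorem card_fixed_le (hc : (commutator X).index = p ^ 2) {S : Subgroup X} [S.Normal]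
    (hab : ∀ a ∈ S, ∀ b ∈ S, a * b = b * a) (hS : S.index = p) {y : X} (hy : y ∉ S)
    {R : Subgroup X} (hRS : R ≤ S) (hR : ∀ r ∈ R, y * r = r * y) : Nat.card R ≤ p := by
  let f : S →* X := MonoidHom.mk' (fun n => ⁅y, (n : X)⁆) fun a b => by
    have h1 : y * (b : X) * y⁻¹ ∈ S := Subgroup.Normal.conj_mem ‹_› _ b.2 y
    have h2 := hab _ (inv_mem a.2) _ (mul_mem h1 (inv_mem b.2))
    simp only [commutatorElement_def, Subgroup.coe_mul]
    calc y * ((a : X) * b) * y⁻¹ * ((a : X) * b)⁻¹
        = (y * a * y⁻¹) * ((y * b * y⁻¹ * (b : X)⁻¹) * (a : X)⁻¹) := by group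
      _ = (y * a * y⁻¹) * ((a : X)⁻¹ * (y * b * y⁻¹ * (b : X)⁻¹)) := by rw [h2]
      _ = y * a * y⁻¹ * (a : X)⁻¹ * (y * b * y⁻¹ * (b : X)⁻¹) := by group
  have hfS : f.range ≤ S := by
    rintro _ ⟨n, rfl⟩
    change y * n * y⁻¹ * (n : X)⁻¹ ∈ S
    exact mul_mem (Subgroup.Normal.conj_mem ‹_› _ n.2 y) (inv_mem n.2)
  have hy' : ∀ (j : ℕ) (k : X), k ∈ f.range → y ^ j * k * (y ^ j)⁻¹ ∈ f.range := by
    intro j
    induction j with
    | zero => intro k hk; simpa using hk
    | succ j ih =>
      intro k hk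
      obtain ⟨n, rfl⟩ := hk
      have h1 := ih (f ⟨y * n * y⁻¹, Subgroup.Normal.conj_mem ‹_› _ n.2 y⟩) ⟨_, rfl⟩
      convert h1 using 1
      change y ^ (j + 1) * ⁅y, (n : X)⁆ * (y ^ (j + 1))⁻¹ = y ^ j * ⁅y, y * n * y⁻¹⁆ * (y ^ j)⁻¹
      simp only [commutatorElement_def, pow_succ]
      group
  have hn : f.range.Normal := by
    refine ⟨fun k hk g => ?_⟩
    obtain ⟨s, hs, j, rfl⟩ := exists_mul_pow hS hy g
    have h1 := hy' j k hk
    have h2 : s * y ^ j * k * (s * y ^ j)⁻¹ = y ^ j * k * (y ^ j)⁻¹ := by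
      rw [show s * y ^ j * k * (s * y ^ j)⁻¹ = s * (y ^ j * k * (y ^ j)⁻¹) * s⁻¹ by group,
        hab s hs _ (hfS h1)]
      group
    rw [h2]; exact h1
  have hle : commutator X ≤ f.range := by
    refine commutator_le_of_central hS hy _ fun s hs g => ?_
    obtain ⟨t, ht, j, rfl⟩ := exists_mul_pow hS hy g
    induction j generalizing t with
    | zero =>
      rw [pow_zero, mul_one, commutatorElement_eq_one_iff_mul_comm.2 (hab s hs t ht)]
      exact one_mem _
    | succ j ih =>
      have e1 : ⁅s, t * y ^ (j + 1)⁆ =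
          ⁅s, t * y ^ j⁆ * ((t * y ^ j) * ⁅s, y⁆ * (t * y ^ j)⁻¹) := by
        simp only [commutatorElement_def, pow_succ]; group
      rw [e1]
      refine mul_mem (ih t ht) (hn.conj_mem _ ?_ _)
      rw [← commutatorElement_inv]
      exact inv_mem ⟨⟨s, hs⟩, rfl⟩
  have hker : R.subgroupOf S ≤ f.ker := by
    intro r hr
    exact commutatorElement_eq_one_iff_mul_comm.2 (hR _ (mem_subgroupOf.1 hr))
  have h1 := f.ker.card_mul_index
  rw [index_ker] at h1
  have h2 := Nat.card_congr (subgroupOfEquivOfLe hRS).toEquiv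
  have h3 := card_le_of_le (K := f.ker) hker
  have h4 := (commutator X).card_mul_index
  have h5 := S.card_mul_index
  rw [hc] at h4
  rw [hS] at h5
  have h6 := card_le_of_le (K := f.range) hle
  have h7 : Nat.card f.ker * Nat.card f.range * p ≤ p * Nat.card f.range * p := by
    rw [h1, h5, ← h4]
    calc Nat.card (commutator X) * p ^ 2 ≤ Nat.card f.range * p ^ 2 :=
          Nat.mul_le_mul_right _ h6
      _ = p * Nat.card f.range * p := by ring
  have h8 := Nat.le_of_mul_le_mul_right (Nat.le_of_mul_le_mul_right h7 hp.out.pos) Nat.card_pos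
  rw [← h2]
  exact h3.trans h8

theorem sq_le_card_centralizer (hX : IsPGroup p X) (h : p ^ 2 ≤ Nat.card X) (y : X) :
    p ^ 2 ≤ Nat.card (centralizer ({y} : Set X)) := by
  by_cases hy : y ∈ center X
  · have : centralizer ({y} : Set X) = ⊤ := eq_top_iff.2 fun g _ =>
      mem_centralizer_singleton_iff.2 (mem_center_iff.1 hy g)
    rwa [this, card_top]
  · have hlt : center X < centralizer ({y} : Set X) :=
      lt_of_le_of_ne (center_le_centralizer _) fun e =>
        hy (e ▸ mem_centralizer_singleton_iff.2 rfl)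
    have := CfsgLib.Transfer.prime_mul_card_le hX hlt
    have : Nontrivial X := ⟨⟨y, 1, fun e => hy (e ▸ one_mem _)⟩⟩
    obtain ⟨k, hk⟩ := (hX.to_subgroup (center X)).exists_card_eq
    have hk0 : k ≠ 0 := fun e => by
      rw [e, pow_zero] at hk
      have := hX.center_nontrivial
      exact (center X).nontrivial_iff_ne_bot.1 this (eq_bot_of_card_eq _ hk)
    have : p ^ 1 ≤ Nat.card (center X) := hk ▸ Nat.pow_le_pow_right hp.out.pos (by omega)
    rw [sq]
    calc p * p ≤ p * Nat.card (center X) := Nat.mul_le_mul_left _ (by simpa using this)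
      _ ≤ _ := by assumption

end pgroup

section product

variable {S₀ : Type*} [Group S₀] [Finite S₀] {m : ℕ} {V : Subgroup (Fin m → S₀)}

theorem isPGroup_pi {T : Fin m → Subgroup S₀} (hT : ∀ i, IsPGroup p (T i)) :
    IsPGroup p (Subgroup.pi Set.univ T) := by
  intro x
  choose k hk using fun i => hT i ⟨x.1 i, x.2 i trivial⟩
  refine ⟨∑ i, k i, Subtype.ext (funext fun i => ?_)⟩
  have h1 : (x.1 i) ^ (p ^ k i) = 1 := congrArg Subtype.val (hk i)
  obtain ⟨d, hd⟩ := pow_dvd_pow p (Finset.single_le_sum (fun j _ => Nat.zero_le (k j))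
    (Finset.mem_univ i))
  simp only [SubmonoidClass.coe_pow, Pi.pow_apply, OneMemClass.coe_one, Pi.one_apply]
  rw [hd, pow_mul, h1, one_pow]

/-- The coordinate projection of a subgroup of a power. -/
def proj (V : Subgroup (Fin m → S₀)) (i : Fin m) : Subgroup S₀ :=
  V.map (Pi.evalMonoidHom (fun _ : Fin m => S₀) i)

variable (hV : IsPGroup p V) (hmax : ∀ W : Subgroup (Fin m → S₀), IsPGroup p W → V ≤ W → W = V)

include hV hmax in
theorem eq_pi_proj : Subgroup.pi Set.univ (proj V) = V :=
  hmax _ (isPGroup_pi fun i => hV.map _) fun x hx i _ => ⟨x, hx, rfl⟩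

include hV hmax in
theorem mulSingle_mem {i : Fin m} {t : S₀} (ht : t ∈ proj V i) : Pi.mulSingle i t ∈ V := by
  classical
  refine (eq_pi_proj hV hmax).le fun j _ => ?_
  rcases eq_or_ne j i with rfl | hj
  · rwa [Pi.mulSingle_eq_same]
  · rw [Pi.mulSingle_eq_of_ne hj]; exact (proj V j).one_mem

include hV hmax in
theorem split_mem {x : Fin m → S₀} (hx : x ∈ V) (J : Fin m → Prop) [DecidablePred J] :
    (fun i => if J i then x i else 1) ∈ V := by
  refine (eq_pi_proj hV hmax).le fun i _ => ?_
  by_cases hi : J i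
  · simp only [if_pos hi]; exact ⟨x, hx, rfl⟩
  · simp only [if_neg hi]; exact (proj V i).one_mem

include hV hmax in
theorem proj_maximal (i : Fin m) {T : Subgroup S₀} (hT : IsPGroup p T) (hle : proj V i ≤ T) :
    T = proj V i := by
  classical
  refine le_antisymm (fun t ht => ?_) hle
  have hW := hmax (Subgroup.pi Set.univ (Function.update (proj V) i T)) (isPGroup_pi fun j => by
    rcases eq_or_ne j i with rfl | hj
    · rw [Function.update_self]; exact hT
    · rw [Function.update_of_ne hj]; exact hV.map _) fun x hx j _ => by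
    change x j ∈ Function.update (proj V) i T j
    rcases eq_or_ne j i with rfl | hj
    · rw [Function.update_self]; exact hle ⟨x, hx, rfl⟩
    · rw [Function.update_of_ne hj]; exact ⟨x, hx, rfl⟩
  refine ⟨Pi.mulSingle i t, hW.le fun j _ => ?_, Pi.mulSingle_eq_same (M := fun _ : Fin m => S₀) i t⟩
  change Pi.mulSingle (M := fun _ : Fin m => S₀) i t j ∈ Function.update (proj V) i T j
  rcases eq_or_ne j i with rfl | hj
  · rw [Function.update_self, Pi.mulSingle_eq_same]; exact ht
  · rw [Pi.mulSingle_eq_of_ne hj]; exact (Function.update (proj V) i T j).one_mem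

include hV hmax in
/-- `|T| ≤ |proj V i|` for every `p`-subgroup `T` of the factor. -/
theorem card_le_proj (i : Fin m) {T : Subgroup S₀} (hT : IsPGroup p T) :
    Nat.card T ≤ Nat.card (proj V i) := by
  let Q : Sylow p S₀ := ⟨proj V i, hV.map _, fun hR h => proj_maximal hV hmax i hR h⟩
  obtain ⟨R, hR⟩ := hT.exists_le_sylow
  calc Nat.card T ≤ Nat.card (R : Subgroup S₀) := card_le_of_le hR
    _ = Nat.card (proj V i) := by rw [R.card_eq_multiplicity, ← Q.card_eq_multiplicity]

end product

end CfsgLib.PGroup.AbelianizationSquare
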