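import Cfsg.Agent.Lib.PGroup.AbelianizationSquare
import Cfsg.Agent.Lib.Solvable.MinimalNormal
import Cfsg.Agent.Lib.Fusion.TateApps
import Cfsg.Agent.S0081
import Cfsg.Prelude.Def_Solvable

/-!
A Sylow `p`-subgroup with abelianization of order `p ^ 2` gives, outside almost simple groups, a
`p`-element whose centralizer has `p`-part `p ^ 2`.
-/

set_option autoImplicit false

namespace CfsgLib.PGroup.AbelianizationSquare

open Subgroup
open scoped commutatorElement

variable {G : Type*} [Group G] [Finite G] {p : ℕ} [hp : Fact p.Prime]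

theorem relIndex_commutator_eq (P : Subgroup G) : ⁅P, P⁆.relIndex P = (commutator P).index := by
  rw [← Subgroup.map_subtype_commutator, relIndex, subgroupOf,
    comap_map_eq_self_of_injective P.subtype_injective]

/-- The centralizer in a subgroup of one of its elements. -/
theorem card_centralizer_subtype (P : Subgroup G) (x : P) :
    Nat.card (centralizer ({x} : Set P)) =
      Nat.card (P ⊓ centralizer ({(x : G)} : Set G) : Subgroup G) := by
  rw [← card_map_of_injective (K := centralizer ({x} : Set P)) P.subtype_injective]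
  congr 2
  ext g
  constructor
  · rintro ⟨a, ha, rfl⟩
    exact ⟨a.2, mem_centralizer_singleton_iff.2
      (congrArg Subtype.val (mem_centralizer_singleton_iff.1 ha))⟩
  · rintro ⟨hgP, hgC⟩
    exact ⟨⟨g, hgP⟩, mem_centralizer_singleton_iff.2
      (Subtype.ext (mem_centralizer_singleton_iff.1 hgC)), rfl⟩

/-- The converse direction. -/
theorem relIndex_eq_sq_of_centralizer (P : Sylow p G) {x : G} (hx : ∃ k : ℕ, orderOf x = p ^ k)
    (hc : (Nat.card (centralizer ({x} : Set G))).factorization p = 2) :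
    ⁅(P : Subgroup G), (P : Subgroup G)⁆.relIndex (P : Subgroup G) = p ^ 2 := by
  set C := centralizer ({x} : Set G) with hC
  have hxC : x ∈ C := mem_centralizer_singleton_iff.2 rfl
  obtain ⟨k, hk⟩ := hx
  have hz : IsPGroup p (zpowers (⟨x, hxC⟩ : C)) := IsPGroup.of_card (n := k) (by
    rw [Nat.card_zpowers, ← Subgroup.orderOf_coe]; exact hk)
  obtain ⟨R, hR⟩ := hz.exists_le_sylow
  obtain ⟨Q, hQ⟩ := (R.2.map C.subtype).exists_le_sylow
  have hxQ : x ∈ (Q : Subgroup G) := hQ ⟨⟨x, hxC⟩, hR (mem_zpowers _), rfl⟩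
  have hle : ((Q : Subgroup G) ⊓ C).subgroupOf C = (R : Subgroup C) :=
    R.3 ((Q.2.to_le inf_le_left).comap_subtype (K := C)) fun r hr => ⟨hQ ⟨r, hr, rfl⟩, r.2⟩
  have hcard : Nat.card (centralizer ({(⟨x, hxQ⟩ : (Q : Subgroup G))} : Set (Q : Subgroup G)))
      = p ^ 2 := by
    rw [card_centralizer_subtype, ← hC,
      ← Nat.card_congr (subgroupOfEquivOfLe (inf_le_right : (Q : Subgroup G) ⊓ C ≤ C)).toEquiv,
      hle, R.card_eq_multiplicity, hc]
  have h2 := index_commutator_eq Q.2 hcard
  rw [relIndex_commutator_eq, ← h2]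
  let e := Sylow.equiv P Q
  have hm : commutator (Q : Subgroup G) = (commutator (P : Subgroup G)).map e.toMonoidHom := by
    rw [_root_.commutator_def, commutator_def, map_commutator,
      map_top_of_surjective e.toMonoidHom e.surjective]
  rw [hm, index_map_of_bijective (f := e.toMonoidHom) e.bijective]

variable (P : Sylow p G)

/-- The `p`-part of an inclusion into a normal subgroup. -/
theorem card_inf_eq (N : Subgroup G) [N.Normal] :
    Nat.card (N.subgroupOf (P : Subgroup G)) = p ^ (Nat.card N).factorization p := by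
  obtain ⟨T, hT⟩ := CfsgLib.LocalEven.exists_sylow_eq_inf_of_isSubnormal P
    (K := N) (Subgroup.Normal.isSubnormal ‹N.Normal›)
  rw [← T.card_eq_multiplicity, ← card_map_of_injective (K := (T : Subgroup N)) N.subtype_injective,
    hT, subgroupOf_map_subtype, ← card_map_of_injective (K := N.subgroupOf (P : Subgroup G)) (P : Subgroup G).subtype_injective,
    subgroupOf_map_subtype, inf_comm]

/-- A normal subgroup of index `p` in the Sylow subgroup with small fixed `p`-subgroups. -/
theorem factorization_centralizer_eq_two (h3 : p ^ 3 ≤ Nat.card (P : Subgroup G))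
    (N : Subgroup G) [N.Normal] (hidx : (N.subgroupOf (P : Subgroup G)).index = p)
    (y : (P : Subgroup G)) (hfix : ∀ R : Subgroup G, IsPGroup p R → R ≤ N →
      R ≤ centralizer ({(y : G)} : Set G) → Nat.card R ≤ p) :
    (Nat.card (centralizer ({(y : G)} : Set G))).factorization p = 2 := by
  set C := centralizer ({(y : G)} : Set G) with hC
  obtain ⟨R₀⟩ : Nonempty (Sylow p C) := inferInstance
  set R : Subgroup G := (R₀ : Subgroup C).map C.subtype with hRdef
  have hRp : IsPGroup p R := R₀.2.map _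
  have hRC : R ≤ C := map_subtype_le _
  have hcard : Nat.card R = p ^ (Nat.card C).factorization p := by
    rw [hRdef, card_map_of_injective C.subtype_injective, R₀.card_eq_multiplicity]
  have hi : N.index.factorization p = 1 := by
    have h1 := (N.subgroupOf (P : Subgroup G)).card_mul_index
    rw [hidx, card_inf_eq, P.card_eq_multiplicity, ← pow_succ] at h1
    have h2 := Nat.pow_right_injective hp.out.two_le h1
    have h4 : (Nat.card N).factorization p + N.index.factorization p =
        (Nat.card G).factorization p := by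
      rw [← N.card_mul_index, Nat.factorization_mul Nat.card_pos.ne'
        Subgroup.FiniteIndex.index_ne_zero, Finsupp.add_apply]
    omega
  have hrel : N.relIndex R ≤ p := by
    obtain ⟨j, hj⟩ := hRp.index (N.subgroupOf R)
    have hd : p ^ j ∣ N.index := hj ▸ relIndex_dvd_index_of_normal N R
    have := (Nat.Prime.pow_dvd_iff_le_factorization hp.out Subgroup.FiniteIndex.index_ne_zero).1 hd
    rw [show N.relIndex R = p ^ j from hj]
    calc p ^ j ≤ p ^ 1 := Nat.pow_le_pow_right hp.out.pos (by omega)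
      _ = p := pow_one p
  have hup : Nat.card R ≤ p ^ 2 := by
    have h1 := (N.subgroupOf R).card_mul_index
    rw [← h1, sq]
    refine Nat.mul_le_mul ?_ hrel
    rw [← card_map_of_injective (K := N.subgroupOf R) R.subtype_injective, subgroupOf_map_subtype]
    exact hfix _ (hRp.to_le inf_le_right) inf_le_left (inf_le_right.trans hRC)
  have hlow : p ^ 2 ≤ Nat.card R := by
    have h1 := sq_le_card_centralizer P.2
      (le_trans (Nat.pow_le_pow_right hp.out.pos (by omega)) h3) y
    rw [card_centralizer_subtype, ← hC] at h1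
    refine h1.trans ?_
    obtain ⟨T, hT⟩ := (((P.2).to_le (inf_le_left :
      (P : Subgroup G) ⊓ C ≤ P)).comap_subtype (K := C)).exists_le_sylow
    calc Nat.card ((P : Subgroup G) ⊓ C : Subgroup G)
        = Nat.card (((P : Subgroup G) ⊓ C).subgroupOf C) :=
          (Nat.card_congr (subgroupOfEquivOfLe inf_le_right).toEquiv).symm
      _ ≤ Nat.card (T : Subgroup C) := card_le_of_le hT
      _ = Nat.card R := by rw [T.card_eq_multiplicity, hcard]
  exact Nat.pow_right_injective hp.out.two_le (hcard.symm.trans (le_antisymm hup hlow))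

/-- Coordinates on a normal subgroup that is a power of a simple group. -/
theorem exists_perm {S₀ : Type*} [Group S₀] [IsSimpleGroup S₀] (hS : ∃ a b : S₀, a * b ≠ b * a)
    {m : ℕ} (N : Subgroup G) [N.Normal] (e : N ≃* (Fin m → S₀)) (g : G) :
    ∃ π : Equiv.Perm (Fin m), ∀ x i,
      orderOf (e (MulAut.conjNormal g (e.symm x)) (π i)) = orderOf (x i) :=
  CfsgLib.Recognition.SimplePower.exists_perm_of_aut hS
    ((e.symm.trans (MulAut.conjNormal g)).trans e)

theorem perm_unique {S₀ : Type*} [Group S₀] [Nontrivial S₀] {m : ℕ}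
    (f : (Fin m → S₀) → (Fin m → S₀)) {π π' : Equiv.Perm (Fin m)}
    (h : ∀ x i, orderOf (f x (π i)) = orderOf (x i))
    (h' : ∀ x i, orderOf (f x (π' i)) = orderOf (x i)) : π = π' := by
  classical
  refine Equiv.ext fun i => ?_
  obtain ⟨s, hs⟩ := exists_ne (1 : S₀)
  by_contra hne
  have h1 := h' (Pi.mulSingle i s) (π'.symm (π i))
  rw [Equiv.apply_symm_apply, h, Pi.mulSingle_eq_same,
    Pi.mulSingle_eq_of_ne (fun e => hne (by rw [← Equiv.apply_symm_apply π' (π i), e])), orderOf_one] at h1
  exact hs (orderOf_eq_one_iff.1 h1)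

theorem exists_centralizer_of_index (hbig : p ^ 2 ≤ Nat.card (P : Subgroup G))
    (hcore : Cfsg.pPrimeCore p G = ⊥)
    (hcore' : (⁅(P : Subgroup G), (P : Subgroup G)⁆).normalCore = ⊥)
    (hnas : ¬ ∃ S : Subgroup G, S.Normal ∧ IsSimpleGroup S ∧ ¬ IsMulCommutative S ∧
      centralizer (S : Set G) = ⊥)
    (hidx : ⁅(P : Subgroup G), (P : Subgroup G)⁆.relIndex (P : Subgroup G) = p ^ 2) :
    ∃ x : G, (∃ k : ℕ, orderOf x = p ^ k) ∧
      (Nat.card (centralizer ({x} : Set G))).factorization p = 2 := by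
  classical
  rw [relIndex_commutator_eq] at hidx
  by_cases hP2 : Nat.card (P : Subgroup G) = p ^ 2
  · refine ⟨1, ⟨0, by simp⟩, ?_⟩
    have : centralizer ({(1 : G)} : Set G) = ⊤ :=
      eq_top_iff.2 fun g _ => mem_centralizer_singleton_iff.2 (by simp)
    rw [this, card_top]
    exact Nat.pow_right_injective hp.out.two_le (P.card_eq_multiplicity.symm.trans hP2)
  have h3 : p ^ 3 ≤ Nat.card (P : Subgroup G) := by
    obtain ⟨n, hn⟩ := P.2.exists_card_eq
    rw [hn] at hbig hP2 ⊢
    have := (Nat.pow_le_pow_iff_right hp.out.one_lt).1 hbig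
    exact Nat.pow_le_pow_right hp.out.pos (by
      rcases eq_or_lt_of_le this with h | h
      · exact absurd (by rw [← h]) hP2
      · omega)
  have hp2 : p < p ^ 2 := by
    rw [sq]; exact lt_mul_of_one_lt_left hp.out.pos hp.out.one_lt
  -- index at least `p ^ 2` for a subgroup of order `p`
  have hsmall : ∀ K : Subgroup (P : Subgroup G), Nat.card K ≤ p → p ^ 2 ≤ K.index := by
    intro K hK
    have h1 := K.card_mul_index
    have h2 : p * p ^ 2 ≤ p * K.index := by
      calc p * p ^ 2 = p ^ 3 := by ring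
        _ ≤ Nat.card K * K.index := h1 ▸ h3
        _ ≤ p * K.index := Nat.mul_le_mul_right _ hK
    exact Nat.le_of_mul_le_mul_left h2 hp.out.pos
  have hdvdN : ∀ N : Subgroup G, N.Normal → N ≠ ⊥ → p ∣ Nat.card N := fun N hN hne => by
    by_contra hd
    exact hne (eq_bot_iff.2 (hcore ▸ le_sSup ⟨hN, Nat.Coprime.symm
      ((hp.out.coprime_iff_not_dvd).2 hd)⟩))
  haveI : Nontrivial G := by
    refine Finite.one_lt_card_iff_nontrivial.1 (lt_of_lt_of_le hp.out.one_lt ?_)
    exact le_trans (le_trans hp2.le hbig) (card_le_card_group _)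
  obtain ⟨N, hN, hNne, hmin⟩ := Solvable.exists_minimal_normal (G := G)
  haveI := hN
  set S := N.subgroupOf (P : Subgroup G) with hS
  -- `S` is not in the commutator subgroup
  have hSne : ¬ S ≤ commutator (P : Subgroup G) := by
    intro hle
    have hle' : N ⊓ (P : Subgroup G) ≤ ⁅(P : Subgroup G), (P : Subgroup G)⁆ := by
      rw [← Subgroup.map_subtype_commutator, ← subgroupOf_map_subtype]
      exact map_mono hle
    obtain ⟨Q, K, hK, hKQ⟩ := Cfsg.Agent.S0081.result P N
      (hle'.trans (CfsgLib.Fusion.commutator_le_map_frattini P.2))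
    have hK' : K = ⊥ := by
      have hindex : K.index = p ^ (Nat.card N).factorization p := by
        rw [← Q.card_eq_multiplicity, hKQ.symm.index_eq_card]
      have hcopK : (Nat.card K).Coprime p := by
        refine Nat.Coprime.symm ((hp.out.coprime_iff_not_dvd).2 fun hd => ?_)
        have h1 := K.card_mul_index
        rw [hindex] at h1
        refine (Nat.pow_succ_factorization_not_dvd (n := Nat.card N) Nat.card_pos.ne' hp.out) ?_
        have h2 := mul_dvd_mul_right hd (p ^ (Nat.card N).factorization p)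
        rw [h1, ← pow_succ'] at h2
        exact h2
      have hchar : K.Characteristic := by
        have hu : ∀ L : Subgroup N, (Nat.card L).Coprime p → L ≤ K := by
          intro L hL l hl
          rw [← QuotientGroup.eq_one_iff, ← orderOf_eq_one_iff]
          refine Nat.eq_one_of_dvd_coprimes (k := orderOf (QuotientGroup.mk (s := K) l))
            (hL.pow_right ((Nat.card N).factorization p)) ?_ ?_
          · exact (orderOf_map_dvd (QuotientGroup.mk' K) l).trans (orderOf_dvd_natCard L hl)
          · rw [← hindex, index_eq_card]; exact _root_.orderOf_dvd_natCard _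
        exact characteristic_iff_map_le.2 fun φ =>
          hu _ (by rwa [card_map_of_injective (f := φ.toMonoidHom) φ.injective])
      by_contra hne
      have hmapne : K.map N.subtype ≠ ⊥ := fun h => hne
        (map_injective N.subtype_injective (h.trans (Subgroup.map_bot _).symm))
      have hd := hdvdN (K.map N.subtype) inferInstance hmapne
      rw [card_map_of_injective N.subtype_injective] at hd
      exact ((hp.out.coprime_iff_not_dvd).1 hcopK.symm) hd
    have hNp : IsPGroup p N := by
      rw [hK'] at hKQ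
      have hQ : (Q : Subgroup N) = ⊤ := isComplement'_bot_left.1 hKQ
      exact (hQ ▸ Q.2).of_equiv topEquiv
    have hNP : N ≤ P := hNp.le_sylow_of_normal P
    rw [inf_eq_left.2 hNP] at hle'
    exact hNne (eq_bot_iff.2 (hcore' ▸ normal_le_normalCore.2 hle'))
  -- `|P : S| ≤ p`
  have hSidx : S.index = 1 ∨ S.index = p := by
    obtain ⟨j, hj⟩ := P.2.index S
    have : ¬ p ^ 2 ≤ S.index := fun h => hSne (le_commutator_of_sq_le_index P.2 hidx S h)
    rcases j with _ | _ | j
    · exact Or.inl (by rw [hj, pow_zero])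
    · exact Or.inr (by rw [hj, pow_one])
    · exact absurd (hj ▸ Nat.pow_le_pow_right hp.out.pos (by omega)) this
  by_cases hab : IsMulCommutative N
  · -- abelian
    have hcN : ∀ a ∈ N, ∀ b ∈ N, a * b = b * a := fun a ha b hb =>
      congrArg Subtype.val ((IsMulCommutative.is_comm (M := N)).comm ⟨a, ha⟩ ⟨b, hb⟩)
    have hSab : ∀ a ∈ S, ∀ b ∈ S, a * b = b * a := fun a ha b hb =>
      Subtype.ext (hcN _ ha _ hb)
    have hNP : N ≤ P := by
      obtain ⟨q, a, hq, ha, hNq, hcard⟩ := Solvable.exists_pow_card_of_minimal_normal N hNne hmin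
        (isSolvable_of_comm fun a b => Subtype.ext (hcN _ a.2 _ b.2))
      have hd := hdvdN N hN hNne
      rw [hcard] at hd
      obtain rfl : p = q := (Nat.prime_dvd_prime_iff_eq hp.out hq).1 (hp.out.dvd_of_dvd_pow hd)
      exact hNq.le_sylow_of_normal P
    rcases hSidx with h1 | h1
    · exfalso
      rw [index_eq_one] at h1
      have hcomm : commutator (P : Subgroup G) = ⊥ := by
        rw [_root_.commutator_def, eq_bot_iff, commutator_le]
        exact fun a _ b _ => commutatorElement_eq_one_iff_mul_comm.2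
          (hSab a (h1 ▸ mem_top a) b (h1 ▸ mem_top b))
      rw [hcomm, index_bot] at hidx
      exact hP2 hidx
    · obtain ⟨y, hy⟩ : ∃ y : (P : Subgroup G), y ∉ S := by
        by_contra hcon
        push Not at hcon
        rw [index_eq_one.2 (eq_top_iff.2 fun g _ => hcon g)] at h1
        exact hp.out.one_lt.ne h1
      refine ⟨y, (IsPGroup.iff_orderOf.1 P.2 y).imp fun k hk => by rw [Subgroup.orderOf_coe]; exact hk, ?_⟩
      refine factorization_centralizer_eq_two P h3 N h1 y fun R _ hRN hRC => ?_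
      rw [← Nat.card_congr (subgroupOfEquivOfLe (hRN.trans hNP)).toEquiv]
      refine card_fixed_le hidx hSab h1 hy (comap_mono hRN) fun r hr => ?_
      exact Subtype.ext (mem_centralizer_singleton_iff.1 (hRC hr)).symm
  -- nonabelian
  by_cases hCN : centralizer (N : Set G) = ⊥
  swap
  · exfalso
    obtain ⟨M, hM, hMne, hMC, -⟩ := Solvable.exists_minimal_normal_le _ hCN
    have hbot : M ⊓ N = ⊥ := by
      rcases hmin (M ⊓ N) inferInstance inf_le_right with h | h
      · exact h
      · refine absurd ⟨⟨fun a b => Subtype.ext ?_⟩⟩ hab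
        exact mem_centralizer_iff.1 (hMC ((inf_eq_right.1 h) b.2)) a a.2
    set SM := M.subgroupOf (P : Subgroup G) with hSM
    have hd : p ≤ Nat.card SM := by
      rw [hSM, card_inf_eq]
      refine Nat.le_of_dvd (pow_pos hp.out.pos _) (dvd_pow_self p ?_)
      exact (hp.out.factorization_pos_of_dvd Nat.card_pos.ne' (hdvdN M hM hMne)).ne'
    have hinf : SM ⊓ S = ⊥ := by
      rw [eq_bot_iff]
      rintro a ⟨ha, ha'⟩
      exact Subtype.ext (mem_bot.1 (hbot ▸ mem_inf.2 ⟨ha, ha'⟩))
    have hSM' : Nat.card SM ≤ S.index := by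
      rw [index_eq_card]
      refine Nat.card_le_card_of_injective (fun a => QuotientGroup.mk (s := S) (a : (P : Subgroup G))) ?_
      intro a b h
      have h' : (a : (P : Subgroup G))⁻¹ * b ∈ SM ⊓ S :=
        ⟨SM.mul_mem (SM.inv_mem a.2) b.2, QuotientGroup.eq.1 h⟩
      rw [hinf, mem_bot, inv_mul_eq_one] at h'
      exact Subtype.ext h'
    have hidx' : S.index = p := hSidx.resolve_left fun h1 => by
      have := hp.out.one_lt
      omega
    have hSMp : Nat.card SM = p := le_antisymm (hSM'.trans hidx'.le) hd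
    have h1 := le_commutator_of_sq_le_index P.2 hidx SM (hsmall SM hSMp.le)
    have h2 : commutator (P : Subgroup G) ≤ S := by
      rw [_root_.commutator_def, commutator_le]
      intro a _ b _
      rw [← QuotientGroup.eq_one_iff, ← QuotientGroup.mk'_apply, map_commutatorElement]
      haveI : IsCyclic ((P : Subgroup G) ⧸ S) :=
        isCyclic_of_prime_card (p := p) (by rw [← index_eq_card, hidx'])
      exact commutatorElement_eq_one_iff_mul_comm.2
        ((IsMulCommutative.is_comm (M := (P : Subgroup G) ⧸ S)).comm _ _)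
    have hle : SM = ⊥ := eq_bot_iff.2 fun a ha => hinf ▸ mem_inf.2 ⟨ha, h2 (h1 ha)⟩
    rw [hle, card_bot] at hSMp
    exact hp.out.one_lt.ne hSMp
  haveI : Nontrivial N := N.nontrivial_iff_ne_bot.2 hNne
  have hcharN : ∀ H : Subgroup N, H.Characteristic → H = ⊥ ∨ H = ⊤ := by
    intro H hH
    haveI := hH
    rcases hmin (H.map N.subtype) inferInstance (map_subtype_le H) with h | h
    · exact Or.inl (map_injective N.subtype_injective (h.trans (Subgroup.map_bot _).symm))
    · refine Or.inr (map_injective N.subtype_injective (h.trans ?_))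
      rw [← MonoidHom.range_eq_map, range_subtype]
  obtain ⟨S₀, _, _, m, hm1, ⟨e⟩⟩ := CfsgLib.Classical22.charSimple_iff.1 hcharN
  have hS₀ : ∃ a b : S₀, a * b ≠ b * a := by
    by_contra hcon
    push Not at hcon
    exact hab ⟨⟨fun a b => e.injective (by rw [map_mul, map_mul]; funext i; exact hcon _ _)⟩⟩
  have hm : 2 ≤ m := by
    by_contra hlt
    obtain rfl : m = 1 := by omega
    refine hnas ⟨N, hN, ?_, hab, hCN⟩
    let e' : N ≃* S₀ := e.trans (MulEquiv.funUnique (Fin 1) S₀)
    exact IsSimpleGroup.isSimpleGroup_of_surjective e'.symm.toMonoidHom e'.symm.surjective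
  haveI : Finite (Fin m → S₀) := Finite.of_equiv _ e.toEquiv
  haveI : Finite S₀ := Finite.of_injective
    (fun s : S₀ => (Pi.mulSingle (⟨0, by omega⟩ : Fin m) s : Fin m → S₀))
    (Pi.mulSingle_injective (M := fun _ : Fin m => S₀) _)
  -- the Sylow subgroup in coordinates
  let ι : (Fin m → S₀) →* G := N.subtype.comp e.symm.toMonoidHom
  have hι : Function.Injective ι := N.subtype_injective.comp e.symm.injective
  have hιN : ∀ x, ι x ∈ N := fun x => (e.symm x).2
  set V : Subgroup (Fin m → S₀) := (P : Subgroup G).comap ι with hVdef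
  have hV : IsPGroup p V := P.2.comap_of_injective ι hι
  have hιe : ∀ n : N, ι (e n) = (n : G) := fun n => congrArg Subtype.val (e.symm_apply_apply n)
  have hrange : ι.range = N := by
    rw [MonoidHom.range_comp, MonoidHom.range_eq_top_of_surjective _ e.symm.surjective,
      ← MonoidHom.range_eq_map, range_subtype]
  have hVS : V.map ι = N ⊓ (P : Subgroup G) := by rw [map_comap_eq, hrange]
  have hVcard : Nat.card V = Nat.card S := by
    rw [← card_map_of_injective (K := V) hι, hVS, ← subgroupOf_map_subtype,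
      card_map_of_injective (P : Subgroup G).subtype_injective]
  have hmax : ∀ W : Subgroup (Fin m → S₀), IsPGroup p W → V ≤ W → W = V := by
    intro W hW hVW
    refine (eq_of_le_of_card_ge hVW ?_).symm
    obtain ⟨T, hT⟩ := (hW.map e.symm.toMonoidHom).exists_le_sylow
    rw [hVcard, hS, card_inf_eq, ← T.card_eq_multiplicity]
    exact (card_map_of_injective (K := W) e.symm.injective).symm.le.trans (card_le_of_le hT)
  choose π hπ using exists_perm hS₀ N e
  have hπeq : ∀ g σ, (∀ x i, orderOf (e (MulAut.conjNormal g (e.symm x)) (σ i)) = orderOf (x i)) →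
      π g = σ := fun g σ h => perm_unique _ (hπ g) h
  have hπmul : ∀ g h : G, π (g * h) = π g * π h := fun g h => hπeq _ _ fun x i => by
    have h1 := hπ g (e (MulAut.conjNormal h (e.symm x))) (π h i)
    rw [hπ h x i, MulEquiv.symm_apply_apply] at h1
    rw [map_mul]
    exact h1
  have hπN : ∀ n ∈ N, π n = 1 := fun n hn => hπeq _ _ fun x i => by
    have : MulAut.conjNormal n (e.symm x) = (⟨n, hn⟩ : N) * e.symm x * (⟨n, hn⟩ : N)⁻¹ :=
      Subtype.ext rfl
    rw [this, map_mul, map_mul, map_inv, MulEquiv.apply_symm_apply]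
    exact (MulEquiv.orderOf_eq (MulAut.conj (e ⟨n, hn⟩ i)) (x i))
  have hsupp : ∀ (g : G) (x : Fin m → S₀) i,
      e (MulAut.conjNormal g (e.symm x)) (π g i) = 1 ↔ x i = 1 := fun g x i => by
    rw [← orderOf_eq_one_iff, hπ g x i, orderOf_eq_one_iff]
  -- supported subgroups
  let WJ : Set (Fin m) → Subgroup (P : Subgroup G) := fun J =>
    ((Subgroup.pi Jᶜ fun _ => (⊥ : Subgroup S₀)).map ι).subgroupOf (P : Subgroup G)
  have hWS : ∀ J, WJ J ≤ S := fun J a ha => by
    obtain ⟨x, -, hx⟩ := mem_map.1 (mem_subgroupOf.1 ha)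
    exact mem_subgroupOf.2 (hx ▸ hιN x)
  have hWmem : ∀ (J) (a : (P : Subgroup G)) (ha : a ∈ S),
      a ∈ WJ J ↔ ∀ i ∉ J, e ⟨a, ha⟩ i = 1 := fun J a ha => by
    constructor
    · intro h i hi
      obtain ⟨x, hx, hxa⟩ := mem_map.1 (mem_subgroupOf.1 h)
      have : e ⟨a, ha⟩ = x := by rw [← e.apply_symm_apply x]; congr 1; exact Subtype.ext hxa.symm
      rw [this]; exact hx i hi
    · intro h
      exact mem_subgroupOf.2 ⟨e ⟨a, ha⟩, fun i hi => h i hi, by simp [ι]⟩
  have hWnormal : ∀ J : Set (Fin m), (∀ g : (P : Subgroup G), ∀ i, π g i ∈ J ↔ i ∈ J) →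
      (WJ J).Normal := by
    intro J hJ
    refine ⟨fun a ha g => ?_⟩
    have haS := hWS J ha
    have hgS : g * a * g⁻¹ ∈ S := Subgroup.Normal.conj_mem inferInstance a haS g
    rw [hWmem J _ hgS]
    intro i hi
    obtain ⟨k, rfl⟩ := (π g).surjective i
    have hk : k ∉ J := fun h => hi ((hJ g k).2 h)
    have h1 := (hsupp g (e ⟨a, haS⟩) k).2 ((hWmem J a haS).1 ha k hk)
    rw [MulEquiv.symm_apply_apply] at h1
    exact h1
  have hWbot : ∀ J, WJ J ⊓ WJ Jᶜ = ⊥ := fun J => by
    rw [eq_bot_iff]
    rintro a ⟨ha, ha'⟩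
    have haS := hWS J ha
    have : e ⟨a, haS⟩ = 1 := funext fun i => by
      by_cases hi : i ∈ J
      · exact (hWmem _ a haS).1 ha' i (fun h => h hi)
      · exact (hWmem _ a haS).1 ha i hi
    exact Subtype.ext (congrArg (fun z : N => (z : G)) ((map_eq_one_iff e e.injective).1 this))
  have hWtop : ∀ J, S ≤ WJ J ⊔ WJ Jᶜ := fun J a ha => by
    have hx : e ⟨a, ha⟩ ∈ V := by
      rw [hVdef, mem_comap]; simp [ι]
    set x := e ⟨a, ha⟩ with hxdef
    set y := fun i => if i ∈ J then x i else 1 with hydef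
    have hy : y ∈ V := split_mem hV hmax hx (· ∈ J)
    have hyW : (⟨ι y, hy⟩ : (P : Subgroup G)) ∈ WJ J :=
      mem_subgroupOf.2 ⟨y, fun i hi => by simp [hydef, (Set.mem_compl_iff _ _).1 hi], rfl⟩
    have hzW : (⟨ι (y⁻¹ * x), mul_mem (inv_mem hy) hx⟩ : (P : Subgroup G)) ∈ WJ Jᶜ :=
      mem_subgroupOf.2 ⟨y⁻¹ * x, fun i hi => by
        simp only [compl_compl] at hi
        simp [hydef, hi], rfl⟩
    have : a = (⟨ι y, hy⟩ : (P : Subgroup G)) * ⟨ι (y⁻¹ * x), mul_mem (inv_mem hy) hx⟩ :=
      Subtype.ext (by simp [ι, hxdef])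
    rw [this]
    exact mul_mem (mem_sup_left hyW) (mem_sup_right hzW)
  have hWcard : ∀ J, Nat.card (WJ J) * Nat.card (WJ Jᶜ) ≤ Nat.card S := fun J => by
    rw [← Nat.card_prod]
    refine Nat.card_le_card_of_injective
      (fun ab => (⟨ab.1 * ab.2, mul_mem (hWS _ ab.1.2) (hWS _ ab.2.2)⟩ : S)) ?_
    intro ab cd h
    have h1 : (ab.1 : (P : Subgroup G)) * ab.2 = cd.1 * cd.2 := congrArg Subtype.val h
    have h2 : (cd.1 : (P : Subgroup G))⁻¹ * ab.1 = cd.2 * (ab.2 : (P : Subgroup G))⁻¹ := by
      rw [inv_mul_eq_iff_eq_mul, ← mul_assoc, ← h1, mul_inv_cancel_right]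
    have h3 : (cd.1 : (P : Subgroup G))⁻¹ * ab.1 ∈ WJ J ⊓ WJ Jᶜ :=
      ⟨(WJ J).mul_mem ((WJ J).inv_mem cd.1.2) ab.1.2,
        h2 ▸ (WJ Jᶜ).mul_mem cd.2.2 ((WJ Jᶜ).inv_mem ab.2.2)⟩
    rw [hWbot, mem_bot, inv_mul_eq_one] at h3
    rw [← h3, mul_right_inj] at h1
    exact Prod.ext (Subtype.ext h3.symm) (Subtype.ext h1)
  have hproj : ∀ i, p ≤ Nat.card (proj V i) := fun i => by
    have hd : p ∣ Nat.card S₀ := by
      have h := hdvdN N hN hNne
      rw [Nat.card_congr e.toEquiv, Nat.card_fun] at h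
      exact hp.out.dvd_of_dvd_pow h
    obtain ⟨t, ht⟩ := exists_prime_orderOf_dvd_card' p hd
    rw [← ht, ← Nat.card_zpowers]
    exact card_le_proj hV hmax i (IsPGroup.of_card (n := 1) (by
      rw [Nat.card_zpowers, ht, pow_one]))
  have hWproj : ∀ J i, i ∈ J → Nat.card (proj V i) ≤ Nat.card (WJ J) := fun J i hi => by
    refine Nat.card_le_card_of_injective (fun t => ⟨⟨ι (Pi.mulSingle i t.1), mulSingle_mem hV hmax t.2⟩,
      mem_subgroupOf.2 ⟨Pi.mulSingle i t.1, fun k hk => ?_, rfl⟩⟩) ?_
    · exact Pi.mulSingle_eq_of_ne (fun h => hk (by rw [h]; exact hi)) _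
    · intro a b h
      exact Subtype.ext (Pi.mulSingle_injective (M := fun _ : Fin m => S₀) i
        (hι (congrArg (fun z => ((z.1 : (P : Subgroup G)) : G)) h)))
  have hbig_le : ∀ J : Set (Fin m), (∀ g : (P : Subgroup G), ∀ i, π g i ∈ J ↔ i ∈ J) →
      p ^ 2 ≤ Nat.card (WJ Jᶜ) * S.index → WJ J ≤ commutator (P : Subgroup G) := by
    intro J hJ hb
    haveI := hWnormal J hJ
    refine le_commutator_of_sq_le_index P.2 hidx _ (hb.trans ?_)
    refine Nat.le_of_mul_le_mul_left ?_ (Nat.card_pos (α := WJ J))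
    rw [(WJ J).card_mul_index, ← mul_assoc, ← S.card_mul_index]
    exact Nat.mul_le_mul_right _ (hWcard J)
  rcases hSidx with h1 | h1
  · -- `P ≤ N`
    exfalso
    have hSP : S = ⊤ := index_eq_one.1 h1
    have hinv : ∀ (J : Set (Fin m)) (g : (P : Subgroup G)) i, π g i ∈ J ↔ i ∈ J := fun J g i => by
      rw [hπN g (mem_subgroupOf.1 (show g ∈ S by rw [hSP]; exact mem_top g))]; rfl
    -- all coordinates but one lie in the commutator subgroup
    have key : ∀ i j : Fin m, i ≠ j → WJ {i} ≤ commutator (P : Subgroup G) ∨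
        (Nat.card (WJ ({i}ᶜ)) ≤ p) := fun i j hij => by
      by_cases hle : Nat.card (WJ ({i}ᶜ)) ≤ p
      · exact Or.inr hle
      · refine Or.inl (hbig_le _ (hinv _) ?_)
        rw [h1, mul_one]
        exact pow_two_le_of_lt P.2 (not_le.1 hle)
    -- a coordinate never lies in the commutator subgroup
    have hnot : ∀ i, ¬ WJ {i} ≤ commutator (P : Subgroup G) := by
      intro i hle
      let f : (P : Subgroup G) →* S₀ := (Pi.evalMonoidHom (fun _ : Fin m => S₀) i).comp
        (e.toMonoidHom.comp ((P : Subgroup G).subtype.codRestrict N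
          fun a => mem_subgroupOf.1 (show a ∈ S by rw [hSP]; exact mem_top a)))
      have hf : f.range = proj V i := by
        ext t
        constructor
        · rintro ⟨a, rfl⟩
          exact ⟨_, show ι (e _) ∈ (P : Subgroup G) by rw [hιe]; exact a.2, rfl⟩
        · rintro ⟨x, hx, rfl⟩
          refine ⟨⟨ι x, hx⟩, ?_⟩
          change e (e.symm x) i = x i
          rw [e.apply_symm_apply]
      have h2 : proj V i ≤ ⁅proj V i, proj V i⁆ := by
        intro t ht
        have hmem : (⟨ι (Pi.mulSingle i t), mulSingle_mem hV hmax ht⟩ : (P : Subgroup G)) ∈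
            WJ {i} := mem_subgroupOf.2 ⟨Pi.mulSingle i t, fun k hk => Pi.mulSingle_eq_of_ne hk _, rfl⟩
        have h3 := mem_map_of_mem f (hle hmem)
        rw [_root_.commutator_def, map_commutator, ← MonoidHom.range_eq_map, hf] at h3
        convert h3 using 1
        change t = e ⟨ι (Pi.mulSingle i t), _⟩ i
        have : (⟨ι (Pi.mulSingle i t), hιN _⟩ : N) = e.symm (Pi.mulSingle i t) := rfl
        rw [this, e.apply_symm_apply, Pi.mulSingle_eq_same]
      have hpp : IsPGroup p (proj V i) := hV.map _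
      have hnil := hpp.isNilpotent
      have hne : proj V i ≠ ⊥ := fun h => by
        have := hproj i
        rw [h, card_bot] at this
        exact absurd this (not_le.2 hp.out.one_lt)
      have hsol : Group.IsSolvable (proj V i) := by haveI := hpp.isNilpotent; infer_instance
      exact (Solvable.commutator_self_lt hsol hne).not_ge h2
    have key2 : ∀ i j : Fin m, i ≠ j → Nat.card (WJ ({i}ᶜ)) ≤ p := fun i j hij =>
      (key i j hij).resolve_left (hnot i)
    obtain ⟨i, j, hij⟩ : ∃ i j : Fin m, i ≠ j :=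
      ⟨⟨0, by omega⟩, ⟨1, by omega⟩, by simp [Fin.ext_iff]⟩
    have hcardle : Nat.card (P : Subgroup G) ≤ p ^ 2 := by
      have h5 := key2 i j hij
      have h6 := key2 j i (Ne.symm hij)
      have h7 : WJ {i} ≤ WJ ({j}ᶜ) := fun a ha => by
        have haS := hWS _ ha
        rw [hWmem _ a haS]
        intro k hk
        simp only [Set.mem_compl_iff, Set.mem_singleton_iff, not_not] at hk
        exact (hWmem _ a haS).1 ha k (by simp [hk, Ne.symm hij])
      have h8 : ∀ a, a ∈ WJ {i} ⊔ WJ ({i}ᶜ) := fun a => hWtop {i} (hSP ▸ mem_top a)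
      haveI := hWnormal {i} (hinv _)
      haveI := hWnormal ({i}ᶜ) (hinv _)
      calc Nat.card (P : Subgroup G)
          = Nat.card (WJ {i} ⊔ WJ ({i}ᶜ) : Subgroup (P : Subgroup G)) := by
            rw [(eq_top_iff.2 fun a _ => h8 a : WJ {i} ⊔ WJ ({i}ᶜ) = ⊤), card_top]
        _ ≤ Nat.card (WJ {i}) * Nat.card (WJ ({i}ᶜ)) := by
            rw [← Nat.card_prod]
            refine Nat.card_le_card_of_surjective (fun ab => ⟨ab.1 * ab.2,
              mul_mem (mem_sup_left ab.1.2) (mem_sup_right ab.2.2)⟩) fun c => ?_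
            obtain ⟨a, ha, b, hb, hab'⟩ := mem_sup_of_normal_left.1 c.2
            exact ⟨(⟨a, ha⟩, ⟨b, hb⟩), Subtype.ext hab'⟩
        _ ≤ p * p := Nat.mul_le_mul ((card_le_of_le h7).trans h6) h5
        _ = p ^ 2 := (sq p).symm
    exact absurd (h3.trans hcardle) (not_le.2 (Nat.pow_lt_pow_right hp.out.one_lt (by omega)))
  -- `|P : S| = p`
  obtain ⟨y, hy⟩ : ∃ y : (P : Subgroup G), y ∉ S := by
    by_contra hcon
    push Not at hcon
    rw [index_eq_one.2 (eq_top_iff.2 fun g _ => hcon g)] at h1
    exact hp.out.one_lt.ne h1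
  have hπ1 : π 1 = 1 := hπN 1 (one_mem _)
  have hπy : ∀ j : ℕ, π ((y : G) ^ j) = π y ^ j := fun j => by
    induction j with
    | zero => simp [hπ1]
    | succ j ih => rw [pow_succ, pow_succ, hπmul, ih]
  have hπP : ∀ g : (P : Subgroup G), ∃ j : ℕ, π g = π y ^ j := fun g => by
    obtain ⟨s, hs, j, rfl⟩ := exists_mul_pow h1 hy g
    refine ⟨j, ?_⟩
    rw [Subgroup.coe_mul, Subgroup.coe_pow, hπmul, hπN s (mem_subgroupOf.1 hs), one_mul, hπy]
  have hyp : y ^ p ∈ S := by
    rw [← QuotientGroup.eq_one_iff, QuotientGroup.mk_pow]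
    have := pow_card_eq_one' (x := ((y : (P : Subgroup G)) : (P : Subgroup G) ⧸ S))
    rwa [← index_eq_card, h1] at this
  have hπp : π y ^ p = 1 := by
    rw [← hπy, ← Subgroup.coe_pow]
    exact hπN _ (mem_subgroupOf.1 hyp)
  let i₀ : Fin m := ⟨0, by omega⟩
  let J : Set (Fin m) := {i | ∃ j : ℕ, (π y ^ j) i₀ = i}
  have hJinv : ∀ g : (P : Subgroup G), ∀ i, π g i ∈ J ↔ i ∈ J := fun g i => by
    obtain ⟨j, hj⟩ := hπP g
    constructor
    · rintro ⟨k, hk⟩
      refine ⟨k + j * (p - 1), ?_⟩
      rw [hj] at hk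
      have hcancel : (π y ^ (j * (p - 1))) ((π y ^ j) i) = i := by
        rw [← Equiv.Perm.mul_apply, ← pow_add, ← Nat.mul_succ,
          show (p - 1).succ = p from by have := hp.out.pos; omega, mul_comm, pow_mul, hπp, one_pow]
        rfl
      rw [add_comm, pow_add, Equiv.Perm.mul_apply, hk, hcancel]
    · rintro ⟨k, rfl⟩
      exact ⟨j + k, by rw [hj, pow_add, Equiv.Perm.mul_apply]⟩
  have hJ : ∀ i, i ∈ J := by
    intro i
    by_contra hi
    have hJc : ∀ g : (P : Subgroup G), ∀ k, π g k ∈ Jᶜ ↔ k ∈ Jᶜ := fun g k => not_congr (hJinv g k)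
    have hi₀ : i₀ ∈ J := ⟨0, by simp⟩
    have e1 : p ^ 2 ≤ Nat.card (WJ Jᶜ) * S.index := by
      rw [h1, sq]
      exact Nat.mul_le_mul_right _ ((hproj i).trans (hWproj Jᶜ i hi))
    have e2 : p ^ 2 ≤ Nat.card (WJ Jᶜᶜ) * S.index := by
      rw [h1, sq, compl_compl]
      exact Nat.mul_le_mul_right _ ((hproj i₀).trans (hWproj J i₀ hi₀))
    exact hSne ((hWtop J).trans (sup_le (hbig_le J hJinv e1) (hbig_le Jᶜ hJc e2)))
  have hfree : ∀ j : ℕ, 0 < j → j < p → (π y ^ j) i₀ ≠ i₀ := by
    intro j hj0 hjp hfix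
    have hmove : π y i₀ ≠ i₀ := by
      intro h
      obtain ⟨k, hk⟩ := hJ (⟨1, by omega⟩ : Fin m)
      rw [Equiv.Perm.pow_apply_eq_self_of_apply_eq_self h k] at hk
      simp [i₀, Fin.ext_iff] at hk
    have hper : Function.minimalPeriod (π y) i₀ = p := by
      have hd : Function.IsPeriodicPt (π y) p i₀ := by
        rw [Function.IsPeriodicPt, Function.IsFixedPt, ← Equiv.Perm.coe_pow, hπp]; rfl
      rcases (Nat.dvd_prime hp.out).1 hd.minimalPeriod_dvd with h | h
      · exact absurd (Function.minimalPeriod_eq_one_iff_isFixedPt.1 h) hmove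
      · exact h
    have : Function.IsPeriodicPt (π y) j i₀ := by
      rw [Function.IsPeriodicPt, Function.IsFixedPt, ← Equiv.Perm.coe_pow, hfix]
    have := hper ▸ this.minimalPeriod_dvd
    exact absurd (Nat.le_of_dvd hj0 this) (not_le.2 hjp)
  -- the transfer-like homomorphism to the abelianization of one factor
  set Q := proj V i₀ with hQ
  let c : S →* Q :=
    ((Pi.evalMonoidHom (fun _ : Fin m => S₀) i₀).comp (e.toMonoidHom.comp
      (((P : Subgroup G).subtype.comp S.subtype).codRestrict N fun a => mem_subgroupOf.1 a.2))).codRestrict Q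
      fun a => ⟨_, show ι (e _) ∈ (P : Subgroup G) by rw [hιe]; exact a.1.2, rfl⟩
  let Θ : S →* Abelianization Q :=
    MonoidHom.mk' (fun a => ∏ j ∈ Finset.range p, Abelianization.of (c (MulAut.conjNormal (y ^ j) a)))
      fun a b => by simp only [map_mul, Finset.prod_mul_distrib]
  have hΘy : ∀ a : S, Θ (MulAut.conjNormal y a) = Θ a := by
    intro a
    let F : ℕ → Abelianization Q := fun j => Abelianization.of (c (MulAut.conjNormal (y ^ j) a))
    have hFp : F p = F 0 := by
      have : MulAut.conjNormal (y ^ p) a = (⟨y ^ p, hyp⟩ : S) * a * (⟨y ^ p, hyp⟩ : S)⁻¹ :=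
        Subtype.ext rfl
      change Abelianization.of (c _) = Abelianization.of (c _)
      rw [this, map_mul, map_mul, map_inv, map_mul, map_mul, map_inv, mul_inv_cancel_comm, pow_zero,
        map_one, MulAut.one_apply]
    have e1 : Θ (MulAut.conjNormal y a) = ∏ j ∈ Finset.range p, F (j + 1) := by
      change ∏ j ∈ Finset.range p,
        Abelianization.of (c (MulAut.conjNormal (y ^ j) (MulAut.conjNormal y a))) = _
      refine Finset.prod_congr rfl fun j _ => ?_
      rw [← MulAut.mul_apply, ← map_mul, ← pow_succ]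
    rw [e1]
    have h2 := Finset.prod_range_succ' F p
    rw [Finset.prod_range_succ, hFp] at h2
    exact (mul_right_cancel h2).symm
  have hΘ : ∀ (g : (P : Subgroup G)) (a : S), Θ (MulAut.conjNormal g a) = Θ a := by
    intro g a
    obtain ⟨s, hs, j, rfl⟩ := exists_mul_pow h1 hy g
    have hj : ∀ (j : ℕ) (b : S), Θ (MulAut.conjNormal (y ^ j) b) = Θ b := by
      intro j
      induction j with
      | zero => simp
      | succ j ih => intro b; rw [pow_succ, map_mul, MulAut.mul_apply, ih, hΘy]
    have hs' : ∀ b : S, MulAut.conjNormal s b = (⟨s, hs⟩ : S) * b * (⟨s, hs⟩ : S)⁻¹ :=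
      fun b => Subtype.ext rfl
    rw [map_mul, MulAut.mul_apply, hs', map_mul, map_mul, map_inv, mul_inv_cancel_comm, hj]
  have hΘsurj : Function.Surjective Θ := by
    intro z
    obtain ⟨t, rfl⟩ : ∃ t, Abelianization.of t = z := QuotientGroup.mk'_surjective _ z
    refine ⟨⟨⟨ι (Pi.mulSingle i₀ t.1), mulSingle_mem hV hmax t.2⟩, mem_subgroupOf.2 (hιN _)⟩, ?_⟩
    change ∏ j ∈ Finset.range p, _ = _
    rw [Finset.prod_eq_single 0]
    · congr 1
      refine Subtype.ext ?_
      simp only [pow_zero, map_one, MulAut.one_apply]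
      change e ⟨ι (Pi.mulSingle i₀ t.1), _⟩ i₀ = t.1
      have : (⟨ι (Pi.mulSingle i₀ t.1), hιN _⟩ : N) = e.symm (Pi.mulSingle i₀ t.1) := rfl
      rw [this, e.apply_symm_apply, Pi.mulSingle_eq_same]
    · intro j hj hj0
      have hjp := Finset.mem_range.1 hj
      obtain ⟨k, hk⟩ := (π ((y : G) ^ j)).surjective i₀
      have hk0 : k ≠ i₀ := fun he => hfree j (Nat.pos_of_ne_zero hj0) hjp (by
        rw [← hπy]; exact (congrArg _ he.symm).trans hk)
      have h := (hsupp ((y : G) ^ j) (Pi.mulSingle i₀ t.1) k).2 (Pi.mulSingle_eq_of_ne hk0 _)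
      rw [hk] at h
      rw [← map_one Abelianization.of]
      congr 1
      refine Subtype.ext (Eq.trans ?_ (h.trans Q.coe_one.symm))
      rfl
    · intro h; exact absurd (Finset.mem_range.2 hp.out.pos) h
  let K : Subgroup (P : Subgroup G) := Θ.ker.map S.subtype
  haveI hKn : K.Normal := ⟨by
    rintro _ ⟨a, ha, rfl⟩ g
    exact ⟨MulAut.conjNormal g a, by
      show Θ _ = 1
      rw [hΘ]; exact ha, rfl⟩⟩
  have hKle : commutator (P : Subgroup G) ≤ K := by
    refine commutator_le_of_central h1 hy K fun s hs g => ?_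
    refine ⟨⟨s, hs⟩ * MulAut.conjNormal g (⟨s, hs⟩ : S)⁻¹, ?_, ?_⟩
    · show Θ _ = 1
      rw [map_mul, hΘ, map_inv, mul_inv_cancel]
    · simp [commutatorElement_def, mul_assoc]
  have hQcard : Nat.card Q = p := by
    refine le_antisymm ?_ (hproj i₀)
    by_contra hgt
    have hQp : IsPGroup p Q := hV.map _
    have h5 := CfsgLib.Transfer.prime_sq_le_index_commutator (p := p) hQp
      (pow_two_le_of_lt hQp (H := ⊤) (by rw [card_top]; omega) |>.trans (by rw [card_top]))
    have h4 : K.index ≤ p ^ 2 := hidx ▸ Nat.le_of_dvd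
      (Nat.pos_of_ne_zero Subgroup.FiniteIndex.index_ne_zero) (index_dvd_of_le hKle)
    have h6 : K.index = Θ.ker.index * p := by
      have := relIndex_mul_index (map_subtype_le Θ.ker : K ≤ S)
      rw [h1, relIndex, subgroupOf, comap_map_eq_self_of_injective S.subtype_injective] at this
      exact this.symm
    rw [index_ker, MonoidHom.range_eq_top_of_surjective _ hΘsurj, card_top] at h6
    have h7 : Nat.card (Abelianization Q) = (commutator Q).index := (index_eq_card _).symm
    rw [h6, h7] at h4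
    have : p ^ 2 * p ≤ p ^ 2 * 1 := by
      rw [mul_one]; exact (Nat.mul_le_mul_right p h5).trans h4
    exact absurd (Nat.le_of_mul_le_mul_left this (pow_pos hp.out.pos 2)) (not_le.2 hp.out.one_lt)
  refine ⟨y, (IsPGroup.iff_orderOf.1 P.2 y).imp fun k hk => by rw [Subgroup.orderOf_coe]; exact hk, ?_⟩
  refine factorization_centralizer_eq_two P h3 N h1 y fun R hR hRN hRC => ?_
  let f : R →* S₀ := (Pi.evalMonoidHom (fun _ : Fin m => S₀) i₀).comp
    (e.toMonoidHom.comp (R.subtype.codRestrict N fun r => hRN r.2))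
  have hf : Function.Injective f := by
    rw [← MonoidHom.ker_eq_bot_iff, eq_bot_iff]
    intro r hr
    have hfix : ∀ j : ℕ, MulAut.conjNormal ((y : G) ^ j) (⟨r, hRN r.2⟩ : N) = ⟨r, hRN r.2⟩ := by
      intro j
      refine Subtype.ext ?_
      rw [MulAut.conjNormal_apply]
      rw [((show Commute (r : G) (y : G) from mem_centralizer_singleton_iff.1 (hRC r.2)).pow_right
        j).symm.eq]
      simp
    have hall : e ⟨r, hRN r.2⟩ = 1 := funext fun i => by
      obtain ⟨j, hj⟩ := hJ i
      have h := (hsupp ((y : G) ^ j) (e ⟨r, hRN r.2⟩) i₀).2 hr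
      rw [MulEquiv.symm_apply_apply, hfix, hπy, hj] at h
      exact h
    refine Subtype.ext ?_
    exact congrArg (fun z : N => (z : G)) ((map_eq_one_iff e e.injective).1 hall)
  calc Nat.card R = Nat.card f.range := Nat.card_congr (MonoidHom.ofInjective hf).toEquiv
    _ ≤ Nat.card Q := card_le_proj hV hmax i₀ (hR.of_surjective f.rangeRestrict
        f.rangeRestrict_surjective)
    _ = p := hQcard

end CfsgLib.PGroup.AbelianizationSquare
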