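import Cfsg.Agent.Lib.Fusion.UniTri
import Mathlib

/-!
A `p`-group acting linearly on a space over `ZMod p` is unitriangular in a suitable basis.
-/

set_option autoImplicit false

namespace CfsgLib.PGroup.UniGen

open Matrix

variable {p : ℕ} [hp : Fact p.Prime] {K : Type*} [Group K] [Finite K]
  {V : Type*} [AddCommGroup V] [Module (ZMod p) V] [Finite V]

theorem exists_fixed_outside (hK : IsPGroup p K) (ρ : K →* Module.End (ZMod p) V)
    (W : Submodule (ZMod p) V) (hW : W ≠ ⊤) (hinv : ∀ k, ∀ w ∈ W, ρ k w ∈ W) :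
    ∃ y, y ∉ W ∧ ∀ k, ρ k y - y ∈ W := by
  let q : K → (V ⧸ W) →ₗ[ZMod p] (V ⧸ W) := fun k => W.mapQ W (ρ k) fun w hw => hinv k w hw
  let : MulAction K (V ⧸ W) :=
    { smul := fun k v => q k v
      one_smul := fun v => by
        obtain ⟨x, rfl⟩ := Submodule.Quotient.mk_surjective W v
        show q 1 (Submodule.Quotient.mk x) = _
        simp [q]
      mul_smul := fun k l v => by
        obtain ⟨x, rfl⟩ := Submodule.Quotient.mk_surjective W v
        show q (k * l) (Submodule.Quotient.mk x) = q k (q l (Submodule.Quotient.mk x))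
        simp [q] }
  have : Nontrivial (V ⧸ W) := Submodule.Quotient.nontrivial_iff.2 hW
  have : Finite (V ⧸ W) := Finite.of_surjective _ (Submodule.Quotient.mk_surjective W)
  have h0 : (0 : V ⧸ W) ∈ MulAction.fixedPoints K (V ⧸ W) := fun k => map_zero (q k)
  have hdvd : p ∣ Nat.card (V ⧸ W) := by
    rw [Module.natCard_eq_pow_finrank (K := ZMod p) (V := V ⧸ W), Nat.card_zmod]
    exact dvd_pow_self p Module.finrank_pos.ne'
  obtain ⟨v, hv, hv0⟩ := hK.exists_fixed_point_of_prime_dvd_card_of_fixed_point (V ⧸ W) hdvd h0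
  obtain ⟨y, rfl⟩ := Submodule.Quotient.mk_surjective W v
  refine ⟨y, fun hy => hv0 ((Submodule.Quotient.mk_eq_zero W).2 hy).symm, fun k => ?_⟩
  have := hv k
  rw [← Submodule.Quotient.eq]
  exact this

theorem exists_independent_flag (hK : IsPGroup p K) (ρ : K →* Module.End (ZMod p) V) :
    ∀ j ≤ Module.finrank (ZMod p) V, ∃ v : Fin j → V, LinearIndependent (ZMod p) v ∧
      ∀ k i, ρ k (v i) - v i ∈ Submodule.span (ZMod p) (v '' Set.Iio i)
  | 0, _ => ⟨Fin.elim0, linearIndependent_empty_type, fun _ i => i.elim0⟩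
  | j + 1, hj => by
    obtain ⟨v, hv, hflag⟩ := exists_independent_flag hK ρ j (by omega)
    set W := Submodule.span (ZMod p) (Set.range v)
    have hWne : W ≠ ⊤ := by
      intro h
      have h1 := finrank_span_eq_card hv
      rw [show Submodule.span (ZMod p) (Set.range v) = ⊤ from h, finrank_top, Fintype.card_fin] at h1
      omega
    have hinv : ∀ k, ∀ w ∈ W, ρ k w ∈ W := by
      intro k w hw
      refine (Submodule.span_le (p := W.comap (ρ k))).2 ?_ hw
      rintro _ ⟨i, rfl⟩
      have h1 : ρ k (v i) - v i ∈ W :=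
        Submodule.span_mono (Set.image_subset_range v _) (hflag k i)
      have := W.add_mem h1 (Submodule.subset_span ⟨i, rfl⟩ : v i ∈ W)
      rwa [sub_add_cancel] at this
    obtain ⟨y, hy, hyfix⟩ := exists_fixed_outside hK ρ W hWne hinv
    refine ⟨Fin.snoc v y, linearIndependent_finSnoc.2 ⟨hv, hy⟩, fun k i => ?_⟩
    induction i using Fin.lastCases with
    | last =>
      rw [Fin.snoc_last]
      refine Submodule.span_mono ?_ (hyfix k)
      rintro _ ⟨i, rfl⟩
      exact ⟨i.castSucc, Fin.castSucc_lt_last i, Fin.snoc_castSucc ..⟩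
    | cast i =>
      rw [Fin.snoc_castSucc]
      refine Submodule.span_mono ?_ (hflag k i)
      rintro _ ⟨l, hl, rfl⟩
      exact ⟨l.castSucc, Fin.castSucc_lt_castSucc_iff.2 hl, Fin.snoc_castSucc ..⟩

/-- A matrix representation by upper unitriangular matrices. -/
theorem exists_uni_rep (hK : IsPGroup p K) (ρ : K →* Module.End (ZMod p) V)
    (hρ : Function.Injective ρ) :
    ∃ f : K →* Matrix (Fin (Module.finrank (ZMod p) V)) (Fin (Module.finrank (ZMod p) V)) (ZMod p),
      Function.Injective f ∧ ∀ k, CfsgLib.Fusion.UniTri.IsUni (f k) := by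
  obtain ⟨v, hv, hflag⟩ := exists_independent_flag hK ρ _ le_rfl
  let b := Module.Basis.mk hv (hv.span_eq_top_of_card_eq_finrank' (Fintype.card_fin _)).ge
  have hb : ∀ i, b i = v i := fun i => Module.Basis.mk_apply _ _ i
  refine ⟨(LinearMap.toMatrixAlgEquiv b).toMonoidHom.comp ρ,
    (LinearMap.toMatrixAlgEquiv b).injective.comp hρ, fun k => ?_⟩
  have key : ∀ i l : Fin (Module.finrank (ZMod p) V), l ≤ i → b.repr (ρ k (v l) - v l) i = 0 := by
    intro i l hli
    have h1 := hflag k l
    rw [show v '' Set.Iio l = b '' Set.Iio l from Set.image_congr fun x _ => (hb x).symm,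
      Module.Basis.mem_span_image] at h1
    exact Finsupp.notMem_support_iff.1 fun h => (not_lt.2 hli) (h1 h)
  have hentry : ∀ i l, (LinearMap.toMatrixAlgEquiv b (ρ k)) i l = b.repr (ρ k (v l)) i := by
    intro i l; rw [LinearMap.toMatrixAlgEquiv_apply, hb]
  refine ⟨fun i l h => ?_, fun i => ?_⟩
  · show (LinearMap.toMatrixAlgEquiv b (ρ k)) i l = 0
    have := key i l h.le
    rw [map_sub, Finsupp.sub_apply, ← hb l, b.repr_self, Finsupp.single_eq_of_ne h.ne', sub_zero,
      hb] at this
    rw [hentry, this]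
  · show (LinearMap.toMatrixAlgEquiv b (ρ k)) i i = 1
    have := key i i le_rfl
    rw [map_sub, Finsupp.sub_apply, ← hb i, b.repr_self, Finsupp.single_eq_same, sub_eq_zero,
      hb] at this
    rw [hentry, this]

end CfsgLib.PGroup.UniGen
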