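import Mathlib
import Cfsg.Agent.Lib.PGroup.Basic

/-!
# The three subgroup lemma modulo a normal subgroup, and commutators with the lower central series
-/

set_option autoImplicit false

namespace CfsgLib.PGroup

open Subgroup

variable {G : Type*} [Group G]

/-- Three subgroup lemma modulo a normal subgroup. -/
theorem commutator_commutator_le_of_rotate {A B C K : Subgroup G} [K.Normal]
    (h1 : ⁅⁅B, C⁆, A⁆ ≤ K) (h2 : ⁅⁅C, A⁆, B⁆ ≤ K) : ⁅⁅A, B⁆, C⁆ ≤ K := by
  rw [← QuotientGroup.ker_mk' K, ← Subgroup.map_eq_bot_iff] at h1 h2 ⊢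
  rw [map_commutator, map_commutator] at h1 h2 ⊢
  exact commutator_commutator_eq_bot_of_rotate h1 h2

/-- The map `M ↦ ⁅M, G⁆`. -/
def bracketTop (M : Subgroup G) : Subgroup G := ⁅M, (⊤ : Subgroup G)⁆

theorem bracketTop_mono {M N : Subgroup G} (h : M ≤ N) : bracketTop M ≤ bracketTop N :=
  commutator_mono h le_rfl

theorem bracketTop_iterate_mono {M N : Subgroup G} (h : M ≤ N) (n : ℕ) :
    bracketTop^[n] M ≤ bracketTop^[n] N := by
  induction n with
  | zero => exact h
  | succ n ih =>
    rw [Function.iterate_succ_apply', Function.iterate_succ_apply']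
    exact bracketTop_mono ih

theorem bracketTop_iterate_normal (M : Subgroup G) [hM : M.Normal] (n : ℕ) :
    (bracketTop^[n] M).Normal := by
  induction n with
  | zero => exact hM
  | succ n ih =>
    rw [Function.iterate_succ_apply']
    haveI := ih
    exact commutator_normal _ _

/-- `⁅M, γ_{j+1}⁆ ≤ [M, G, …, G]` with `j + 1` copies of `G`. -/
theorem commutator_lowerCentralSeries_le (j : ℕ) : ∀ (M : Subgroup G) [M.Normal],
    ⁅M, (⊤ : Subgroup G).lowerCentralSeries j⁆ ≤ bracketTop^[j + 1] M := by
  induction j with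
  | zero => intro M _; exact le_refl _
  | succ j ih =>
    intro M hM
    rw [Subgroup.lowerCentralSeries_succ, commutator_comm M]
    haveI := bracketTop_iterate_normal M (j + 1 + 1)
    haveI : (bracketTop M).Normal := bracketTop_iterate_normal M 1
    refine commutator_commutator_le_of_rotate ?_ ?_
    · rw [commutator_comm (⊤ : Subgroup G) M]
      exact (ih (bracketTop M)).trans_eq (Function.iterate_succ_apply bracketTop (j + 1) M).symm
    · refine (bracketTop_mono (ih M)).trans_eq ?_
      rw [Function.iterate_succ_apply' bracketTop (j + 1) M]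

/-- In a nilpotent group, `X ≤ ⁅X, G⁆ L` forces `X ≤ L`. -/
theorem le_of_le_bracketTop_sup [hG : Group.IsNilpotent G] {X L : Subgroup G} [L.Normal]
    (h : X ≤ bracketTop X ⊔ L) : X ≤ L := by
  have key : ∀ j, X ≤ (⊤ : Subgroup G).lowerCentralSeries j ⊔ L := by
    intro j
    induction j with
    | zero => exact le_top.trans (le_sup_left (b := L))
    | succ j ih =>
      refine h.trans (sup_le ?_ le_sup_right)
      refine (bracketTop_mono ih).trans ?_
      refine (map_le_iff_le_comap.1 ?_).trans
        ((comap_map_eq (QuotientGroup.mk' L) _).trans_le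
          (sup_le_sup_left (QuotientGroup.ker_mk' L).le _))
      rw [bracketTop, map_commutator, Subgroup.map_sup, Subgroup.lowerCentralSeries_succ, map_commutator]
      refine commutator_mono (sup_le le_rfl ?_) le_rfl
      rw [QuotientGroup.map_mk'_self]
      exact bot_le
  obtain ⟨n, hn⟩ := Subgroup.nilpotent_iff_lowerCentralSeries.1 hG
  simpa [hn] using key n

theorem eq_bot_of_le_bracketTop [Group.IsNilpotent G] {X : Subgroup G} (h : X ≤ bracketTop X) :
    X = ⊥ :=
  le_bot_iff.1 (le_of_le_bracketTop_sup (h.trans le_sup_left))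

end CfsgLib.PGroup
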