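import Cfsg.Agent.S3779
import Cfsg.Agent.S3780
import Cfsg.Agent.S3781
import Cfsg.Agent.Lib.LocalEven.Out.AutTools
import Cfsg.Agent.Lib.Transfer.PSolvable
import Cfsg.Agent.Lib.Transfer.SolvablePSolvable

/-!
Alperin's bound on the derived length of a solvable group with an automorphism of prime order with few fixed points.
-/

set_option autoImplicit false

namespace CfsgLib.PGroup.AlperinFixed

open Subgroup CfsgLib.PGroup.Kreknin Cfsg
open scoped commutatorElement

universe u v

/-- Fixed points in an image are no more numerous. -/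
theorem card_fixed_image_le {G : Type u} [Group G] [Finite G] {H : Type v} (α : MulAut G) (N : Subgroup G)
    (f : G → H) (hf : ∀ x y, f x = f y ↔ x⁻¹ * y ∈ N) (β : H → H) (hβ : ∀ x, f (α x) = β (f x)) :
    Nat.card {h : H // (∃ g, f g = h) ∧ β h = h} ≤ Nat.card {g : G // α g = g} := by
  classical
  let T := {h : H // (∃ g, f g = h) ∧ β h = h}
  let S := {g : G // g⁻¹ * α g ∈ N}
  haveI : Finite T := Finite.of_surjective (fun g : {g : G // β (f g) = f g} => (⟨f g, ⟨g, rfl⟩, g.2⟩ : T))
    (fun t => by
      obtain ⟨h, ⟨g, rfl⟩, h2⟩ := t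
      exact ⟨⟨g, h2⟩, rfl⟩)
  have h1 : Nat.card T * Nat.card N ≤ Nat.card S := by
    rw [← Nat.card_prod]
    choose r hr using fun t : T => t.2.1
    refine Nat.card_le_card_of_injective (fun t => ⟨r t.1 * (t.2 : G), ?_⟩) ?_
    · rw [← hf, hβ]
      have : f (r t.1 * (t.2 : G)) = t.1.1 := by
        rw [← hr t.1, eq_comm, hf, inv_mul_cancel_left]
        exact t.2.2
      rw [this, t.1.2.2]
    · rintro ⟨t, x⟩ ⟨t', x'⟩ he
      have he' : r t * (x : G) = r t' * (x' : G) := congrArg Subtype.val he
      have hft : ∀ (t : T) (x : N), f (r t * (x : G)) = t.1 := fun t x => by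
        rw [← hr t, eq_comm, hf, inv_mul_cancel_left]
        exact x.2
      obtain rfl : t = t' := Subtype.ext (by rw [← hft t x, ← hft t' x', he'])
      rw [mul_left_cancel_iff] at he'
      rw [Subtype.ext he']
  have h2 : Nat.card S ≤ Nat.card {g : G // α g = g} * Nat.card N := by
    rw [← Nat.card_prod]
    let d : S → N := fun g => ⟨(g : G)⁻¹ * α g, g.2⟩
    haveI : Nonempty S := ⟨⟨1, by simp⟩⟩
    have hd : ∀ g, d (Function.invFun d (d g)) = d g := fun g => Function.invFun_eq ⟨g, rfl⟩
    refine Nat.card_le_card_of_injective (fun g => (⟨(g : G) * ((Function.invFun d (d g) : S) : G)⁻¹, ?_⟩, d g)) ?_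
    · have h := congrArg Subtype.val (hd g)
      simp only [d] at h
      generalize hu : ((Function.invFun d (d g) : S) : G) = u at h ⊢
      have hu' : α u = u * ((g : G)⁻¹ * α g) := by rw [← h, mul_inv_cancel_left]
      rw [map_mul, map_inv, hu']
      group
    · intro g g' he
      simp only [Prod.mk.injEq, Subtype.mk.injEq] at he
      obtain ⟨he1, he2⟩ := he
      rw [he2, mul_right_cancel_iff] at he1
      exact Subtype.ext he1
  exact Nat.le_of_mul_le_mul_right (h1.trans h2) Nat.card_pos

/-- The restriction to an invariant subgroup. -/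
noncomputable def restr {G : Type u} [Group G] [Finite G] (α : MulAut G) (N : Subgroup G)
    (hN : ∀ x ∈ N, α x ∈ N) : MulAut N :=
  MulEquiv.ofBijective
    ({ toFun := fun x => ⟨α (x : G), hN _ x.2⟩
       map_one' := Subtype.ext (map_one α)
       map_mul' := fun x y => Subtype.ext (map_mul α _ _) } : N →* N)
    (Finite.injective_iff_bijective.1 fun x y h => Subtype.ext (α.injective (congrArg Subtype.val h :)))

section Restr

variable {G : Type u} [Group G] [Finite G] (α : MulAut G) (N : Subgroup G) (hN : ∀ x ∈ N, α x ∈ N)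

theorem restr_apply (x : N) : ((restr α N hN x : N) : G) = α (x : G) := rfl

theorem restr_pow (i : ℕ) (x : N) : ((((restr α N hN) ^ i) x : N) : G) = (α ^ i) (x : G) := by
  induction i generalizing x with
  | zero => rfl
  | succ i ih => rw [pow_succ, pow_succ, MulAut.mul_apply, MulAut.mul_apply, ih, restr_apply]

theorem restr_pow_eq_one {i : ℕ} (h : α ^ i = 1) : (restr α N hN) ^ i = 1 :=
  MulEquiv.ext fun x => Subtype.ext (by rw [restr_pow, h]; rfl)

theorem card_fixed_restr_le :
    Nat.card {x : N // restr α N hN x = x} ≤ Nat.card {g : G // α g = g} :=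
  Nat.card_le_card_of_injective (fun x => ⟨((x.1 : N) : G), congrArg Subtype.val x.2⟩)
    fun _ _ h => Subtype.ext (Subtype.ext (congrArg Subtype.val h :))

end Restr

/-- An abelian group of exponent dividing `p ^ e` with an automorphism of order dividing `p` with at most
`N` fixed points has at most `(N ^ p) ^ e` elements. -/
theorem card_le_of_exponent {p : ℕ} [Fact p.Prime] {V : Type u} [AddCommGroup V] [Finite V] (β : V →+ V)
    (hβ : ∀ v, β^[p] v = v) (N : ℕ) (hN : Nat.card {v : V // β v = v} ≤ N) (e : ℕ)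
    (he : ∀ v : V, p ^ e • v = 0) : Nat.card V ≤ (N ^ p) ^ e := by
  let T : ℕ → AddSubgroup V := fun k => (nsmulAddMonoidHom (p ^ k) : V →+ V).ker
  have hT : ∀ k v, v ∈ T k ↔ p ^ k • v = 0 := fun k v => Iff.rfl
  have hT1 : ∀ v, v ∈ T 1 ↔ p • v = 0 := fun v => by rw [hT, pow_one]
  letI : Module (ZMod p) ↥(T 1) := AddCommGroup.zmodModule fun v => Subtype.ext ((hT1 v).1 v.2)
  let β' : ↥(T 1) →+ ↥(T 1) :=
    { toFun := fun v => ⟨β v, (hT1 _).2 (by rw [← map_nsmul, (hT1 v).1 v.2, map_zero])⟩
      map_zero' := Subtype.ext (map_zero β)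
      map_add' := fun _ _ => Subtype.ext (map_add β _ _) }
  have hit : ∀ (k : ℕ) (v : ↥(T 1)), ((β'^[k] v : ↥(T 1)) : V) = β^[k] (v : V) := by
    intro k
    induction k with
    | zero => intro v; rfl
    | succ k ih => intro v; rw [Function.iterate_succ_apply', Function.iterate_succ_apply', ← ih]; rfl
  have h1 : Nat.card ↥(T 1) ≤ N ^ p := by
    refine Cfsg.Agent.S3780.card_le_fix_pow β' (fun v => Subtype.ext (by rw [hit, hβ])) N (le_trans ?_ hN)
    exact Nat.card_le_card_of_injective (fun v => ⟨((v.1 : ↥(T 1)) : V), congrArg Subtype.val v.2⟩)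
      fun _ _ h => Subtype.ext (Subtype.ext (congrArg Subtype.val h :))
  have hk : ∀ k, Nat.card ↥(T k) ≤ (N ^ p) ^ k := by
    intro k
    induction k with
    | zero =>
      haveI : Subsingleton ↥(T 0) := ⟨fun a b => Subtype.ext (by
        have ha := (hT 0 a).1 a.2
        have hb := (hT 0 b).1 b.2
        rw [pow_zero, one_nsmul] at ha hb
        rw [ha, hb])⟩
      simp
    | succ k ih =>
      let g : ↥(T (k + 1)) →+ ↥(T k) :=
        { toFun := fun v => ⟨p • (v : V), (hT k _).2 (by rw [← mul_nsmul', ← pow_succ]; exact (hT _ _).1 v.2)⟩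
          map_zero' := Subtype.ext (nsmul_zero p)
          map_add' := fun _ _ => Subtype.ext (nsmul_add _ _ _) }
      have h2 := AddSubgroup.card_mul_index g.ker
      rw [AddSubgroup.index_ker] at h2
      rw [← h2, pow_succ']
      refine Nat.mul_le_mul ((Nat.card_le_card_of_injective (β := ↥(T 1))
        (fun (v : ↥g.ker) => (⟨((v.1 : ↥(T (k + 1))) : V),
          (hT1 _).2 (congrArg Subtype.val (AddMonoidHom.mem_ker.1 v.2) :)⟩ : ↥(T 1)))
        fun _ _ h => Subtype.ext (Subtype.ext (congrArg Subtype.val h :))).trans h1) ?_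
      exact (Nat.card_le_card_of_injective _ Subtype.val_injective).trans ih
  refine le_trans ?_ (hk e)
  exact Nat.card_le_card_of_injective (β := ↥(T e)) (fun v => ⟨v, (hT e v).2 (he v)⟩)
    fun _ _ h => congrArg Subtype.val h

/-- The class bound of Higman, Kreknin and Kostrikin. -/
abbrev xi (p : ℕ) : ℕ := bound p (2 ^ (p - 1) - 1)

theorem xi_pos {p : ℕ} (hp : p.Prime) : 0 < xi p := by
  have h1 : 2 ≤ 2 ^ (p - 1) := by
    have := hp.two_le
    calc 2 = 2 ^ 1 := (pow_one 2).symm
      _ ≤ 2 ^ (p - 1) := Nat.pow_le_pow_right (by norm_num) (by omega)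
  refine Finset.sum_pos' (fun i _ => Nat.zero_le _) ⟨0, Finset.mem_range.2 (by omega), ?_⟩
  simp

/-- The exponent of the factor of index `ξ`. -/
abbrev expo (p n : ℕ) : ℕ := 2 * xi p + 1 + n * (xi p + 1)

section Factor

variable {P : Type u} [Group P] [Finite P] {p n : ℕ} [hp : Fact p.Prime] (α : MulAut P)

/-- The action on one factor. -/
noncomputable def facA (j : ℕ) : Factor P j →+ Factor P j :=
  (DFinsupp.evalAddMonoidHom j : Gr P →+ Factor P j).comp ((grA α).comp (DirectSum.of (Factor P) j))

omit [Finite P] in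
theorem gcl_eq (j : ℕ) (x : ↥(gam P j)) :
    gcl j x = DirectSum.of (Factor P) j (Additive.ofMul (x : FactorM P j)) := rfl

omit [Finite P] in
theorem facA_mk (j : ℕ) (x : ↥(gam P j)) :
    facA α j (Additive.ofMul (x : FactorM P j)) =
      Additive.ofMul ((⟨α (x : P), mem_gam_map α x.2⟩ : ↥(gam P j)) : FactorM P j) := by
  show (grA α (gcl j x)) j = _
  rw [grA_gcl, gcl_eq]
  exact DirectSum.of_eq_same _ _

omit [Finite P] in
theorem grA_apply (v : Gr P) (j : ℕ) : (grA α v) j = facA α j (v j) := by
  induction v using gr_induction with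
  | h0 => rw [map_zero]; exact (map_zero _).symm
  | hadd a b ha hb => rw [map_add, DFinsupp.add_apply, ha, hb, ← map_add]; rfl
  | hg m x =>
    rw [grA_gcl, gcl_eq, gcl_eq]
    rcases eq_or_ne m j with rfl | hne
    · rw [DirectSum.of_eq_same, DirectSum.of_eq_same, facA_mk]
    · rw [DirectSum.of_eq_of_ne _ _ _ hne.symm, DirectSum.of_eq_of_ne _ _ _ hne.symm, map_zero]

omit [Finite P] in
theorem grA_pow (hαp : α ^ p = 1) (v : Gr P) : (grA α)^[p] v = v := by
  have hit : ∀ (i : ℕ) {m : ℕ} (x : ↥(gam P m)),
      ∃ y : ↥(gam P m), (y : P) = (α ^ i) x ∧ (grA α)^[i] (gcl m x) = gcl m y := by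
    intro i
    induction i with
    | zero => intro m x; exact ⟨x, by simp, rfl⟩
    | succ i ih =>
      intro m x
      obtain ⟨y, hy, e⟩ := ih x
      refine ⟨⟨α y, mem_gam_map α y.2⟩, ?_, ?_⟩
      · rw [pow_succ', MulAut.mul_apply, ← hy]
      · rw [Function.iterate_succ_apply', e, grA_gcl]
  induction v using gr_induction with
  | h0 => exact iterate_map_zero (grA α) p
  | hadd a b ha hb => rw [iterate_map_add, ha, hb]
  | hg m x =>
    obtain ⟨y, hy, e⟩ := hit p x
    rw [e, show y = x from Subtype.ext (by rw [hy, hαp]; rfl)]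

omit [Finite P] in
theorem facA_pow (hαp : α ^ p = 1) (j : ℕ) (v : Factor P j) : (facA α j)^[p] v = v := by
  have hit : ∀ i (w : Gr P), ((grA α)^[i] w) j = (facA α j)^[i] (w j) := by
    intro i
    induction i with
    | zero => intro w; rfl
    | succ i ih => intro w; rw [Function.iterate_succ_apply', Function.iterate_succ_apply', grA_apply, ih]
  have h := hit p (DirectSum.of (Factor P) j v)
  rw [grA_pow α hαp, DirectSum.of_eq_same] at h
  exact h.symm

theorem card_fixed_facA_le (j : ℕ) :
    Nat.card {v : Factor P j // facA α j v = v} ≤ Nat.card {g : P // α g = g} := by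
  refine le_trans ?_ (card_fixed_restr_le α (gam P j) fun x hx => mem_gam_map α hx)
  refine le_trans ?_ (card_fixed_image_le (restr α (gam P j) fun x hx => mem_gam_map α hx)
    ((gam P (j + 1)).subgroupOf (gam P j)) (fun x => Additive.ofMul (x : FactorM P j))
    (fun x y => Additive.ofMul.injective.eq_iff.trans QuotientGroup.eq) (facA α j)
    fun x => (facA_mk α j x).symm)
  haveI : Finite {v : Factor P j // (∃ g : ↥(gam P j), Additive.ofMul (g : FactorM P j) = v) ∧ facA α j v = v} :=
    inferInstance
  refine Nat.card_le_card_of_injective (fun v => ⟨v.1, ?_, v.2⟩)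
    fun _ _ h => Subtype.ext (congrArg Subtype.val h :)
  obtain ⟨x, hx⟩ := QuotientGroup.mk_surjective (Additive.toMul v.1)
  exact ⟨x, by rw [hx]; rfl⟩

/-- Fixed vectors of the Lie ring are killed by `p ^ n`. -/
theorem nsmul_fixed (hP : IsPGroup p P) (hfix : Nat.card {g : P // α g = g} ≤ p ^ n) (v : Gr P)
    (hv : grA α v = v) : p ^ n • v = 0 := by
  refine DFinsupp.ext fun j => ?_
  rw [DFinsupp.smul_apply, DFinsupp.zero_apply]
  have hj : facA α j (v j) = v j := by rw [← grA_apply, hv]
  let F : AddSubgroup (Factor P j) :=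
    { carrier := {w | facA α j w = w}
      zero_mem' := map_zero _
      add_mem' := fun {a b} ha hb => (map_add _ a b).trans (by rw [ha, hb])
      neg_mem' := fun {a} ha => (map_neg _ a).trans (by rw [ha]) }
  have hle : addOrderOf (v j) ≤ p ^ n := by
    rw [← Nat.card_zmultiples]
    haveI : Finite F := inferInstance
    have h1 : Nat.card ↥(AddSubgroup.zmultiples (v j)) ≤ Nat.card F :=
      AddSubgroup.card_le_of_le ((AddSubgroup.zmultiples_le (H := F)).2 hj)
    exact h1.trans ((card_fixed_facA_le α j).trans hfix)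
  obtain ⟨k, hk⟩ := IsPGroup.iff_card.1 hP
  have hdvd : addOrderOf (v j) ∣ p ^ k := by
    refine (addOrderOf_dvd_natCard (v j)).trans ?_
    rw [show Nat.card (Factor P j) = Nat.card (FactorM P j) from rfl, ← hk]
    exact (Subgroup.card_quotient_dvd_card _).trans (Subgroup.card_subgroup_dvd_card _)
  obtain ⟨i, -, hi⟩ := (Nat.dvd_prime_pow hp.out).1 hdvd
  rw [hi] at hle
  rw [← addOrderOf_dvd_iff_nsmul_eq_zero, hi]
  exact pow_dvd_pow p ((Nat.pow_le_pow_iff_right hp.out.one_lt).1 hle)

open Cfsg.Agent.S3779 in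
/-- The factor of index `ξ` has bounded exponent. -/
theorem nsmul_gcl (hP : IsPGroup p P) (hαp : α ^ p = 1) (hfix : Nat.card {g : P // α g = g} ≤ p ^ n)
    (x : ↥(gam P (xi p))) : p ^ expo p n • gcl (xi p) x = 0 := by
  set A := grA α with hAdef
  set β := grBracket (G := P) with hβ
  set S : Fam (ZMod p → Gr P) p := eigen A with hS
  have hSc : br (convB β) S S ≤ S := eigen_closed β A (grA_B α)
  set S' : Fam (ZMod p → Gr P) p := fun j => (S j).map (nsmulAddMonoidHom (p ^ n)) with hS'
  have h0 : S' 0 = ⊥ := by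
    refine le_bot_iff.1 ?_
    rintro _ ⟨f, hf, rfl⟩
    refine AddSubgroup.mem_bot.2 (funext fun k => ?_)
    show p ^ n • f k = 0
    exact nsmul_fixed α hP hfix _ (by rw [← hAdef, hf.2 k, sub_zero])
  have hSc' : br (convB β) S' S' ≤ S' := by
    refine br_le _ fun i j => ?_
    rintro _ ⟨a, ha, rfl⟩ _ ⟨b, hb, rfl⟩
    refine ⟨(convB β).B a (p ^ n • b), ?_, ?_⟩
    · rw [map_nsmul]
      exact nsmul_mem (hSc _ (mem_br _ ha hb)) _
    · show p ^ n • (convB β).B a (p ^ n • b) = (convB β).B (p ^ n • a) (p ^ n • b)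
      rw [map_nsmul (convB β).B (p ^ n) a]; rfl
  have hbot : lcs (convB β) S' (xi p) = ⊥ := lcs_eq_bot_of_der _ _ S' h0 hSc' (kreknin _ h0 hSc')
  have hscale : ∀ m j, ∀ y ∈ lcs (convB β) S m j, p ^ (n * (m + 1)) • y ∈ lcs (convB β) S' m j := by
    intro m
    induction m with
    | zero => intro j y hy; exact ⟨y, hy, by rw [zero_add, mul_one]; rfl⟩
    | succ m ih =>
      intro k y hy
      induction hy using AddSubgroup.closure_induction with
      | mem z hz =>
        obtain ⟨i, j, rfl, a, ha, b, hb, rfl⟩ := hz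
        have h := mem_br (convB β) (ih i a ha) (show p ^ n • b ∈ S' j from ⟨b, hb, rfl⟩)
        rw [map_nsmul, map_nsmul, AddMonoidHom.smul_apply, ← mul_nsmul', ← pow_add] at h
        rwa [show n * (m + 1 + 1) = n + n * (m + 1) by ring]
      | zero => rw [nsmul_zero]; exact zero_mem _
      | add a b _ _ ha hb => rw [nsmul_add]; exact add_mem ha hb
      | neg a _ ha => rw [smul_neg]; exact neg_mem ha
  have hAp := grA_pow α hαp
  have hstep : ∀ m, ∀ F ∈ ⨆ j, lcs (convB β) S m j, ∀ F' ∈ ⨆ j, S j,
      conv β F F' ∈ ⨆ j, lcs (convB β) S (m + 1) j := by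
    intro m F hF F' hF'
    induction hF using AddSubgroup.iSup_induction' with
    | hp i x hx =>
      induction hF' using AddSubgroup.iSup_induction' with
      | hp j y hy => exact AddSubgroup.mem_iSup_of_mem (i + j) (mem_br (convB β) hx hy)
      | h1 => rw [map_zero]; exact zero_mem _
      | hadd a b _ _ ha hb => rw [map_add]; exact add_mem ha hb
    | h1 => rw [map_zero, AddMonoidHom.zero_apply]; exact zero_mem _
    | hadd a b _ _ ha hb => rw [map_add, AddMonoidHom.add_apply]; exact add_mem ha hb
  have key : ∀ m, ∀ y : ↥(gam P m),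
      p ^ (2 * m + 1) • uu (p := p) (gcl m y) ∈ ⨆ j, lcs (convB β) S m j := by
    intro m
    induction m with
    | zero => intro y; rw [pow_one]; exact p_nsmul_uu_mem A hAp _
    | succ m ih =>
      intro y
      refine closure_induction (p := fun g hg => p ^ (2 * (m + 1) + 1) • uu (p := p) (gcl (m + 1) ⟨g, hg⟩) ∈
        ⨆ j, lcs (convB β) S (m + 1) j) ?_ ?_ ?_ ?_ y.2
      · rintro _ ⟨a, ha, g, -, rfl⟩
        have h2 := hstep m _ (ih ⟨a, ha⟩) _
          (p_nsmul_uu_mem (p := p) A hAp (gcl 0 (⟨g, (mem_top g : g ∈ gam P 0)⟩ : ↥(gam P 0))))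
        rw [map_nsmul, map_nsmul, AddMonoidHom.smul_apply, conv_uu, ← mul_nsmul', ← mul_nsmul'] at h2
        have e3 : β.B (gcl m ⟨a, ha⟩) (gcl 0 (⟨g, (mem_top g : g ∈ gam P 0)⟩ : ↥(gam P 0))) =
            gcl (m + 1) ⟨⁅a, g⁆, commutator_mem_commutator ha (mem_top g)⟩ := by
          show grB _ _ = _
          rw [grB_gcl]
          exact gcl_congr rfl rfl
        rw [e3] at h2
        rw [show 2 * (m + 1) + 1 = 2 * m + 1 + 1 + 1 by omega, pow_succ, pow_succ]
        rwa [mul_comm (p ^ (2 * m + 1)) p]
      · rw [show (⟨1, _⟩ : ↥(gam P (m + 1))) = 1 from rfl, gcl_one, map_zero, smul_zero]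
        exact zero_mem _
      · intro a b ha hb h1 h2
        rw [show (⟨a * b, _⟩ : ↥(gam P (m + 1))) = (⟨a, ha⟩ * ⟨b, hb⟩ : ↥(gam P (m + 1))) from rfl, gcl_mul,
          map_add, smul_add]
        exact add_mem h1 h2
      · intro a ha h1
        rw [show (⟨a⁻¹, _⟩ : ↥(gam P (m + 1))) = (⟨a, ha⟩⁻¹ : ↥(gam P (m + 1))) from rfl, gcl_inv, map_neg, smul_neg]
        exact neg_mem h1
  have hkill : ∀ F ∈ ⨆ j, lcs (convB β) S (xi p) j, p ^ (n * (xi p + 1)) • F = 0 := by
    intro F hF
    induction hF using AddSubgroup.iSup_induction' with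
    | hp j y hy =>
      have h := hscale _ j y hy
      rw [hbot] at h
      exact AddSubgroup.mem_bot.1 h
    | h1 => exact nsmul_zero _
    | hadd a b _ _ ha hb => rw [nsmul_add, ha, hb, add_zero]
  have h := hkill _ (key (xi p) x)
  rw [← mul_nsmul', ← pow_add] at h
  have h1 := congrFun h 1
  have hne : (1 : ZMod p) ≠ 0 := one_ne_zero
  simp only [Pi.smul_apply, uu, AddMonoidHom.coe_mk, ZeroHom.coe_mk, if_neg hne, zero_sub, smul_neg,
    Pi.zero_apply, neg_eq_zero] at h1
  rwa [expo, show 2 * xi p + 1 + n * (xi p + 1) = n * (xi p + 1) + (2 * xi p + 1) by ring]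

/-- The factor of index `ξ` has bounded order. -/
theorem relIndex_gam_le (hP : IsPGroup p P) (hαp : α ^ p = 1) (hfix : Nat.card {g : P // α g = g} ≤ p ^ n) :
    (gam P (xi p + 1)).relIndex (gam P (xi p)) ≤ p ^ (n * p * expo p n) := by
  show Nat.card (Factor P (xi p)) ≤ _
  rw [pow_mul, pow_mul]
  refine card_le_of_exponent (facA α (xi p)) (facA_pow α hαp _) _ ((card_fixed_facA_le α _).trans hfix) _ ?_
  intro v
  obtain ⟨x, hx⟩ := QuotientGroup.mk_surjective (Additive.toMul v)
  rw [show v = Additive.ofMul (x : FactorM P (xi p)) by rw [hx]; rfl]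
  refine DirectSum.of_injective (β := Factor P) (xi p) ?_
  rw [map_nsmul, map_zero]
  exact nsmul_gcl α hP hαp hfix x

end Factor

/-- The derived length bound for `p`-groups. -/
abbrev pBound (p n : ℕ) : ℕ := n * p * expo p n + (xi p + 1)

/-- Alperin's bound for `p`-groups. -/
theorem derivedSeries_pGroup {P : Type u} [Group P] [Finite P] {p n : ℕ} [hp : Fact p.Prime]
    (hP : IsPGroup p P) (α : MulAut P) (hαp : α ^ p = 1) (hfix : Nat.card {g : P // α g = g} ≤ p ^ n) :
    derivedSeries P (pBound p n) = ⊥ := by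
  set K := n * p * expo p n with hK
  set N := gam P K with hN
  have hbot : N.lowerCentralSeries (xi p + 1) = ⊥ := by
    by_contra hne
    have h1 := Cfsg.Agent.S3781.result hP (K + 1) (by omega) N (le_refl _) (xi p + 1)
      (by have := xi_pos hp.out; omega) hne
    have h2 := relIndex_gam_le (restr α N fun x hx => mem_gam_map α hx) (hP.to_subgroup N)
      (restr_pow_eq_one α N _ hαp) ((card_fixed_restr_le α N _).trans hfix)
    rw [← relIndex_map_map_of_injective _ _ N.subtype_injective, top_subtype_lowerCentralSeries,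
      top_subtype_lowerCentralSeries] at h2
    rw [Nat.add_sub_cancel] at h1
    exact absurd (h1.trans (h2.trans (le_of_eq rfl))) (not_le.2
      (show p ^ K < p ^ (K + 1) from Nat.pow_lt_pow_right hp.out.one_lt (Nat.lt_succ_self K)))
  have hdg : ∀ i, derivedSeries P i ≤ gam P i := by
    intro i
    induction i with
    | zero => exact le_rfl
    | succ i ih => exact Subgroup.commutator_mono ih le_top
  have hDN : ∀ j, derivedSeries P (K + j) ≤ N.lowerCentralSeries j := by
    intro j
    induction j with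
    | zero => exact hdg K
    | succ j ih => exact Subgroup.commutator_mono ih (ih.trans (lowerCentralSeries_le_self N j))
  exact le_bot_iff.1 ((hDN _).trans hbot.le)

/-- The derived series inside a subgroup. -/
theorem derivedSeries_add_le {G : Type u} [Group G] (N : Subgroup G) {a : ℕ} (h : derivedSeries G a ≤ N) :
    ∀ b, derivedSeries G (a + b) ≤ (derivedSeries N b).map N.subtype := by
  intro b
  induction b with
  | zero => rw [add_zero, derivedSeries_zero, ← MonoidHom.range_eq_map, range_subtype]; exact h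
  | succ b ih => rw [← add_assoc, derivedSeries_succ, derivedSeries_succ, map_commutator]; exact commutator_mono ih ih

theorem derivedSeries_eq_bot_of_le {G : Type u} [Group G] (N : Subgroup G) {a b : ℕ}
    (h : derivedSeries G a ≤ N) (hb : derivedSeries N b = ⊥) : derivedSeries G (a + b) = ⊥ := by
  have := derivedSeries_add_le N h b
  rwa [hb, Subgroup.map_bot, le_bot_iff] at this

/-- The derived length of a solvable group is at most its order. -/
theorem derivedSeries_eq_bot_of_card_le {G : Type u} [Group G] [Finite G] (hs : Group.IsSolvable G) {m : ℕ}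
    (hm : Nat.card G ≤ m) : derivedSeries G m = ⊥ := by
  have key : ∀ i, derivedSeries G i = ⊥ ∨ Nat.card ↥(derivedSeries G i) + i ≤ Nat.card G := by
    intro i
    induction i with
    | zero => exact Or.inr (by simp)
    | succ i ih =>
      by_cases hb : derivedSeries G (i + 1) = ⊥
      · exact Or.inl hb
      refine Or.inr ?_
      have hle : derivedSeries G (i + 1) ≤ derivedSeries G i := derivedSeries_antitone G (Nat.le_succ i)
      have hbi : derivedSeries G i ≠ ⊥ := fun h => hb (le_bot_iff.1 (h ▸ hle))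
      have hne : derivedSeries G (i + 1) ≠ derivedSeries G i := by
        intro he
        obtain ⟨d, hd⟩ := hs
        have hall : ∀ j, derivedSeries G (i + j) = derivedSeries G i := by
          intro j
          induction j with
          | zero => rfl
          | succ j ihj => rw [← add_assoc, derivedSeries_succ, ihj, ← derivedSeries_succ, he]
        exact hbi (le_bot_iff.1 (by rw [← hall d, ← hd]; exact derivedSeries_antitone G (Nat.le_add_left d i)))
      have hlt : Nat.card ↥(derivedSeries G (i + 1)) < Nat.card ↥(derivedSeries G i) :=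
        lt_of_le_of_ne (card_le_of_le hle) fun h => hne (eq_of_le_of_card_ge hle h.ge)
      rcases ih with h | h
      · exact absurd h hbi
      · omega
  rcases key m with h | h
  · exact h
  · have := Nat.card_pos (α := ↥(derivedSeries G m))
    omega

/-- The number by which the group modulo the `p`-core is bounded. -/
abbrev topBound (p n : ℕ) : ℕ := ((p ^ n) ^ p).factorial

/-- The case of trivial `p'`-core. -/
theorem derivedSeries_reduced {G : Type u} [Group G] [Finite G] {p n : ℕ} [hp : Fact p.Prime]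
    (hs : Group.IsSolvable G) (hO : pPrimeCore p G = ⊥) (α : MulAut G) (hαp : α ^ p = 1)
    (hfix : Nat.card {g : G // α g = g} ≤ p ^ n) : derivedSeries G (topBound p n + pBound p n) = ⊥ := by
  set P := pCore p G with hPdef
  haveI hPn : P.Normal := inferInstance
  have hP : IsPGroup p P := CfsgLib.Cores.isPGroup_pCore p
  have hPα : ∀ x ∈ P, α x ∈ P := fun x hx =>
    (CfsgLib.Cores.map_pCore_equiv (p := p) α).le ⟨x, hx, rfl⟩
  set a := restr α P hPα with ha
  have hap : a ^ p = 1 := restr_pow_eq_one α P hPα hαp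
  have hafix : Nat.card {x : P // a x = x} ≤ p ^ n := (card_fixed_restr_le α P hPα).trans hfix
  refine derivedSeries_eq_bot_of_le P ?_ (derivedSeries_pGroup hP a hap hafix)
  -- the Frattini quotient of the core is bounded
  have hcard : Nat.card (P ⧸ frattini P) ≤ (p ^ n) ^ p := by
    letI : CommGroup (P ⧸ frattini P) :=
      { (inferInstance : Group (P ⧸ frattini P)) with mul_comm := CfsgLib.PGroup.quotient_frattini_comm hP }
    set b := CfsgLib.LocalEven.OutTools.frattiniHom P a with hb
    have hbp : b ^ p = 1 := by rw [hb, ← map_pow, hap, map_one]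
    let β : Additive (P ⧸ frattini P) →+ Additive (P ⧸ frattini P) := MonoidHom.toAdditive b.toMonoidHom
    have hit : ∀ (k : ℕ) (v : Additive (P ⧸ frattini P)), β^[k] v = Additive.ofMul ((b ^ k) v.toMul) := by
      intro k
      induction k with
      | zero => intro v; rfl
      | succ k ih => intro v; rw [Function.iterate_succ_apply', ih, pow_succ']; rfl
    have hN : Nat.card {v : Additive (P ⧸ frattini P) // β v = v} ≤ p ^ n := by
      refine le_trans ?_ ((card_fixed_image_le a (frattini P) (fun x => (x : P ⧸ frattini P))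
        (fun x y => QuotientGroup.eq) b fun x => (CfsgLib.LocalEven.OutTools.frattiniHom_mk a x).symm).trans hafix)
      refine Nat.card_le_card_of_injective (fun v => ⟨v.1.toMul, QuotientGroup.mk_surjective _, ?_⟩) ?_
      · exact congrArg Additive.toMul v.2
      · intro v w h
        exact Subtype.ext (Additive.toMul.injective (congrArg Subtype.val h :))
    have h := card_le_of_exponent β (fun v => by rw [hit, hbp]; rfl) _ hN 1 fun v => by
      rw [pow_one]
      exact Additive.toMul.injective (CfsgLib.PGroup.quotient_frattini_pow hP v.toMul)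
    rw [pow_one] at h
    exact (Nat.card_congr Additive.ofMul).le.trans h
  set φ : G →* MulAut (P ⧸ frattini P) :=
    (CfsgLib.LocalEven.OutTools.frattiniHom P).comp MulAut.conjNormal with hφ
  have hker : φ.ker ≤ P := by
    refine CfsgLib.Cores.le_pCore (IsPGroup.iff_card.2 ⟨_, Nat.eq_prime_pow_of_unique_prime_dvd Nat.card_pos.ne' ?_⟩)
    intro ℓ hℓ hd
    by_contra hℓp
    haveI := Fact.mk hℓ
    obtain ⟨x, hx⟩ := exists_prime_orderOf_dvd_card' ℓ hd
    have hxl : ((x : G)) ^ ℓ = 1 := by
      rw [← hx, ← Subgroup.orderOf_coe]; exact pow_orderOf_eq_one _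
    have htriv : (MulAut.conjNormal (x : G) : MulAut P) = 1 := by
      refine CfsgLib.LocalEven.OutTools.eq_one_of_trivial_frattini hP hℓp (by rw [← map_pow, hxl, map_one]) ?_
      exact CfsgLib.LocalEven.OutTools.mem_ker_frattiniHom.1 x.2
    have hcen : (x : G) ∈ centralizer (P : Set G) := by
      refine mem_centralizer_iff.2 fun y hy => ?_
      have h1 := congrArg Subtype.val (DFunLike.congr_fun htriv ⟨y, hy⟩)
      rw [MulAut.conjNormal_apply, MulAut.one_apply] at h1
      exact (mul_inv_eq_iff_eq_mul.1 h1).symm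
    have hxP : (x : G) ∈ P := CfsgLib.Transfer.centralizer_pCore_le_of_isPSolvable
      (CfsgLib.Transfer.isPSolvable_of_isSolvable p hs) hO hcen
    obtain ⟨k, hk⟩ := hP ⟨x, hxP⟩
    have hdiv : ℓ ∣ p ^ k := by
      rw [← hx, ← Subgroup.orderOf_coe]
      exact orderOf_dvd_of_pow_eq_one (congrArg Subtype.val hk :)
    exact hℓp ((Nat.prime_dvd_prime_iff_eq hℓ hp.out).1 (hℓ.dvd_of_dvd_pow hdiv))
  haveI := hs
  have hsr : Group.IsSolvable φ.range := solvable_of_surjective φ.rangeRestrict_surjective
  have hrc : Nat.card φ.range ≤ topBound p n := by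
    refine (Nat.card_le_card_of_injective (β := Equiv.Perm (P ⧸ frattini P))
      (fun (f : ↥φ.range) => (f : MulAut (P ⧸ frattini P)).toEquiv) fun f g h => Subtype.ext ?_).trans ?_
    · exact MulEquiv.ext fun v => DFunLike.congr_fun (h : (f : MulAut (P ⧸ frattini P)).toEquiv = (g : MulAut _).toEquiv) v
    · rw [Nat.card_perm]
      exact Nat.factorial_le hcard
  intro y hy
  apply hker
  have h1 : φ.rangeRestrict y ∈ derivedSeries φ.range (topBound p n) :=
    map_derivedSeries_le_derivedSeries φ.rangeRestrict _ ⟨y, hy, rfl⟩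
  rw [derivedSeries_eq_bot_of_card_le hsr hrc, mem_bot] at h1
  exact MonoidHom.mem_ker.2 (congrArg Subtype.val h1 :)

/-- Alperin's theorem. -/
theorem derivedSeries_eq_bot {G : Type u} [Group G] [Finite G] {p n : ℕ} [hp : Fact p.Prime]
    (hs : Group.IsSolvable G) (α : MulAut G) (hαp : α ^ p = 1)
    (hfix : Nat.card {g : G // α g = g} = p ^ n) :
    derivedSeries G (topBound p n + pBound p n + xi p) = ⊥ := by
  set N := pPrimeCore p G with hNdef
  have hchar : N.Characteristic := CfsgLib.Cores.pPrimeCore_characteristic p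
  haveI hNn : N.Normal := inferInstance
  have hmap : N.map (α : G →* G) = N := characteristic_iff_map_eq.1 hchar α
  have hNα : ∀ x ∈ N, α x ∈ N := fun x hx => hmap.le ⟨x, hx, rfl⟩
  have hfix' : Nat.card (CfsgLib.LocalEven.OutTools.fixSubgroup α) = p ^ n := hfix
  refine derivedSeries_eq_bot_of_le N ?_ ?_
  · intro x hx
    rw [← QuotientGroup.eq_one_iff]
    haveI := hs
    have hsQ : Group.IsSolvable (G ⧸ N) := solvable_of_surjective (QuotientGroup.mk'_surjective N)
    set b : MulAut (G ⧸ N) := QuotientGroup.congr N N α hmap with hb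
    have hbp : ∀ k (g : G), (b ^ k) (g : G ⧸ N) = ((α ^ k) g : G) := by
      intro k
      induction k with
      | zero => intro g; rfl
      | succ k ih => intro g; rw [pow_succ', MulAut.mul_apply, ih, pow_succ']; rfl
    have hbp1 : b ^ p = 1 := MulEquiv.ext fun v => by
      induction v using QuotientGroup.induction_on with
      | _ g => rw [hbp, hαp]; rfl
    have hbfix : Nat.card {v : G ⧸ N // b v = v} ≤ p ^ n := by
      refine le_trans ?_ ((card_fixed_image_le α N (fun g => (g : G ⧸ N)) (fun x y => QuotientGroup.eq) b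
        fun g => rfl).trans hfix.le)
      exact Nat.card_le_card_of_injective (fun v => ⟨v.1, QuotientGroup.mk_surjective _, v.2⟩)
        fun _ _ h => Subtype.ext (congrArg Subtype.val h :)
    have h := derivedSeries_reduced hsQ (CfsgLib.Cores.pPrimeCore_quotient_self p) b hbp1 hbfix
    have h2 := map_derivedSeries_le_derivedSeries (QuotientGroup.mk' N) (topBound p n + pBound p n)
      ⟨x, hx, rfl⟩
    rw [h, mem_bot] at h2
    exact h2
  · have hfpf : ∀ x : N, restr α N hNα x = x → x = 1 := by
      intro x hx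
      refine orderOf_eq_one_iff.1 (Nat.eq_one_of_dvd_coprimes (CfsgLib.Cores.coprime_card_pPrimeCore p)
        (orderOf_dvd_natCard x) ?_)
      have hm : (x : G) ∈ CfsgLib.LocalEven.OutTools.fixSubgroup α := congrArg Subtype.val hx
      have hd : orderOf x ∣ p ^ n := by
        rw [← Subgroup.orderOf_coe, ← hfix']
        exact Subgroup.orderOf_dvd_natCard _ hm
      obtain ⟨k, -, hk⟩ := (Nat.dvd_prime_pow hp.out).1 hd
      rcases Nat.eq_zero_or_pos k with rfl | hk0
      · rw [hk, pow_zero]; exact one_dvd _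
      · exfalso
        have h1 : p ∣ Nat.card N := (dvd_pow_self p hk0.ne').trans (hk ▸ orderOf_dvd_natCard x)
        exact hp.out.one_lt.ne' (Nat.eq_one_of_dvd_coprimes (CfsgLib.Cores.coprime_card_pPrimeCore p) h1 dvd_rfl)
    have hap := restr_pow_eq_one α N hNα hαp
    have hlcs : (⊤ : Subgroup N).lowerCentralSeries (xi p) = ⊥ :=
      Cfsg.Agent.S3779.class_bound (restr α N hNα) hap hfpf
        (CfsgLib.FGS.isNilpotent_of_fpf_prime hp.out _ hfpf hap) _
        fun β S h0 hS => lcs_eq_bot_of_der β _ S h0 hS (kreknin β h0 hS)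
    have hdg : ∀ i, derivedSeries N i ≤ (⊤ : Subgroup N).lowerCentralSeries i := by
      intro i
      induction i with
      | zero => exact le_rfl
      | succ i ih => exact Subgroup.commutator_mono ih le_top
    exact le_bot_iff.1 ((hdg _).trans hlcs.le)

end CfsgLib.PGroup.AlperinFixed
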