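import Mathlib
import Cfsg.Prelude.Def_KGroupFacts

/-!
# Central extensions of abelian groups given by bilinear cocycles
-/

set_option autoImplicit false

namespace CfsgLib.PGroup

open scoped commutatorElement

universe u

/-- The extension of `G` by `ZMod n` with cocycle `f(x) g(y)`. -/
@[ext] structure BilExt {G : Type u} [CommGroup G] {n : ℕ} (f g : G →* Multiplicative (ZMod n)) : Type u where
  fst : G
  snd : ZMod n

namespace BilExt

variable {G : Type u} [CommGroup G] {n : ℕ} {f g : G →* Multiplicative (ZMod n)}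

instance : Mul (BilExt f g) :=
  ⟨fun x y => ⟨x.fst * y.fst, x.snd + y.snd + (f x.fst).toAdd * (g y.fst).toAdd⟩⟩
instance : One (BilExt f g) := ⟨⟨1, 0⟩⟩
instance : Inv (BilExt f g) := ⟨fun x => ⟨x.fst⁻¹, -x.snd + (f x.fst).toAdd * (g x.fst).toAdd⟩⟩

theorem mul_fst (x y : BilExt f g) : (x * y).fst = x.fst * y.fst := rfl
theorem mul_snd (x y : BilExt f g) :
    (x * y).snd = x.snd + y.snd + (f x.fst).toAdd * (g y.fst).toAdd := rfl
theorem one_fst : (1 : BilExt f g).fst = 1 := rfl
theorem one_snd : (1 : BilExt f g).snd = 0 := rfl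
theorem inv_fst (x : BilExt f g) : x⁻¹.fst = x.fst⁻¹ := rfl
theorem inv_snd (x : BilExt f g) : x⁻¹.snd = -x.snd + (f x.fst).toAdd * (g x.fst).toAdd := rfl

instance : Group (BilExt f g) where
  mul_assoc x y z := by
    ext
    · simp [mul_fst, mul_assoc]
    · simp only [mul_snd, mul_fst, map_mul, toAdd_mul]; ring
  one_mul x := by ext <;> simp [mul_fst, mul_snd, one_fst, one_snd]
  mul_one x := by ext <;> simp [mul_fst, mul_snd, one_fst, one_snd]
  inv_mul_cancel x := by
    ext
    · simp [mul_fst, inv_fst, one_fst]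
    · simp only [mul_snd, inv_snd, inv_fst, one_snd, map_inv, toAdd_inv]; ring

/-- The projection to `G`. -/
def proj (f g : G →* Multiplicative (ZMod n)) : BilExt f g →* G where
  toFun := BilExt.fst
  map_one' := rfl
  map_mul' _ _ := rfl

def equivProd (f g : G →* Multiplicative (ZMod n)) : BilExt f g ≃ G × ZMod n where
  toFun x := (x.fst, x.snd)
  invFun x := ⟨x.1, x.2⟩
  left_inv _ := rfl
  right_inv _ := rfl

end BilExt

/-- If two characters to `ZMod n` are dual to two elements, `G` has a stem extension with kernel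
cyclic of order `n`. -/
theorem exists_stem_bilExt {G : Type u} [CommGroup G] [Finite G] (n : ℕ) [NeZero n]
    (f g : G →* Multiplicative (ZMod n)) (x y : G) (hfx : f x = Multiplicative.ofAdd 1)
    (hgx : g x = 1) (hfy : f y = 1) (hgy : g y = Multiplicative.ofAdd 1) :
    ∃ (Γ : Type u) (_ : Group Γ) (_ : Finite Γ) (σ : Γ →* G),
      Cfsg.IsStemExtension σ ∧ Nonempty (σ.ker ≃* Multiplicative (ZMod n)) := by
  refine ⟨BilExt f g, inferInstance, Finite.of_equiv _ (BilExt.equivProd f g).symm, BilExt.proj f g,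
    ⟨fun (a : G) => ⟨(⟨a, 0⟩ : BilExt f g), rfl⟩, fun (a : BilExt f g) ha => ?_,
      fun (a : BilExt f g) ha => ?_⟩, ⟨?_⟩⟩
  · have ha1 : a.fst = 1 := ha
    refine Subgroup.mem_center_iff.2 fun b => ?_
    ext
    · exact mul_comm _ _
    · simp [BilExt.mul_snd, ha1, add_comm]
  · have ha1 : a.fst = 1 := ha
    have hc : ⁅(⟨x, 0⟩ : BilExt f g), (⟨y, 0⟩ : BilExt f g)⁆ = (⟨1, 1⟩ : BilExt f g) := by
      rw [commutatorElement_def]
      ext
      · simp [BilExt.mul_fst, BilExt.inv_fst, mul_comm]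
      · simp [BilExt.mul_snd, BilExt.mul_fst, BilExt.inv_fst, BilExt.inv_snd, hfx, hgx, hfy, hgy]
    have hpow : ∀ k : ℕ, (⟨1, 1⟩ : BilExt f g) ^ k = ⟨1, k⟩ := by
      intro k
      induction k with
      | zero => ext <;> simp [BilExt.one_fst, BilExt.one_snd]
      | succ k ih => rw [pow_succ, ih]; ext <;> simp [BilExt.mul_fst, BilExt.mul_snd]
    have hmem : (⟨1, 1⟩ : BilExt f g) ∈ _root_.commutator (BilExt f g) := by
      rw [← hc]
      exact Subgroup.commutator_mem_commutator (Subgroup.mem_top _) (Subgroup.mem_top _)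
    have := Subgroup.pow_mem _ hmem a.snd.val
    rw [hpow, ZMod.natCast_zmod_val] at this
    have heq : a = ⟨1, a.snd⟩ := BilExt.ext ha1 rfl
    rwa [heq]
  · exact
      { toFun := fun a => Multiplicative.ofAdd a.1.snd
        invFun := fun c => ⟨⟨1, c.toAdd⟩, rfl⟩
        left_inv := fun a => Subtype.ext (BilExt.ext (a.2 : a.1.fst = 1).symm rfl)
        right_inv := fun c => rfl
        map_mul' := fun a b => by
          have ha1 : a.1.fst = 1 := a.2
          simp [BilExt.mul_snd, ha1] }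

/-- A stem extension of an abelian group generated by `x` and `y` has kernel generated by the
commutator of lifts, whose `n`-th power is trivial when `y ^ n = 1`. -/
theorem exists_surjective_ker_of_pair {G : Type*} [CommGroup G] {Γ : Type*} [Group Γ]
    (σ : Γ →* G) (hσ : Cfsg.IsStemExtension σ) (x y : G)
    (hgen : ∀ a : G, ∃ i j : ℤ, a = x ^ i * y ^ j) (n : ℕ) (hy : y ^ n = 1) :
    ∃ π : Multiplicative (ZMod n) →* σ.ker, Function.Surjective π := by
  obtain ⟨hsurj, hcen, hcomm⟩ := hσ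
  obtain ⟨X, rfl⟩ := hsurj x
  obtain ⟨Y, rfl⟩ := hsurj y
  have hzker : ⁅X, Y⁆ ∈ σ.ker := by
    rw [MonoidHom.mem_ker, map_commutatorElement, commutatorElement_eq_one_iff_mul_comm, mul_comm]
  have hzc : ⁅X, Y⁆ ∈ Subgroup.center Γ := hcen hzker
  set z := ⁅X, Y⁆ with hz
  -- `z ^ n = 1`
  have hpow : ∀ k : ℕ, ⁅X, Y ^ k⁆ = z ^ k := by
    intro k
    induction k with
    | zero => simp
    | succ k ih =>
      calc ⁅X, Y ^ (k + 1)⁆ = ⁅X, Y ^ k⁆ * (Y ^ k * z * (Y ^ k)⁻¹) := by
            rw [hz, commutatorElement_def, commutatorElement_def, commutatorElement_def, pow_succ]; group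
        _ = z ^ k * z := by rw [ih, Subgroup.mem_center_iff.1 hzc (Y ^ k), mul_inv_cancel_right]
        _ = z ^ (k + 1) := (pow_succ z k).symm
  have hzn : z ^ n = 1 := by
    rw [← hpow, commutatorElement_eq_one_iff_mul_comm]
    exact Subgroup.mem_center_iff.1 (hcen (MonoidHom.mem_ker.2 (by rw [map_pow, hy]))) X
  -- the derived subgroup is generated by `z`
  set Z := Subgroup.zpowers z
  haveI hZn : Z.Normal := ⟨fun a ha b => by
    rw [Subgroup.mem_center_iff.1 (Subgroup.zpowers_le.2 hzc ha) b, mul_inv_cancel_right]; exact ha⟩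
  have hle : _root_.commutator Γ ≤ Z := by
    rw [commutator_def, Subgroup.commutator_le]
    intro a _ b _
    rw [← QuotientGroup.eq_one_iff]
    show QuotientGroup.mk' Z ⁅a, b⁆ = 1
    rw [map_commutatorElement, commutatorElement_eq_one_iff_mul_comm]
    have hXY : Commute (QuotientGroup.mk' Z X) (QuotientGroup.mk' Z Y) := by
      refine commutatorElement_eq_one_iff_mul_comm.1 ?_
      rw [← map_commutatorElement]
      exact (QuotientGroup.eq_one_iff _).2 (Subgroup.mem_zpowers z)
    have dec : ∀ a : Γ, ∃ i j : ℤ, ∃ k ∈ σ.ker, a = X ^ i * Y ^ j * k := fun a => by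
      obtain ⟨i, j, h⟩ := hgen (σ a)
      exact ⟨i, j, (X ^ i * Y ^ j)⁻¹ * a, by
        rw [MonoidHom.mem_ker, map_mul, map_inv, map_mul, map_zpow, map_zpow, ← h, inv_mul_cancel],
        by group⟩
    obtain ⟨i, j, k, hk, rfl⟩ := dec a
    obtain ⟨i', j', k', hk', rfl⟩ := dec b
    have hkc : ∀ {k : Γ}, k ∈ σ.ker → ∀ w, Commute (QuotientGroup.mk' Z k) w := by
      intro k hk w
      obtain ⟨w, rfl⟩ := QuotientGroup.mk'_surjective Z w
      show _ * _ = _ * _
      rw [← map_mul, ← map_mul, Subgroup.mem_center_iff.1 (hcen hk) w]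
    simp only [map_mul, map_zpow]
    refine Commute.mul_left ?_ (hkc hk _)
    refine Commute.mul_right ?_ (hkc hk' _).symm
    exact ((((Commute.refl _).zpow_zpow i i').mul_right (hXY.zpow_zpow i j')).mul_left
      (((hXY.symm.zpow_zpow j i')).mul_right ((Commute.refl _).zpow_zpow j j')))
  set w : σ.ker := ⟨z, hzker⟩
  let m : ℤ →+ Additive σ.ker := zmultiplesHom (Additive σ.ker) (Additive.ofMul w)
  have hm : m n = 0 := by
    apply Additive.toMul.injective
    refine Subtype.ext ?_
    simp [m, w, hzn]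
  let π0 : ZMod n →+ Additive σ.ker := ZMod.lift n ⟨m, hm⟩
  refine ⟨π0.toMultiplicativeLeft, fun ⟨a, ha⟩ => ?_⟩
  obtain ⟨i, hi⟩ := Subgroup.mem_zpowers_iff.1 (hle (hcomm ha))
  refine ⟨Multiplicative.ofAdd (i : ZMod n), ?_⟩
  show (π0 (i : ZMod n)).toMul = _
  rw [ZMod.lift_coe]
  refine Subtype.ext ?_
  simpa [m, w] using hi

end CfsgLib.PGroup
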