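/-
Elementary abelian groups of automorphisms of order eight of a group of odd prime power order.
-/
import Cfsg.Agent.Lib.PGroup.Basic
import Cfsg.Agent.Lib.PGroup.ElemAbelian
import Cfsg.Prelude.Def_Transfer

set_option autoImplicit false

namespace CfsgLib.PGroup.BroadInvolutions

open Subgroup
open scoped commutatorElement

variable {P : Type*} [Group P]

/-- The fixed points of an automorphism. -/
def fixSub (T : MulAut P) : Subgroup P := T.toMonoidHom.eqLocus (MonoidHom.id P)

theorem mem_fixSub {T : MulAut P} {x : P} : x ∈ fixSub T ↔ T x = x := Iff.rfl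

theorem exists_zpowers_iff (T : MulAut P) :
    (∃ g : P, ∀ x : P, (T x = x ↔ x ∈ zpowers g)) ↔ IsCyclic (fixSub T) := by
  rw [Subgroup.isCyclic_iff_exists_zpowers_eq_top]
  refine exists_congr fun g => ⟨fun h => ?_, fun h x => by rw [h]; rfl⟩
  ext x
  exact (h x).symm

theorem self_inv_eq_one [Finite P] (hodd : Odd (Nat.card P)) {x : P} (h : x * x = 1) : x = 1 := by
  obtain ⟨o, ho⟩ := hodd
  have h1 : x ^ Nat.card P = 1 := pow_card_eq_one'
  rwa [ho, pow_succ, pow_mul, pow_two, h, one_pow, one_mul] at h1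

/-- Fixed points in a coset. -/
theorem exists_fixed_in_coset [Finite P] (hodd : Odd (Nat.card P)) {T : MulAut P} (hT : T * T = 1)
    (N : Subgroup P) {g : P} (hg : g⁻¹ * T g ∈ N) : ∃ n ∈ N, T (g * n) = g * n := by
  have hTT : ∀ y, T (T y) = y := fun y => DFunLike.congr_fun hT y
  obtain ⟨o, ho⟩ := hodd
  set k := g⁻¹ * T g with hk
  have hk1 : T k = k⁻¹ := by rw [hk, map_mul, map_inv, hTT, mul_inv_rev, inv_inv]
  have hkk : k ^ (2 * o + 1) = 1 := by rw [← ho]; exact pow_card_eq_one'
  refine ⟨k ^ (o + 1), pow_mem hg _, ?_⟩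
  have h2 : k * (k ^ (o + 1))⁻¹ = k ^ (o + 1) := by
    rw [mul_inv_eq_iff_eq_mul, ← pow_add, show o + 1 + (o + 1) = 2 * o + 1 + 1 by ring, pow_succ, hkk, one_mul]
  rw [map_mul, map_pow, hk1, inv_pow, show T g = g * k by rw [hk, mul_inv_cancel_left], mul_assoc, h2]

/-- An involutory automorphism of a cyclic `p`-group of odd order fixes or inverts it. -/
theorem fix_or_inv {p : ℕ} [hp : Fact p.Prime] (hP : IsPGroup p P) (hp2 : p ≠ 2)
    {T : MulAut P} (hT : T * T = 1) {X : Subgroup P} (hX : IsCyclic X) (hTX : ∀ x ∈ X, T x ∈ X) :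
    (∀ x ∈ X, T x = x) ∨ ∀ x ∈ X, T x = x⁻¹ := by
  obtain ⟨g, hg⟩ := (Subgroup.isCyclic_iff_exists_zpowers_eq_top X).1 hX
  subst hg
  obtain ⟨k, hk⟩ : T g ∈ zpowers g := hTX g (mem_zpowers g)
  simp only at hk
  have hkk : g ^ ((k - 1) * (k + 1)) = 1 := by
    have h1 : T (T g) = g := DFunLike.congr_fun hT g
    rw [← hk, map_zpow, ← hk, ← zpow_mul] at h1
    rw [show (k - 1) * (k + 1) = k * k - 1 by ring, zpow_sub, h1, zpow_one, mul_inv_cancel]
  obtain ⟨n, hn⟩ := IsPGroup.iff_orderOf.1 hP g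
  rw [← orderOf_dvd_iff_zpow_eq_one, hn] at hkk
  have hpi : Prime (p : ℤ) := Nat.prime_iff_prime_int.1 hp.out
  have hd : ((p ^ n : ℕ) : ℤ) ∣ k - 1 ∨ ((p ^ n : ℕ) : ℤ) ∣ k + 1 := by
    rcases Nat.eq_zero_or_pos n with rfl | hn0
    · simp
    push_cast at hkk ⊢
    by_cases h : (p : ℤ) ∣ k - 1
    · left
      refine hpi.pow_dvd_of_dvd_mul_right n (fun h' => ?_) hkk
      have : (p : ℤ) ∣ ((2 : ℕ) : ℤ) := by
        have := Int.dvd_sub h' h
        rwa [show k + 1 - (k - 1) = ((2 : ℕ) : ℤ) by push_cast; ring] at this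
      exact hp2 ((Nat.prime_dvd_prime_iff_eq hp.out Nat.prime_two).1 (Int.natCast_dvd_natCast.1 this))
    · right
      exact hpi.pow_dvd_of_dvd_mul_left n h hkk
  rw [← hn, orderOf_dvd_iff_zpow_eq_one, orderOf_dvd_iff_zpow_eq_one, zpow_sub, zpow_add, zpow_one, hk] at hd
  rcases hd with h | h
  · left
    rintro _ ⟨i, rfl⟩
    simp only [map_zpow]
    rw [mul_inv_eq_one.1 h]
  · right
    rintro _ ⟨i, rfl⟩
    simp only [map_zpow]
    rw [mul_eq_one_iff_eq_inv.1 h, inv_zpow]

variable {p : ℕ} [hp : Fact p.Prime] [Finite P]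

/-- The induced automorphism of the Frattini quotient. -/
noncomputable def ind (T : MulAut P) : P ⧸ frattini P →* P ⧸ frattini P :=
  QuotientGroup.map _ _ T.toMonoidHom
    (le_of_eq (Subgroup.characteristic_iff_comap_eq.1 inferInstance T).symm)

theorem ind_mk (T : MulAut P) (x : P) : ind T (x : P ⧸ frattini P) = (T x : P ⧸ frattini P) := rfl

theorem ind_mul (S T : MulAut P) (v : P ⧸ frattini P) : ind (S * T) v = ind S (ind T v) := by
  induction v using QuotientGroup.induction_on with | _ x => rfl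

theorem ind_one (v : P ⧸ frattini P) : ind (1 : MulAut P) v = v := by
  induction v using QuotientGroup.induction_on with | _ x => rfl

/-- The image of the fixed points. -/
noncomputable def F (T : MulAut P) : Subgroup (P ⧸ frattini P) :=
  (fixSub T).map (QuotientGroup.mk' (frattini P))

theorem mem_F (hodd : Odd (Nat.card P)) {T : MulAut P} (hT : T * T = 1) {v : P ⧸ frattini P} :
    v ∈ F T ↔ ind T v = v := by
  constructor
  · rintro ⟨x, hx, rfl⟩
    exact (ind_mk T x).trans (congrArg _ (mem_fixSub.1 hx))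
  · intro hv
    induction v using QuotientGroup.induction_on with | _ g =>
    rw [ind_mk, eq_comm, QuotientGroup.eq] at hv
    obtain ⟨n, hn, hfix⟩ := exists_fixed_in_coset hodd hT (frattini P) hv
    exact ⟨g * n, hfix, QuotientGroup.eq.2 (by simpa using inv_mem hn)⟩

theorem eq_one_of_trivial (hodd : Odd (Nat.card P)) {T : MulAut P} (hT : T * T = 1)
    (h : ∀ v : P ⧸ frattini P, ind T v = v) : T = 1 := by
  have htop : fixSub T ⊔ frattini P = ⊤ := by
    rw [eq_top_iff]
    intro g _
    obtain ⟨x, hx, hxg⟩ := (mem_F hodd hT).2 (h g)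
    have : g = x * (x⁻¹ * g) := by group
    rw [this]
    exact mul_mem (mem_sup_left hx) (mem_sup_right (QuotientGroup.eq.1 hxg))
  refine MulEquiv.ext fun x => ?_
  have : x ∈ fixSub T := frattini_nongenerating htop ▸ mem_top x
  exact this

theorem four_decomp (hP : IsPGroup p P) (hodd : Odd (Nat.card P)) {a b : MulAut P} (ha : a * a = 1) (hb : b * b = 1) (hab : a * b = b * a)
    (v : P ⧸ frattini P) : v ∈ F a ⊔ F b ⊔ F (a * b) := by
  have habab : (a * b) * (a * b) = 1 := by
    calc a * b * (a * b) = a * (b * a) * b := by group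
      _ = (a * a) * (b * b) := by rw [← hab]; group
      _ = 1 := by rw [ha, hb, one_mul]
  let _ : CommGroup (P ⧸ frattini P) :=
    { (inferInstance : Group (P ⧸ frattini P)) with mul_comm := quotient_frattini_comm hP }
  have ca : ∀ w, ind a (ind a w) = w := fun w => by rw [← ind_mul, ha, ind_one]
  have cb : ∀ w, ind b (ind b w) = w := fun w => by rw [← ind_mul, hb, ind_one]
  have cab : ∀ w, ind b (ind a w) = ind a (ind b w) := fun w => by rw [← ind_mul, ← ind_mul, hab]
  set A := ind a v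
  set B := ind b v
  set C := ind a (ind b v)
  have h4 : v ^ 4 = ((v * A * B * C) * (v * A * (B * C)⁻¹)) * (v * B * (A * C)⁻¹) * (v * C * (A * B)⁻¹) := by
    apply Additive.ofMul.injective
    simp only [ofMul_pow, ofMul_mul, ofMul_inv]
    abel
  have hA : A * B * C * v ∈ F a ∧ v * A * (B * C)⁻¹ ∈ F a := by
    simp only [mem_F hodd ha, map_mul, map_inv, A, B, C, ca]
    constructor <;> ac_rfl
  have hB : v * B * (A * C)⁻¹ ∈ F b := by
    simp only [mem_F hodd hb, map_mul, map_inv, A, B, C, cb, cab]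
    ac_rfl
  have hC : v * C * (A * B)⁻¹ ∈ F (a * b) := by
    simp only [mem_F hodd habab, map_mul, map_inv, A, B, C, ind_mul, ca, cb, cab]
    ac_rfl
  have hmem : v ^ 4 ∈ F a ⊔ F b ⊔ F (a * b) := by
    rw [h4]
    refine mul_mem (mul_mem (mem_sup_left (mem_sup_left (mul_mem ?_ hA.2))) (mem_sup_left (mem_sup_right hB)))
      (mem_sup_right hC)
    rw [show v * A * B * C = A * B * C * v by ac_rfl]
    exact hA.1
  have hco : (Nat.card (P ⧸ frattini P)).Coprime 4 := by
    rw [show 4 = 2 ^ 2 from rfl]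
    refine Nat.Coprime.pow_right 2 ?_
    rw [Nat.coprime_two_right]
    exact hodd.of_dvd_nat (Subgroup.index_dvd_card _)
  refine zpowers_le.2 hmem (mem_zpowers_pow_iff.2 ?_)
  exact Nat.Coprime.symm (hco.coprime_dvd_left (orderOf_dvd_natCard v))

/-- An automorphism with noncyclic fixed points. -/
def Broad (T : MulAut P) : Prop := ¬ IsCyclic (fixSub T)

theorem exists_F_eq_zpowers {T : MulAut P} (h : IsCyclic (fixSub T)) :
    ∃ g : P, fixSub T = zpowers g ∧ F T = zpowers (g : P ⧸ frattini P) := by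
  obtain ⟨g, hg⟩ := (Subgroup.isCyclic_iff_exists_zpowers_eq_top _).1 h
  exact ⟨g, hg.symm, by rw [F, ← hg, MonoidHom.map_zpowers]; rfl⟩

theorem zpowers_eq_of_mem (hP : IsPGroup p P) {w e : P ⧸ frattini P} (hw : w ∈ zpowers e) (h1 : w ≠ 1) :
    zpowers w = zpowers e := by
  refine Subgroup.eq_of_le_of_card_ge (zpowers_le.2 hw) ?_
  rw [Nat.card_zpowers, Nat.card_zpowers, orderOf_eq_prime (quotient_frattini_pow hP w) h1]
  exact orderOf_le_of_pow_eq_one hp.out.pos (quotient_frattini_pow hP e)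

theorem exists_four {I W : Subgroup (MulAut P)} (hI : ∀ T ∈ I, T * T = 1) (hWI : W ≤ I) (h4 : Nat.card W = 4) :
    ∃ a b : MulAut P, a ∈ W ∧ b ∈ W ∧ a ≠ 1 ∧ b ≠ 1 ∧ a ≠ b ∧ a * b ≠ 1 := by
  have : Finite W := Nat.finite_of_card_ne_zero (by omega)
  obtain ⟨⟨a, ha⟩, ha1⟩ : ∃ a : W, a ≠ 1 := by
    by_contra h
    push Not at h
    have : Subsingleton W := ⟨fun x y => (h x).trans (h y).symm⟩
    rw [Nat.card_of_subsingleton (1 : W)] at h4
    omega
  obtain ⟨b, hb, hba⟩ : ∃ b ∈ W, b ∉ zpowers a := by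
    by_contra h
    push Not at h
    have h2 := Subgroup.card_le_of_le (H := W) (K := zpowers a) h
    rw [Nat.card_zpowers, h4] at h2
    have := orderOf_le_of_pow_eq_one (x := a) (n := 2) (by norm_num) (by rw [pow_two]; exact hI a (hWI ha))
    omega
  have ha1' : a ≠ 1 := fun e => ha1 (Subtype.ext e)
  refine ⟨a, b, ha, hb, ha1', fun e => hba (e ▸ one_mem _), fun e => hba (e ▸ mem_zpowers a), fun e => hba ?_⟩
  rw [← inv_eq_of_mul_eq_one_right e]
  exact inv_mem (mem_zpowers a)

/-- The basis adapted to a four group of automorphisms with cyclic fixed points. -/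
theorem exists_basis (hP : IsPGroup p P) (hp2 : p ≠ 2) (I : Subgroup (MulAut P))
    (hI : Cfsg.IsElementaryAbelian 2 I) (hI8 : Nat.card I = 8) (W : Subgroup (MulAut P)) (hWI : W ≤ I)
    (h4 : Nat.card W = 4) (hW : ∀ T ∈ W, T ≠ 1 → ¬ Broad T) :
    ∃ (a : Fin 3 → MulAut P) (x : Fin 3 → P) (σ : I ≃ (Fin 3 → Bool)),
      (∀ i, a i ∈ W ∧ fixSub (a i) = zpowers (x i)) ∧
      Subgroup.closure (Set.range x) = ⊤ ∧
      (∀ i, (x i : P ⧸ frattini P) ≠ 1) ∧
      (∀ (T : I) i, σ T i = true → (T : MulAut P) (x i) = x i) ∧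
      (∀ (T : I) i, σ T i = false → (T : MulAut P) (x i) = (x i)⁻¹) ∧
      (∀ (T : I) i j, (T : MulAut P) = a i → σ T j = decide (j = i)) := by
  classical
  have hodd : Odd (Nat.card P) := by
    obtain ⟨n, hn⟩ := IsPGroup.iff_card.1 hP
    rw [hn]
    exact (hp.out.odd_of_ne_two hp2).pow
  have hTT : ∀ T ∈ I, T * T = 1 := fun T hT => by rw [← pow_two]; exact hI.2 T hT
  have hIc : ∀ S ∈ I, ∀ T ∈ I, S * T = T * S := fun S hS T hT => CfsgLib.PGroup.elemAb_comm hI hS hT
  obtain ⟨t, u, ht, hu, ht1, hu1, htu, htu1⟩ := exists_four hTT hWI h4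
  let a : Fin 3 → MulAut P := ![t, u, t * u]
  have haW : ∀ i, a i ∈ W := by intro i; fin_cases i <;> simp [a, ht, hu, mul_mem]
  have ha1 : ∀ i, a i ≠ 1 := by intro i; fin_cases i <;> simp [a, ht1, hu1, htu1]
  have haI : ∀ i, a i ∈ I := fun i => hWI (haW i)
  choose x hxfix hxF using fun i => exists_F_eq_zpowers (not_not.1 (hW _ (haW i) (ha1 i)))
  let e : Fin 3 → P ⧸ frattini P := fun i => (x i : P ⧸ frattini P)
  have hai : ∀ i, ind (a i) (e i) = e i := fun i =>
    (mem_F hodd (hTT _ (haI i))).1 (by rw [hxF]; exact mem_zpowers _)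
  have hgen : ∀ v, v ∈ zpowers (e 0) ⊔ zpowers (e 1) ⊔ zpowers (e 2) := by
    intro v
    have := four_decomp hP hodd (hTT _ (haI 0)) (hTT _ (haI 1)) (hIc _ (haI 0) _ (haI 1)) v
    rw [hxF 0, hxF 1, show a 0 * a 1 = a 2 by simp [a], hxF 2] at this
    exact this
  have hext : ∀ T : MulAut P, (∀ i, ind T (e i) = e i) → ∀ v, ind T v = v := by
    intro T h v
    have hle : zpowers (e 0) ⊔ zpowers (e 1) ⊔ zpowers (e 2) ≤ (ind T).eqLocus (MonoidHom.id _) :=
      sup_le (sup_le (zpowers_le.2 (h 0)) (zpowers_le.2 (h 1))) (zpowers_le.2 (h 2))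
    exact hle (hgen v)
  have hind_sq : ∀ T ∈ I, ∀ v, ind T (ind T v) = v := fun T hT v => by rw [← ind_mul, hTT T hT, ind_one]
  have hfi : ∀ T ∈ I, ∀ i, ind T (e i) = e i ∨ ind T (e i) = (e i)⁻¹ := by
    intro T hT i
    have hmem : ind T (e i) ∈ zpowers (e i) := by
      rw [← hxF i, mem_F hodd (hTT _ (haI i)), ← ind_mul, hIc _ (haI i) _ hT, ind_mul, hai]
    by_cases h1 : ind T (e i) * e i = 1
    · exact Or.inr (mul_eq_one_iff_eq_inv.1 h1)
    · left
      have hz := zpowers_eq_of_mem hP (mul_mem hmem (mem_zpowers _)) h1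
      obtain ⟨l, hl⟩ : e i ∈ zpowers (ind T (e i) * e i) := hz ▸ mem_zpowers _
      simp only at hl
      nth_rewrite 1 [← hl]
      rw [map_zpow, map_mul, hind_sq T hT, quotient_frattini_comm hP (e i)]
      exact hl
  let sgn : I → (Fin 3 → Bool) := fun T i => decide (ind (T : MulAut P) (e i) = e i)
  have hinj : Function.Injective sgn := by
    intro S T h
    have h1 : ((S : MulAut P) * T) = 1 := by
      refine eq_one_of_trivial hodd (hTT _ (mul_mem S.2 T.2)) (hext _ fun i => ?_)
      have hi : (ind (S : MulAut P) (e i) = e i) ↔ (ind (T : MulAut P) (e i) = e i) := by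
        simpa [sgn] using congrFun h i
      have hST : ind (S : MulAut P) (e i) = ind (T : MulAut P) (e i) := by
        rcases hfi _ S.2 i with h2 | h2 <;> rcases hfi _ T.2 i with h3 | h3
        · rw [h2, h3]
        · rw [h2, hi.1 h2]
        · rw [hi.2 h3, h3]
        · rw [h2, h3]
      rw [ind_mul, ← hST, hind_sq _ S.2]
    exact Subtype.ext ((inv_eq_of_mul_eq_one_right h1).symm.trans
      (inv_eq_of_mul_eq_one_right (hTT _ S.2))).symm
  have hbij : Function.Bijective sgn :=
    (Nat.bijective_iff_injective_and_card sgn).2 ⟨hinj, by rw [hI8, Nat.card_fun, Nat.card_fin, Nat.card_eq_fintype_card, Fintype.card_bool]; rfl⟩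
  have he1 : ∀ i, e i ≠ 1 := by
    intro i h
    obtain ⟨T, hT⟩ := hbij.2 fun _ => false
    have := congrFun hT i
    simp [sgn, h] at this
  have hinv : ∀ i j, j ≠ i → ind (a i) (e j) ≠ e j := by
    intro i j hji h
    have hm : e j ∈ F (a i) := (mem_F hodd (hTT _ (haI i))).2 h
    rw [hxF i] at hm
    have hz : zpowers (e j) = zpowers (e i) := zpowers_eq_of_mem hP hm (he1 j)
    have hfix : ind (a j) (e i) = e i := by
      have hle : zpowers (e j) ≤ (ind (a j)).eqLocus (MonoidHom.id _) := zpowers_le.2 (hai j)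
      exact hle (hz ▸ mem_zpowers (e i))
    have hall : ∀ k, ind (a k) (e i) = e i := by
      have hmul : a 0 * a 1 = a 2 := by simp [a]
      have hc := hai i
      have key : ∀ k, k ≠ i → k ≠ j → ind (a k) (e i) = e i := by
        intro k hki hkj
        have hk : a k = a i * a j := by
          have h0 := hTT _ (haI 0)
          have h1 := hTT _ (haI 1)
          have hc01 := hIc _ (haI 0) _ (haI 1)
          have e12 : a 1 * a 2 = a 0 := by rw [← hmul, hc01, ← mul_assoc, h1, one_mul]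
          have e02 : a 0 * a 2 = a 1 := by rw [← hmul, ← mul_assoc, h0, one_mul]
          have e20 : a 2 * a 0 = a 1 := by rw [hIc _ (haI 2) _ (haI 0), e02]
          have e21 : a 2 * a 1 = a 0 := by rw [hIc _ (haI 2) _ (haI 1), e12]
          fin_cases i <;> fin_cases j <;> fin_cases k <;>
            first
              | exact absurd rfl hji
              | exact absurd rfl hki
              | exact absurd rfl hkj
              | exact hmul.symm
              | exact (hc01.symm.trans hmul).symm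
              | exact e12.symm
              | exact e02.symm
              | exact e20.symm
              | exact e21.symm
        rw [hk, ind_mul, hfix, hc]
      intro k
      by_cases h1 : k = i
      · rw [h1]; exact hc
      · by_cases h2 : k = j
        · rw [h2]; exact hfix
        · exact key k h1 h2
    have hzk : ∀ k, zpowers (e k) = zpowers (e i) := fun k => by
      have hm : e i ∈ zpowers (e k) := by rw [← hxF k, mem_F hodd (hTT _ (haI k))]; exact hall k
      exact (zpowers_eq_of_mem hP hm (he1 i)).symm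
    refine ha1 0 (eq_one_of_trivial hodd (hTT _ (haI 0)) (hext _ fun k => ?_))
    have hle : zpowers (e i) ≤ (ind (a 0)).eqLocus (MonoidHom.id _) := zpowers_le.2 (hall 0)
    exact hle (hzk k ▸ mem_zpowers (e k))
  have hgenx : Subgroup.closure (Set.range x) = ⊤ := by
    refine frattini_nongenerating ?_
    rw [eq_top_iff]
    intro g _
    have hle : zpowers (e 0) ⊔ zpowers (e 1) ⊔ zpowers (e 2) ≤
        (closure (Set.range x)).map (QuotientGroup.mk' (frattini P)) :=
      sup_le (sup_le (zpowers_le.2 ⟨x 0, subset_closure ⟨0, rfl⟩, rfl⟩)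
        (zpowers_le.2 ⟨x 1, subset_closure ⟨1, rfl⟩, rfl⟩)) (zpowers_le.2 ⟨x 2, subset_closure ⟨2, rfl⟩, rfl⟩)
    obtain ⟨y, hy, hyg⟩ := hle (hgen (g : P ⧸ frattini P))
    have : g = y * (y⁻¹ * g) := by group
    rw [this]
    exact mul_mem (mem_sup_left hy) (mem_sup_right (QuotientGroup.eq.1 hyg))
  have hxi : ∀ (T : I) i, (T : MulAut P) (x i) = x i ∨ (T : MulAut P) (x i) = (x i)⁻¹ := by
    intro T i
    have hX : IsCyclic (fixSub (a i)) := by rw [hxfix]; infer_instance
    have hmem : ∀ y ∈ fixSub (a i), (T : MulAut P) y ∈ fixSub (a i) := fun y hy => by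
      show a i ((T : MulAut P) y) = (T : MulAut P) y
      have := DFunLike.congr_fun (hIc _ (haI i) _ T.2) y
      simp only [MulAut.mul_apply] at this
      rw [this, mem_fixSub.1 hy]
    have hx : x i ∈ fixSub (a i) := by rw [hxfix]; exact mem_zpowers _
    rcases fix_or_inv hP hp2 (hTT _ T.2) hX hmem with h | h
    · exact Or.inl (h _ hx)
    · exact Or.inr (h _ hx)
  refine ⟨a, x, Equiv.ofBijective sgn hbij, fun i => ⟨haW i, hxfix i⟩, hgenx, he1, ?_, ?_, ?_⟩
  · intro T i hT
    have hT' : ind (T : MulAut P) (e i) = e i := by simpa [sgn] using hT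
    refine (hxi T i).resolve_right fun h => he1 i ?_
    rw [ind_mk, h, QuotientGroup.mk_inv] at hT'
    exact self_inv_eq_one (hodd.of_dvd_nat (Subgroup.index_dvd_card _)) (inv_eq_iff_mul_eq_one.1 hT')
  · intro T i hT
    have hT' : ind (T : MulAut P) (e i) ≠ e i := by simpa [sgn] using hT
    refine (hxi T i).resolve_left fun h => hT' ?_
    rw [ind_mk, h]
  · intro T i j hT
    show decide _ = decide _
    rw [decide_eq_decide, hT]
    refine ⟨fun h => by_contra fun hne => hinv i j hne h, fun h => h ▸ hai j⟩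

theorem bool_cases : ∀ f : Fin 3 → Bool, (f = fun _ => true) ∨ (f = fun _ => false) ∨
    (∃ j, f = fun i => decide (i = j)) ∨ ∃ j, f = fun i => decide (i ≠ j) := by decide

theorem exists_two : ∀ j : Fin 3, ∃ i k : Fin 3, i ≠ j ∧ k ≠ j ∧ i ≠ k := by decide

theorem exists_third : ∀ i k : Fin 3, i ≠ k → ∃ l : Fin 3, l ≠ i ∧ l ≠ k := by decide

theorem bool_third : ∀ i j k l : Fin 3, i ≠ j → k ≠ j → i ≠ k →
    decide (l = j) = (decide (l ≠ i) == decide (l ≠ k)) := by decide

theorem exists_index_two (I I₀ : Subgroup (MulAut P)) (hI : Cfsg.IsElementaryAbelian 2 I)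
    (h0 : I₀ ≤ I) {u : MulAut P} (hu : u ∈ I) (hu0 : u ∉ I₀) :
    ∃ W : Subgroup (MulAut P), W ≤ I ∧ I₀ ≤ W ∧ u ∉ W ∧ 2 * Nat.card W = Nat.card I := by
  have hTT : ∀ T ∈ I, T * T = 1 := fun T hT => by rw [← pow_two]; exact hI.2 T hT
  have hIc : ∀ S ∈ I, ∀ T ∈ I, S * T = T * S := fun S hS T hT => CfsgLib.PGroup.elemAb_comm hI hS hT
  obtain ⟨W, hW0, ⟨hWI, huW⟩, hmax⟩ := Finite.exists_le_maximal
    (p := fun W : Subgroup (MulAut P) => W ≤ I ∧ u ∉ W) (a := I₀) ⟨h0, hu0⟩
  refine ⟨W, hWI, hW0, huW, ?_⟩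
  have key : ∀ x ∈ I, x ∉ W → x * u ∈ W := by
    intro x hx hxW
    let W' : Subgroup (MulAut P) :=
      { carrier := {y | y ∈ I ∧ (y ∈ W ∨ x * y ∈ W)}
        one_mem' := ⟨one_mem I, Or.inl (one_mem W)⟩
        mul_mem' := fun {y z} hy hz => ⟨mul_mem hy.1 hz.1, by
          rcases hy.2 with h1 | h1 <;> rcases hz.2 with h2 | h2
          · exact Or.inl (mul_mem h1 h2)
          · right
            rw [← mul_assoc, hIc x hx y hy.1, mul_assoc]
            exact mul_mem h1 h2
          · right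
            rw [← mul_assoc]
            exact mul_mem h1 h2
          · left
            have := mul_mem h1 h2
            rwa [hIc x hx y hy.1, mul_assoc, ← mul_assoc x x z, hTT x hx, one_mul] at this⟩
        inv_mem' := fun {y} hy => by
          rw [Set.mem_ofPred_eq, inv_eq_of_mul_eq_one_right (hTT y hy.1)]
          exact hy }
    by_contra hne
    have hW' : W' ≤ I ∧ u ∉ W' := ⟨fun y hy => hy.1, fun h => h.2.elim huW hne⟩
    have hxW' : x ∈ W' := ⟨hx, Or.inr (by rw [hTT x hx]; exact one_mem W)⟩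
    exact hxW (hmax hW' (fun y hy => ⟨hWI hy, Or.inl hy⟩) hxW')
  have hidx : (W.subgroupOf I).index = 2 := by
    rw [Subgroup.index_eq_two_iff]
    refine ⟨⟨u, hu⟩, fun b => ?_⟩
    simp only [mem_subgroupOf, Subgroup.coe_mul]
    by_cases hb : (b : MulAut P) ∈ W
    · exact Or.inr ⟨hb, fun h => huW (by simpa using mul_mem (inv_mem hb) h)⟩
    · exact Or.inl ⟨key _ b.2 hb, hb⟩
  rw [← hidx, ← Nat.card_congr (subgroupOfEquivOfLe hWI).toEquiv, index_mul_card]

/-- The structure theorem. -/
theorem structure_theorem (hP : IsPGroup p P) (hp2 : p ≠ 2) (I I₀ : Subgroup (MulAut P))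
    (hI : Cfsg.IsElementaryAbelian 2 I) (hI8 : Nat.card I = 8) (hI₀ : I₀ < I)
    (hdisj : ∀ T ∈ I₀, T ≠ 1 → ¬ Broad T)
    (hprod : ∀ T ∈ I, ∀ T' ∈ I, T ≠ 1 → T' ≠ 1 → Broad T → Broad T' → T * T' ∈ I₀) :
    IsMulCommutative P ∧ (∃ a b c : P, closure {a, b, c} = ⊤) ∧ (¬ ∃ a b : P, closure {a, b} = ⊤) ∧
      Nat.card {T : MulAut P // T ∈ I ∧ T ≠ 1 ∧ Broad T} = 3 ∧
      closure {T : MulAut P | T ∈ I ∧ T ≠ 1 ∧ Broad T} = I ∧
      (I₀ : Set (MulAut P)) = {S : MulAut P | ∃ T T' : MulAut P, T ∈ I ∧ T' ∈ I ∧ T ≠ 1 ∧ T' ≠ 1 ∧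
        Broad T ∧ Broad T' ∧ S = T * T'} := by
  classical
  have hodd : Odd (Nat.card P) := by
    obtain ⟨n, hn⟩ := IsPGroup.iff_card.1 hP
    rw [hn]
    exact (hp.out.odd_of_ne_two hp2).pow
  have hoddV : Odd (Nat.card (P ⧸ frattini P)) := hodd.of_dvd_nat (Subgroup.index_dvd_card _)
  have hTT : ∀ T ∈ I, T * T = 1 := fun T hT => by rw [← pow_two]; exact hI.2 T hT
  obtain ⟨u, hu, hu0, huB⟩ : ∃ u ∈ I, u ∉ I₀ ∧
      ((∃ T ∈ I, T ≠ 1 ∧ Broad T) → u ≠ 1 ∧ Broad u) := by
    by_cases h : ∃ T ∈ I, T ≠ 1 ∧ Broad T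
    · obtain ⟨T, hT, hT1, hTB⟩ := h
      exact ⟨T, hT, fun h0 => hdisj T h0 hT1 hTB, fun _ => ⟨hT1, hTB⟩⟩
    · obtain ⟨T, hT, hT0⟩ := SetLike.exists_of_lt hI₀
      exact ⟨T, hT, hT0, fun h' => absurd h' h⟩
  obtain ⟨W, hWI, hW0, huW, hWc⟩ := exists_index_two I I₀ hI hI₀.le hu hu0
  have hWnb : ∀ T ∈ W, T ≠ 1 → ¬ Broad T := by
    intro T hT hT1 hTB
    obtain ⟨hu1, huB'⟩ := huB ⟨T, hWI hT, hT1, hTB⟩
    exact huW (by simpa using mul_mem (inv_mem hT) (hW0 (hprod T (hWI hT) u hu hT1 hu1 hTB huB')))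
  obtain ⟨a, x, σ, ha, hgen, hx1, hσt, hσf, hσa⟩ :=
    exists_basis hP hp2 I hI hI8 W hWI (by omega) hWnb
  have hxne : ∀ i, x i ≠ (x i)⁻¹ := fun i h => hx1 i (by
    rw [self_inv_eq_one hodd (eq_inv_iff_mul_eq_one.1 h)]; rfl)
  have hσone : σ 1 = fun _ => true := by
    funext i
    by_contra h
    exact hxne i (hσf 1 i (Bool.eq_false_iff.2 h))
  have hσmul : ∀ (S T : I) i, σ (S * T) i = (σ S i == σ T i) := by
    intro S T i
    cases hS : σ S i <;> cases hT : σ T i <;> cases hST : σ (S * T) i <;>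
      first
        | rfl
        | exfalso
          have h1 : ((S * T : I) : MulAut P) (x i) = (S : MulAut P) ((T : MulAut P) (x i)) := rfl
          first
            | rw [hσf _ i hST, hσf _ i hT, map_inv, hσf _ i hS, inv_inv] at h1; exact hxne i h1.symm
            | rw [hσf _ i hST, hσt _ i hT, hσt _ i hS] at h1; exact hxne i h1.symm
            | rw [hσt _ i hST, hσf _ i hT, map_inv, hσt _ i hS] at h1; exact hxne i h1
            | rw [hσt _ i hST, hσt _ i hT, hσf _ i hS] at h1; exact hxne i h1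
  let A : Fin 3 → I := fun i => ⟨a i, hWI (ha i).1⟩
  have hA : ∀ i, σ (A i) = fun k => decide (k = i) := fun i => funext fun k => hσa (A i) i k rfl
  let B : Fin 3 → I := fun j => σ.symm fun i => decide (i ≠ j)
  have hB : ∀ j, σ (B j) = fun i => decide (i ≠ j) := fun j => σ.apply_symm_apply _
  let N : I := σ.symm fun _ => false
  have hN : σ N = fun _ => false := σ.apply_symm_apply _
  have hfixA : ∀ i k, k ≠ i → a i (x k) = (x k)⁻¹ := fun i k hk =>
    hσf (A i) k (by rw [hA]; simp [hk])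
  -- the broad elements
  have hBbroad : ∀ j, Broad ((B j : MulAut P)) := by
    intro j hcyc
    obtain ⟨g, hg, hF⟩ := exists_F_eq_zpowers hcyc
    obtain ⟨i, k, hij, hkj, hik⟩ : ∃ i k : Fin 3, i ≠ j ∧ k ≠ j ∧ i ≠ k := exists_two j
    have hmem : ∀ i, i ≠ j → (x i : P ⧸ frattini P) ∈ zpowers (g : P ⧸ frattini P) := fun i hi => by
      rw [← hF]
      exact ⟨x i, hσt (B j) i (by rw [hB]; simp [hi]), rfl⟩
    have hz := zpowers_eq_of_mem hP (hmem i hij) (hx1 i)
    have hk := hmem k hkj
    rw [← hz] at hk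
    have hle : zpowers (x i : P ⧸ frattini P) ≤ (ind (a i)).eqLocus (MonoidHom.id _) :=
      zpowers_le.2 (by
        show ind (a i) (x i : P ⧸ frattini P) = _
        rw [ind_mk]
        exact congrArg _ (mem_fixSub.1 ((ha i).2 ▸ mem_zpowers (x i))))
    have h1 : ind (a i) (x k : P ⧸ frattini P) = _ := hle hk
    rw [ind_mk, hfixA i k hik.symm, QuotientGroup.mk_inv] at h1
    exact hx1 k (self_inv_eq_one hoddV (inv_eq_iff_mul_eq_one.1 h1))
  have hB1 : ∀ j, (B j : MulAut P) ≠ 1 := by
    intro j h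
    have : σ (B j) j = true := by rw [show B j = 1 from Subtype.ext h, hσone]
    rw [hB] at this
    simp at this
  -- commutativity
  have hcomm : IsMulCommutative P := by
    have : Group.IsNilpotent P := hP.isNilpotent
    set K : Subgroup P := ⁅_root_.commutator P, (⊤ : Subgroup P)⁆ with hK
    have hKn : K.Normal := inferInstance
    have hKc : K.Characteristic := inferInstance
    have hkey : ∀ i k, i ≠ k → ⁅x i, x k⁆ ∈ K := by
      intro i k hik
      obtain ⟨l, hli, hlk⟩ : ∃ l : Fin 3, l ≠ i ∧ l ≠ k := exists_third i k hik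
      set c := ⁅x i, x k⁆ with hc
      have hcl : c⁻¹ * a l c ∈ K := by
        have e : a l c = ⁅(x i)⁻¹, (x k)⁻¹⁆ := by
          rw [hc, map_commutatorElement, hfixA l i hli.symm, hfixA l k hlk.symm]
        have e2 : c⁻¹ * a l c = ⁅c⁻¹, (x i * x k)⁻¹⁆ := by
          rw [e, hc, commutatorElement_def, commutatorElement_def, commutatorElement_def]; group
        rw [e2]
        exact commutator_mem_commutator (inv_mem (commutator_mem_commutator (mem_top _) (mem_top _))) (mem_top _)
      obtain ⟨n, hn, hfix⟩ := exists_fixed_in_coset hodd (hTT _ (A l).2) K hcl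
      have hmem : c * n ∈ zpowers (x l) := by rw [← (ha l).2]; exact hfix
      obtain ⟨m, hm⟩ := hmem
      simp only at hm
      have hBl : (B l : MulAut P) c = c := by
        rw [hc, map_commutatorElement, hσt (B l) i (by rw [hB]; simp [hli.symm]),
          hσt (B l) k (by rw [hB]; simp [hlk.symm])]
      have h2 : (B l : MulAut P) (c * n) = (c * n)⁻¹ := by
        rw [← hm, map_zpow, hσf (B l) l (by rw [hB]; simp), inv_zpow]
      rw [map_mul, hBl] at h2
      have hnK : (B l : MulAut P) n ∈ K := by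
        have := Subgroup.characteristic_iff_comap_eq.1 hKc (B l : MulAut P)
        rw [← this] at hn
        exact hn
      have h3 : ((c : P ⧸ K)) * (c : P ⧸ K) = 1 := by
        have e := congrArg (fun z : P => (z : P ⧸ K)) h2
        simp only [QuotientGroup.mk_mul, QuotientGroup.mk_inv, (QuotientGroup.eq_one_iff _).2 hnK,
          (QuotientGroup.eq_one_iff _).2 hn, mul_one] at e
        exact eq_inv_iff_mul_eq_one.1 e
      exact (QuotientGroup.eq_one_iff _).1 (self_inv_eq_one (hodd.of_dvd_nat (Subgroup.index_dvd_card _)) h3)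
    have hPK : _root_.commutator P ≤ K := by
      rw [_root_.commutator_def, Subgroup.commutator_le]
      have hcl : closure (Set.range fun i => (x i : P ⧸ K)) = ⊤ := by
        rw [show (Set.range fun i => (x i : P ⧸ K)) = QuotientGroup.mk' K '' Set.range x from
          Set.range_comp _ _, ← MonoidHom.map_closure, hgen,
          ← MonoidHom.range_eq_map, QuotientGroup.range_mk']
      have hcq : ∀ y ∈ Set.range (fun i => (x i : P ⧸ K)), ∀ z ∈ Set.range (fun i => (x i : P ⧸ K)),
          y * z = z * y := by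
        rintro _ ⟨i, rfl⟩ _ ⟨k, rfl⟩
        by_cases hik : i = k
        · rw [hik]
        · rw [← commutatorElement_eq_one_iff_mul_comm]
          exact (map_commutatorElement (QuotientGroup.mk' K) (x i) (x k)).symm.trans
            ((QuotientGroup.eq_one_iff _).2 (hkey i k hik))
      have hall : ∀ y z : P ⧸ K, y * z = z * y := by
        intro y z
        have hc := Subgroup.isMulCommutative_closure hcq
        have hy : y ∈ closure (Set.range fun i => (x i : P ⧸ K)) := hcl ▸ mem_top y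
        have hz : z ∈ closure (Set.range fun i => (x i : P ⧸ K)) := hcl ▸ mem_top z
        exact congrArg Subtype.val (hc.is_comm.comm ⟨y, hy⟩ ⟨z, hz⟩)
      intro y _ z _
      rw [← QuotientGroup.eq_one_iff]
      exact (map_commutatorElement (QuotientGroup.mk' K) y z).trans
        (commutatorElement_eq_one_iff_mul_comm.2 (hall _ _))
    have hbot : _root_.commutator P = ⊥ := by
      obtain ⟨n, hn⟩ := Subgroup.nilpotent_iff_lowerCentralSeries.1 ‹Group.IsNilpotent P›
      have hle : ∀ m, _root_.commutator P ≤ Subgroup.lowerCentralSeries (⊤ : Subgroup P) m := by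
        intro m
        induction m with
        | zero => rw [Subgroup.lowerCentralSeries_zero]; exact le_top
        | succ m ih =>
          refine hPK.trans ?_
          rw [Subgroup.lowerCentralSeries_succ]
          exact Subgroup.commutator_mono ih le_rfl
      exact le_bot_iff.1 (hn ▸ hle n)
    refine ⟨⟨fun y z => commutatorElement_eq_one_iff_mul_comm.1 ?_⟩⟩
    rw [← Subgroup.mem_bot, ← hbot]
    exact commutator_mem_commutator (mem_top y) (mem_top z)
  have hc : ∀ y z : P, y * z = z * y := fun y z => hcomm.is_comm.comm y z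
  have hNnb : ¬ Broad (N : MulAut P) := by
    rw [Broad, not_not]
    let S : Subgroup P :=
      { carrier := {y | (N : MulAut P) y = y⁻¹}
        one_mem' := by simp
        mul_mem' := fun {y z} (hy : _ = _) (hz : _ = _) => by
          show (N : MulAut P) (y * z) = (y * z)⁻¹
          rw [map_mul, hy, hz, mul_inv_rev, hc]
        inv_mem' := fun {y} (hy : _ = _) => by
          show (N : MulAut P) y⁻¹ = y⁻¹⁻¹
          rw [map_inv, hy] }
    have htop : ∀ y, (N : MulAut P) y = y⁻¹ := by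
      intro y
      have hle : closure (Set.range x) ≤ S := by
        rw [closure_le]
        rintro _ ⟨i, rfl⟩
        exact hσf N i (by rw [hN])
      exact hle (hgen ▸ mem_top y)
    have hbot : fixSub (N : MulAut P) = ⊥ := eq_bot_iff.2 fun y hy => by
      rw [mem_bot]
      exact self_inv_eq_one hodd (eq_inv_iff_mul_eq_one.1 ((mem_fixSub.1 hy).symm.trans (htop y)))
    rw [hbot]
    infer_instance
  have hset : ∀ T : MulAut P, (T ∈ I ∧ T ≠ 1 ∧ Broad T) ↔ ∃ j, T = B j := by
    intro T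
    constructor
    · rintro ⟨hT, hT1, hTB⟩
      rcases bool_cases (σ ⟨T, hT⟩) with h | h | ⟨j, h⟩ | ⟨j, h⟩
      · rw [← hσone] at h
        exact absurd (congrArg Subtype.val (σ.injective h)) hT1
      · rw [← hN] at h
        obtain rfl : T = (N : MulAut P) := congrArg Subtype.val (σ.injective h)
        exact absurd hTB hNnb
      · rw [← hA] at h
        obtain rfl : T = a j := congrArg Subtype.val (σ.injective h)
        exact absurd hTB (hWnb _ (ha j).1 hT1)
      · rw [← hB] at h
        exact ⟨j, congrArg Subtype.val (σ.injective h)⟩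
    · rintro ⟨j, rfl⟩
      exact ⟨(B j).2, hB1 j, hBbroad j⟩
  have hBinj : Function.Injective B := by
    intro i j h
    have := congrFun (congrArg σ h) i
    rw [hB, hB] at this
    simpa using this
  refine ⟨hcomm, ⟨x 0, x 1, x 2, ?_⟩, ?_, ?_, ?_, ?_⟩
  · rw [eq_top_iff, ← hgen, closure_le]
    rintro _ ⟨i, rfl⟩
    fin_cases i <;> exact subset_closure (by simp)
  · rintro ⟨y, z, hyz⟩
    let V := P ⧸ frattini P
    have hi : ∀ i, orderOf (x i : V) = p := fun i => orderOf_eq_prime (quotient_frattini_pow hP _) (hx1 i)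
    have hV : Nat.card V ≤ p ^ 2 := by
      let g : Fin p × Fin p → V := fun ij => (y : V) ^ (ij.1 : ℕ) * (z : V) ^ (ij.2 : ℕ)
      have hg : Function.Surjective g := by
        intro v
        induction v using QuotientGroup.induction_on with | _ w =>
        have hw : w ∈ closure ({y, z} : Set P) := hyz ▸ mem_top w
        rw [Set.insert_eq, Subgroup.closure_union, ← zpowers_eq_closure, ← zpowers_eq_closure] at hw
        have : (zpowers z).Normal := ⟨fun n hn g => by rw [hc g n, mul_inv_cancel_right]; exact hn⟩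
        obtain ⟨_, ⟨i, rfl⟩, _, ⟨k, rfl⟩, rfl⟩ := mem_sup_of_normal_right.1 hw
        refine ⟨(⟨(i % p).toNat, ?_⟩, ⟨(k % p).toNat, ?_⟩), ?_⟩
        · have := Int.emod_lt_of_pos i (show (0 : ℤ) < p by exact_mod_cast hp.out.pos); have := hp.out.pos; omega
        · have := Int.emod_lt_of_pos k (show (0 : ℤ) < p by exact_mod_cast hp.out.pos); have := hp.out.pos; omega
        · have e : ∀ (v : V) (i : ℤ), v ^ (i % p).toNat = v ^ i := fun v i => by
            rw [← zpow_natCast, Int.toNat_of_nonneg (Int.emod_nonneg _ (by exact_mod_cast hp.out.ne_zero))]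
            exact (zpow_eq_zpow_emod' i (quotient_frattini_pow hP v)).symm
          simp only [g, e]
          simp [QuotientGroup.mk_zpow]
      have := Nat.card_le_card_of_surjective g hg
      simpa [Nat.card_prod, pow_two] using this
    have hlt : ∀ (U : Subgroup V) (v : V), v ∉ U → p * Nat.card U ≤ Nat.card V := by
      intro U v hv
      have hne : U.index ≠ 1 := fun h => hv (Subgroup.index_eq_one.1 h ▸ mem_top v)
      obtain ⟨n, hn⟩ := (hP.to_quotient (frattini P)).index U
      rw [← U.index_mul_card]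
      refine Nat.mul_le_mul_right _ ?_
      rw [hn] at hne ⊢
      exact Nat.le_of_dvd (pow_pos hp.out.pos _) (dvd_pow_self p fun e => hne (by rw [e, pow_zero]))
    let U₁ : Subgroup V := zpowers (x 1 : V) ⊔ zpowers (x 2 : V)
    have h0 : (x 0 : V) ∉ U₁ := by
      intro h
      have hle : U₁ ≤ (ind (B 0 : MulAut P)).eqLocus (MonoidHom.id _) :=
        sup_le (zpowers_le.2 (congrArg _ (hσt (B 0) 1 (by rw [hB]; simp))))
          (zpowers_le.2 (congrArg _ (hσt (B 0) 2 (by rw [hB]; simp))))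
      have h1 : ind (B 0 : MulAut P) (x 0 : V) = _ := hle h
      rw [ind_mk, hσf (B 0) 0 (by rw [hB]; simp), QuotientGroup.mk_inv] at h1
      exact hx1 0 (self_inv_eq_one hoddV (inv_eq_iff_mul_eq_one.1 h1))
    have h1' : (x 1 : V) ∉ zpowers (x 2 : V) := by
      intro h
      have hle : zpowers (x 2 : V) ≤ (ind (a 2)).eqLocus (MonoidHom.id _) :=
        zpowers_le.2 (congrArg _ (hσt (A 2) 2 (by rw [hA]; simp)))
      have h1 : ind (a 2) (x 1 : V) = _ := hle h
      rw [ind_mk, hfixA 2 1 (by decide), QuotientGroup.mk_inv] at h1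
      exact hx1 1 (self_inv_eq_one hoddV (inv_eq_iff_mul_eq_one.1 h1))
    have hU1 : p * p ≤ Nat.card U₁ := by
      have hle : zpowers (x 2 : V) ≤ U₁ := le_sup_right
      have hlt2 : Nat.card (zpowers (x 2 : V)) < Nat.card U₁ := by
        refine lt_of_le_of_ne (card_le_of_le hle) fun e => h1' ?_
        rw [Subgroup.eq_of_le_of_card_ge hle e.ge]
        exact mem_sup_left (mem_zpowers _)
      obtain ⟨n, hn⟩ := IsPGroup.iff_card.1 ((hP.to_quotient (frattini P)).to_subgroup U₁)
      rw [Nat.card_zpowers, hi, hn] at hlt2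
      rw [hn, ← pow_two]
      refine Nat.pow_le_pow_right hp.out.pos ?_
      by_contra hcon
      have := Nat.pow_le_pow_right hp.out.pos (show n ≤ 1 by omega)
      rw [pow_one] at this
      omega
    have h3 := hlt U₁ _ h0
    have h4 : p * (p * p) ≤ p ^ 2 := (Nat.mul_le_mul_left p hU1).trans (h3.trans hV)
    nlinarith [hp.out.two_le]
  · rw [Nat.card_congr (Equiv.ofBijective (fun j => (⟨B j, (hset _).2 ⟨j, rfl⟩⟩ : {T : MulAut P // T ∈ I ∧ T ≠ 1 ∧ Broad T}))
      ⟨fun i j h => hBinj (Subtype.ext (congrArg (fun z : {T : MulAut P // T ∈ I ∧ T ≠ 1 ∧ Broad T} => (z : MulAut P)) h)),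
        fun T => by obtain ⟨j, hj⟩ := (hset _).1 T.2; exact ⟨j, Subtype.ext hj.symm⟩⟩).symm, Nat.card_fin]
  · refine le_antisymm (closure_le I |>.2 fun T hT => hT.1) ?_
    intro T hT
    set C := closure {T : MulAut P | T ∈ I ∧ T ≠ 1 ∧ Broad T}
    have hBC : ∀ j, (B j : MulAut P) ∈ C := fun j => subset_closure ((hset _).2 ⟨j, rfl⟩)
    have hAC : ∀ j, A j ∈ C.subgroupOf I := by
      intro j
      obtain ⟨i, k, hij, hkj, hik⟩ : ∃ i k : Fin 3, i ≠ j ∧ k ≠ j ∧ i ≠ k := exists_two j
      have : A j = B i * B k := σ.injective (funext fun l => by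
        rw [hσmul, hA, hB, hB]; exact bool_third i j k l hij hkj hik)
      rw [this]
      exact mul_mem (hBC i) (hBC k)
    have key : (⟨T, hT⟩ : I) ∈ C.subgroupOf I := by
      rcases bool_cases (σ ⟨T, hT⟩) with h | h | ⟨j, h⟩ | ⟨j, h⟩
      · rw [← hσone] at h
        rw [σ.injective h]; exact one_mem _
      · have : (⟨T, hT⟩ : I) = A 0 * B 0 := σ.injective (funext fun l => by
          rw [h, hσmul, hA, hB]; revert l; decide)
        rw [this]
        exact mul_mem (hAC 0) (hBC 0)
      · rw [← hA] at h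
        rw [σ.injective h]; exact hAC j
      · rw [← hB] at h
        rw [σ.injective h]; exact hBC j
    exact key
  · have hpr : ∀ i j, (B i : MulAut P) * B j ∈ I₀ := fun i j =>
      hprod _ (B i).2 _ (B j).2 (hB1 i) (hB1 j) (hBbroad i) (hBbroad j)
    ext S
    constructor
    · intro hS
      have hSI : S ∈ I := hI₀.le hS
      suffices ∃ i j, S = (B i : MulAut P) * B j by
        obtain ⟨i, j, rfl⟩ := this
        exact ⟨B i, B j, (B i).2, (B j).2, hB1 i, hB1 j, hBbroad i, hBbroad j, rfl⟩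
      rcases bool_cases (σ ⟨S, hSI⟩) with h | h | ⟨j, h⟩ | ⟨j, h⟩
      · rw [← hσone] at h
        refine ⟨0, 0, ?_⟩
        rw [hTT _ (B 0).2]
        exact congrArg Subtype.val (σ.injective h)
      · exfalso
        have hBB : B 0 = ⟨S, hSI⟩ * (B 1 * B 2) := σ.injective (funext fun l => by
          rw [hσmul, hσmul, h, hB, hB, hB]; revert l; decide)
        refine hdisj _ ?_ (hB1 0) (hBbroad 0)
        rw [hBB]
        exact mul_mem hS (hpr 1 2)
      · obtain ⟨i, k, hij, hkj, hik⟩ : ∃ i k : Fin 3, i ≠ j ∧ k ≠ j ∧ i ≠ k := exists_two j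
        refine ⟨i, k, congrArg Subtype.val (show (⟨S, hSI⟩ : I) = B i * B k from σ.injective (funext fun l => by
          rw [hσmul, h, hB, hB]; exact bool_third i j k l hij hkj hik))⟩
      · rw [← hB] at h
        obtain rfl : S = B j := congrArg Subtype.val (σ.injective h)
        exact absurd (hBbroad j) (hdisj _ hS (hB1 j))
    · rintro ⟨T, T', hT, hT', hT1, hT1', hTB, hTB', rfl⟩
      exact hprod T hT T' hT' hT1 hT1' hTB hTB'

end CfsgLib.PGroup.BroadInvolutions
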