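import Cfsg.Agent.Lib.PGroup.QuadraticCommutator
import Cfsg.Agent.Lib.PGroup.AbelianSylowLength

/-!
In a `p`-solvable group, `p` odd, the last term of the derived series of a Sylow `p`-subgroup lies in
`O_p` modulo `O_p'`: the `p`-length is at most the derived length.
-/

set_option autoImplicit false

namespace CfsgLib.PGroup

open Subgroup CfsgLib.Solvable Cfsg Quadratic
open scoped commutatorElement

universe u

/-- A quadratic commutator subgroup centralises every invariant `q`-group. -/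
theorem commutator_le_centralizer {k : Type*} [Field k] [IsAlgClosed k] {V : Type*} [AddCommGroup V]
    [Module k V] [FiniteDimensional k V] [Nontrivial V] {p : ℕ} [hp : Fact p.Prime] [CharP k p]
    (hp2 : p ≠ 2) {H : Type u} [Group H] [Finite H] (ρ : H →* Module.End k V)
    (hρ : Function.Injective ρ) (B : Subgroup H) (hB : IsPGroup p B)
    (hq : ∀ a ∈ ⁅B, B⁆, ∀ a' ∈ ⁅B, B⁆, (ρ a - 1) * (ρ a' - 1) = 0)
    (hab : ∀ a ∈ ⁅B, B⁆, ∀ b ∈ B, (ρ a - 1) * ((ρ b - 1) * (ρ b - 1)) = 0)
    {q : ℕ} [hqf : Fact q.Prime] (hqp : q ≠ p) {Q : Subgroup H} (hQ : IsPGroup q Q)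
    (hBQ : B ≤ normalizer (Q : Set H)) : Q ≤ centralizer ((⁅B, B⁆ : Subgroup H) : Set H) := by
  classical
  haveI : CharP (Module.End k V) p :=
    charP_of_injective_algebraMap (algebraMap k (Module.End k V)).injective p
  have hAB : ⁅B, B⁆ ≤ B := commutator_le_self B
  have hBA : B ≤ normalizer ((⁅B, B⁆ : Subgroup H) : Set H) :=
    (le_inf le_normalizer le_normalizer).trans (normalizer_le_normalizer_commutator B B)
  have hAc : ∀ a ∈ ⁅B, B⁆, ∀ a' ∈ ⁅B, B⁆, a * a' = a' * a := fun a ha a' ha' => hρ (by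
    have h1 := hq a ha a' ha'
    have h2 := hq a' ha' a ha
    rw [sub_mul, mul_sub, one_mul, mul_one, ← map_mul] at h1 h2
    rw [sub_eq_zero, sub_eq_iff_eq_add] at h1 h2
    rw [h1, h2]; abel)
  have hAp : ∀ a ∈ ⁅B, B⁆, a ^ p = 1 := fun a ha => hρ (by
    have h : (ρ a - 1) ^ p = 0 := by
      obtain ⟨c, hc⟩ := Nat.exists_eq_add_of_le hp.out.two_le
      rw [hc, pow_add, pow_two, hq a ha a ha, zero_mul]
    rw [sub_pow_char_of_commute p (Commute.one_right (ρ a)), one_pow, sub_eq_zero, ← map_pow] at h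
    rw [h, map_one])
  by_cases hcase : p = 3 ∧ q = 2
  · obtain ⟨rfl, rfl⟩ := hcase
    suffices H' : ∀ (n : ℕ) (Q : Subgroup H), Nat.card Q ≤ n → IsPGroup 2 Q →
        B ≤ normalizer (Q : Set H) → Q ≤ centralizer ((⁅B, B⁆ : Subgroup H) : Set H) from
      H' _ Q le_rfl hQ hBQ
    intro n
    induction n with
    | zero => intro Q hn; exact absurd hn (Nat.not_le.2 Nat.card_pos)
    | succ n ih =>
      intro Q hn hQ hBQ
      refine minimal_false ρ hρ B hB hAp hAc hAB hBA (fun a ha => hq a ha a ha) hab hQ hBQ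
        fun K hK hBK => ih K ?_ (hQ.to_le hK.le) hBK
      have : Nat.card K < Nat.card Q :=
        lt_of_le_of_ne (card_le_of_le hK.le) fun h => hK.ne (eq_of_le_of_card_ge hK.le h.ge)
      omega
  · intro x hx
    refine mem_centralizer_iff.2 fun a ha => ?_
    by_contra hne
    let σ : MulAut Q := normalizerMonoidHom Q ⟨a, hBQ (hAB ha)⟩
    have hσ : ∀ (i : ℕ) (y : Q), (((σ ^ i) y : Q) : H) = a ^ i * y * (a ^ i)⁻¹ := fun i y => by
      rw [← map_pow]; rfl
    have hmoved : ∃ y, (σ ^ p ^ (1 - 1)) y ≠ y := ⟨⟨x, hx⟩, fun h => hne (by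
      have h1 := congrArg Subtype.val h
      rw [Nat.sub_self, pow_zero, hσ, pow_one] at h1
      exact mul_inv_eq_iff_eq_mul.1 h1)⟩
    rcases CfsgLib.Transfer.HHB.hall_higman_b (k := k) (p := p) (q := q) (n := 1) hqp one_pos
      (Nat.card Q) (Q := Q) rfl hQ σ
      (MulEquiv.ext fun y => Subtype.ext (by rw [hσ, pow_one, hAp a ha]; simp))
      hmoved (ρ.comp Q.subtype) (hρ.comp Q.subtype_injective) (ρ a)
      (fun y => by
        show ρ a * ρ y = ρ (σ y : Q) * ρ a
        rw [← map_mul, ← map_mul]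
        have h1 := hσ 1 y
        rw [pow_one, pow_one] at h1
        rw [h1, inv_mul_cancel_right])
      (by rw [← map_pow, pow_one, hAp a ha, map_one]) 2 (by rw [pow_two]; exact hq a ha a ha) with
      h | ⟨-, n₀, m, hn1, hn2, hm1, hpq, hle⟩
    · rw [pow_one] at h; have := hp.out.two_le; omega
    · obtain rfl : n₀ = 1 := by omega
      rw [Nat.sub_self, pow_zero, one_mul, pow_one] at hle
      rw [pow_one] at hpq
      have := hp.out.two_le
      have hp3 : p = 3 := by omega
      subst hp3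
      refine hcase ⟨rfl, (Nat.prime_dvd_prime_iff_eq hqf.out Nat.prime_two).1 ?_⟩
      have h3 : q ∣ 3 - 1 := hpq ▸ dvd_pow_self q (by omega)
      exact h3

theorem exists_lin_rep_aux (p : ℕ) [Fact p.Prime] (A : Type u) [CommGroup A] [Finite A]
    [Module (ZMod p) (Additive A)] :
    ∃ (d : ℕ) (f : MulAut A →* Module.End (AlgebraicClosure (ZMod p))
        (Fin d → AlgebraicClosure (ZMod p))),
      Function.Injective f ∧ (Nontrivial A → 0 < d) ∧
      (∀ a a' : MulAut A, (∀ v, a (a' v / v) = a' v / v) → (f a - 1) * (f a' - 1) = 0) ∧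
      (∀ a b : MulAut A, (∀ v, a (b (b v / v) / (b v / v)) = b (b v / v) / (b v / v)) →
        (f a - 1) * ((f b - 1) * (f b - 1)) = 0) := by
  classical
  haveI : Finite (Additive A) := Finite.of_equiv A Additive.ofMul
  haveI : Module.Finite (ZMod p) (Additive A) := Module.Finite.of_finite
  let B := Module.finBasis (ZMod p) (Additive A)
  let d := Module.finrank (ZMod p) (Additive A)
  let k := AlgebraicClosure (ZMod p)
  let g : Module.End (ZMod p) (Additive A) →+* Module.End k (Fin d → k) :=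
    ((Matrix.toLinAlgEquiv' : Matrix (Fin d) (Fin d) k ≃ₐ[k] _).toRingEquiv.toRingHom).comp
      (((algebraMap (ZMod p) k).mapMatrix).comp (LinearMap.toMatrixAlgEquiv B).toRingEquiv.toRingHom)
  have hginj : Function.Injective g :=
    (Matrix.toLinAlgEquiv' : Matrix (Fin d) (Fin d) k ≃ₐ[k] _).injective.comp
      ((Matrix.map_injective (algebraMap (ZMod p) k).injective).comp
        (LinearMap.toMatrixAlgEquiv B).injective)
  have happ : ∀ (a : MulAut A) (v : Additive A),
      (zmodAut p a - 1) v = Additive.ofMul (a v.toMul / v.toMul) := fun a v => by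
    rw [LinearMap.sub_apply, Module.End.one_apply, zmodAut_apply, ofMul_div, ofMul_toMul]
  refine ⟨d, (g : _ →* _).comp (zmodAut p), ?_, ?_, ?_, ?_⟩
  · intro a b hab
    refine MulEquiv.ext fun x => ?_
    have h := LinearMap.congr_fun (hginj hab) (Additive.ofMul x)
    rw [zmodAut_apply, zmodAut_apply] at h
    exact Additive.ofMul.injective h
  · intro hA
    haveI : Nontrivial (Additive A) := Additive.ofMul.symm.nontrivial
    exact Module.finrank_pos
  · intro a a' h
    have hz : (zmodAut p a - 1) * (zmodAut p a' - 1) = 0 := LinearMap.ext fun v => by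
      rw [Module.End.mul_apply, happ, happ, toMul_ofMul, LinearMap.zero_apply, h, div_self', ofMul_one]
    show (g (zmodAut p a) - 1) * (g (zmodAut p a') - 1) = 0
    rw [← map_one g, ← map_sub, ← map_sub, ← map_mul, hz, map_zero]
  · intro a b h
    have hz : (zmodAut p a - 1) * ((zmodAut p b - 1) * (zmodAut p b - 1)) = 0 :=
      LinearMap.ext fun v => by
        rw [Module.End.mul_apply, Module.End.mul_apply, happ, happ, happ, toMul_ofMul, toMul_ofMul,
          LinearMap.zero_apply, h, div_self', ofMul_one]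
    show (g (zmodAut p a) - 1) * ((g (zmodAut p b) - 1) * (g (zmodAut p b) - 1)) = 0
    rw [← map_one g, ← map_sub, ← map_sub, ← map_mul, ← map_mul, hz, map_zero]

/-- A faithful matrix representation of the automorphisms of an elementary abelian group, turning
iterated commutator identities into operator identities. -/
theorem exists_lin_rep (p : ℕ) [Fact p.Prime] (A : Type u) [CommGroup A] [Finite A]
    (hexp : ∀ a : A, a ^ p = 1) :
    ∃ (d : ℕ) (f : MulAut A →* Module.End (AlgebraicClosure (ZMod p))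
        (Fin d → AlgebraicClosure (ZMod p))),
      Function.Injective f ∧ (Nontrivial A → 0 < d) ∧
      (∀ a a' : MulAut A, (∀ v, a (a' v / v) = a' v / v) → (f a - 1) * (f a' - 1) = 0) ∧
      (∀ a b : MulAut A, (∀ v, a (b (b v / v) / (b v / v)) = b (b v / v) / (b v / v)) →
        (f a - 1) * ((f b - 1) * (f b - 1)) = 0) := by
  have h0 : ∀ v : Additive A, p • v = 0 := fun v =>
    Additive.toMul.injective (by rw [toMul_nsmul, toMul_zero]; exact hexp _)
  exact @exists_lin_rep_aux p _ A _ _ (AddCommGroup.zmodModule h0)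

set_option maxHeartbeats 800000 in
/-- The commutator subgroup of a subgroup normalised by a Sylow `p`-subgroup lies in `O_p`, if it is
abelian and `O_p'` is trivial. -/
theorem commutator_le_pCore {G : Type u} [Group G] [Finite G] {p : ℕ} [hp : Fact p.Prime]
    (hp2 : p ≠ 2) (hsol : IsPSolvable p G) (hO : pPrimeCore p G = ⊥) (P : Sylow p G) {B : Subgroup G}
    (hBP : B ≤ (P : Subgroup G)) (hPB : (P : Subgroup G) ≤ normalizer (B : Set G))
    (hAc : ∀ a ∈ ⁅B, B⁆, ∀ a' ∈ ⁅B, B⁆, a * a' = a' * a) : ⁅B, B⁆ ≤ pCore p G := by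
  classical
  set R := pCore p G with hR
  have hRp : IsPGroup p R := CfsgLib.Cores.isPGroup_pCore p
  have hRP : R ≤ (P : Subgroup G) := CfsgLib.Cores.pCore_le_sylow P
  have hPA : (P : Subgroup G) ≤ normalizer ((⁅B, B⁆ : Subgroup G) : Set G) :=
    (le_inf hPB hPB).trans (normalizer_le_normalizer_commutator B B)
  by_cases htr : R = ⊥
  · intro a ha
    have hcent := CfsgLib.Transfer.centralizer_pCore_le_of_isPSolvable hsol hO
    refine hcent (mem_centralizer_iff.2 fun r hr => ?_)
    rw [← hR, htr] at hr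
    rw [show r = 1 from hr, one_mul, mul_one]
  letI iC : CommGroup (↥R ⧸ frattini ↥R) :=
    { (inferInstance : Group (↥R ⧸ frattini ↥R)) with mul_comm := quotient_frattini_comm hRp }
  let act : G →* MulAut (↥R ⧸ frattini ↥R) := CfsgLib.A8.frattiniAct R
  have hker : act.ker = R :=
    CfsgLib.A8.ker_frattiniAct (CfsgLib.Transfer.centralizer_pCore_le_of_isPSolvable hsol hO)
  let actb : G ⧸ R →* MulAut (↥R ⧸ frattini ↥R) := QuotientGroup.lift R act hker.ge
  have hactb : Function.Injective actb := by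
    rw [injective_iff_map_eq_one]
    intro t ht
    obtain ⟨g, rfl⟩ := QuotientGroup.mk'_surjective R t
    exact (QuotientGroup.eq_one_iff g).2 (hker.le ht)
  obtain ⟨d, f, hf, hd, hf2, hf3⟩ := exists_lin_rep p (↥R ⧸ frattini ↥R) (quotient_frattini_pow hRp)
  let ρ : G ⧸ R →* Module.End (AlgebraicClosure (ZMod p)) (Fin d → AlgebraicClosure (ZMod p)) :=
    f.comp actb
  have hρ : Function.Injective ρ := hf.comp hactb
  haveI : Nontrivial (Fin d → AlgebraicClosure (ZMod p)) := by
    haveI : Nontrivial ↥R := (nontrivial_iff_ne_bot R).2 htr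
    haveI : Nontrivial (↥R ⧸ frattini ↥R) := by
      obtain ⟨x, -, hx⟩ := SetLike.exists_of_lt (lt_top_iff_ne_top.2 (frattini_ne_top hRp))
      exact ⟨(x : ↥R ⧸ frattini ↥R), 1, fun h => hx ((QuotientGroup.eq_one_iff x).1 h)⟩
    haveI : Nonempty (Fin d) := ⟨⟨0, hd inferInstance⟩⟩
    infer_instance
  set π := QuotientGroup.mk' R with hπ
  set Bb := B.map π with hBb
  have hBbp : IsPGroup p Bb := (P.2.to_le hBP).map _
  have hAmap : ⁅Bb, Bb⁆ = ⁅B, B⁆.map π := (map_commutator B B π).symm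
  -- the operators
  have hap : ∀ (x : G) (r c : R), (c : G) = ⁅x, (r : G)⁆ →
      act x (r : ↥R ⧸ frattini ↥R) / (r : ↥R ⧸ frattini ↥R) = (c : ↥R ⧸ frattini ↥R) := by
    intro x r c hc
    show (MulAut.conjNormal x r : ↥R ⧸ frattini ↥R) / (r : ↥R ⧸ frattini ↥R) = _
    rw [div_eq_mul_inv, ← QuotientGroup.mk_inv, ← QuotientGroup.mk_mul]
    refine congrArg QuotientGroup.mk (Subtype.ext ?_)
    rw [hc, Subgroup.coe_mul, MulAut.conjNormal_apply, Subgroup.coe_inv, commutatorElement_def]
  have hcR : ∀ (x : G) (r : R), ⁅x, (r : G)⁆ ∈ R := fun x r => by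
    rw [commutatorElement_def]
    exact mul_mem ((inferInstance : R.Normal).conj_mem _ r.2 x) (inv_mem r.2)
  have hsplit : ∀ x r : G, ⁅x, r⁆ = x * (r * x⁻¹ * r⁻¹) := fun x r => by
    rw [commutatorElement_def, mul_assoc, mul_assoc, mul_assoc]
  have hfix : ∀ (a : G), a ∈ ⁅B, B⁆ → ∀ c : R, (c : G) ∈ ⁅B, B⁆ →
      act a (c : ↥R ⧸ frattini ↥R) = (c : ↥R ⧸ frattini ↥R) := fun a ha c hc =>
    congrArg QuotientGroup.mk (Subtype.ext (by
          show a * (c : G) * a⁻¹ = c; rw [hAc a ha c hc, mul_inv_cancel_right]))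
  have hq : ∀ a ∈ ⁅Bb, Bb⁆, ∀ a' ∈ ⁅Bb, Bb⁆, (ρ a - 1) * (ρ a' - 1) = 0 := by
    rw [hAmap]
    rintro _ ⟨a, ha, rfl⟩ _ ⟨a', ha', rfl⟩
    refine hf2 (act a) (act a') fun v => ?_
    obtain ⟨r, rfl⟩ := QuotientGroup.mk_surjective v
    rw [hap a' r ⟨_, hcR a' r⟩ rfl]
    refine hfix a ha _ ?_
    show ⁅a', (r : G)⁆ ∈ _
    rw [hsplit]
    exact mul_mem ha' (normalizer_conj_mem (hPA (hRP r.2)) (inv_mem ha'))
  have hab : ∀ a ∈ ⁅Bb, Bb⁆, ∀ b ∈ Bb, (ρ a - 1) * ((ρ b - 1) * (ρ b - 1)) = 0 := by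
    rw [hAmap]
    rintro _ ⟨a, ha, rfl⟩ _ ⟨b, hb, rfl⟩
    refine hf3 (act a) (act b) fun v => ?_
    obtain ⟨r, rfl⟩ := QuotientGroup.mk_surjective v
    rw [hap b r ⟨_, hcR b r⟩ rfl, hap b _ ⟨_, hcR b ⟨_, hcR b r⟩⟩ rfl]
    refine hfix a ha _ (commutator_mem_commutator hb ?_)
    show ⁅b, (r : G)⁆ ∈ B
    rw [hsplit]
    exact mul_mem hb (normalizer_conj_mem (hPB (hRP r.2)) (inv_mem hb))
  -- the `p'`-core of the quotient is centralised
  set K := pPrimeCore p (G ⧸ R) with hK
  haveI hKn : K.Normal := by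
    haveI := CfsgLib.Cores.pPrimeCore_characteristic (G := G ⧸ R) p
    infer_instance
  have hKcop : (Nat.card K).Coprime p := CfsgLib.Cores.coprime_card_pPrimeCore p
  have hBK : Bb ≤ normalizer (K : Set (G ⧸ R)) := by rw [normalizer_eq_top]; exact le_top
  have hcop : (Nat.card Bb).Coprime (Nat.card K) := by
    obtain ⟨i, hi⟩ := hBbp.exists_card_eq
    rw [hi]; exact hKcop.symm.pow_left i
  have hKc : K ≤ centralizer ((⁅Bb, Bb⁆ : Subgroup (G ⧸ R)) : Set (G ⧸ R)) := by
    have hle : Nat.card K ∣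
        Nat.card (centralizer ((⁅Bb, Bb⁆ : Subgroup (G ⧸ R)) : Set (G ⧸ R)) ⊓ K : Subgroup (G ⧸ R)) := by
      refine (Nat.dvd_iff_prime_pow_dvd_dvd _ _).2 fun q j hq' hqj => ?_
      rcases Nat.eq_zero_or_pos j with rfl | hj
      · simp
      haveI := Fact.mk hq'
      have hqp : q ≠ p := fun h => hq'.ne_one
        (Nat.eq_one_of_dvd_coprimes hKcop ((dvd_pow_self q hj.ne').trans hqj) (h ▸ dvd_refl q))
      haveI := hBbp.isNilpotent
      obtain ⟨Q, hQ⟩ := exists_invariant_sylow Bb K hBK hcop (Or.inl inferInstance) q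
      have h1 := commutator_le_centralizer hp2 ρ hρ Bb hBbp hq hab hqp (Q.2.map K.subtype) hQ
      refine dvd_trans ?_ (card_dvd_of_le (le_inf h1 (map_subtype_le _)))
      rw [card_sylow_map, Q.card_eq_multiplicity]
      exact pow_dvd_pow _ ((Nat.Prime.pow_dvd_iff_le_factorization hq' Nat.card_pos.ne').1 hqj)
    exact (eq_of_le_of_card_ge inf_le_right (Nat.le_of_dvd Nat.card_pos hle)).ge.trans inf_le_left
  intro a ha
  have haA : π a ∈ ⁅Bb, Bb⁆ := hAmap ▸ mem_map_of_mem π ha
  have haK : π a ∈ K := CyclicTransvection.centralizer_pPrimeCore_le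
    (CfsgLib.Transfer.isPSolvable_quotient hsol R) (CfsgLib.Cores.pCore_quotient_self (G := G) p)
    (mem_centralizer_iff.2 fun y hy => (mem_centralizer_iff.1 (hKc hy) _ haA).symm)
  obtain ⟨i, hi⟩ := hBbp ⟨π a, commutator_le_self Bb haA⟩
  have h1 : (π a) ^ p ^ i = 1 := congrArg Subtype.val hi
  refine (QuotientGroup.eq_one_iff a).1 (orderOf_eq_one_iff.1 ?_)
  exact Nat.eq_one_of_dvd_coprimes (hKcop.symm.pow_left i) (orderOf_dvd_of_pow_eq_one h1)
    (Subgroup.orderOf_dvd_natCard (s := K) haK)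

/-- The `i`-th derived subgroup of a subgroup, in the ambient group. -/
theorem map_derivedSeries_succ {G : Type u} [Group G] (P : Subgroup G) (i : ℕ) :
    (derivedSeries ↥P (i + 1)).map P.subtype =
      ⁅(derivedSeries ↥P i).map P.subtype, (derivedSeries ↥P i).map P.subtype⁆ := by
  rw [derivedSeries_succ, map_commutator]

theorem derived_of_surjective {G H : Type*} [Group G] [Group H] [Finite G] {p : ℕ} [Fact p.Prime]
    {f : G →* H} (hf : Function.Surjective f) (n : ℕ)
    (hker : ∀ P : Sylow p G, (derivedSeries ↥(P : Subgroup G) n).map (P : Subgroup G).subtype ≤ f.ker)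
    (Q : Sylow p H) : derivedSeries ↥(Q : Subgroup H) n = ⊥ := by
  obtain ⟨P, rfl⟩ := Sylow.mapSurjective_surjective hf p Q
  let fP : (P : Subgroup G) →* ↥((P.mapSurjective hf : Sylow p H) : Subgroup H) :=
    (f.comp (P : Subgroup G).subtype).codRestrict _ fun a =>
      (Sylow.coe_mapSurjective hf P).ge ⟨a, a.2, rfl⟩
  have hfs : Function.Surjective fP := by
    rintro ⟨b, hb⟩
    obtain ⟨a, ha, rfl⟩ := (Sylow.coe_mapSurjective hf P).le hb
    exact ⟨⟨a, ha⟩, rfl⟩
  rw [← map_derivedSeries_eq hfs, eq_bot_iff]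
  rintro _ ⟨a, ha, rfl⟩
  exact mem_bot.2 (Subtype.ext (hker P (mem_map_of_mem _ ha)))

/-- The `p`-length of a `p`-solvable group is at most the derived length of a Sylow `p`-subgroup. -/
theorem pLength_le_derived {p : ℕ} [hp : Fact p.Prime] (hp2 : p ≠ 2) : ∀ (d : ℕ) {G : Type u} [Group G]
    [Finite G], IsPSolvable p G → (∀ P : Sylow p G, derivedSeries ↥(P : Subgroup G) d = ⊥) →
    PLengthLE p d G := by
  intro d
  induction d with
  | zero =>
    intro G _ _ _ hd
    obtain ⟨P⟩ : Nonempty (Sylow p G) := inferInstance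
    have hP : (P : Subgroup G) = ⊥ := by
      have h := hd P
      rw [derivedSeries_zero] at h
      rw [Subgroup.eq_bot_iff_forall]
      intro x hx
      have h2 : (⟨x, hx⟩ : ↥(P : Subgroup G)) ∈ (⊥ : Subgroup ↥(P : Subgroup G)) := by
        rw [← h]; exact mem_top _
      exact congrArg Subtype.val (mem_bot.1 h2)
    show (upperPSeries p G (2 * 0 + 1)).1 = ⊤
    rw [show (upperPSeries p G (2 * 0 + 1)).1 = useries p G 1 from rfl, useries_one, eq_top_iff]
    refine CfsgLib.Cores.le_pPrimeCore ?_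
    rw [Subgroup.card_top, Nat.coprime_comm, hp.out.coprime_iff_not_dvd]
    intro hdv
    have h1 := P.dvd_card_of_dvd_card hdv
    rw [hP, Subgroup.card_bot, Nat.dvd_one] at h1
    exact hp.out.ne_one h1
  | succ d ih =>
    intro G _ _ hsol hd
    haveI : (pPrimeCore p G).Normal := by
      haveI := CfsgLib.Cores.pPrimeCore_characteristic (G := G) p
      infer_instance
    refine pLengthLE_of_coprime_ker (QuotientGroup.mk' (pPrimeCore p G))
      (QuotientGroup.mk'_surjective _)
      (by rw [QuotientGroup.ker_mk']; exact CfsgLib.Cores.coprime_card_pPrimeCore p) ?_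
    have hO : pPrimeCore p (G ⧸ pPrimeCore p G) = ⊥ :=
      CfsgLib.Cores.pPrimeCore_quotient_self (G := G) p
    have hsol' := CfsgLib.Transfer.isPSolvable_quotient hsol (pPrimeCore p G)
    have hd' : ∀ Q : Sylow p (G ⧸ pPrimeCore p G),
        derivedSeries ↥(Q : Subgroup (G ⧸ pPrimeCore p G)) (d + 1) = ⊥ :=
      derived_of_surjective (QuotientGroup.mk'_surjective _) (d + 1) fun P => by
        rw [hd P, Subgroup.map_bot]; exact bot_le
    refine pLengthLE_succ_of_ker_le (QuotientGroup.mk' (pCore p (G ⧸ pPrimeCore p G)))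
      (QuotientGroup.mk'_surjective _)
      (by rw [QuotientGroup.ker_mk', useries_two_of_pPrimeCore_eq_bot p _ hO]) ?_
    refine ih (CfsgLib.Transfer.isPSolvable_quotient hsol' _)
      (derived_of_surjective (QuotientGroup.mk'_surjective _) d fun Q => ?_)
    rw [QuotientGroup.ker_mk']
    rcases d with _ | d
    · intro x hx
      have hab : ∀ a b : (Q : Subgroup (G ⧸ pPrimeCore p G)), a * b = b * a := fun a b => by
        have h := hd' Q
        rw [zero_add, derivedSeries_one] at h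
        exact commutatorElement_eq_one_iff_mul_comm.1 (mem_bot.1 (h ▸
          commutator_mem_commutator (mem_top a) (mem_top b)))
      obtain ⟨⟨y, hy⟩, -, rfl⟩ := hx
      refine CfsgLib.Transfer.centralizer_pCore_le_of_isPSolvable hsol' hO
        (mem_centralizer_iff.2 fun r hr => ?_)
      exact congrArg Subtype.val (hab ⟨r, CfsgLib.Cores.pCore_le_sylow Q hr⟩ ⟨y, hy⟩)
    · rw [map_derivedSeries_succ]
      refine commutator_le_pCore hp2 hsol' hO Q (map_subtype_le _) ?_ fun a ha a' ha' => ?_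
      · haveI : (derivedSeries ↥(Q : Subgroup (G ⧸ pPrimeCore p G)) d).Characteristic :=
          derivedSeries_characteristic _ _
        refine le_normalizer_iff.2 fun b hb y hy => ?_
        obtain ⟨z, hz, rfl⟩ := hy
        exact ⟨⟨b, hb⟩ * z * ⟨b, hb⟩⁻¹, (inferInstance : (derivedSeries _ d).Normal).conj_mem z hz _, rfl⟩
      · have h : ⁅⁅(derivedSeries ↥(Q : Subgroup (G ⧸ pPrimeCore p G)) d).map (Q : Subgroup (G ⧸ pPrimeCore p G)).subtype,
            (derivedSeries ↥(Q : Subgroup (G ⧸ pPrimeCore p G)) d).map (Q : Subgroup (G ⧸ pPrimeCore p G)).subtype⁆,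
            ⁅(derivedSeries ↥(Q : Subgroup (G ⧸ pPrimeCore p G)) d).map (Q : Subgroup (G ⧸ pPrimeCore p G)).subtype,
            (derivedSeries ↥(Q : Subgroup (G ⧸ pPrimeCore p G)) d).map (Q : Subgroup (G ⧸ pPrimeCore p G)).subtype⁆⁆ = ⊥ := by
          rw [← map_derivedSeries_succ, ← map_derivedSeries_succ, hd' Q, Subgroup.map_bot]
        exact commutatorElement_eq_one_iff_mul_comm.1 (mem_bot.1 (h ▸ commutator_mem_commutator ha ha'))

end CfsgLib.PGroup
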