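import Mathlib
import Cfsg.Prelude.Def_CaseTheorems

/-!
A `2`-group `S` containing a subgroup `T = D × B` (`D` dihedral or semidihedral, `B` a four group)
which is the centralizer in `S` of each involution of `B` has sectional `2`-rank at most four.
-/

set_option autoImplicit false
set_option linter.style.haveILetI false

namespace CfsgLib.DihedralTimesFour

open Subgroup

variable {G : Type*} [Group G]

/-- Every elementary abelian section `U/K` inside `S` has order at most sixteen. -/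
def RankFour (S : Subgroup G) : Prop :=
  ∀ U K : Subgroup G, U ≤ S → K ≤ U → (∀ u ∈ U, ∀ v ∈ U, u * v * u⁻¹ * v⁻¹ ∈ K) →
    (∀ u ∈ U, u * u ∈ K) → Nat.card U ≤ 16 * Nat.card K

/-- The commutator map on an abelian subgroup. -/
theorem exists_commHom (T : Subgroup G) (hab : ∀ a ∈ T, ∀ b ∈ T, a * b = b * a) (g : G)
    (hg : ∀ t ∈ T, g * t * g⁻¹ ∈ T) :
    ∃ c : T →* T, ∀ t : T, ((c t : T) : G) = g * t * g⁻¹ * (t : G)⁻¹ := by
  refine ⟨MonoidHom.mk' (fun t => ⟨g * t * g⁻¹ * (t : G)⁻¹, mul_mem (hg t t.2) (inv_mem t.2)⟩) ?_,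
    fun t => rfl⟩
  intro s t
  apply Subtype.ext
  simp only [Subgroup.coe_mul]
  have e : g * ((s : G) * t) * g⁻¹ * ((s : G) * t)⁻¹ =
      (g * s * g⁻¹) * ((g * t * g⁻¹ * (t : G)⁻¹) * (s : G)⁻¹) := by group
  rw [e, hab _ (mul_mem (hg t t.2) (inv_mem t.2)) _ (inv_mem s.2)]
  group

/-- Two disjoint subgroups of `Z` have product of orders at most the order of `Z`. -/
theorem card_mul_card_le [Finite G] {A B Z : Subgroup G} (hA : A ≤ Z) (hB : B ≤ Z)
    (h : ∀ x ∈ A, x ∈ B → x = 1) : Nat.card A * Nat.card B ≤ Nat.card Z := by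
  rw [← Nat.card_prod]
  refine Nat.card_le_card_of_injective
    (fun p : A × B => (⟨(p.1 : G) * p.2, mul_mem (hA p.1.2) (hB p.2.2)⟩ : Z)) ?_
  intro p q e
  have e' : (p.1 : G) * p.2 = q.1 * q.2 := congrArg Subtype.val e
  have h1 : (q.1 : G)⁻¹ * p.1 = q.2 * (p.2 : G)⁻¹ := by
    rw [eq_mul_inv_iff_mul_eq, mul_assoc, e', inv_mul_cancel_left]
  have hx := h _ (mul_mem (inv_mem q.1.2) p.1.2) (h1 ▸ mul_mem q.2.2 (inv_mem p.2.2))
  have hp1 : (p.1 : G) = q.1 := (inv_mul_eq_one.1 hx).symm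
  have hp2 : (p.2 : G) = q.2 := by rw [hp1] at e'; exact mul_left_cancel e'
  exact Prod.ext (Subtype.ext hp1) (Subtype.ext hp2)

/-- A subgroup of a `2`-group outside a proper subgroup has an element of its normalizer squaring into it. -/
theorem exists_sq_mem [Finite G] {S T : Subgroup G} (hS : IsPGroup 2 S) (hTS : T ≤ S) (hne : T ≠ S) :
    ∃ g ∈ S, g ∉ T ∧ (∀ t ∈ T, g * t * g⁻¹ ∈ T) ∧ g * g ∈ T := by
  classical
  haveI : Fact (Nat.Prime 2) := ⟨Nat.prime_two⟩
  haveI : Group.IsNilpotent ↥S := hS.isNilpotent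
  have hlt : T.subgroupOf S < ⊤ := by
    rw [lt_top_iff_ne_top]
    intro h
    exact hne (le_antisymm hTS (Subgroup.subgroupOf_eq_top.1 h))
  obtain ⟨a, haN, haT⟩ := SetLike.exists_of_lt (Group.normalizerCondition_of_isNilpotent _ hlt)
  have hna : ∀ t ∈ T, (a : G) * t * (a : G)⁻¹ ∈ T := fun t ht =>
    (Subgroup.mem_normalizer_iff.1 haN ⟨t, hTS ht⟩).1 ht
  obtain ⟨k, hk⟩ := hS a
  have hex : ∃ i : ℕ, (a : G) ^ (2 ^ i) ∈ T :=
    ⟨k, by
      have h := congrArg Subtype.val hk
      rw [SubmonoidClass.coe_pow, OneMemClass.coe_one] at h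
      rw [h]; exact one_mem _⟩
  have hi0 : Nat.find hex ≠ 0 := by
    intro h0
    have := Nat.find_spec hex
    rw [h0, pow_zero, pow_one] at this
    exact haT this
  obtain ⟨i, hi⟩ := Nat.exists_eq_succ_of_ne_zero hi0
  refine ⟨(a : G) ^ (2 ^ i), pow_mem a.2 _, Nat.find_min hex (by omega), ?_, ?_⟩
  · have key : ∀ j : ℕ, ∀ t ∈ T, (a : G) ^ j * t * ((a : G) ^ j)⁻¹ ∈ T := by
      intro j
      induction j with
      | zero => intro t ht; simpa using ht
      | succ j ih =>
        intro t ht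
        have e : (a : G) ^ (j + 1) * t * ((a : G) ^ (j + 1))⁻¹ =
            (a : G) ^ j * ((a : G) * t * (a : G)⁻¹) * ((a : G) ^ j)⁻¹ := by rw [pow_succ]; group
        rw [e]; exact ih _ (hna t ht)
    exact key _
  · have := Nat.find_spec hex
    rw [hi, pow_succ, pow_mul, pow_two] at this
    exact this

/-- An element squaring into an abelian group of order eight and exponent two fixes a point of a four subgroup. -/
theorem exists_fixed [Finite G] {Z B : Subgroup G} (hab : ∀ a ∈ Z, ∀ b ∈ Z, a * b = b * a)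
    (hexp : ∀ a ∈ Z, a * a = 1) (hZ : Nat.card Z = 8) (hBZ : B ≤ Z) (hB : Nat.card B = 4) (g : G)
    (hg : ∀ t ∈ Z, g * t * g⁻¹ ∈ Z) (hg2 : ∀ t ∈ Z, g * g * t = t * (g * g)) :
    ∃ b ∈ B, b ≠ 1 ∧ g * b = b * g := by
  classical
  by_contra hcon
  push_neg at hcon
  obtain ⟨c, hc⟩ := exists_commHom Z hab g hg
  set F : Subgroup G := Z ⊓ centralizer {g} with hF
  have hmem : ∀ t : Z, t ∈ c.ker ↔ (t : G) ∈ F := by
    intro t
    rw [MonoidHom.mem_ker, hF, Subgroup.mem_inf, Subgroup.mem_centralizer_singleton_iff]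
    constructor
    · intro h
      have h' : g * t * g⁻¹ * (t : G)⁻¹ = 1 := by rw [← hc, h]; rfl
      rw [mul_inv_eq_one, mul_inv_eq_iff_eq_mul] at h'
      exact ⟨t.2, h'.symm⟩
    · rintro ⟨-, h⟩
      apply Subtype.ext
      rw [hc, OneMemClass.coe_one, mul_inv_eq_one, mul_inv_eq_iff_eq_mul, h]
  have hker : Nat.card c.ker = Nat.card F := Nat.card_congr
    { toFun := fun t => ⟨(t.1 : G), (hmem t.1).1 t.2⟩
      invFun := fun t => ⟨⟨t.1, (Subgroup.mem_inf.1 t.2).1⟩, (hmem _).2 t.2⟩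
      left_inv := fun t => rfl
      right_inv := fun t => rfl }
  have hrange : c.range ≤ c.ker := by
    rintro _ ⟨t, rfl⟩
    rw [MonoidHom.mem_ker]
    apply Subtype.ext
    rw [hc, OneMemClass.coe_one, mul_inv_eq_one, hc]
    have e : g * (g * t * g⁻¹ * (t : G)⁻¹) * g⁻¹ =
        (g * g * t) * (g * g)⁻¹ * (g * t * g⁻¹)⁻¹ := by group
    rw [e, hg2 t t.2, mul_inv_cancel_right]
    have h1 : (g * t * g⁻¹ * (t : G)⁻¹) * (g * t * g⁻¹ * (t : G)⁻¹) = 1 :=
      hexp _ (mul_mem (hg t t.2) (inv_mem t.2))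
    have h2 := inv_eq_of_mul_eq_one_right h1
    rw [← h2]
    group
  have hmul : Nat.card Z = Nat.card c.ker * Nat.card c.range := by
    rw [← Subgroup.index_ker c, Subgroup.card_mul_index]
  have hle : Nat.card c.range ≤ Nat.card c.ker := Subgroup.card_le_of_le hrange
  have hdis := card_mul_card_le (A := F) (B := B) (Z := Z) inf_le_left hBZ (fun x hxF hxB => by
    by_contra hx
    exact hcon x hxB hx (Subgroup.mem_centralizer_singleton_iff.1 (Subgroup.mem_inf.1 hxF).2).symm)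
  rw [hB, hZ] at hdis
  rw [hZ, hker] at hmul
  rw [hker] at hle
  nlinarith

/-- The abelian-by-two bound. -/
theorem rankFour_of_abelian_index_two [Finite G] {T M : Subgroup G}
    (hab : ∀ a ∈ M, ∀ b ∈ M, a * b = b * a)
    (hom : ∀ u ∈ T, ∀ v ∈ T, u ∉ M → v ∉ M → u * v ∈ M)
    (E : Subgroup G) (hE : ∀ a ∈ M, a * a = 1 → a ∈ E) (hE8 : Nat.card E ≤ 8) : RankFour T := by
  classical
  intro U K hU hKU hc hs
  set A : Subgroup G := U ⊓ M with hA
  have hAK : Nat.card A ≤ 8 * Nat.card K := by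
    let s : A →* K := MonoidHom.mk' (fun a => ⟨(a : G) * a, hs _ (Subgroup.mem_inf.1 a.2).1⟩) (by
      intro a b
      apply Subtype.ext
      simp only [Subgroup.coe_mul]
      have := hab _ (Subgroup.mem_inf.1 b.2).2 _ (Subgroup.mem_inf.1 a.2).2
      calc (a : G) * b * ((a : G) * b) = (a : G) * ((b : G) * a) * b := by group
        _ = (a : G) * ((a : G) * b) * b := by rw [this]
        _ = (a : G) * a * ((b : G) * b) := by group)
    have h1 : Nat.card A = Nat.card s.ker * Nat.card s.range := by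
      rw [← Subgroup.index_ker s, Subgroup.card_mul_index]
    have h2 : Nat.card s.ker ≤ 8 := by
      refine le_trans (Nat.card_le_card_of_injective (fun a : s.ker =>
        (⟨((a.1 : A) : G), hE _ (Subgroup.mem_inf.1 a.1.2).2
          (congrArg Subtype.val (MonoidHom.mem_ker.1 a.2))⟩ : E)) ?_) hE8
      intro a b e
      exact Subtype.ext (Subtype.ext (congrArg (fun t : E => (t : G)) e))
    have h3 : Nat.card s.range ≤ Nat.card K := Subgroup.card_le_card_group _
    rw [h1]; exact Nat.mul_le_mul h2 h3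
  by_cases hUM : U ≤ M
  · have : A = U := inf_eq_left.2 hUM
    rw [this] at hAK
    omega
  · obtain ⟨w, hwU, hwM⟩ := SetLike.not_le_iff_exists.1 hUM
    have hinj : Nat.card U ≤ Nat.card (Bool × A) := by
      refine Nat.card_le_card_of_injective (fun u : U =>
        if h : (u : G) ∈ M then (true, (⟨u, Subgroup.mem_inf.2 ⟨u.2, h⟩⟩ : A))
        else (false, ⟨w * u, Subgroup.mem_inf.2 ⟨mul_mem hwU u.2, hom _ (hU hwU) _ (hU u.2) hwM h⟩⟩)) ?_
      intro u v e
      dsimp only at e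
      split_ifs at e with h1 h2 h2
      · exact Subtype.ext (congrArg (fun p : Bool × A => (p.2 : G)) e)
      · exact absurd (congrArg Prod.fst e) (by simp)
      · exact absurd (congrArg Prod.fst e) (by simp)
      · exact Subtype.ext (mul_left_cancel (congrArg (fun p : Bool × A => (p.2 : G)) e))
    rw [Nat.card_prod, Nat.card_eq_fintype_card (α := Bool), Fintype.card_bool] at hinj
    omega

/-- A normal elementary abelian group of order sixteen with small fixed spaces. -/
theorem rankFour_normal [Finite G] {S T : Subgroup G} (hS : IsPGroup 2 S) (hTS : T ≤ S) (hT : Nat.card T = 16)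
    (hab : ∀ a ∈ T, ∀ b ∈ T, a * b = b * a) (hnorm : ∀ g ∈ S, ∀ t ∈ T, g * t * g⁻¹ ∈ T)
    (hfix : ∀ g ∈ S, g ∉ T → Nat.card (T ⊓ centralizer {g} : Subgroup G) ≤ 4)
    (hS64 : Nat.card S ≤ 64) : RankFour S := by
  classical
  intro U K hU hKU hc hs
  by_contra hlt
  push_neg at hlt
  haveI : Fact (Nat.Prime 2) := ⟨Nat.prime_two⟩
  obtain ⟨a, ha⟩ := IsPGroup.iff_card.1 (hS.to_le hU)
  obtain ⟨k, hk⟩ := IsPGroup.iff_card.1 (hS.to_le (hKU.trans hU))
  have hU64 : Nat.card U ≤ 64 := (Subgroup.card_le_of_le hU).trans hS64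
  rw [ha, hk] at hlt
  rw [ha] at hU64
  have ha6 : a ≤ 6 := by
    by_contra h
    have := Nat.pow_le_pow_right (show 2 > 0 by norm_num) (show 7 ≤ a by omega)
    omega
  have hak : k + 5 ≤ a := by
    by_contra h
    have := Nat.pow_le_pow_right (show 2 > 0 by norm_num) (show a ≤ k + 4 by omega)
    rw [pow_add] at this
    omega
  -- the kernel of the projection of `U` on `S / T`
  have hUT : ¬ U ≤ T := by
    intro h
    have := Subgroup.card_le_of_le h
    rw [ha, hT] at this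
    have := Nat.pow_le_pow_right (show 2 > 0 by norm_num) (show 5 ≤ a by omega)
    omega
  obtain ⟨g, hgU, hgT⟩ := SetLike.not_le_iff_exists.1 hUT
  haveI : (T.subgroupOf S).Normal := ⟨fun x hx g => hnorm g g.2 x hx⟩
  have hsub : Nat.card U * Nat.card T ≤ Nat.card S * Nat.card (U ⊓ T : Subgroup G) := by
    let π : U →* ↥S ⧸ T.subgroupOf S := (QuotientGroup.mk' _).comp (Subgroup.inclusion hU)
    have hkk : Nat.card π.ker = Nat.card (U ⊓ T : Subgroup G) := by
      have hmem : ∀ u : U, u ∈ π.ker ↔ (u : G) ∈ U ⊓ T := by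
        intro u
        rw [MonoidHom.mem_ker, Subgroup.mem_inf]
        simp [π, QuotientGroup.eq_one_iff, Subgroup.mem_subgroupOf, u.2]
      exact Nat.card_congr
        { toFun := fun u => ⟨(u.1 : G), (hmem u.1).1 u.2⟩
          invFun := fun u => ⟨⟨u.1, (Subgroup.mem_inf.1 u.2).1⟩, (hmem _).2 u.2⟩
          left_inv := fun u => rfl
          right_inv := fun u => rfl }
    have h1 : Nat.card U = Nat.card π.ker * Nat.card π.range := by
      rw [← Subgroup.index_ker π, Subgroup.card_mul_index]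
    have h2 := Subgroup.card_le_card_group π.range
    have h3 := Subgroup.card_eq_card_quotient_mul_card_subgroup (T.subgroupOf S)
    rw [Nat.card_congr (Subgroup.subgroupOfEquivOfLe hTS).toEquiv] at h3
    rw [h1, hkk, h3]
    calc Nat.card (U ⊓ T : Subgroup G) * Nat.card π.range * Nat.card T
        ≤ Nat.card (U ⊓ T : Subgroup G) * Nat.card (↥S ⧸ T.subgroupOf S) * Nat.card T := by gcongr
      _ = _ := by ring
  rcases (show a = 5 ∨ a = 6 by omega) with rfl | rfl
  · -- `U` is elementary abelian of order `32`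
    obtain rfl : k = 0 := by omega
    have hK1 : K = ⊥ := Subgroup.eq_bot_of_card_eq K (by rw [hk, pow_zero])
    have hle : (U ⊓ T : Subgroup G) ≤ T ⊓ centralizer {g} := by
      intro t ht
      rw [Subgroup.mem_inf] at ht ⊢
      refine ⟨ht.2, Subgroup.mem_centralizer_singleton_iff.2 ?_⟩
      have := hc t ht.1 g hgU
      rw [hK1, Subgroup.mem_bot, mul_inv_eq_one, mul_inv_eq_iff_eq_mul] at this
      exact this
    have := (Subgroup.card_le_of_le hle).trans (hfix g (hU hgU) hgT)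
    rw [ha, hT] at hsub
    nlinarith
  · have hUS : U = S := Subgroup.eq_of_le_of_card_ge hU (by rw [ha]; simpa using hS64)
    subst hUS
    obtain ⟨c, hcc⟩ := exists_commHom T hab g (hnorm g hgU)
    have h1 : Nat.card T = Nat.card c.ker * Nat.card c.range := by
      rw [← Subgroup.index_ker c, Subgroup.card_mul_index]
    have h2 : Nat.card c.ker ≤ 4 := by
      refine le_trans (Nat.card_le_card_of_injective (fun t : c.ker =>
        (⟨((t.1 : T) : G), Subgroup.mem_inf.2 ⟨t.1.2, Subgroup.mem_centralizer_singleton_iff.2 ?_⟩⟩ :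
          (T ⊓ centralizer {g} : Subgroup G))) ?_) (hfix g hgU hgT)
      · have := congrArg Subtype.val (MonoidHom.mem_ker.1 t.2)
        rw [hcc, OneMemClass.coe_one, mul_inv_eq_one, mul_inv_eq_iff_eq_mul] at this
        exact this.symm
      · intro s t e
        exact Subtype.ext (Subtype.ext (congrArg (fun x : (T ⊓ centralizer {g} : Subgroup G) => (x : G)) e))
    have h3 : Nat.card c.range ≤ Nat.card K := by
      refine Nat.card_le_card_of_injective (fun t : c.range => (⟨((t.1 : T) : G), ?_⟩ : K)) ?_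
      · obtain ⟨s, hs'⟩ := t.2
        rw [← hs', hcc]
        exact hc g hgU s (hTS s.2)
      · intro s t e
        exact Subtype.ext (Subtype.ext (congrArg (fun x : K => (x : G)) e))
    rw [hT] at h1
    rw [hk] at h3
    have : (2 : ℕ) ^ k ≤ 2 ^ 1 := Nat.pow_le_pow_right (by norm_num) (by omega)
    nlinarith

/-- Two elementary abelian groups of order sixteen exchanged by an element. -/
theorem rankFour_swap [Finite G] {S N T T' : Subgroup G} (hS : IsPGroup 2 S) (hNS : N ≤ S)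
    (hS128 : Nat.card S = 2 * Nat.card N) (hN : Nat.card N = 64)
    (hTN : T ≤ N) (hT'N : T' ≤ N) (hT : Nat.card T = 16) (hT' : Nat.card T' = 16)
    (hW : Nat.card (T ⊓ T' : Subgroup G) = 4) (hab : ∀ a ∈ T, ∀ b ∈ T, a * b = b * a)
    (hcen : ∀ t' ∈ T', t' ∉ T → ∀ t ∈ T, t * t' = t' * t → t ∈ T')
    (hEl : ∀ E : Subgroup G, E ≤ N → (∀ x ∈ E, x * x = 1) → E ≤ T ∨ E ≤ T')
    (hswap : ∀ g ∈ S, g ∉ N → ∀ x, (x ∈ T ↔ g * x * g⁻¹ ∈ T')) (hswap' : ∀ g ∈ S, g ∉ N → ∀ x, (x ∈ T' ↔ g * x * g⁻¹ ∈ T))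
    (hNab : ∀ g ∈ N, ∀ t ∈ T, g * t * g⁻¹ ∈ T) :
    RankFour S := by
  classical
  intro U K hU hKU hc hs
  by_contra hlt
  push_neg at hlt
  haveI : Fact (Nat.Prime 2) := ⟨Nat.prime_two⟩
  obtain ⟨a, ha⟩ := IsPGroup.iff_card.1 (hS.to_le hU)
  obtain ⟨k, hk⟩ := IsPGroup.iff_card.1 (hS.to_le (hKU.trans hU))
  have hU128 : Nat.card U ≤ 128 := (Subgroup.card_le_of_le hU).trans (by omega)
  rw [ha, hk] at hlt
  rw [ha] at hU128
  have ha7 : a ≤ 7 := by
    by_contra h
    have := Nat.pow_le_pow_right (show 2 > 0 by norm_num) (show 8 ≤ a by omega)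
    omega
  have hak : k + 5 ≤ a := by
    by_contra h
    have := Nat.pow_le_pow_right (show 2 > 0 by norm_num) (show a ≤ k + 4 by omega)
    rw [pow_add] at this
    omega
  have hElem : k = 0 → ∀ x ∈ U, x * x = 1 := by
    intro h0 x hx
    have hK1 : K = ⊥ := Subgroup.eq_bot_of_card_eq K (by rw [hk, h0, pow_zero])
    exact Subgroup.mem_bot.1 (hK1 ▸ hs x hx)
  have hWT' : ∀ g ∈ S, g ∉ N → ∀ x ∈ T, g * x * g⁻¹ ∈ T → x ∈ T' := by
    intro g hg hgN x hx hgx
    exact (hswap' g hg hgN x).2 hgx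
  by_cases hUN : U ≤ N
  · have hUcard : Nat.card U ≤ 64 := hN ▸ Subgroup.card_le_of_le hUN
    rw [ha] at hUcard
    have ha6 : a ≤ 6 := by
      by_contra h
      have := Nat.pow_le_pow_right (show 2 > 0 by norm_num) (show 7 ≤ a by omega)
      omega
    rcases (show a = 5 ∨ a = 6 by omega) with rfl | rfl
    · rcases hEl U hUN (hElem (by omega)) with h | h
      · have := Subgroup.card_le_of_le h; rw [ha, hT] at this; norm_num at this
      · have := Subgroup.card_le_of_le h; rw [ha, hT'] at this; norm_num at this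
    · have hUN' : U = N := Subgroup.eq_of_le_of_card_ge hUN (by rw [ha, hN]; norm_num)
      subst hUN'
      obtain ⟨t', ht', ht'T⟩ : ∃ t' ∈ T', t' ∉ T := by
        by_contra h
        push_neg at h
        have h' : T' ≤ T ⊓ T' := fun x hx => Subgroup.mem_inf.2 ⟨h x hx, hx⟩
        have := Subgroup.card_le_of_le h'
        omega
      obtain ⟨c, hcc⟩ := exists_commHom T hab t' (hNab t' (hT'N ht'))
      have h1 : Nat.card T = Nat.card c.ker * Nat.card c.range := by
        rw [← Subgroup.index_ker c, Subgroup.card_mul_index]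
      have h2 : Nat.card c.ker ≤ 4 := by
        refine le_of_le_of_eq (Nat.card_le_card_of_injective (fun t : c.ker =>
          (⟨((t.1 : T) : G), Subgroup.mem_inf.2 ⟨t.1.2, hcen t' ht' ht'T _ t.1.2 ?_⟩⟩ :
            (T ⊓ T' : Subgroup G))) ?_) hW
        · have := congrArg Subtype.val (MonoidHom.mem_ker.1 t.2)
          rw [hcc, OneMemClass.coe_one, mul_inv_eq_one, mul_inv_eq_iff_eq_mul] at this
          exact this.symm
        · intro s t e
          exact Subtype.ext (Subtype.ext (congrArg (fun x : (T ⊓ T' : Subgroup G) => (x : G)) e))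
      have h3 : Nat.card c.range ≤ Nat.card K := by
        refine Nat.card_le_card_of_injective (fun t : c.range => (⟨((t.1 : T) : G), ?_⟩ : K)) ?_
        · obtain ⟨s, hs'⟩ := t.2
          rw [← hs', hcc]
          exact hc t' (hT'N ht') s (hTN s.2)
        · intro s t e
          exact Subtype.ext (Subtype.ext (congrArg (fun x : K => (x : G)) e))
      rw [hT] at h1
      rw [hk] at h3
      have : (2 : ℕ) ^ k ≤ 2 ^ 1 := Nat.pow_le_pow_right (by norm_num) (by omega)
      nlinarith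
  · obtain ⟨h, hhU, hhN⟩ := SetLike.not_le_iff_exists.1 hUN
    set V : Subgroup G := U ⊓ N with hVdef
    have hidxN : (N.subgroupOf S).index = 2 := by
      have h3 := Subgroup.card_mul_index (N.subgroupOf S)
      rw [Nat.card_congr (Subgroup.subgroupOfEquivOfLe hNS).toEquiv, hS128, hN] at h3
      omega
    have hV : 2 * Nat.card V = Nat.card U := by
      have h1 : (V.subgroupOf U).index = 2 := by
        rw [Subgroup.index_eq_two_iff]
        refine ⟨⟨h, hhU⟩, fun u => ?_⟩
        have h2 := Subgroup.mul_mem_iff_of_index_two hidxN (a := (⟨u, hU u.2⟩ : S)) (b := (⟨h, hU hhU⟩ : S))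
        simp only [Subgroup.mem_subgroupOf, hVdef, Subgroup.mem_inf, Subgroup.coe_mul] at h2 ⊢
        by_cases hu : (u : G) ∈ N
        · refine Or.inr ⟨⟨u.2, hu⟩, fun h3 => ?_⟩
          exact hhN ((h2.1 h3.2).1 hu)
        · exact Or.inl ⟨⟨mul_mem u.2 hhU, h2.2 (iff_of_false hu hhN)⟩, fun h3 => hu h3.2⟩
      have := Subgroup.card_mul_index (V.subgroupOf U)
      rw [Nat.card_congr (Subgroup.subgroupOfEquivOfLe (inf_le_left : V ≤ U)).toEquiv, h1] at this
      rw [← this, mul_comm]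
    rcases (show a = 5 ∨ 6 ≤ a by omega) with rfl | ha6
    · have hV16 : Nat.card V = 16 := by omega
      have hh := hU hhU
      have hflip : ∀ x ∈ V, h * x * h⁻¹ = x := by
        intro x hx
        have hK1 : K = ⊥ := Subgroup.eq_bot_of_card_eq K (by rw [hk, show k = 0 by omega, pow_zero])
        have := hc h hhU x (Subgroup.mem_inf.1 hx).1
        rwa [hK1, Subgroup.mem_bot, mul_inv_eq_one] at this
      have hle : V ≤ T ⊓ T' := by
        rcases hEl V inf_le_right (fun x hx => hElem (by omega) x (Subgroup.mem_inf.1 hx).1) with h1 | h1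
        · intro x hx
          have h2 := (hswap h hh hhN x).1 (h1 hx)
          rw [hflip x hx] at h2
          exact Subgroup.mem_inf.2 ⟨h1 hx, h2⟩
        · intro x hx
          have h2 := (hswap' h hh hhN x).1 (h1 hx)
          rw [hflip x hx] at h2
          exact Subgroup.mem_inf.2 ⟨h2, h1 hx⟩
      have := Subgroup.card_le_of_le hle
      omega
    · have hVT : 4 < Nat.card (V ⊓ T : Subgroup G) := by
        haveI : (T.subgroupOf N).Normal := ⟨fun x hx g => hNab g g.2 x hx⟩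
        let π : V →* ↥N ⧸ T.subgroupOf N := (QuotientGroup.mk' _).comp (Subgroup.inclusion inf_le_right)
        have hker : Nat.card π.ker ≤ Nat.card (V ⊓ T : Subgroup G) := by
          refine Nat.card_le_card_of_injective (fun v : π.ker =>
            (⟨((v.1 : V) : G), Subgroup.mem_inf.2 ⟨v.1.2, ?_⟩⟩ : (V ⊓ T : Subgroup G))) ?_
          · have := MonoidHom.mem_ker.1 v.2
            simpa [π, QuotientGroup.eq_one_iff, Subgroup.mem_subgroupOf] using this
          · intro s t e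
            exact Subtype.ext (Subtype.ext (congrArg (fun x : (V ⊓ T : Subgroup G) => (x : G)) e))
        have h1 : Nat.card V = Nat.card π.ker * Nat.card π.range := by
          rw [← Subgroup.index_ker π, Subgroup.card_mul_index]
        have h2 := Subgroup.card_le_card_group π.range
        have h3 := Subgroup.card_eq_card_quotient_mul_card_subgroup (T.subgroupOf N)
        rw [Nat.card_congr (Subgroup.subgroupOfEquivOfLe hTN).toEquiv, hT, hN] at h3
        have h4 := Nat.pow_le_pow_right (show 2 > 0 by norm_num) ha6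
        rw [← ha] at h4
        nlinarith
      obtain ⟨t, ht, htT'⟩ : ∃ t ∈ (V ⊓ T : Subgroup G), t ∉ T' := by
        by_contra h0
        push_neg at h0
        have := Subgroup.card_le_of_le (show (V ⊓ T : Subgroup G) ≤ T ⊓ T' from fun x hx =>
          Subgroup.mem_inf.2 ⟨(Subgroup.mem_inf.1 hx).2, h0 x hx⟩)
        omega
      obtain ⟨⟨htU, htN⟩, htT⟩ : (t ∈ U ∧ t ∈ N) ∧ t ∈ T := by
        simpa [hVdef, Subgroup.mem_inf] using ht
      have hh := hU hhU
      set t' : G := h * t * h⁻¹ with ht'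
      have ht'T' : t' ∈ T' := (hswap h hh hhN t).1 htT
      have ht'T : t' ∉ T := fun h0 => htT' (hWT' h hh hhN t htT h0)
      have ht'U : t' ∈ U := mul_mem (mul_mem hhU htU) (inv_mem hhU)
      set k1 : G := h * t * h⁻¹ * t⁻¹ with hk1
      set k2 : G := t * t' * t⁻¹ * t'⁻¹ with hk2
      have hk1K : k1 ∈ K := hc h hhU t htU
      have hk2K : k2 ∈ K := hc t htU t' ht'U
      have hk1T : k1 ∉ T := fun h0 => ht'T (by
        have : t' = k1 * t := by rw [hk1, ht']; group
        rw [this]; exact mul_mem h0 htT)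
      have hk2T : k2 ∈ T := by
        have e : k2 = t * (t' * t⁻¹ * t'⁻¹) := by rw [hk2]; group
        rw [e]
        exact mul_mem htT (hNab t' (hT'N ht'T') _ (inv_mem htT))
      have hk2ne : k2 ≠ 1 := fun h0 => htT' (hcen t' ht'T' ht'T t htT (by
        rwa [hk2, mul_inv_eq_one, mul_inv_eq_iff_eq_mul] at h0))
      have hK3 : 3 ≤ Nat.card K := by
        have hinj : Function.Injective (![⟨1, one_mem K⟩, ⟨k1, hk1K⟩, ⟨k2, hk2K⟩] : Fin 3 → K) := by
          have e1 : (1 : G) ≠ k1 := fun e => hk1T (e ▸ one_mem T)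
          have e2 : (1 : G) ≠ k2 := fun e => hk2ne e.symm
          have e3 : k1 ≠ k2 := fun e => hk1T (e ▸ hk2T)
          intro i j hij
          have hij' := congrArg (fun x : K => (x : G)) hij
          fin_cases i <;> fin_cases j <;> simp_all
        simpa using Nat.card_le_card_of_injective _ hinj
      have hk2' : 2 ≤ k := by
        by_contra hk'
        have := Nat.pow_le_pow_right (show 2 > 0 by norm_num) (show k ≤ 1 by omega)
        omega
      obtain rfl : a = 7 := by omega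
      obtain rfl : k = 2 := by omega
      have hUS : U = S := Subgroup.eq_of_le_of_card_ge hU (by rw [ha]; omega)
      subst hUS
      obtain ⟨c, hcc⟩ := exists_commHom T hab t' (hNab t' (hT'N ht'T'))
      have h1 : Nat.card T = Nat.card c.ker * Nat.card c.range := by
        rw [← Subgroup.index_ker c, Subgroup.card_mul_index]
      have h2 : Nat.card c.ker ≤ 4 := by
        refine le_of_le_of_eq (Nat.card_le_card_of_injective (fun s : c.ker =>
          (⟨((s.1 : T) : G), Subgroup.mem_inf.2 ⟨s.1.2, hcen t' ht'T' ht'T _ s.1.2 ?_⟩⟩ :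
            (T ⊓ T' : Subgroup G))) ?_) hW
        · have := congrArg Subtype.val (MonoidHom.mem_ker.1 s.2)
          rw [hcc, OneMemClass.coe_one, mul_inv_eq_one, mul_inv_eq_iff_eq_mul] at this
          exact this.symm
        · intro x y e
          exact Subtype.ext (Subtype.ext (congrArg (fun z : (T ⊓ T' : Subgroup G) => (z : G)) e))
      -- four commutators in `T` and one outside
      have h3 : Nat.card c.range + 1 ≤ Nat.card K := by
        let F : Option c.range → K := fun o => o.elim ⟨k1, hk1K⟩ (fun y => ⟨((y.1 : T) : G), by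
          obtain ⟨s, hs'⟩ := y.2
          rw [← hs', hcc]
          exact hc t' ht'U s (hNS (hTN s.2))⟩)
        have hF : Function.Injective F := by
          rintro (_ | x) (_ | y) e <;> have e' := congrArg (fun z : K => (z : G)) e
          · rfl
          · exact absurd (show k1 = ((y.1 : T) : G) from e') (fun e0 => hk1T (e0 ▸ y.1.2))
          · exact absurd (show ((x.1 : T) : G) = k1 from e') (fun e0 => hk1T (e0 ▸ x.1.2))
          · exact congrArg some (Subtype.ext (Subtype.ext e'))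
        have := Nat.card_le_card_of_injective F hF
        rwa [Finite.card_option] at this
      rw [hT] at h1
      rw [hk] at h3
      nlinarith

/-- Fixed spaces on `T` of elements outside `T`. -/
theorem fix_le [Finite G] {S T B : Subgroup G} (hT : Nat.card T = 16) (hBT : B ≤ T) (hB : Nat.card B = 4)
    (hC : ∀ b ∈ B, b ≠ 1 → S ⊓ centralizer {b} = T) (g : G) (hgS : g ∈ S) (hgT : g ∉ T) :
    Nat.card (T ⊓ centralizer {g} : Subgroup G) ≤ 4 := by
  have h := card_mul_card_le (A := T ⊓ centralizer {g}) (B := B) (Z := T) inf_le_left hBT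
    (fun x hx hxB => by
      by_contra hne
      apply hgT
      rw [← hC x hxB hne]
      exact Subgroup.mem_inf.2 ⟨hgS, Subgroup.mem_centralizer_singleton_iff.2
        (Subgroup.mem_centralizer_singleton_iff.1 (Subgroup.mem_inf.1 hx).2).symm⟩)
  rw [hT, hB] at h
  omega

/-- The conjugate `h T h⁻¹`. -/
def cj (h : G) (T : Subgroup G) : Subgroup G := T.comap (MulAut.conj h⁻¹).toMonoidHom

theorem mem_cj {h : G} {T : Subgroup G} {x : G} : x ∈ cj h T ↔ h⁻¹ * x * h ∈ T := by
  simp [cj]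

theorem mem_cj_conj {h : G} {T : Subgroup G} {x : G} : h * x * h⁻¹ ∈ cj h T ↔ x ∈ T := by
  rw [mem_cj]
  have e : h⁻¹ * (h * x * h⁻¹) * h = x := by group
  rw [e]

theorem card_cj (h : G) (T : Subgroup G) : Nat.card (cj h T) = Nat.card T :=
  (Nat.card_congr
    { toFun := fun x : T => (⟨h * x * h⁻¹, mem_cj_conj.2 x.2⟩ : cj h T)
      invFun := fun y => ⟨h⁻¹ * y * h, mem_cj.1 y.2⟩
      left_inv := fun x => Subtype.ext (by group)
      right_inv := fun y => Subtype.ext (by group) }).symm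

/-- A conjugate of an abelian group of exponent two is one. -/
theorem cj_facts {T : Subgroup G} (hab : ∀ a ∈ T, ∀ b ∈ T, a * b = b * a) (hexp : ∀ a ∈ T, a * a = 1)
    (h : G) : (∀ a ∈ cj h T, ∀ b ∈ cj h T, a * b = b * a) ∧ ∀ a ∈ cj h T, a * a = 1 := by
  refine ⟨fun a ha b hb => ?_, fun a ha => ?_⟩
  · have := hab _ (mem_cj.1 ha) _ (mem_cj.1 hb)
    calc a * b = h * ((h⁻¹ * a * h) * (h⁻¹ * b * h)) * h⁻¹ := by group
      _ = h * ((h⁻¹ * b * h) * (h⁻¹ * a * h)) * h⁻¹ := by rw [this]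
      _ = b * a := by group
  · have := hexp _ (mem_cj.1 ha)
    calc a * a = h * ((h⁻¹ * a * h) * (h⁻¹ * a * h)) * h⁻¹ := by group
      _ = 1 := by rw [this]; group

/-- An element of the normalizer with central image of order two modulo `T`. -/
theorem exists_central [Finite G] {N T : Subgroup G} (hN : IsPGroup 2 N) (hTN : T ≤ N) (hne : T ≠ N)
    (hn : ∀ x ∈ N, ∀ t ∈ T, x * t * x⁻¹ ∈ T) :
    ∃ g ∈ N, g ∉ T ∧ g * g ∈ T ∧ ∀ x ∈ N, x⁻¹ * g⁻¹ * x * g ∈ T := by
  classical
  haveI : Fact (Nat.Prime 2) := ⟨Nat.prime_two⟩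
  haveI : (T.subgroupOf N).Normal := ⟨fun x hx g => hn g g.2 x hx⟩
  let Q := ↥N ⧸ T.subgroupOf N
  haveI : Nontrivial Q := by
    rw [QuotientGroup.nontrivial_iff]
    exact fun h => hne (le_antisymm hTN (Subgroup.subgroupOf_eq_top.1 h))
  have hQ : IsPGroup 2 Q := hN.to_quotient _
  haveI : Nontrivial (Subgroup.center Q) := hQ.center_nontrivial
  obtain ⟨k, hk⟩ := IsPGroup.iff_card.1 (hQ.to_subgroup (Subgroup.center Q))
  have hd : 2 ∣ Nat.card (Subgroup.center Q) := by
    rcases k with _ | k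
    · have := Finite.one_lt_card (α := Subgroup.center Q); omega
    · rw [hk, pow_succ]; exact dvd_mul_left 2 _
  obtain ⟨⟨z, hz⟩, hzo⟩ := exists_prime_orderOf_dvd_card' 2 hd
  rw [← Subgroup.orderOf_coe] at hzo
  obtain ⟨⟨g, hg⟩, rfl⟩ := QuotientGroup.mk_surjective z
  refine ⟨g, hg, fun h => ?_, ?_, fun x hx => ?_⟩
  · have h1 : ((⟨g, hg⟩ : N) : Q) = 1 := (QuotientGroup.eq_one_iff _).2 h
    simp [h1] at hzo
  · have h1 := pow_orderOf_eq_one (((⟨g, hg⟩ : N) : Q))
    rw [hzo, pow_two, ← QuotientGroup.mk_mul, QuotientGroup.eq_one_iff] at h1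
    exact h1
  · have h1 := Subgroup.mem_center_iff.1 hz ((⟨x, hx⟩ : N) : Q)
    rw [← QuotientGroup.mk_mul, ← QuotientGroup.mk_mul, QuotientGroup.eq] at h1
    have h2 : (x * g)⁻¹ * (g * x) ∈ T := h1
    have h3 := inv_mem h2
    have e : ((x * g)⁻¹ * (g * x))⁻¹ = x⁻¹ * g⁻¹ * x * g := by group
    rwa [e] at h3

/-- The elementary abelian case. -/
theorem rankFour_elementary [Finite G] {S T B : Subgroup G} (hS : IsPGroup 2 S) (hTS : T ≤ S)
    (hT : Nat.card T = 16) (hab : ∀ a ∈ T, ∀ b ∈ T, a * b = b * a) (hexp : ∀ a ∈ T, a * a = 1)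
    (hBT : B ≤ T) (hB : Nat.card B = 4) (hC : ∀ b ∈ B, b ≠ 1 → S ⊓ centralizer {b} = T) :
    RankFour S := by
  classical
  haveI : Fact (Nat.Prime 2) := ⟨Nat.prime_two⟩
  by_cases hTeq : T = S
  · subst hTeq
    intro U K hU _ _ _
    have h1 := Subgroup.card_le_of_le hU
    have h2 : 0 < Nat.card K := Nat.card_pos
    omega
  obtain ⟨g₀, hg₀S, hg₀T, hg₀n, -⟩ := exists_sq_mem hS hTS hTeq
  set N : Subgroup G := S ⊓ normalizer (T : Set G) with hNdef
  have hTN : T ≤ N := le_inf hTS Subgroup.le_normalizer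
  have hNS : N ≤ S := inf_le_left
  have hNn : ∀ x ∈ N, ∀ t ∈ T, x * t * x⁻¹ ∈ T := fun x hx t ht =>
    (Subgroup.mem_normalizer_iff.1 (Subgroup.mem_inf.1 hx).2 t).1 ht
  have mem_norm : ∀ {M : Subgroup G} {x : G}, (∀ t ∈ M, x * t * x⁻¹ ∈ M) → x ∈ normalizer (M : Set G) := by
    intro M x hx
    exact Subgroup.mem_normalizer_fintype hx
  have hg₀N : g₀ ∈ N := Subgroup.mem_inf.2 ⟨hg₀S, mem_norm hg₀n⟩
  have hTneN : T ≠ N := fun h => hg₀T (h ▸ hg₀N)
  have hNp : IsPGroup 2 N := hS.to_le hNS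
  obtain ⟨g, hgN, hgT, hgg, hgc⟩ := exists_central hNp hTN hTneN hNn
  have hgS : g ∈ S := hNS hgN
  have hfix := fix_le (S := S) hT hBT hB hC
  set F : Subgroup G := T ⊓ centralizer {g} with hFdef
  have hFmem : ∀ {t : G}, t ∈ T → g * t * g⁻¹ = t → t ∈ F := fun {t} ht h =>
    Subgroup.mem_inf.2 ⟨ht, Subgroup.mem_centralizer_singleton_iff.2 (mul_inv_eq_iff_eq_mul.1 h).symm⟩
  have hFmem' : ∀ {t : G}, t ∈ F → g * t * g⁻¹ = t := fun {t} h => mul_inv_eq_iff_eq_mul.2
    (Subgroup.mem_centralizer_singleton_iff.1 (Subgroup.mem_inf.1 h).2).symm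
  obtain ⟨c, hcc⟩ := exists_commHom T hab g (hNn g hgN)
  have hkerF : Nat.card c.ker ≤ Nat.card F := Nat.card_le_card_of_injective
    (fun t : c.ker => (⟨((t.1 : T) : G), hFmem t.1.2 (by
      have := congrArg Subtype.val (MonoidHom.mem_ker.1 t.2)
      rwa [hcc, OneMemClass.coe_one, mul_inv_eq_one] at this)⟩ : F))
    (fun s t e => Subtype.ext (Subtype.ext (congrArg (fun x : F => (x : G)) e)))
  have hrange : Nat.card c.range ≤ Nat.card F := by
    refine Nat.card_le_card_of_injective (fun y : c.range => (⟨((y.1 : T) : G), hFmem y.1.2 ?_⟩ : F))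
      (fun x y e => Subtype.ext (Subtype.ext (congrArg (fun z : F => (z : G)) e)))
    obtain ⟨x, hx⟩ := y.2
    rw [← hx, hcc]
    have h1 : g * g * x = x * (g * g) := hab _ hgg _ x.2
    have h2 := inv_eq_of_mul_eq_one_right (hexp _ (mul_mem (hNn g hgN x x.2) (inv_mem x.2)))
    calc g * (g * x * g⁻¹ * (x : G)⁻¹) * g⁻¹
        = (g * g * x) * (g * g)⁻¹ * (g * x * g⁻¹)⁻¹ := by group
      _ = (g * x * g⁻¹ * (x : G)⁻¹)⁻¹ := by rw [h1, mul_inv_cancel_right]; group
      _ = g * x * g⁻¹ * (x : G)⁻¹ := h2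
  have hF4 : Nat.card F = 4 := by
    have hmul : Nat.card T = Nat.card c.ker * Nat.card c.range := by
      rw [← Subgroup.index_ker c, Subgroup.card_mul_index]
    have h4 := hfix g hgS hgT
    have : 16 ≤ Nat.card F * Nat.card F := by
      rw [← hT, hmul]; exact Nat.mul_le_mul hkerF hrange
    nlinarith
  have hFB : ∀ x ∈ F, x ∈ B → x = 1 := fun x hx hxB => by
    by_contra hne
    apply hgT
    rw [← hC x hxB hne]
    exact Subgroup.mem_inf.2 ⟨hgS, Subgroup.mem_centralizer_singleton_iff.2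
      (Subgroup.mem_centralizer_singleton_iff.1 (Subgroup.mem_inf.1 hx).2).symm⟩
  have hprod : ∀ t ∈ T, ∃ b ∈ B, b⁻¹ * t ∈ F := by
    have hbij : Function.Bijective
        (fun p : B × F => (⟨(p.1 : G) * p.2, mul_mem (hBT p.1.2) (Subgroup.mem_inf.1 p.2.2).1⟩ : T)) := by
      rw [Nat.bijective_iff_injective_and_card]
      refine ⟨?_, by rw [Nat.card_prod, hB, hF4, hT]⟩
      intro p q e
      have e' : (p.1 : G) * p.2 = q.1 * q.2 := congrArg Subtype.val e
      have h1 : (q.1 : G)⁻¹ * p.1 = q.2 * (p.2 : G)⁻¹ := by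
        rw [eq_mul_inv_iff_mul_eq, mul_assoc, e', inv_mul_cancel_left]
      have hx := hFB _ (h1 ▸ mul_mem q.2.2 (inv_mem p.2.2)) (mul_mem (inv_mem q.1.2) p.1.2)
      have hp1 : (p.1 : G) = q.1 := (inv_mul_eq_one.1 hx).symm
      have hp2 : (p.2 : G) = q.2 := by rw [hp1] at e'; exact mul_left_cancel e'
      exact Prod.ext (Subtype.ext hp1) (Subtype.ext hp2)
    intro t ht
    obtain ⟨p, hp⟩ := hbij.2 ⟨t, ht⟩
    refine ⟨p.1, p.1.2, ?_⟩
    have hp' : (p.1 : G) * p.2 = t := congrArg Subtype.val hp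
    rw [← hp', inv_mul_cancel_left]
    exact p.2.2
  have huniq : ∀ b ∈ B, ∀ b' ∈ B, b⁻¹ * b' ∈ F → b = b' := fun b hb b' hb' h =>
    inv_mul_eq_one.1 (hFB _ h (mul_mem (inv_mem hb) hb'))
  have hFN : ∀ x ∈ N, ∀ y ∈ F, x * y * x⁻¹ ∈ F := by
    intro x hx y hy
    have hyT := (Subgroup.mem_inf.1 hy).1
    refine hFmem (hNn x hx y hyT) ?_
    have h1 : x⁻¹ * g⁻¹ * x * g ∈ T := hgc x hx
    have h2 : (x⁻¹ * g⁻¹ * x * g)⁻¹ ∈ T := inv_mem h1
    set d := (x⁻¹ * g⁻¹ * x * g)⁻¹ with hd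
    -- `g x = x d' g`
    have e1 : g * x = x * (g * d) := by rw [hd]; group
    have h3 : d * y = y * d := hab _ h2 _ hyT
    calc g * (x * y * x⁻¹) * g⁻¹ = (g * x) * y * (g * x)⁻¹ := by group
      _ = x * g * (d * y * d⁻¹) * g⁻¹ * x⁻¹ := by rw [e1]; group
      _ = x * (g * y * g⁻¹) * x⁻¹ := by rw [h3, mul_inv_cancel_right]; group
      _ = x * y * x⁻¹ := by rw [hFmem' hy]
  -- some nontrivial coset of `F` is fixed by `N`
  obtain ⟨b, hbB, hb1, hbfix⟩ : ∃ b ∈ B, b ≠ 1 ∧ ∀ x ∈ N, b⁻¹ * (x * b * x⁻¹) ∈ F := by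
    have key : ∀ (x : N) (p : {b : B // b ≠ 1}),
        ∃ q : {b : B // b ≠ 1}, ((q.1 : G))⁻¹ * ((x : G) * (p.1 : G) * (x : G)⁻¹) ∈ F := by
      intro x p
      obtain ⟨b', hb', hbF⟩ := hprod _ (hNn x x.2 _ (hBT p.1.2))
      refine ⟨⟨⟨b', hb'⟩, fun h => ?_⟩, hbF⟩
      have h' : b' = 1 := congrArg Subtype.val h
      rw [h', inv_one, one_mul] at hbF
      have := hFN _ (inv_mem x.2) _ hbF
      have e : (x : G)⁻¹ * ((x : G) * (p.1 : G) * (x : G)⁻¹) * ((x : G)⁻¹)⁻¹ = (p.1 : G) := by group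
      rw [e] at this
      exact p.2 (Subtype.ext (hFB _ this p.1.2))
    choose σ hσ using key
    have hσu : ∀ (x : N) (p q : {b : B // b ≠ 1}),
        ((q.1 : G))⁻¹ * ((x : G) * (p.1 : G) * (x : G)⁻¹) ∈ F → σ x p = q := by
      intro x p q hq
      refine Subtype.ext (Subtype.ext (huniq _ (σ x p).1.2 _ q.1.2 ?_))
      have := mul_mem (hσ x p) (inv_mem hq)
      have e : ((σ x p).1 : G)⁻¹ * ((x : G) * (p.1 : G) * (x : G)⁻¹) *
          (((q.1 : G))⁻¹ * ((x : G) * (p.1 : G) * (x : G)⁻¹))⁻¹ = ((σ x p).1 : G)⁻¹ * (q.1 : G) := by group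
      rwa [e] at this
    letI : MulAction N {b : B // b ≠ 1} :=
      { smul := σ
        one_smul := fun p => hσu 1 p p (by simp [one_mem])
        mul_smul := fun x y p => hσu (x * y) p (σ x (σ y p)) (by
          have h1 := hσ x (σ y p)
          have h2 := hFN _ x.2 _ (hσ y p)
          have := mul_mem h1 h2
          refine (congrArg (· ∈ F) ?_).mp this
          simp only [Subgroup.coe_mul]
          group) }
    have hcard : Nat.card {b : B // b ≠ 1} = 3 := by
      haveI := Fintype.ofFinite B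
      rw [Nat.card_eq_fintype_card, Fintype.card_subtype_compl, Fintype.card_subtype_eq,
        ← Nat.card_eq_fintype_card, hB]
    obtain ⟨p, hp⟩ := hNp.nonempty_fixed_point_of_prime_not_dvd_card {b : B // b ≠ 1} (by rw [hcard]; decide)
    refine ⟨p.1, p.1.2, fun h => p.2 (Subtype.ext h), fun x hx => ?_⟩
    have h1 := hσ ⟨x, hx⟩ p
    have h2 : σ ⟨x, hx⟩ p = p := hp ⟨x, hx⟩
    rwa [h2] at h1
  -- the index of `T` in its normalizer is at most four
  have hN64 : Nat.card N ≤ 64 := by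
    haveI : (T.subgroupOf N).Normal := ⟨fun x hx g => hNn g g.2 x hx⟩
    let f : N → F := fun x => ⟨b⁻¹ * ((x : G) * b * (x : G)⁻¹), hbfix x x.2⟩
    have hf : ∀ x y : N, f x = f y → (x : G)⁻¹ * y ∈ T := by
      intro x y e
      have e' : (x : G) * b * (x : G)⁻¹ = y * b * (y : G)⁻¹ :=
        mul_left_cancel (congrArg Subtype.val e)
      rw [← hC b hbB hb1]
      refine Subgroup.mem_inf.2 ⟨mul_mem (inv_mem (hNS x.2)) (hNS y.2),
        Subgroup.mem_centralizer_singleton_iff.2 ?_⟩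
      calc (x : G)⁻¹ * y * b = (x : G)⁻¹ * (y * b * (y : G)⁻¹) * y := by group
        _ = (x : G)⁻¹ * ((x : G) * b * (x : G)⁻¹) * y := by rw [e']
        _ = b * ((x : G)⁻¹ * y) := by group
    let r : F → N := fun y => if h : ∃ x, f x = y then h.choose else 1
    have hr : ∀ x : N, f (r (f x)) = f x := fun x => by
      have h : ∃ x', f x' = f x := ⟨x, rfl⟩
      simp only [r, dif_pos h]
      exact h.choose_spec
    have := Nat.card_le_card_of_injective
      (fun x : N => (f x, (⟨((r (f x) : N) : G)⁻¹ * x, hf _ _ (hr x)⟩ : T))) (fun x y e => by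
        obtain ⟨e1, e2⟩ := Prod.ext_iff.1 e
        have e2' : ((r (f x) : N) : G)⁻¹ * x = ((r (f y) : N) : G)⁻¹ * y := congrArg Subtype.val e2
        have e1' : f x = f y := e1
        rw [e1'] at e2'
        exact Subtype.ext (mul_left_cancel e2'))
    rw [Nat.card_prod, hF4, hT] at this
    omega
  have hfixN : ∀ x ∈ N, x ∉ T → Nat.card (T ⊓ centralizer {x} : Subgroup G) ≤ 4 :=
    fun x hx hxT => hfix x (hNS hx) hxT
  by_cases hNeq : N = S
  · rw [← hNeq]
    exact rankFour_normal hNp hTN hT hab hNn hfixN hN64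
  obtain ⟨h, hhS, hhN, hhn, -⟩ := exists_sq_mem hS hNS hNeq
  set T' : Subgroup G := cj h T with hT'def
  obtain ⟨hab', hexp'⟩ := cj_facts hab hexp h
  have hT'c : Nat.card T' = 16 := (card_cj h T).trans hT
  have hT'N : T' ≤ N := by
    intro x hx
    have := hhn _ (hTN (mem_cj.1 hx))
    have e : h * (h⁻¹ * x * h) * h⁻¹ = x := by group
    rwa [e] at this
  have hne : T' ≠ T := by
    intro e
    apply hhN
    refine Subgroup.mem_inf.2 ⟨hhS, mem_norm fun t ht => ?_⟩
    rw [← e]; exact mem_cj_conj.2 ht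
  obtain ⟨u, huT', huT⟩ : ∃ u ∈ T', u ∉ T := by
    by_contra hcon
    push_neg at hcon
    exact hne (Subgroup.eq_of_le_of_card_ge hcon (by rw [hT, hT'c]))
  -- the two groups meet in four elements and generate `N`
  haveI : (T.subgroupOf N).Normal := ⟨fun x hx g => hNn g g.2 x hx⟩
  let π : T' →* ↥N ⧸ T.subgroupOf N := (QuotientGroup.mk' _).comp (Subgroup.inclusion hT'N)
  have hπker : Nat.card π.ker = Nat.card (T ⊓ T' : Subgroup G) := by
    have hmem : ∀ x : T', x ∈ π.ker ↔ (x : G) ∈ T ⊓ T' := by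
      intro x
      rw [MonoidHom.mem_ker, Subgroup.mem_inf]
      simp [π, QuotientGroup.eq_one_iff, Subgroup.mem_subgroupOf, x.2]
    exact Nat.card_congr
      { toFun := fun x => ⟨(x.1 : G), (hmem x.1).1 x.2⟩
        invFun := fun x => ⟨⟨x.1, (Subgroup.mem_inf.1 x.2).2⟩, (hmem _).2 x.2⟩
        left_inv := fun x => rfl
        right_inv := fun x => rfl }
  have hπmul : Nat.card T' = Nat.card π.ker * Nat.card π.range := by
    rw [← Subgroup.index_ker π, Subgroup.card_mul_index]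
  have hQ : Nat.card N = Nat.card (↥N ⧸ T.subgroupOf N) * 16 := by
    rw [Subgroup.card_eq_card_quotient_mul_card_subgroup (T.subgroupOf N),
      Nat.card_congr (Subgroup.subgroupOfEquivOfLe hTN).toEquiv, hT]
  have hQle := Subgroup.card_le_card_group π.range
  have hW4 : Nat.card (T ⊓ T' : Subgroup G) ≤ 4 := by
    refine (Subgroup.card_le_of_le ?_).trans (hfixN u (hT'N huT') huT)
    intro x hx
    obtain ⟨hx1, hx2⟩ := Subgroup.mem_inf.1 hx
    exact Subgroup.mem_inf.2 ⟨hx1, Subgroup.mem_centralizer_singleton_iff.2 (hab' x hx2 u huT')⟩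
  rw [hπker, hT'c] at hπmul
  have hW : Nat.card (T ⊓ T' : Subgroup G) = 4 := by nlinarith
  have hQ4 : Nat.card (↥N ⧸ T.subgroupOf N) = 4 := by
    rw [hW] at hπmul
    omega
  have hN' : Nat.card N = 64 := by rw [hQ, hQ4]
  have hsurj : Function.Surjective π := by
    rw [← MonoidHom.range_eq_top]
    exact Subgroup.eq_top_of_card_eq _ (by rw [hQ4]; rw [hW] at hπmul; omega)
  have hgen : ∀ x ∈ N, ∃ t' ∈ T', x * t'⁻¹ ∈ T := by
    intro x hx
    obtain ⟨t', e⟩ := hsurj ((⟨x, hx⟩ : N) : ↥N ⧸ T.subgroupOf N)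
    refine ⟨t', t'.2, ?_⟩
    have e1 : ((Subgroup.inclusion hT'N t' : N) : ↥N ⧸ T.subgroupOf N) = ((⟨x, hx⟩ : N) : _) := e
    rw [QuotientGroup.eq, Subgroup.mem_subgroupOf] at e1
    have e2 : (t' : G)⁻¹ * x ∈ T := e1
    have := hNn _ (hT'N t'.2) _ e2
    have e3 : (t' : G) * ((t' : G)⁻¹ * x) * (t' : G)⁻¹ = x * (t' : G)⁻¹ := by group
    rwa [e3] at this
  have hcen : ∀ t' ∈ T', t' ∉ T → ∀ t ∈ T, t * t' = t' * t → t ∈ T' := by
    intro t' ht' ht'T t ht hcomm
    have hle : (T ⊓ T' : Subgroup G) ≤ T ⊓ centralizer {t'} := fun x hx =>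
      Subgroup.mem_inf.2 ⟨(Subgroup.mem_inf.1 hx).1,
        Subgroup.mem_centralizer_singleton_iff.2 (hab' x (Subgroup.mem_inf.1 hx).2 t' ht')⟩
    have heq := Subgroup.eq_of_le_of_card_ge hle (by rw [hW]; exact hfixN t' (hT'N ht') ht'T)
    have : t ∈ (T ⊓ T' : Subgroup G) := by
      rw [heq]; exact Subgroup.mem_inf.2 ⟨ht, Subgroup.mem_centralizer_singleton_iff.2 hcomm⟩
    exact (Subgroup.mem_inf.1 this).2
  have hinv : ∀ x ∈ N, x * x = 1 → x ∈ T ∨ x ∈ T' := by
    intro x hx hxx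
    obtain ⟨t', ht', ht⟩ := hgen x hx
    set t := x * t'⁻¹ with htdef
    have e : x = t * t' := by rw [htdef]; group
    by_cases h1 : t' ∈ T
    · left; rw [e]; exact mul_mem ht h1
    · right
      rw [e]
      refine mul_mem (hcen t' ht' h1 t ht ?_) ht'
      rw [e] at hxx
      have h2 := inv_eq_of_mul_eq_one_right hxx
      rw [mul_inv_rev, inv_eq_of_mul_eq_one_right (hexp' t' ht'),
        inv_eq_of_mul_eq_one_right (hexp t ht)] at h2
      exact h2.symm
  have hEl : ∀ E : Subgroup G, E ≤ N → (∀ x ∈ E, x * x = 1) → E ≤ T ∨ E ≤ T' := by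
    intro E hE hEe
    by_contra hcon
    push_neg at hcon
    obtain ⟨⟨a, ha, haT⟩, ⟨b', hb', hbT'⟩⟩ :=
      (⟨SetLike.not_le_iff_exists.1 hcon.1, SetLike.not_le_iff_exists.1 hcon.2⟩ : _ ∧ _)
    have ha' : a ∈ T' := (hinv a (hE ha) (hEe a ha)).resolve_left haT
    have hb'' : b' ∈ T := (hinv b' (hE hb') (hEe b' hb')).resolve_right hbT'
    rcases hinv (a * b') (hE (mul_mem ha hb')) (hEe _ (mul_mem ha hb')) with h1 | h1
    · exact haT (by have := mul_mem h1 (inv_mem hb''); rwa [mul_inv_cancel_right] at this)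
    · exact hbT' (by have := mul_mem (inv_mem ha') h1; rwa [inv_mul_cancel_left] at this)
  set M : Subgroup G := S ⊓ normalizer (N : Set G) with hMdef
  have hMS : M ≤ S := inf_le_left
  have hNM : N ≤ M := le_inf hNS Subgroup.le_normalizer
  have hMn : ∀ x ∈ M, ∀ n ∈ N, x * n * x⁻¹ ∈ N := fun x hx n hn =>
    (Subgroup.mem_normalizer_iff.1 (Subgroup.mem_inf.1 hx).2 n).1 hn
  have hhM : h ∈ M := Subgroup.mem_inf.2 ⟨hhS, mem_norm hhn⟩
  -- conjugates inside `N`
  have hclass : ∀ x : G, cj x T ≤ N → cj x T = T ∨ cj x T = T' := by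
    intro x hx
    rcases hEl _ hx (cj_facts hab hexp x).2 with h1 | h1
    · exact Or.inl (Subgroup.eq_of_le_of_card_ge h1 (by rw [card_cj]))
    · exact Or.inr (Subgroup.eq_of_le_of_card_ge h1 (by rw [hT'c, card_cj, hT]))
  have hclass' : ∀ x : G, cj x T' ≤ N → cj x T' = T ∨ cj x T' = T' := by
    intro x hx
    rcases hEl _ hx (cj_facts hab' hexp' x).2 with h1 | h1
    · exact Or.inl (Subgroup.eq_of_le_of_card_ge h1 (((card_cj x T').trans hT'c).trans hT.symm).ge)
    · exact Or.inr (Subgroup.eq_of_le_of_card_ge h1 (card_cj x T').ge)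
  have hcjle : ∀ x ∈ M, ∀ X : Subgroup G, X ≤ N → cj x X ≤ N := by
    intro x hx X hX y hy
    have := hMn x hx _ (hX (mem_cj.1 hy))
    have e : x * (x⁻¹ * y * x) * x⁻¹ = y := by group
    rwa [e] at this
  have hswapM : ∀ x ∈ M, x ∉ N → cj x T = T' ∧ cj x T' = T := by
    intro x hx hxN
    have h1 : cj x T = T' := (hclass x (hcjle x hx T hTN)).resolve_left fun e =>
      hxN (Subgroup.mem_inf.2 ⟨hMS hx, mem_norm fun t ht => by
        have := mem_cj_conj (h := x).2 ht; rwa [e] at this⟩)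
    refine ⟨h1, (hclass' x (hcjle x hx T' hT'N)).resolve_right fun e => hne.symm ?_⟩
    ext y
    rw [← mem_cj_conj (h := x) (T := T), ← mem_cj_conj (h := x) (T := T'), h1, e]
  have hM2 : Nat.card M = 2 * Nat.card N := by
    have h1 : (N.subgroupOf M).index = 2 := by
      rw [Subgroup.index_eq_two_iff]
      refine ⟨⟨h, hhM⟩, fun x => ?_⟩
      simp only [Subgroup.mem_subgroupOf, Subgroup.coe_mul]
      by_cases hx : (x : G) ∈ N
      · refine Or.inr ⟨hx, fun h3 => hhN ?_⟩
        have := mul_mem (inv_mem hx) h3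
        rwa [inv_mul_cancel_left] at this
      · refine Or.inl ⟨?_, hx⟩
        refine Subgroup.mem_inf.2 ⟨mul_mem (hMS x.2) hhS, mem_norm fun t ht => ?_⟩
        have h2 : h * t * h⁻¹ ∈ T' := mem_cj_conj.2 ht
        have h3 : (x : G) * (h * t * h⁻¹) * (x : G)⁻¹ ∈ T := by
          have := mem_cj_conj (h := (x : G)).2 h2
          rwa [(hswapM x x.2 hx).2] at this
        have e : (x : G) * h * t * ((x : G) * h)⁻¹ = (x : G) * (h * t * h⁻¹) * (x : G)⁻¹ := by group
        rwa [e]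
    have := Subgroup.card_mul_index (N.subgroupOf M)
    rw [Nat.card_congr (Subgroup.subgroupOfEquivOfLe hNM).toEquiv, h1] at this
    omega
  have hidx : (N.subgroupOf M).index = 2 := by
    have h3 := Subgroup.card_mul_index (N.subgroupOf M)
    rw [Nat.card_congr (Subgroup.subgroupOfEquivOfLe hNM).toEquiv, hM2, hN'] at h3
    omega
  -- elementary abelian subgroups of order sixteen of `M` lie in `N`
  have hinN : ∀ E : Subgroup G, E ≤ M → Nat.card E = 16 → (∀ a ∈ E, ∀ b ∈ E, a * b = b * a) →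
      (∀ a ∈ E, a * a = 1) → E ≤ N := by
    intro E hEM hEc hEab hEe
    by_contra hcon
    obtain ⟨e, he, heN⟩ := SetLike.not_le_iff_exists.1 hcon
    set V : Subgroup G := E ⊓ N with hV
    have hV8 : 8 ≤ Nat.card V := by
      have hi : (V.subgroupOf E).index ∣ 2 := by
        rw [← hidx]
        have hVE : V.subgroupOf E = (N.subgroupOf M).comap (Subgroup.inclusion hEM) := by
          ext x; simp [hV, Subgroup.mem_subgroupOf, x.2]
        rw [hVE, Subgroup.index_comap]
        haveI := Subgroup.normal_of_index_eq_two hidx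
        exact Subgroup.relIndex_dvd_index_of_normal _ _
      have h3 := Subgroup.card_mul_index (V.subgroupOf E)
      rw [Nat.card_congr (Subgroup.subgroupOfEquivOfLe (inf_le_left : V ≤ E)).toEquiv, hEc] at h3
      have := Nat.le_of_dvd (by norm_num) hi
      nlinarith
    have hfx : ∀ x ∈ V, e * x * e⁻¹ = x := fun x hx => by
      rw [hEab e he x (Subgroup.mem_inf.1 hx).1, mul_inv_cancel_right]
    obtain ⟨h1, h2⟩ := hswapM e (hEM he) heN
    have hle : V ≤ T ⊓ T' := by
      rcases hEl V inf_le_right (fun x hx => hEe x (Subgroup.mem_inf.1 hx).1) with h0 | h0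
      · intro x hx
        have := mem_cj_conj (h := e).2 (h0 hx)
        rw [h1, hfx x hx] at this
        exact Subgroup.mem_inf.2 ⟨h0 hx, this⟩
      · intro x hx
        have := mem_cj_conj (h := e).2 (h0 hx)
        rw [h2, hfx x hx] at this
        exact Subgroup.mem_inf.2 ⟨this, h0 hx⟩
    have := Subgroup.card_le_of_le hle
    omega
  have hMeq : M = S := by
    by_contra hne'
    obtain ⟨y, hyS, hyM, hyn, -⟩ := exists_sq_mem hS hMS hne'
    have hle : ∀ X : Subgroup G, X ≤ N → Nat.card X = 16 → (∀ a ∈ X, ∀ b ∈ X, a * b = b * a) →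
        (∀ a ∈ X, a * a = 1) → ∀ x ∈ X, y * x * y⁻¹ ∈ N := by
      intro X hX hXc hXab hXe x hx
      refine hinN (cj y X) (fun z hz => ?_) ((card_cj y X).trans hXc) (cj_facts hXab hXe y).1
        (cj_facts hXab hXe y).2 (mem_cj_conj.2 hx)
      have := hyn _ (hNM (hX (mem_cj.1 hz)))
      have e : y * (y⁻¹ * z * y) * y⁻¹ = z := by group
      rwa [e] at this
    refine hyM (Subgroup.mem_inf.2 ⟨hyS, mem_norm fun n hn => ?_⟩)
    obtain ⟨t', ht', ht⟩ := hgen n hn
    have h1 := hle T hTN hT hab hexp _ ht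
    have h2 := hle T' hT'N hT'c hab' hexp' _ ht'
    have e : y * n * y⁻¹ = (y * (n * t'⁻¹) * y⁻¹) * (y * t' * y⁻¹) := by group
    rw [e]; exact mul_mem h1 h2
  have hmemM : ∀ g ∈ S, g ∈ M := fun g hg => hMeq.symm ▸ hg
  exact rankFour_swap hS hNS (by rw [← hMeq]; exact hM2) hN' hTN hT'N hT hT'c hW hab hcen hEl
    (fun g hg hgN x => by
      rw [← (hswapM g (hmemM g hg) hgN).1]; exact mem_cj_conj.symm)
    (fun g hg hgN x => by
      have h2 := mem_cj_conj (h := g) (T := T') (x := x)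
      rw [(hswapM g (hmemM g hg) hgN).2] at h2
      exact h2.symm)
    hNn

/-- The nonabelian case: the subgroup `T` is its own normalizer in `S`. -/
theorem eq_of_center [Finite G] {S T B Z : Subgroup G} (hS : IsPGroup 2 S) (hTS : T ≤ S)
    (hZdef : Z = T ⊓ centralizer (T : Set G)) (hZ : Nat.card Z = 8) (hexp : ∀ a ∈ Z, a * a = 1)
    (hBZ : B ≤ Z) (hB : Nat.card B = 4) (hC : ∀ b ∈ B, b ≠ 1 → S ⊓ centralizer {b} = T) : T = S := by
  by_contra hne
  obtain ⟨g, hgS, hgT, hgn, hgg⟩ := exists_sq_mem hS hTS hne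
  have hmem : ∀ t, t ∈ Z ↔ t ∈ T ∧ ∀ u ∈ T, u * t = t * u := fun t => by
    rw [hZdef, Subgroup.mem_inf, Subgroup.mem_centralizer_iff]
    rfl
  obtain ⟨b, hb, hb1, hbg⟩ := exists_fixed (B := B) (fun a ha c hc => ((hmem a).1 ha).2 c ((hmem c).1 hc).1 |>.symm)
    hexp hZ hBZ hB g
    (fun t ht => (hmem _).2 ⟨hgn t ((hmem t).1 ht).1, fun u hu => by
      have hu' : g⁻¹ * u * g ∈ T := by
        have h1 := hgn _ hu
        have e : g⁻¹ * u * g = (g * g)⁻¹ * (g * u * g⁻¹) * (g * g) := by group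
        rw [e]
        exact mul_mem (mul_mem (inv_mem hgg) h1) hgg
      have := ((hmem t).1 ht).2 _ hu'
      calc u * (g * t * g⁻¹) = g * ((g⁻¹ * u * g) * t) * g⁻¹ := by group
        _ = g * (t * (g⁻¹ * u * g)) * g⁻¹ := by rw [this]
        _ = g * t * g⁻¹ * u := by group⟩)
    (fun t ht => ((hmem t).1 ht).2 _ hgg)
  apply hgT
  rw [← hC b hb hb1]
  exact Subgroup.mem_inf.2 ⟨hgS, Subgroup.mem_centralizer_singleton_iff.2 hbg⟩

end CfsgLib.DihedralTimesFour
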