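import Mathlib
import Cfsg.Prelude.Def_Transfer
import Cfsg.Agent.Lib.PGroup.Extraspecial
import Cfsg.Agent.Lib.PGroup.PrimeIndex
import Cfsg.Agent.Lib.PGroupExtra.OrderPFour

/-!
# An extraspecial subgroup of index p
-/

set_option autoImplicit false

namespace CfsgLib.PGroup

open Subgroup
open scoped commutatorElement

variable {S : Type*} [Group S] [Finite S] {p : ℕ} [hp : Fact p.Prime]

theorem extraspecial_center_map (hS : IsPGroup p S) (Q : Subgroup S)
    (hQ : Cfsg.IsExtraspecial p ↥Q) (hQi : Q.index = p) :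
    Q.Normal ∧ Nat.card ((center Q).map Q.subtype) = p ∧
      Q ⊓ center S = (center Q).map Q.subtype := by
  have hn : Q.Normal := normal_of_isCoatom hS (isCoatom_of_index_prime (hQi ▸ hp.out))
  have hc : Nat.card ((center Q).map Q.subtype) = p := by
    rw [card_map_of_injective Q.subtype_injective, hQ.2]
  refine ⟨hn, hc, le_antisymm ?_ (le_inf (map_subtype_le _) ?_)⟩
  · rintro z ⟨hz, hzc⟩
    exact ⟨⟨z, hz⟩, mem_center_iff.2 fun g => Subtype.ext (mem_center_iff.1 hzc g), rfl⟩
  · exact CfsgLib.PGroupExtra.le_center_of_card_prime hS _ hc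

end CfsgLib.PGroup
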