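import Mathlib
import Cfsg.Agent.Lib.FGS.EngelTwo
import Cfsg.Agent.Lib.InvolChar.FpfSixtyFour
import Cfsg.Agent.S1237
import Cfsg.Agent.S3157

/-!
`2`-groups with a fixed-point-free automorphism of order three commuting with an
involution whose fixed points form a four-group.
-/

set_option autoImplicit false
set_option linter.style.haveILetI false

namespace CfsgLib.FourCent

open Subgroup CfsgLib.FpfSixtyFour

variable {A : Type*} [Group A]

/-- The class is at most two. -/
theorem comm_mem_center [Finite A] (hp : IsPGroup 2 A) {ρ : A ≃* A} (h : Fpf ρ) (x y : A) :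
    κ x y ∈ center A := by
  haveI := Fact.mk Nat.prime_two
  haveI := hp.isNilpotent
  -- an element commutes with the twisted image
  have key : ∀ {σ : A ≃* A}, Fpf σ → ∀ g v : A, Commute v (g * σ v * g⁻¹) := by
    intro σ hσ g v
    let τ : A ≃* A := σ.trans (MulAut.conj g)
    have hτ : Fpf τ := by
      obtain ⟨w, hw⟩ : ∃ w, w⁻¹ * σ w = g := by
        have hinj : Function.Injective fun w => w⁻¹ * σ w := fun a b (e : a⁻¹ * σ a = b⁻¹ * σ b) => by
          refine (eq_of_mul_inv_eq_one (hσ.fixed (b * a⁻¹) ?_)).symm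
          rw [map_mul, map_inv, show σ a = a * (b⁻¹ * σ b) by rw [← e, mul_inv_cancel_left]]
          group
        exact (Finite.injective_iff_surjective.1 hinj) g
      refine ⟨fun u => ?_, fun u hu => ?_⟩
      · show g * σ (g * σ (g * σ u * g⁻¹) * g⁻¹) * g⁻¹ = u
        simp only [map_mul, map_inv, hσ.cube]
        rw [show g * (σ g * (σ (σ g) * u * (σ (σ g))⁻¹) * (σ g)⁻¹) * g⁻¹ =
          (g * σ g * σ (σ g)) * u * (g * σ g * σ (σ g))⁻¹ by group, hσ.prod_eq_one]
        group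
      · have hu' : w⁻¹ * σ w * σ u * (w⁻¹ * σ w)⁻¹ = u := by rw [hw]; exact hu
        have h1 : w * u * w⁻¹ = 1 := hσ.fixed _ (by
          rw [map_mul, map_mul, map_inv]
          conv_rhs => rw [← hu']
          group)
        rwa [conj_eq_one_iff] at h1
    exact hτ.commute_rho v
  have hcc : ∀ v g : A, Commute v (g * v * g⁻¹) := by
    intro v g
    have h1 := key h g (ρ (ρ v))
    rw [h.cube] at h1
    have e1 : ρ.symm v = ρ (ρ v) := ρ.injective (by rw [ρ.apply_symm_apply, h.cube])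
    have h2 := key h.rho_symm g (ρ v)
    rw [ρ.symm_apply_apply] at h2
    have h3 : v = (ρ v * ρ (ρ v))⁻¹ := eq_inv_of_mul_eq_one_left (by rw [← mul_assoc, h.prod_eq_one])
    conv => arg 1; rw [h3]
    exact (h2.mul_left h1).inv_left
  have h3 : ∀ u : A, u ^ 3 = 1 → u = 1 := fun u hu => by
    obtain ⟨k, hk⟩ := hp u
    have hd := Nat.eq_one_of_dvd_coprimes (Nat.Coprime.pow_left k (by norm_num : Nat.Coprime 2 3))
      (orderOf_dvd_of_pow_eq_one hk) (orderOf_dvd_of_pow_eq_one hu)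
    exact orderOf_eq_one_iff.1 hd
  have hcl := CfsgLib.FGS.EngelTwo.nilpotencyClass_le_two hcc h3
  rw [← Subgroup.lowerCentralSeries_eq_bot_iff_nilpotencyClass_le,
    show (2 : ℕ) = 1 + 1 from rfl, Subgroup.lowerCentralSeries_succ, Subgroup.top_lowerCentralSeries_one,
    Subgroup.commutator_top_right_eq_bot_iff_le_center, _root_.commutator_def, Subgroup.commutator_le] at hcl
  exact hcl x (mem_top x) y (mem_top y)

/-- The configuration. -/
structure Setup (A : Type*) [Group A] where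
  ρ : A ≃* A
  t : A ≃* A
  hρ : Fpf ρ
  comm : ∀ x, t (ρ x) = ρ (t x)
  inv : ∀ x, t (t x) = x
  hp : IsPGroup 2 A
  card_fix : Nat.card {x : A // t x = x} = 4
  fix_sq : ∀ x, t x = x → x * x = 1

/-- The fixed points of `t`. -/
def fixSub (t : A ≃* A) : Subgroup A where
  carrier := {x | t x = x}
  one_mem' := map_one t
  mul_mem' := fun {a b} (ha : t a = a) (hb : t b = b) => by show t (a * b) = a * b; rw [map_mul, ha, hb]
  inv_mem' := fun {a} (ha : t a = a) => by show t a⁻¹ = a⁻¹; rw [map_inv, ha]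

variable [Finite A]

theorem four_le (S : Setup A) {K : Subgroup A} (hK : ∀ y ∈ K, S.ρ y ∈ K) {x : A} (hx : x ∈ K) (h1 : x ≠ 1) :
    4 ≤ Nat.card K := by
  have h2 := S.hρ.card_mod_three K hK
  haveI : Nontrivial K := ⟨⟨⟨x, hx⟩, 1, fun e => h1 (congrArg Subtype.val e)⟩⟩
  have := Finite.one_lt_card (α := K)
  omega

theorem eq_fix (S : Setup A) {K : Subgroup A} (hK : ∀ y ∈ K, S.ρ y ∈ K) (hle : K ≤ fixSub S.t) {x : A}
    (hx : x ∈ K) (h1 : x ≠ 1) : K = fixSub S.t := by
  refine eq_of_le_of_card_ge hle ?_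
  rw [show Nat.card (fixSub S.t) = 4 from S.card_fix]
  exact four_le S hK hx h1

theorem exists_fix_ne_one (S : Setup A) : ∃ x, S.t x = x ∧ x ≠ 1 := by
  by_contra h
  push Not at h
  have hle : Nat.card {x : A // S.t x = x} ≤ 1 :=
    Finite.card_le_one_iff_subsingleton.2 ⟨fun a b => Subtype.ext ((h a a.2).trans (h b b.2).symm)⟩
  rw [S.card_fix] at hle
  omega

/-- The abelian case. -/
theorem abelian_cases (S : Setup A) (hc : ∀ x y : A, x * y = y * x) :
    ((∀ x : A, x * x = 1) ∧ Nat.card A = 16) ∨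
      ((∀ x : A, x * x = 1 → S.t x = x) ∧ ((∀ x : A, x * x = 1) ∨
        ((∀ x : A, S.t x = x → ∃ w, w * w = x) ∧ (∀ x : A, ∃ y, y * y = S.t x * x⁻¹) ∧
          ∀ y : A, ∃ x, S.t x * x⁻¹ = y * y))) := by
  classical
  let d : A →* A :=
    { toFun := fun x => S.t x * x⁻¹
      map_one' := by simp
      map_mul' := fun a b => by
        show S.t (a * b) * (a * b)⁻¹ = S.t a * a⁻¹ * (S.t b * b⁻¹)
        rw [map_mul, mul_inv_rev, hc b⁻¹ a⁻¹, mul_assoc, mul_assoc, ← mul_assoc (S.t b) a⁻¹ b⁻¹, hc (S.t b) a⁻¹,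
          mul_assoc] }
  have hd : d.ker = fixSub S.t := by
    ext x
    exact mul_inv_eq_one
  let sq : A →* A :=
    { toFun := fun x => x * x
      map_one' := one_mul 1
      map_mul' := fun a b => by
        show a * b * (a * b) = a * a * (b * b)
        rw [mul_assoc, ← mul_assoc b a b, hc b a, mul_assoc a b b, ← mul_assoc] }
  have hker : ∀ x, x ∈ sq.ker ↔ x * x = 1 := fun x => Iff.rfl
  have hV : fixSub S.t ≤ sq.ker := fun x hx => S.fix_sq x hx
  have hdt : ∀ x, S.t (d x) = (d x)⁻¹ := fun x => by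
    show S.t (S.t x * x⁻¹) = (S.t x * x⁻¹)⁻¹
    rw [map_mul, map_inv, S.inv, mul_inv_rev, inv_inv]
  -- fixed points
  have hN : ∀ x, x * S.t x ∈ fixSub S.t := fun x => by
    show S.t (x * S.t x) = x * S.t x
    rw [map_mul, S.inv, hc]
  have hsqinv : ∀ x, S.t (x * x) * (x * x) = 1 := fun x => by
    have := S.fix_sq _ (hN x)
    calc S.t (x * x) * (x * x) = sq (S.t x) * sq x := by simp only [map_mul]; rfl
      _ = sq (x * S.t x) := by rw [map_mul, hc]
      _ = 1 := this
  obtain ⟨v, hv, hv1⟩ := exists_fix_ne_one S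
  have hΩi : ∀ y ∈ sq.ker, S.ρ y ∈ sq.ker := fun y (hy : y * y = 1) => by
    show S.ρ y * S.ρ y = 1
    rw [← map_mul, hy, map_one]
  have hΩ16 : Nat.card sq.ker ≤ 16 := by
    have h1 : (sq.ker.map d) ≤ fixSub S.t := by
      rintro _ ⟨x, (hx : x * x = 1), rfl⟩
      show S.t (d x) = d x
      rw [hdt]
      have : d x * d x = 1 := by rw [← map_mul, hx, map_one]
      exact inv_eq_of_mul_eq_one_right this
    have h2 : Nat.card (d.comp sq.ker.subtype).ker ≤ 4 := by
      rw [← S.card_fix]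
      refine Nat.card_le_card_of_injective (fun x => ⟨x.1.1, by
        have : x.1.1 ∈ d.ker := x.2
        rwa [hd] at this⟩) fun a b e => ?_
      exact Subtype.ext (Subtype.ext (congrArg Subtype.val e :))
    have h3 : Nat.card (d.comp sq.ker.subtype).range ≤ 4 := by
      rw [← S.card_fix, MonoidHom.range_comp, Subgroup.range_subtype]
      exact card_le_of_le h1
    have := card_mul_index (d.comp sq.ker.subtype).ker
    rw [index_ker] at this
    rw [← this]
    exact Nat.mul_le_mul h2 h3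
  have hA : Nat.card A = 4 * Nat.card d.range := by
    have := card_mul_index d.ker
    rw [index_ker, hd, show Nat.card (fixSub S.t) = 4 from S.card_fix] at this
    exact this.symm
  have hA' : Nat.card A = Nat.card sq.ker * Nat.card sq.range := by
    have := card_mul_index sq.ker
    rw [index_ker] at this
    exact this.symm
  by_cases hel : ∀ x : A, x * x = 1
  · by_cases h4 : Nat.card sq.ker ≤ 4
    · right
      refine ⟨fun x hx => ?_, Or.inl hel⟩
      have := eq_of_le_of_card_ge hV (h4.trans S.card_fix.ge)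
      exact (this.symm ▸ (hx : x ∈ sq.ker) : x ∈ fixSub S.t)
    · left
      refine ⟨hel, ?_⟩
      have htop : sq.ker = ⊤ := eq_top_iff.2 fun x _ => hel x
      obtain ⟨k, hk⟩ := IsPGroup.iff_card.1 (S.hp.to_subgroup sq.ker)
      have hm := S.hρ.card_mod_three _ hΩi
      rw [← card_top (G := A), ← htop]
      rw [hk] at hm h4 hΩ16 ⊢
      have : k ≤ 4 := (Nat.pow_le_pow_iff_right (by norm_num : 1 < 2)).1 (by norm_num; exact hΩ16)
      interval_cases k <;> norm_num at *
  · push Not at hel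
    obtain ⟨u₀, hu₀⟩ := hel
    -- the involutions among the squares are the fixed points
    have hfix : fixSub S.t ≤ sq.range := by
      let K := sq.range ⊓ sq.ker
      have hK : ∀ y ∈ K, S.ρ y ∈ K := fun y ⟨⟨z, hz⟩, hy⟩ =>
        ⟨⟨S.ρ z, by rw [← hz]; exact (map_mul S.ρ z z).symm⟩, hΩi y hy⟩
      have hKf : K ≤ fixSub S.t := fun y ⟨⟨z, hz⟩, (hy : y * y = 1)⟩ => by
        show S.t y = y
        rw [← hz] at hy ⊢
        exact mul_right_cancel ((hsqinv z).trans hy.symm)
      obtain ⟨j, hj⟩ := exists_prime_orderOf_dvd_card' (G := sq.range) 2 (by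
        obtain ⟨k, hk⟩ := IsPGroup.iff_card.1 (S.hp.to_subgroup sq.range)
        rw [hk]
        refine dvd_pow_self 2 fun h0 => hu₀ ?_
        rw [h0, pow_zero] at hk
        have := eq_bot_of_card_eq _ hk
        exact (this.le ⟨u₀, rfl⟩ : u₀ * u₀ ∈ (⊥ : Subgroup A)))
      have hj1 : (j : A) ≠ 1 := fun e => by
        rw [← Subgroup.orderOf_coe, e, orderOf_one] at hj
        omega
      have hjK : (j : A) ∈ K := ⟨j.2, by
        show (j : A) * j = 1
        rw [← pow_two, ← hj, ← Subgroup.orderOf_coe, pow_orderOf_eq_one]⟩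
      exact (eq_fix S hK hKf hjK hj1).symm.le.trans inf_le_left
    have hdr : d.range ≤ sq.range := by
      rintro _ ⟨x, rfl⟩
      have e : d x = (x * S.t x) * sq x⁻¹ := by
        show S.t x * x⁻¹ = x * S.t x * (x⁻¹ * x⁻¹)
        rw [hc x (S.t x), mul_assoc (S.t x) x, mul_inv_cancel_left]
      rw [e]
      exact mul_mem (hfix (hN x)) ⟨_, rfl⟩
    have h4 : Nat.card sq.ker ≤ 4 := by
      have h1 := card_le_of_le hdr
      have h2 : 0 < Nat.card sq.range := Nat.card_pos
      nlinarith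
    have hΩV := eq_of_le_of_card_ge hV (h4.trans S.card_fix.ge)
    right
    refine ⟨fun x hx => ?_, Or.inr ⟨fun x hx => hfix hx, fun x => hdr ⟨x, rfl⟩, fun y => ?_⟩⟩
    · exact (hΩV.symm ▸ (hx : x ∈ sq.ker) : x ∈ fixSub S.t)
    · have heq : d.range = sq.range := by
        refine eq_of_le_of_card_ge hdr ?_
        rw [show Nat.card sq.ker = 4 by rw [← hΩV]; exact S.card_fix] at hA'
        omega
      exact heq.symm.le ⟨y, rfl⟩

theorem generated (S : Setup A) (hc : ∀ x y : A, x * y = y * x) (hΩ : ∀ x : A, x * x = 1 → S.t x = x) :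
    ∃ u : A, ∀ K : Subgroup A, u ∈ K → S.ρ u ∈ K → K = ⊤ := by
  classical
  let sq : A →* A :=
    { toFun := fun x => x * x
      map_one' := one_mul 1
      map_mul' := fun a b => by
        show a * b * (a * b) = a * a * (b * b)
        rw [mul_assoc, ← mul_assoc b a b, hc b a, mul_assoc a b b, ← mul_assoc] }
  have hker : Nat.card sq.ker ≤ 4 := by
    rw [← S.card_fix]
    exact card_le_of_le (K := fixSub S.t) hΩ
  set R := sq.range with hR
  have hAR : Nat.card A ≤ 4 * Nat.card R := by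
    have := card_mul_index sq.ker
    rw [index_ker] at this
    rw [← this]
    exact Nat.mul_le_mul_right _ hker
  have hexp : ∀ r : A, r ^ 2 ^ Nat.card A = 1 := fun r => by
    obtain ⟨k, hk⟩ := S.hp r
    obtain ⟨j, hj, hjo⟩ := (Nat.dvd_prime_pow Nat.prime_two).1 (orderOf_dvd_of_pow_eq_one hk)
    refine orderOf_dvd_iff_pow_eq_one.1 (hjo ▸ Nat.pow_dvd_pow 2 ?_)
    have h1 : orderOf r ≤ Nat.card A := orderOf_le_card
    rw [hjo] at h1
    exact le_trans (Nat.lt_two_pow_self).le h1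
  have hiter : ∀ K : Subgroup A, K ⊔ R = ⊤ → K = ⊤ := fun K hK => by
    have hs : ∀ m : ℕ, ∀ a : A, ∃ k ∈ K, ∃ r : A, a = k * r ^ 2 ^ m := by
      intro m
      induction m with
      | zero => exact fun a => ⟨1, one_mem K, a, by simp⟩
      | succ m ih =>
        intro a
        obtain ⟨k, hk, r, rfl⟩ := ih a
        haveI : R.Normal := ⟨fun x hx g => by rwa [hc g x, mul_inv_cancel_right]⟩
        obtain ⟨k', hk', _, ⟨s, rfl⟩, he⟩ := mem_sup_of_normal_right.1 (hK.symm.le (mem_top r))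
        refine ⟨k * k' ^ 2 ^ m, mul_mem hk (pow_mem hk' _), s, ?_⟩
        rw [← he, (show Commute k' (sq s) from hc _ _).mul_pow, show sq s = s ^ 2 from (pow_two s).symm,
          ← pow_mul, ← pow_succ', mul_assoc]
    rw [eq_top_iff]
    rintro a -
    obtain ⟨k, hk, r, rfl⟩ := hs (Nat.card A) a
    rwa [hexp, mul_one]
  by_cases hRtop : R = ⊤
  · exact ⟨1, fun K _ _ => hiter K (by rw [hRtop, sup_top_eq])⟩
  obtain ⟨u, -, hu⟩ := SetLike.exists_of_lt (lt_top_iff_ne_top.2 hRtop)
  refine ⟨u, fun K hK hK' => hiter K ?_⟩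
  set M := closure ({u, S.ρ u} ∪ (R : Set A))
  have hRρ : ∀ y ∈ R, S.ρ y ∈ R := by
    rintro _ ⟨z, rfl⟩
    exact ⟨S.ρ z, (map_mul S.ρ z z).symm⟩
  have hM : ∀ y ∈ M, S.ρ y ∈ M := S.hρ.abelian_gen_invariant u R hRρ
  have hle : M ≤ K ⊔ R := by
    rw [closure_le]
    rintro x ((rfl | rfl) | hx)
    exacts [mem_sup_left hK, mem_sup_left hK', mem_sup_right hx]
  refine top_le_iff.1 (le_trans ?_ hle)
  have hRM : R ≤ M := fun x hx => subset_closure (Or.inr hx)
  have hlt : R < M := lt_of_le_of_ne hRM fun e => hu (e.symm.le (subset_closure (Or.inl (Or.inl rfl))))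
  refine (eq_top_of_le_card M ?_).ge
  obtain ⟨a, ha⟩ := IsPGroup.iff_card.1 (S.hp.to_subgroup R)
  obtain ⟨b, hb⟩ := IsPGroup.iff_card.1 (S.hp.to_subgroup M)
  have h1 : Nat.card R < Nat.card M :=
    lt_of_le_of_ne (card_le_of_le hRM) fun e => hlt.ne (eq_of_le_of_card_ge hRM e.ge)
  have h2 := S.hρ.card_mod_three R hRρ
  have h3 := S.hρ.card_mod_three M hM
  rw [ha] at h1 h2 hAR
  rw [hb] at h1 h3 ⊢
  obtain ⟨c, rfl⟩ : ∃ c, b = a + c := ⟨b - a, by
    have := (Nat.pow_lt_pow_iff_right (by norm_num : 1 < 2)).1 h1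
    omega⟩
  rw [pow_add] at h3 h1 ⊢
  rw [Nat.mul_mod, h2, one_mul, Nat.mod_mod] at h3
  have hc2 : 4 ≤ 2 ^ c := by
    rcases c with _ | _ | c
    · simp at h1
    · norm_num at h3
    · exact le_of_eq_of_le (by norm_num) (Nat.pow_le_pow_right (show 2 > 0 by norm_num) (show 2 ≤ c + 1 + 1 by omega))
  refine hAR.trans ?_
  rw [mul_comm]
  exact Nat.mul_le_mul_left _ hc2

/-- The non-abelian case. -/
theorem nonabelian_card (S : Setup A) (hna : ∃ a b : A, a * b ≠ b * a)
    : Nat.card A = 64 := by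
  classical
  set Z := center A with hZdef
  have hκ : ∀ x y : A, κ x y ∈ Z := comm_mem_center S.hp S.hρ
  have hρZ := center_invariant S.ρ
  have htZ := center_invariant S.t
  have hcρ : ∀ y, (S.ρ y ∈ Z ↔ y ∈ Z) := fun y =>
    ⟨fun hy => by rw [← S.hρ.cube y]; exact hρZ _ (hρZ _ hy), hρZ y⟩
  have hct : ∀ y, (S.t y ∈ Z ↔ y ∈ Z) := fun y =>
    ⟨fun hy => by rw [← S.inv y]; exact htZ _ hy, htZ y⟩
  -- the four-group is central
  haveI : Nontrivial A := ⟨⟨_, _, hna.choose_spec.choose_spec⟩⟩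
  haveI := Fact.mk Nat.prime_two
  let ρZ : Z ≃* Z :=
    { toFun := fun z => ⟨S.ρ z, hρZ _ z.2⟩
      invFun := fun z => ⟨S.ρ (S.ρ z), hρZ _ (hρZ _ z.2)⟩
      left_inv := fun z => Subtype.ext (S.hρ.cube _)
      right_inv := fun z => Subtype.ext (S.hρ.cube _)
      map_mul' := fun a b => Subtype.ext (map_mul S.ρ (a : A) b) }
  let tZ : Z ≃* Z :=
    { toFun := fun z => ⟨S.t z, htZ _ z.2⟩
      invFun := fun z => ⟨S.t z, htZ _ z.2⟩
      left_inv := fun z => Subtype.ext (S.inv _)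
      right_inv := fun z => Subtype.ext (S.inv _)
      map_mul' := fun a b => Subtype.ext (map_mul S.t (a : A) b) }
  have hVZ : fixSub S.t ≤ Z := by
    let K := fixSub S.t ⊓ Z
    have hK : ∀ y ∈ K, S.ρ y ∈ K := fun y ⟨(hy : S.t y = y), hy'⟩ =>
      ⟨show S.t (S.ρ y) = S.ρ y by rw [S.comm, hy], hρZ y hy'⟩
    -- an involution of the centre gives a fixed one
    haveI := S.hp.center_nontrivial
    obtain ⟨j, hj⟩ := exists_prime_orderOf_dvd_card' (G := Z) 2 (by
      obtain ⟨k, hk⟩ := IsPGroup.iff_card.1 (S.hp.to_subgroup Z)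
      rw [hk]
      refine dvd_pow_self 2 fun h0 => ?_
      have := Finite.one_lt_card (α := Z)
      rw [hk, h0] at this
      omega)
    have hj1 : (j : A) ≠ 1 := fun e => by
      rw [← Subgroup.orderOf_coe, e, orderOf_one] at hj
      omega
    obtain ⟨f, hfK, hf1⟩ : ∃ f ∈ K, f ≠ 1 := by
      by_cases hjt : S.t j = j
      · exact ⟨j, ⟨hjt, j.2⟩, hj1⟩
      · refine ⟨(j : A) * S.t j, ⟨?_, mul_mem j.2 (htZ _ j.2)⟩, fun e => hjt ?_⟩
        · show S.t ((j : A) * S.t j) = j * S.t j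
          rw [map_mul, S.inv, mem_center_iff.1 j.2]
        · rw [← inv_eq_of_mul_eq_one_right e]
          refine inv_eq_of_mul_eq_one_right ?_
          rw [← sq, ← hj, ← Subgroup.orderOf_coe, pow_orderOf_eq_one]
    exact (eq_fix S hK inf_le_left hfK hf1).symm.le.trans inf_le_right
  let SZ : Setup Z :=
    { ρ := ρZ
      t := tZ
      hρ := ⟨fun z => Subtype.ext (S.hρ.cube _), fun z hz => Subtype.ext (S.hρ.fixed _ (congrArg Subtype.val hz))⟩
      comm := fun z => Subtype.ext (S.comm _)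
      inv := fun z => Subtype.ext (S.inv _)
      hp := S.hp.to_subgroup Z
      card_fix := by
        rw [← S.card_fix]
        exact Nat.card_congr
          { toFun := fun z => ⟨z.1.1, congrArg Subtype.val z.2⟩
            invFun := fun x => ⟨⟨x.1, hVZ x.2⟩, Subtype.ext x.2⟩
            left_inv := fun z => rfl
            right_inv := fun x => rfl }
      fix_sq := fun z hz => Subtype.ext (S.fix_sq _ (congrArg Subtype.val hz)) }
  have hZc : ∀ x y : Z, x * y = y * x := fun x y => Subtype.ext (mem_center_iff.1 y.2 x)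
  -- fixed points of the quotient
  let q : A →* A ⧸ Z := QuotientGroup.mk' Z
  have hq : ∀ y, q y = 1 ↔ y ∈ Z := fun y => QuotientGroup.eq_one_iff y
  let D : Z →* Z :=
    { toFun := fun z => tZ z * z⁻¹
      map_one' := by simp
      map_mul' := fun a b => by
        show tZ (a * b) * (a * b)⁻¹ = tZ a * a⁻¹ * (tZ b * b⁻¹)
        rw [map_mul, mul_inv_rev, hZc b⁻¹ a⁻¹, mul_assoc, mul_assoc, ← mul_assoc (tZ b) a⁻¹ b⁻¹, hZc (tZ b) a⁻¹,
          mul_assoc] }
  have hlift : ∀ x : A, q (S.t x) = q x → ∀ z : Z, (x⁻¹ * S.t x) = D z → x ∈ Z := by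
    intro x _ z hz
    have hfix : S.t (x * (z : A)⁻¹) = x * (z : A)⁻¹ := by
      rw [map_mul, map_inv, show S.t x = x * (x⁻¹ * S.t x) by group, hz]
      show x * (S.t z * (z : A)⁻¹) * (S.t z)⁻¹ = x * (z : A)⁻¹
      rw [mem_center_iff.1 (inv_mem z.2) (S.t z)]
      group
    have := mul_mem (hVZ hfix) z.2
    rwa [inv_mul_cancel_right] at this
  rcases abelian_cases SZ hZc with ⟨hel, h16⟩ | ⟨hΩ, hbig⟩
  · -- an elementary centre of order sixteen forces an abelian group
    exfalso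
    obtain ⟨a, b, hab⟩ := hna
    let Qset : Set A := {x | x⁻¹ * S.t x ∈ Z ∧ x ∉ Z}
    have hQ : Qset = ∅ := by
      rw [Set.eq_empty_iff_forall_notMem]
      rintro x ⟨hxz, hxZ⟩
      have hfix : tZ ⟨_, hxz⟩ = ⟨_, hxz⟩ := Subtype.ext (by
        show S.t (x⁻¹ * S.t x) = x⁻¹ * S.t x
        have e := congrArg Subtype.val (hel ⟨_, hxz⟩)
        rw [map_mul, map_inv, S.inv]
        refine mul_right_cancel (b := x⁻¹ * S.t x) ?_
        rw [show (S.t x)⁻¹ * x * (x⁻¹ * S.t x) = 1 by group]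
        exact e.symm)
      have hDk : D.ker = fixSub tZ := by ext z; exact mul_inv_eq_one
      have hDr : D.range ≤ fixSub tZ := by
        rintro _ ⟨z, rfl⟩
        show tZ (tZ z * z⁻¹) = tZ z * z⁻¹
        rw [map_mul, map_inv, show tZ (tZ z) = z from Subtype.ext (S.inv _)]
        refine mul_right_cancel (b := tZ z * z⁻¹) ?_
        rw [hel, mul_assoc, inv_mul_cancel_left, mul_inv_cancel]
      have hr : D.range = fixSub tZ := by
        refine eq_of_le_of_card_ge hDr ?_
        have := card_mul_index D.ker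
        rw [index_ker, hDk, show Nat.card (fixSub tZ) = 4 from SZ.card_fix, h16] at this
        rw [show Nat.card (fixSub tZ) = 4 from SZ.card_fix]
        omega
      obtain ⟨z, hz⟩ := hr.symm.le hfix
      have hq' : q (S.t x) = q x := (QuotientGroup.eq.2 hxz).symm
      exact hxZ (hlift x hq' z (congrArg Subtype.val hz).symm)
    -- a nontrivial fixed point of the quotient exists
    haveI : Nontrivial (A ⧸ Z) := by
      refine ⟨⟨q b, 1, fun e => hab ?_⟩⟩
      exact mem_center_iff.1 ((hq b).1 e) a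
    let tq : A ⧸ Z →* A ⧸ Z := QuotientGroup.map Z Z S.t.toMonoidHom (fun y hy => htZ y hy)
    have hQp : IsPGroup 2 (A ⧸ Z) := S.hp.to_quotient Z
    let f : Equiv.Perm (A ⧸ Z) := Function.Involutive.toPerm tq fun w => by
      obtain ⟨x, rfl⟩ := QuotientGroup.mk'_surjective Z w
      exact congrArg q (S.inv x)
    obtain ⟨w, hw1, hwf⟩ : ∃ w : A ⧸ Z, w ≠ 1 ∧ f w = w := by
      obtain ⟨k, hk⟩ := IsPGroup.iff_card.1 hQp
      letI : Fintype (A ⧸ Z) := Fintype.ofFinite _
      have h2 : 2 ∣ Fintype.card (A ⧸ Z) := by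
        rw [← Nat.card_eq_fintype_card, hk]
        refine dvd_pow_self 2 fun h0 => ?_
        have := Finite.one_lt_card (α := A ⧸ Z)
        rw [hk, h0] at this
        omega
      have hf2 : f ^ 2 ^ 1 = 1 := Equiv.ext fun w => by
        show f (f w) = w
        obtain ⟨x, rfl⟩ := QuotientGroup.mk'_surjective Z w
        exact congrArg q (S.inv x)
      obtain ⟨w, hw, hne⟩ := Equiv.Perm.exists_fixed_point_of_prime' h2 hf2 (a := 1) (map_one tq)
      exact ⟨w, hne, hw⟩
    obtain ⟨x, rfl⟩ := QuotientGroup.mk'_surjective Z w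
    have : x ∈ Qset := ⟨QuotientGroup.eq.1 (show q x = q (S.t x) from hwf.symm), fun h => hw1 ((hq x).2 h)⟩
    rw [hQ] at this
    exact this
  · have hκc : ∀ a b : A ⧸ Z, a * b = b * a := fun a b => by
      obtain ⟨x, rfl⟩ := QuotientGroup.mk'_surjective Z a
      obtain ⟨y, rfl⟩ := QuotientGroup.mk'_surjective Z b
      show q x * q y = q y * q x
      have h1 := (hq _).2 (hκ x y)
      rw [κ, map_mul, map_mul, map_mul, map_inv, map_inv, mul_inv_eq_one, mul_inv_eq_iff_eq_mul] at h1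
      exact h1
    let ρ' : A ⧸ Z →* A ⧸ Z := QuotientGroup.map Z Z S.ρ.toMonoidHom (fun y hy => hρZ y hy)
    let t' : A ⧸ Z →* A ⧸ Z := QuotientGroup.map Z Z S.t.toMonoidHom (fun y hy => htZ y hy)
    have hρ'3 : ∀ w, ρ' (ρ' (ρ' w)) = w := fun w => by
      obtain ⟨x, rfl⟩ := QuotientGroup.mk'_surjective Z w
      exact congrArg q (S.hρ.cube x)
    have ht'2 : ∀ w, t' (t' w) = w := fun w => by
      obtain ⟨x, rfl⟩ := QuotientGroup.mk'_surjective Z w
      exact congrArg q (S.inv x)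
    let ρq : (A ⧸ Z) ≃* (A ⧸ Z) :=
      { toFun := ρ', invFun := fun w => ρ' (ρ' w), left_inv := hρ'3, right_inv := hρ'3, map_mul' := map_mul ρ' }
    let tq : (A ⧸ Z) ≃* (A ⧸ Z) :=
      { toFun := t', invFun := t', left_inv := ht'2, right_inv := ht'2, map_mul' := map_mul t' }
    have hqfix : Fpf ρq := by
      refine ⟨hρ'3, fun w hw => ?_⟩
      obtain ⟨x, rfl⟩ := QuotientGroup.mk'_surjective Z w
      have hd : x⁻¹ * S.ρ x ∈ Z := QuotientGroup.eq.1 (show q x = q (S.ρ x) from hw.symm)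
      let f : Z → Z := fun v => ⟨(v : A)⁻¹ * S.ρ v, mul_mem (inv_mem v.2) (hρZ _ v.2)⟩
      have hf : Function.Injective f := fun v w e => by
        have e1 : (v : A)⁻¹ * S.ρ v = (w : A)⁻¹ * S.ρ w := congrArg Subtype.val e
        refine Subtype.ext (eq_of_mul_inv_eq_one (S.hρ.fixed ((v : A) * (w : A)⁻¹) ?_))
        rw [map_mul, map_inv, show S.ρ v = (v : A) * ((w : A)⁻¹ * S.ρ w) by rw [← e1, mul_inv_cancel_left]]
        group
      obtain ⟨v, hv⟩ := (Finite.injective_iff_surjective.1 hf) ⟨_, hd⟩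
      have hv' : (v : A)⁻¹ * S.ρ v = x⁻¹ * S.ρ x := congrArg Subtype.val hv
      refine (hq x).2 ?_
      have hfx : x * (v : A)⁻¹ = 1 := S.hρ.fixed _ (by
        rw [map_mul, map_inv, show S.ρ x = x * ((v : A)⁻¹ * S.ρ v) by rw [hv', mul_inv_cancel_left]]
        group)
      rw [mul_inv_eq_one.1 hfx]
      exact v.2
    have hQp : IsPGroup 2 (A ⧸ Z) := S.hp.to_quotient Z
    haveI : Nontrivial (A ⧸ Z) := by
      obtain ⟨a, b, hab⟩ := hna
      exact ⟨⟨q b, 1, fun e => hab (mem_center_iff.1 ((hq b).1 e) a)⟩⟩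
    set F := fixSub tq
    have hFρ : ∀ w ∈ F, ρq w ∈ F := fun w (hw : tq w = w) => by
      obtain ⟨x, rfl⟩ := QuotientGroup.mk'_surjective Z w
      show q (S.t (S.ρ x)) = q (S.ρ x)
      rw [S.comm]
      exact congrArg ρq (hw : tq (q x) = q x)
    obtain ⟨w₀, hw₀, hw₀1⟩ : ∃ w, tq w = w ∧ w ≠ 1 := by
      obtain ⟨k, hk⟩ := IsPGroup.iff_card.1 hQp
      letI : Fintype (A ⧸ Z) := Fintype.ofFinite _
      have h2 : 2 ∣ Fintype.card (A ⧸ Z) := by
        rw [← Nat.card_eq_fintype_card, hk]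
        refine dvd_pow_self 2 fun h0 => ?_
        have := Finite.one_lt_card (α := A ⧸ Z)
        rw [hk, h0] at this
        omega
      let f : Equiv.Perm (A ⧸ Z) := Function.Involutive.toPerm t' ht'2
      have hf2 : f ^ 2 ^ 1 = 1 := Equiv.ext ht'2
      obtain ⟨w, hw, hne⟩ := Equiv.Perm.exists_fixed_point_of_prime' h2 hf2 (a := 1) (map_one t')
      exact ⟨w, hw, hne⟩
    have hF4 : Nat.card F = 4 := by
      refine le_antisymm ?_ ?_
      · have hidx : D.range.index = 4 := by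
          have h1 := card_mul_index D.ker
          have h2 := card_mul_index D.range
          have hDk : D.ker = fixSub tZ := by ext z; exact mul_inv_eq_one
          rw [index_ker, hDk, show Nat.card (fixSub tZ) = 4 from SZ.card_fix, ← h2, mul_comm] at h1
          exact (Nat.eq_of_mul_eq_mul_left Nat.card_pos h1).symm
        choose lift hlift' using fun w : F => QuotientGroup.mk'_surjective Z (w : A ⧸ Z)
        have hzmem : ∀ w : F, (lift w)⁻¹ * S.t (lift w) ∈ Z := fun w => by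
          have h1 : tq (q (lift w)) = q (lift w) := by rw [hlift' w]; exact w.2
          exact QuotientGroup.eq.1 h1.symm
        rw [← hidx, index]
        refine Nat.card_le_card_of_injective
          (fun w => (QuotientGroup.mk ⟨_, hzmem w⟩ : Z ⧸ D.range)) fun a b e => ?_
        obtain ⟨z, hz⟩ := QuotientGroup.eq.1 e
        have hzA : ((lift a)⁻¹ * S.t (lift a))⁻¹ * ((lift b)⁻¹ * S.t (lift b)) = (D z : A) :=
          (congrArg Subtype.val hz).symm
        have hy : (lift a)⁻¹ * lift b ∈ Z := by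
          have hq' : q (S.t ((lift a)⁻¹ * lift b)) = q ((lift a)⁻¹ * lift b) := by
            show tq (q _) = _
            rw [map_mul, map_inv, map_mul, map_inv, show q (lift a) = a from hlift' a,
              show q (lift b) = b from hlift' b, a.2, b.2]
          refine hlift _ hq' z ?_
          rw [← hzA]
          obtain ⟨za, hza⟩ : ∃ za, za = (lift a)⁻¹ * S.t (lift a) := ⟨_, rfl⟩
          obtain ⟨zb, hzb⟩ : ∃ zb, zb = (lift b)⁻¹ * S.t (lift b) := ⟨_, rfl⟩
          have hzaZ : za ∈ Z := hza ▸ hzmem a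
          rw [← hza, ← hzb, map_mul, map_inv,
            show S.t (lift a) = lift a * za by rw [hza, mul_inv_cancel_left],
            show S.t (lift b) = lift b * zb by rw [hzb, mul_inv_cancel_left]]
          have hc1 := mem_center_iff.1 (inv_mem hzaZ) ((lift a)⁻¹ * lift b)
          calc ((lift a)⁻¹ * lift b)⁻¹ * ((lift a * za)⁻¹ * (lift b * zb))
              = ((lift a)⁻¹ * lift b)⁻¹ * (za⁻¹ * ((lift a)⁻¹ * lift b)) * zb := by group
            _ = za⁻¹ * zb := by rw [← hc1]; group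
        apply Subtype.ext
        rw [← hlift' a, ← hlift' b]
        exact QuotientGroup.eq.2 hy
      · have h2 := hqfix.card_mod_three F hFρ
        haveI : Nontrivial F := ⟨⟨⟨w₀, hw₀⟩, 1, fun e => hw₀1 (congrArg Subtype.val e)⟩⟩
        have := Finite.one_lt_card (α := F)
        omega
    have hFsq : ∀ w, tq w = w → w * w = 1 := by
      let sqU : A ⧸ Z →* A ⧸ Z :=
        { toFun := fun x => x * x
          map_one' := one_mul 1
          map_mul' := fun a b => by
            show a * b * (a * b) = a * a * (b * b)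
            rw [mul_assoc, ← mul_assoc b a b, hκc b a, mul_assoc a b b, ← mul_assoc] }
      let K := F ⊓ sqU.ker
      have hKρ : ∀ w ∈ K, ρq w ∈ K := fun w ⟨h1, (h2 : w * w = 1)⟩ =>
        ⟨hFρ w h1, show ρq w * ρq w = 1 by rw [← map_mul, h2, map_one]⟩
      obtain ⟨j, hj⟩ := exists_prime_orderOf_dvd_card' (G := F) 2 (by rw [hF4]; norm_num)
      have hjK : (j : A ⧸ Z) ∈ K := ⟨j.2, by
        show (j : A ⧸ Z) * j = 1
        rw [← pow_two, ← hj, ← Subgroup.orderOf_coe, pow_orderOf_eq_one]⟩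
      have h2 := hqfix.card_mod_three K hKρ
      haveI : Nontrivial K := ⟨⟨⟨_, hjK⟩, 1, fun e => by
        have : (j : A ⧸ Z) = 1 := congrArg Subtype.val e
        rw [← Subgroup.orderOf_coe, this, orderOf_one] at hj
        omega⟩⟩
      have := Finite.one_lt_card (α := K)
      have hKF : K = F := eq_of_le_of_card_ge inf_le_left (by omega)
      exact fun w hw => (hKF.symm.le hw).2
    let SU : Setup (A ⧸ Z) :=
      { ρ := ρq
        t := tq
        hρ := hqfix
        comm := fun w => by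
          obtain ⟨x, rfl⟩ := QuotientGroup.mk'_surjective Z w
          exact congrArg q (S.comm x)
        inv := ht'2
        hp := hQp
        card_fix := hF4
        fix_sq := hFsq }
    rcases abelian_cases SU hκc with ⟨hel, h16⟩ | ⟨hΩ', -⟩
    swap
    · exfalso
      obtain ⟨a, b, hab⟩ := hna
      obtain ⟨u, hu⟩ := generated SU hκc hΩ'
      obtain ⟨x, rfl⟩ := QuotientGroup.mk'_surjective Z u
      set M := closure ({x, S.ρ x} ∪ (Z : Set A))
      have hMt : M.map q = ⊤ := hu _ (mem_map_of_mem q (subset_closure (Or.inl (Or.inl rfl))))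
        ⟨S.ρ x, subset_closure (Or.inl (Or.inr rfl)), rfl⟩
      have hM : M = ⊤ := by
        rw [eq_top_iff, ← comap_map_eq_self (f := q) (H := M) (by
          rw [QuotientGroup.ker_mk']; exact fun y hy => subset_closure (Or.inr hy)), hMt]
        exact le_of_eq (Subgroup.comap_top q).symm
      exact hab (closure_commute (S.hρ.commutes_gen x) _ (hM.symm.le (mem_top a)) _ (hM.symm.le (mem_top b)))
    have hcard : Nat.card A = 16 * Nat.card Z := by
      rw [← h16]
      exact Z.card_eq_card_quotient_mul_card_subgroup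
    rcases hbig with hZel | ⟨hfs, hdsq, hsqd⟩
    · have : Nat.card Z = 4 := by
        rw [← SZ.card_fix]
        exact (Nat.card_congr (Equiv.subtypeUnivEquiv fun z => hΩ z (hZel z))).symm
      omega
    exfalso
    obtain ⟨w, hw⟩ : ∃ w, tq w ≠ w := by
      by_contra h
      push Not at h
      have : Nat.card (A ⧸ Z) = Nat.card F := (Nat.card_congr (Equiv.subtypeUnivEquiv (p := fun w => tq w = w) h)).symm
      omega
    obtain ⟨y, rfl⟩ := QuotientGroup.mk'_surjective Z w
    obtain ⟨x, hxdef⟩ : ∃ x, x = S.t y * y⁻¹ := ⟨_, rfl⟩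
    have hxZ : x ∉ Z := fun h => hw (by
      have := (hq x).2 h
      rw [hxdef, map_mul, map_inv, mul_inv_eq_one] at this
      exact this)
    have htx : S.t x = x⁻¹ := by rw [hxdef, map_mul, map_inv, S.inv, mul_inv_rev, inv_inv]
    have hy2 : y * y ∈ Z := (hq _).1 (by rw [map_mul]; exact hel _)
    obtain ⟨c, hcdef⟩ : ∃ c, c = κ y⁻¹ (S.t y) := ⟨_, rfl⟩
    have hcZ : c ∈ Z := hcdef ▸ hκ _ _
    have hc2 : c * c = 1 := by
      rw [hcdef, ← κ_mul_left (hκ _ _), ← mul_inv_rev, κ, ← mem_center_iff.1 (inv_mem hy2) (S.t y)]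
      group
    obtain ⟨w₁, hw₁⟩ := hfs ⟨c, hcZ⟩ (hΩ ⟨c, hcZ⟩ (Subtype.ext hc2))
    obtain ⟨w₂, hw₂⟩ := hdsq ⟨y * y, hy2⟩
    have hxx : x * x = ((w₁ * w₂ : Z) : A) * (w₁ * w₂ : Z) := by
      have e1 : (w₁ : A) * w₁ = c := congrArg Subtype.val hw₁
      have e2 : (w₂ : A) * w₂ = S.t (y * y) * (y * y)⁻¹ := congrArg Subtype.val hw₂
      have e3 : ((w₁ * w₂ : Z) : A) * (w₁ * w₂ : Z) = c * (S.t (y * y) * (y * y)⁻¹) := by
        rw [← e1, ← e2, coe_mul, mul_assoc, ← mul_assoc (w₂ : A), ← mem_center_iff.1 w₁.2 (w₂ : A) |>.symm]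
        simp only [mul_assoc]
      rw [e3, hxdef]
      calc S.t y * y⁻¹ * (S.t y * y⁻¹) = S.t y * c * (S.t y * y⁻¹ * y⁻¹) := by rw [hcdef, κ]; group
        _ = c * (S.t (y * y) * (y * y)⁻¹) := by rw [mem_center_iff.1 hcZ, map_mul, mul_inv_rev]; group
    obtain ⟨x', hx'def⟩ : ∃ x', x' = x * ((w₁ * w₂ : Z) : A)⁻¹ := ⟨_, rfl⟩
    have hx'2 : x' * x' = 1 := by
      have hc := mem_center_iff.1 (inv_mem (w₁ * w₂ : Z).2) x
      calc x' * x' = x * (((w₁ * w₂ : Z) : A)⁻¹ * x) * ((w₁ * w₂ : Z) : A)⁻¹ := by rw [hx'def]; group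
        _ = x * x * (((w₁ * w₂ : Z) : A) * (w₁ * w₂ : Z))⁻¹ := by rw [← hc]; group
        _ = 1 := by rw [hxx, mul_inv_cancel]
    have hx'Z : x' ∉ Z := fun h => hxZ (by
      have := mul_mem h (w₁ * w₂ : Z).2
      rwa [hx'def, inv_mul_cancel_right] at this)
    have hqt : q (S.t x') = q x' := by
      rw [hx'def, map_mul, map_mul, htx, map_mul, map_inv,
        (hq _).2 (htZ _ (inv_mem (w₁ * w₂ : Z).2)), (hq _).2 (inv_mem (w₁ * w₂ : Z).2)]
      rw [inv_eq_of_mul_eq_one_right (hel (q x))]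
    have hv : x'⁻¹ * S.t x' ∈ Z := QuotientGroup.eq.1 hqt.symm
    obtain ⟨v, hvdef⟩ : ∃ v, v = x'⁻¹ * S.t x' := ⟨_, rfl⟩
    have hvZ : v ∈ Z := hvdef ▸ hv
    have hv2 : v * v = 1 := by
      have h1 : S.t x' * S.t x' = 1 := by rw [← map_mul, hx'2, map_one]
      calc v * v = x'⁻¹ * S.t x' * v := by rw [← hvdef]
        _ = x'⁻¹ * (S.t x' * v) := by group
        _ = x'⁻¹ * (v * S.t x') := by rw [mem_center_iff.1 hvZ (S.t x')]
        _ = x'⁻¹ * x'⁻¹ * (S.t x' * S.t x') := by rw [hvdef]; group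
        _ = 1 := by rw [h1, mul_one, ← mul_inv_rev, hx'2, inv_one]
    obtain ⟨w₃, hw₃⟩ := hfs ⟨v, hvZ⟩ (hΩ ⟨v, hvZ⟩ (Subtype.ext hv2))
    obtain ⟨z, hz⟩ := hsqd w₃
    exact hx'Z (hlift x' hqt z (by
      rw [← hvdef]
      exact (congrArg Subtype.val (hz.trans hw₃)).symm))

/-- Two non-commuting involutions. -/
theorem exists_noncommuting (S : Setup A) (hna : ∃ a b : A, a * b ≠ b * a)
    (hout : ∃ x : A, x * x = 1 ∧ S.t x ≠ x) :
    ∃ a b : A, a * a = 1 ∧ b * b = 1 ∧ a * b ≠ b * a := by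
  classical
  obtain ⟨hZ4, hκ, hsq, hz2⟩ := S.hρ.structure (nonabelian_card S hna) hna
  obtain ⟨x, hx2, hxt⟩ := hout
  have hxZ : x ∉ center A := by
    intro hx
    -- the centre consists of fixed points
    let C : Subgroup A := fixSub S.t ⊓ center A
    have hC : ∀ y ∈ C, S.ρ y ∈ C := fun y ⟨(hy : S.t y = y), hy'⟩ =>
      ⟨show S.t (S.ρ y) = S.ρ y by rw [S.comm, hy], center_invariant S.ρ y hy'⟩
    have hne : x * S.t x ≠ 1 := fun h =>
      hxt ((inv_eq_of_mul_eq_one_right h).symm.trans (inv_eq_of_mul_eq_one_right hx2))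
    have hmem : x * S.t x ∈ C := by
      refine ⟨?_, mul_mem hx (center_invariant S.t x hx)⟩
      show S.t (x * S.t x) = x * S.t x
      rw [map_mul, S.inv]
      exact mem_center_iff.1 hx _
    have h1 : C = fixSub S.t := eq_fix S hC inf_le_left hmem hne
    have h2 : fixSub S.t = center A :=
      eq_of_le_of_card_ge (h1 ▸ inf_le_right) (hZ4.le.trans S.card_fix.ge)
    exact hxt (h2.symm.le hx)
  obtain ⟨y, hy⟩ : ∃ y, x * y ≠ y * x := by
    by_contra h
    push Not at h
    exact hxZ (mem_center_iff.2 fun y => (h y).symm)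
  set z := κ x y with hz
  have hzc : z ∈ center A := hκ x y
  have hz1 : z ≠ 1 := fun h => hy (by rwa [hz, κ, mul_inv_eq_one, mul_inv_eq_iff_eq_mul] at h)
  have hρz := center_invariant S.ρ z hzc
  obtain ⟨e0, e1, -⟩ := S.hρ.κ_values hκ hz2 x y
  -- the values of the commutator with `y` fill the centre
  have hval : ∀ u ∈ center A, u = 1 ∨ u = z ∨ u = S.ρ z ∨ u = z * S.ρ z := by
    intro u hu
    by_contra h
    push Not at h
    obtain ⟨h0, h1, h2, h3⟩ := h
    have n1 : S.ρ z ≠ 1 := fun e => hz1 (S.ρ.injective (e.trans (map_one _).symm))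
    have n2 : S.ρ z ≠ z := fun e => hz1 (S.hρ.fixed z e)
    have n3 : z * S.ρ z ≠ 1 := fun e =>
      n2 ((inv_eq_of_mul_eq_one_right e).symm.trans (inv_eq_of_mul_eq_one_right (hz2 z hzc)))
    have n4 : z * S.ρ z ≠ z := fun e => n1 (mul_left_cancel (e.trans (mul_one z).symm))
    have n5 : z * S.ρ z ≠ S.ρ z := fun e => hz1 (mul_right_cancel (e.trans (one_mul _).symm))
    let f : Fin 5 → center A := ![1, ⟨z, hzc⟩, ⟨S.ρ z, hρz⟩, ⟨z * S.ρ z, mul_mem hzc hρz⟩, ⟨u, hu⟩]
    have hf : Function.Injective f := by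
      intro i j hij
      have hij' := congrArg Subtype.val hij
      fin_cases i <;> fin_cases j <;> simp [f] at hij' ⊢ <;>
        first
          | exact hz1 hij' | exact hz1 hij'.symm | exact n1 hij' | exact n1 hij'.symm
          | exact n2 hij' | exact n2 hij'.symm | exact n3 hij' | exact n3 hij'.symm
          | exact n4 hij' | exact n4 hij'.symm | exact n5 hij' | exact n5 hij'.symm
          | exact h0 hij' | exact h0 hij'.symm | exact h1 hij' | exact h1 hij'.symm
          | exact h2 hij' | exact h2 hij'.symm | exact h3 hij' | exact h3 hij'.symm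
    have := Nat.card_le_card_of_injective f hf
    rw [Nat.card_fin, hZ4] at this
    omega
  have hkx : ∀ u ∈ center A, ∃ a : A, a * a = 1 ∧ κ a y = u ∧ x * a = a * x := by
    intro u hu
    have hρx2 : S.ρ x * S.ρ x = 1 := by rw [← map_mul, hx2, map_one]
    have hxρ : (x * S.ρ x) * (x * S.ρ x) = 1 := by
      rw [mul_assoc, ← mul_assoc (S.ρ x), ← S.hρ.commute_rho, mul_assoc, hρx2, mul_one, hx2]
    have hkm : κ (x * S.ρ x) y = S.ρ z := by
      rw [κ_mul_left (hκ _ _), e1, ← mul_assoc, hz2 z hzc, one_mul]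
    rcases hval u hu with rfl | rfl | rfl | rfl
    · exact ⟨1, one_mul 1, by simp [κ], by simp⟩
    · exact ⟨x, hx2, rfl, rfl⟩
    · exact ⟨x * S.ρ x, hxρ, hkm, by rw [S.hρ.commute_rho, ← mul_assoc, ← S.hρ.commute_rho]⟩
    · exact ⟨S.ρ x, hρx2, e1, S.hρ.commute_rho x⟩
  obtain ⟨a, ha2, hay, hxa⟩ := hkx (y * y) (hsq y)
  have hai : a⁻¹ = a := inv_eq_of_mul_eq_one_right ha2
  refine ⟨x, y * a, hx2, ?_, fun h => hy ?_⟩
  · calc y * a * (y * a) = y * (a * y * a⁻¹ * y⁻¹) * y := by rw [hai]; group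
      _ = (y * y) * (y * y) := by
          rw [show a * y * a⁻¹ * y⁻¹ = y * y from hay]
          group
      _ = 1 := hz2 _ (hsq y)
  · calc x * y = x * (y * a) * a⁻¹ := by group
      _ = y * (a * (x * a⁻¹)) := by rw [h]; group
      _ = y * x := by rw [← mul_assoc a, ← hxa, mul_inv_cancel_right]

end CfsgLib.FourCent
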