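/-
Odd prime power groups of automorphisms of an elementary abelian 2-group, normalised by an element of order three
whose displacements form a group of order four.
-/
import Mathlib

set_option autoImplicit false

namespace CfsgLib.PGroup.FourDisplacement

open Subgroup

variable {M : Type*} [CommGroup M]

/-- The displacement. -/
def delta (x : MulAut M) : M →* M :=
  MonoidHom.mk' (fun m => x m * m⁻¹) (fun a b => by
    rw [map_mul, mul_inv, mul_mul_mul_comm])

theorem delta_apply (x : MulAut M) (m : M) : delta x m = x m * m⁻¹ := rfl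

/-- Common fixed points. -/
def fix (Y : Subgroup (MulAut M)) : Subgroup M where
  carrier := {m | ∀ y ∈ Y, y m = m}
  one_mem' := fun y _ => map_one y
  mul_mem' := fun {a b} ha hb y hy => by rw [map_mul, ha y hy, hb y hy]
  inv_mem' := fun {a} ha y hy => by rw [map_inv, ha y hy]

theorem mem_fix {Y : Subgroup (MulAut M)} {m : M} : m ∈ fix Y ↔ ∀ y ∈ Y, y m = m := Iff.rfl

theorem pow_three_apply {x : MulAut M} (hx : x ^ 3 = 1) (m : M) : x (x (x m)) = m := by
  have h : x * (x * x) = 1 := by rw [← hx]; simp [pow_succ, mul_assoc]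
  exact DFunLike.congr_fun h m

section Exponent

variable (h2 : ∀ m : M, m * m = 1)
include h2

theorem inv_eq' (m : M) : m⁻¹ = m := inv_eq_of_mul_eq_one_right (h2 m)

theorem eq_of_mul_eq_one' {a b : M} (h : a * b = 1) : a = b := by
  rw [eq_inv_of_mul_eq_one_left h, inv_eq' h2]

theorem pow_odd (m : M) {n : ℕ} (hn : Odd n) : m ^ n = m := by
  obtain ⟨k, rfl⟩ := hn
  rw [pow_succ, pow_mul, pow_two, h2, one_pow, one_mul]

theorem delta_fix_eq_one {x : MulAut M} (hx : x ^ 3 = 1) {m : M}
    (h : x (delta x m) = delta x m) : delta x m = 1 := by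
  rw [delta_apply, inv_eq' h2, map_mul] at h
  have e : x (x m) * m = 1 := by
    calc x (x m) * m = (x (x m) * x m) * (x m * m) := by
          rw [mul_assoc, ← mul_assoc (x m), h2, one_mul]
      _ = 1 := by rw [h, h2]
  have e2 : m = x m := by
    have := congrArg x (eq_of_mul_eq_one' h2 e)
    rwa [pow_three_apply hx] at this
  rw [delta_apply, inv_eq' h2, ← e2, h2]

theorem irreducible [Finite M] {x : MulAut M} (hx : x ^ 3 = 1) (hV : Nat.card (delta x).range = 4)
    (W : Subgroup M) (hWx : ∀ w ∈ W, x w ∈ W) (hW : W ≤ (delta x).range) : W = ⊥ ∨ W = (delta x).range := by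
  classical
  by_cases h : W = ⊥
  · exact Or.inl h
  refine Or.inr (eq_of_le_of_card_ge hW ?_)
  obtain ⟨w, hw, hw1⟩ : ∃ w ∈ W, w ≠ 1 := W.bot_or_exists_ne_one.resolve_left h
  obtain ⟨m, rfl⟩ := hW hw
  have hne : x (delta x m) ≠ delta x m := fun e => hw1 (delta_fix_eq_one h2 hx e)
  have hne2 : x (x (delta x m)) ≠ delta x m := fun e => by
    have := congrArg x e
    rw [pow_three_apply hx] at this
    exact hne this.symm
  have hne3 : x (x (delta x m)) ≠ x (delta x m) := fun e => hne (x.injective e)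
  have hsub : (({1, delta x m, x (delta x m), x (x (delta x m))} : Finset M) : Set M) ⊆ W := by
    intro y hy
    simp only [Finset.coe_insert, Finset.coe_singleton, Set.mem_insert_iff, Set.mem_singleton_iff] at hy
    rcases hy with rfl | rfl | rfl | rfl
    · exact one_mem _
    · exact hw
    · exact hWx _ hw
    · exact hWx _ (hWx _ hw)
  have h1 : ∀ y, y ≠ 1 → x y ≠ 1 := fun y hy e => hy (x.injective (e.trans (map_one x).symm))
  have := Set.ncard_le_ncard hsub (Set.toFinite _)
  rw [Set.ncard_coe_finset, Finset.card_insert_of_notMem (by simp [Ne.symm hw1, (h1 _ hw1).symm, (h1 _ (h1 _ hw1)).symm]),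
    Finset.card_insert_of_notMem (by simp [Ne.symm hne, Ne.symm hne2]),
    Finset.card_insert_of_notMem (by simp [Ne.symm hne3]), Finset.card_singleton] at this
  rw [hV]
  exact this

variable [Finite M] {p : ℕ} [hp : Fact p.Prime] (hp2 : p ≠ 2) (Z : Subgroup (MulAut M))
  (hZc : ∀ a ∈ Z, ∀ b ∈ Z, a * b = b * a) (hZp : ∀ a ∈ Z, a ^ p = 1)

/-- The product over the group. -/
noncomputable def sigma : M →* M :=
  haveI := Fintype.ofFinite Z
  MonoidHom.mk' (fun m => ∏ g : Z, (g : MulAut M) m) (fun a b => by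
    simp only [map_mul, Finset.prod_mul_distrib])

omit h2 in
theorem sigma_apply [Fintype Z] (m : M) : sigma Z m = ∏ g : Z, (g : MulAut M) m := by
  show (@Finset.prod _ _ _ (@Finset.univ _ (Fintype.ofFinite Z)) _) = _
  convert rfl

omit h2 in
theorem apply_sigma {z : MulAut M} (hz : z ∈ Z) (m : M) : z (sigma Z m) = sigma Z m := by
  have := Fintype.ofFinite Z
  rw [sigma_apply, map_prod]
  exact Equiv.prod_comp (Equiv.mulLeft (⟨z, hz⟩ : Z)) (fun g => (g : MulAut M) m)

theorem sigma_of_fix (hodd : Odd (Nat.card Z)) {m : M} (hm : m ∈ fix Z) : sigma Z m = m := by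
  have := Fintype.ofFinite Z
  rw [sigma_apply, Finset.prod_congr rfl (fun (g : Z) _ => hm g g.2), Finset.prod_const, Finset.card_univ,
    ← Nat.card_eq_fintype_card, pow_odd h2 m hodd]

omit h2 in
theorem sigma_comm {x : MulAut M} (hx : ∀ g ∈ Z, x * g * x⁻¹ ∈ Z) (m : M) :
    sigma Z (x m) = x (sigma Z m) := by
  have := Fintype.ofFinite Z
  rw [sigma_apply, sigma_apply, map_prod]
  let e : Z → Z := fun g => ⟨x * g * x⁻¹, hx g g.2⟩
  have he : Function.Bijective e := Finite.injective_iff_bijective.1 fun a b h =>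
    Subtype.ext (by simpa [e] using congrArg Subtype.val h)
  rw [← Equiv.prod_comp (Equiv.ofBijective e he)]
  refine Finset.prod_congr rfl fun g _ => ?_
  show x ((g : MulAut M) (x⁻¹ (x m))) = _
  rw [show x⁻¹ (x m) = m from DFunLike.congr_fun (inv_mul_cancel x) m]

omit h2 in
include hZc in
theorem sigma_zcomm {z : MulAut M} (hz : z ∈ Z) (m : M) : sigma Z (z m) = z (sigma Z m) :=
  sigma_comm Z (fun g hg => by rw [hZc z hz g hg, mul_inv_cancel_right]; exact hg) m

/-- The moved part of the fixed points of a subgroup. -/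
noncomputable def part (Y : Subgroup (MulAut M)) : Subgroup M := fix Y ⊓ (sigma Z).ker

omit h2 in
include hZc in
theorem apply_mem_part {Y : Subgroup (MulAut M)} (hY : Y ≤ Z) {z : MulAut M} (hz : z ∈ Z) {u : M}
    (hu : u ∈ part Z Y) : z u ∈ part Z Y := by
  refine ⟨fun y hy => ?_, ?_⟩
  · have : y (z u) = z (y u) := DFunLike.congr_fun (hZc y (hY hy) z hz) u
    rw [this, hu.1 y hy]
  · show sigma Z (z u) = 1
    rw [sigma_zcomm Z hZc hz, MonoidHom.mem_ker.1 hu.2, map_one]

include hp2 hZp in
theorem odd_card : Odd (Nat.card Z) := by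
  have hP : IsPGroup p Z := fun a => ⟨1, Subtype.ext (by rw [pow_one]; exact hZp a a.2)⟩
  obtain ⟨n, hn⟩ := IsPGroup.iff_card.1 hP
  rw [hn]
  exact (hp.out.odd_of_ne_two hp2).pow

include hp2 hZp in
theorem eq_one_of_fix {u : M} (hu : u ∈ (sigma Z).ker) (hf : u ∈ fix Z) : u = 1 :=
  (sigma_of_fix h2 Z (odd_card h2 hp2 Z hZp) hf).symm.trans hu

omit hp h2 in
theorem fix_sup {Y : Subgroup (MulAut M)} {z : MulAut M} {u : M} (hu : u ∈ fix Y) (hz : z u = u) :
    u ∈ fix (Y ⊔ zpowers z) := by
  intro y hy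
  have hle : Y ⊔ zpowers z ≤ MulAction.stabilizer (MulAut M) u :=
    sup_le (fun a ha => MulAction.mem_stabilizer_iff.2 (hu a ha)) (zpowers_le.2 hz)
  exact hle hy

include hp2 hZc hZp in
theorem part_inf {Y Y' : Subgroup (MulAut M)} (hYY : Y ⊔ Y' = Z) {u : M} (hu : u ∈ part Z Y)
    (hu' : u ∈ part Z Y') : u = 1 := by
  refine eq_one_of_fix h2 hp2 Z hZp hu.2 fun y hy => ?_
  have hle : Y ⊔ Y' ≤ MulAction.stabilizer (MulAut M) u :=
    sup_le (fun a ha => MulAction.mem_stabilizer_iff.2 (hu.1 a ha)) fun a ha =>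
      MulAction.mem_stabilizer_iff.2 (hu'.1 a ha)
  exact hle (hYY ▸ hy)

include hp2 hZc hZp in
theorem independent {Y Y' Y'' : Subgroup (MulAut M)} (hY : Y ≤ Z) (hY' : Y' ≤ Z) (hY'' : Y'' ≤ Z)
    (h01 : Y ⊔ Y' = Z) (h02 : Y ⊔ Y'' = Z) (h12 : Y' ⊔ Y'' = Z) {u u' u'' : M} (hu : u ∈ part Z Y)
    (hu' : u' ∈ part Z Y') (hu'' : u'' ∈ part Z Y'') (h : u * u' * u'' = 1) :
    u = 1 ∧ u' = 1 ∧ u'' = 1 := by
  have hu1 : u' = 1 := by
    refine part_inf h2 hp2 Z hZc hZp h01 ⟨fun y hy => ?_, hu'.2⟩ hu'
    have e : u'' = u * u' := (eq_of_mul_eq_one' h2 h).symm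
    have d1 : y u' * u' ∈ part Z Y' := mul_mem (apply_mem_part Z hZc hY' (hY hy) hu') hu'
    have d2 : y u'' * u'' ∈ part Z Y'' := mul_mem (apply_mem_part Z hZc hY'' (hY hy) hu'') hu''
    have e2 : y u'' * u'' = y u' * u' := by
      rw [e, map_mul, hu.1 y hy, mul_mul_mul_comm, h2, one_mul]
    rw [e2] at d2
    exact eq_of_mul_eq_one' h2 (part_inf h2 hp2 Z hZc hZp h12 d1 d2)
  subst hu1
  rw [mul_one] at h
  obtain rfl := eq_of_mul_eq_one' h2 h
  have := part_inf h2 hp2 Z hZc hZp h02 hu hu''
  exact ⟨this, rfl, this⟩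

omit [Finite M] h2 in
theorem prod_split {n : ℕ} [NeZero n] (hn : n.Prime) (f : ZMod n × ZMod n → M) :
    (∏ j : ZMod n, ∏ i : ZMod n, f (i, i * j)) * ∏ k : ZMod n, f (0, k) =
      f (0, 0) ^ n * ∏ q : ZMod n × ZMod n, f q := by
  classical
  have : Fact n.Prime := ⟨hn⟩
  rw [Finset.prod_comm, Fintype.prod_prod_type,
    ← Finset.mul_prod_erase Finset.univ (fun i => ∏ j : ZMod n, f (i, i * j)) (Finset.mem_univ 0),
    ← Finset.mul_prod_erase Finset.univ (fun i => ∏ k : ZMod n, f (i, k)) (Finset.mem_univ 0)]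
  simp only [zero_mul, Finset.prod_const, Finset.card_univ, ZMod.card]
  rw [mul_assoc]
  congr 1
  rw [mul_comm]
  congr 1
  refine Finset.prod_congr rfl fun i hi => ?_
  exact Equiv.prod_comp (Equiv.mulLeft₀ i (Finset.ne_of_mem_erase hi)) (fun k => f (i, k))

include hp2 hZc hZp in
theorem generation : ∀ m ∈ (sigma Z).ker,
    m ∈ ⨆ Y ∈ {Y : Subgroup (MulAut M) | Y ≤ Z ∧ Nat.card Z = p * Nat.card Y}, part Z Y := by
  classical
  set T := ⨆ Y ∈ {Y : Subgroup (MulAut M) | Y ≤ Z ∧ Nat.card Z = p * Nat.card Y}, part Z Y with hT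
  suffices key : ∀ (d : ℕ) (K : Subgroup (MulAut M)), K ≤ Z → Nat.card Z - Nat.card K = d → part Z K ≤ T from
    fun m hm => key _ ⊥ bot_le rfl ⟨fun y hy => by rw [mem_bot.1 hy]; rfl, hm⟩
  intro d
  induction d using Nat.strong_induction_on with
  | _ d ih =>
    intro K hK hd m hm
    by_cases hKZ : K = Z
    · subst hKZ
      rw [eq_one_of_fix h2 hp2 _ hZp hm.2 hm.1]
      exact one_mem _
    obtain ⟨a, ha, haK⟩ := SetLike.exists_of_lt (lt_of_le_of_ne hK hKZ)
    by_cases hKa : K ⊔ zpowers a = Z
    · refine mem_iSup_of_mem K (mem_iSup_of_mem ⟨hK, ?_⟩ hm)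
      have hcomm : ∀ k ∈ K, k * a = a * k := fun k hk => hZc k (hK hk) a ha
      have hle : zpowers a ≤ normalizer (K : Set (MulAut M)) := by
        rw [zpowers_le]
        exact centralizer_le_normalizer (K : Set (MulAut M)) (mem_centralizer_iff.2 hcomm)
      have hdisj : K ⊓ zpowers a = ⊥ := by
        rw [eq_bot_iff]
        intro g hg
        by_contra hg1
        rw [mem_bot] at hg1
        have ho : orderOf a = p := orderOf_eq_prime (hZp a ha) fun e => haK (e ▸ one_mem K)
        have hz : zpowers g = zpowers a := eq_of_le_of_card_ge (zpowers_le.2 hg.2) (by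
          rw [Nat.card_zpowers, Nat.card_zpowers, ho, orderOf_eq_prime (hZp g (hK hg.1)) hg1])
        exact haK (zpowers_le.1 ((hz ▸ zpowers_le.2 hg.1 : zpowers a ≤ K)))
      let f : K × zpowers a → Z := fun ka => ⟨ka.1 * ka.2, mul_mem (hK ka.1.2) (zpowers_le.2 ha ka.2.2)⟩
      have hf : Function.Bijective f := by
        constructor
        · rintro ⟨k, t⟩ ⟨k', t'⟩ h
          have h' : (k : MulAut M) * t = k' * t' := congrArg Subtype.val h
          have hmem : ((k' : MulAut M))⁻¹ * k ∈ K ⊓ zpowers a := mem_inf.2 ⟨mul_mem (inv_mem k'.2) k.2, by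
            rw [show (k' : MulAut M)⁻¹ * k = t' * (t : MulAut M)⁻¹ by
              rw [inv_mul_eq_iff_eq_mul, ← mul_assoc, ← h', mul_inv_cancel_right]]
            exact mul_mem t'.2 (inv_mem t.2)⟩
          rw [hdisj, mem_bot, inv_mul_eq_one] at hmem
          obtain rfl : k' = k := Subtype.ext hmem
          exact Prod.ext rfl (Subtype.ext (mul_left_cancel h'))
        · rintro ⟨g, hg⟩
          rw [← hKa] at hg
          rw [← SetLike.mem_coe, coe_mul_of_right_le_normalizer_left K (zpowers a) hle] at hg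
          obtain ⟨k, hk, t, ht, rfl⟩ := hg
          exact ⟨(⟨k, hk⟩, ⟨t, ht⟩), rfl⟩
      rw [← Nat.card_congr (Equiv.ofBijective f hf), Nat.card_prod, Nat.card_zpowers,
        orderOf_eq_prime (hZp a ha) (fun e => haK (e ▸ one_mem K)), mul_comm]
    obtain ⟨c, hc, hcK⟩ := SetLike.exists_of_lt
      (lt_of_le_of_ne (sup_le hK (zpowers_le.2 ha)) hKa)
    have : NeZero p := ⟨hp.out.ne_zero⟩
    let f : ZMod p × ZMod p → M := fun q => (a ^ q.1.val * c ^ q.2.val) m
    have hrec : ∀ (z : MulAut M) (u : M), z ∈ Z → z ∉ K → u ∈ part Z K → z u = u → u ∈ T := by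
      intro z u hz hzK hu hfix
      have hle : K ⊔ zpowers z ≤ Z := sup_le hK (zpowers_le.2 hz)
      have hlt : K < K ⊔ zpowers z := lt_of_le_of_ne le_sup_left fun e =>
        hzK (e ▸ mem_sup_right (mem_zpowers z))
      have h1 : Nat.card K < Nat.card ↥(K ⊔ zpowers z) := by
        by_contra hle'
        exact hlt.ne (eq_of_le_of_card_ge le_sup_left (not_lt.1 hle'))
      have h3 := card_le_of_le hle
      exact ih _ (by omega) _ hle rfl ⟨fix_sup hu.1 hfix, hu.2⟩
    have hmod : ∀ (z : MulAut M), z ∈ Z → ∀ k : ℕ, z ^ (k % p) = z ^ k := fun z hz k => by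
      conv_rhs => rw [← Nat.mod_add_div k p, pow_add, pow_mul, hZp z hz, one_pow, mul_one]
    have hf_mem : ∀ q, f q ∈ part Z K := fun q =>
      apply_mem_part Z hZc hK (mul_mem (pow_mem ha _) (pow_mem hc _)) hm
    have hca : ∀ i j : ℕ, c ^ j * a ^ i = a ^ i * c ^ j := fun i j =>
      hZc _ (pow_mem hc j) _ (pow_mem ha i)
    have hline : ∀ j : ZMod p, (∏ i : ZMod p, f (i, i * j)) ∈ T := by
      intro j
      refine hrec (a * c ^ j.val) _ (mul_mem ha (pow_mem hc _)) (fun h => ?_) (prod_mem fun i _ => hf_mem _) ?_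
      · by_cases hj : j = 0
        · exact haK (by simpa [hj] using h)
        · refine hcK ?_
          have h1 : c ^ j.val ∈ K ⊔ zpowers a := by
            simpa using mul_mem (inv_mem (mem_sup_right (mem_zpowers a) : a ∈ K ⊔ zpowers a)) (mem_sup_left h)
          have h3 : (c ^ j.val) ^ (j⁻¹ : ZMod p).val = c := by
            rw [← pow_mul, ← hmod c hc, ← ZMod.val_mul, mul_inv_cancel₀ hj]
            simp [ZMod.val_one]
          exact h3 ▸ pow_mem h1 _
      · rw [map_prod]
        refine Eq.trans (Finset.prod_congr rfl fun i _ => ?_) (Equiv.prod_comp (Equiv.addRight (1 : ZMod p))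
          fun i => f (i, i * j))
        show ((a * c ^ j.val) * (a ^ i.val * c ^ (i * j).val)) m = (a ^ (i + 1).val * c ^ ((i + 1) * j).val) m
        congr 1
        rw [add_mul, one_mul, ZMod.val_add, ZMod.val_add, hmod a ha, hmod c hc, ZMod.val_one, pow_add, pow_add,
          pow_one]
        calc a * c ^ j.val * (a ^ i.val * c ^ (i * j).val) = a * (c ^ j.val * a ^ i.val) * c ^ (i * j).val := by
              group
          _ = a * (a ^ i.val * c ^ j.val) * c ^ (i * j).val := by rw [hca]
          _ = (a * a ^ i.val) * (c ^ j.val * c ^ (i * j).val) := by group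
          _ = _ := by rw [(Commute.self_pow a _).eq, ← pow_add, ← pow_add, add_comm j.val]
    have hvert : (∏ k : ZMod p, f (0, k)) ∈ T := by
      refine hrec c _ hc (fun h => hcK (mem_sup_left h)) (prod_mem fun i _ => hf_mem _) ?_
      rw [map_prod]
      refine Eq.trans (Finset.prod_congr rfl fun i _ => ?_) (Equiv.prod_comp (Equiv.addRight (1 : ZMod p))
        fun i => f (0, i))
      show (c * (a ^ (0 : ZMod p).val * c ^ i.val)) m = (a ^ (0 : ZMod p).val * c ^ (i + 1).val) m
      congr 1
      rw [ZMod.val_zero, pow_zero, one_mul, one_mul, ZMod.val_add, hmod c hc, ZMod.val_one, pow_succ']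
    have hall : (∏ q : ZMod p × ZMod p, f q) ∈ T := by
      refine hrec c _ hc (fun h => hcK (mem_sup_left h)) (prod_mem fun i _ => hf_mem _) ?_
      rw [map_prod]
      refine Eq.trans (Finset.prod_congr rfl fun q _ => ?_)
        (Equiv.prod_comp ((Equiv.refl (ZMod p)).prodCongr (Equiv.addRight (1 : ZMod p))) f)
      show (c * (a ^ q.1.val * c ^ q.2.val)) m = (a ^ q.1.val * c ^ (q.2 + 1).val) m
      congr 1
      rw [ZMod.val_add, hmod c hc, ZMod.val_one, pow_succ, ← mul_assoc, ← mul_assoc]
      calc c * a ^ q.1.val * c ^ q.2.val = (a ^ q.1.val * c) * c ^ q.2.val := by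
            rw [hZc c hc _ (pow_mem ha _)]
        _ = _ := by rw [mul_assoc, (Commute.self_pow c _).eq, mul_assoc]
    have hsplit := prod_split (M := M) hp.out f
    rw [show f (0, 0) = m by simp [f], pow_odd h2 m (hp.out.odd_of_ne_two hp2)] at hsplit
    have hmT := mul_mem (mul_mem (prod_mem (t := Finset.univ) fun j _ => hline j) hvert) (inv_mem hall)
    rw [hsplit, mul_inv_cancel_right] at hmT
    exact hmT

include hp2 hZc hZp in
/-- The displacements lie in the fixed points of the group or in one homogeneous part. -/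
theorem exists_part {x : MulAut M} (hx : x ^ 3 = 1) (hV : Nat.card (delta x).range = 4)
    (hxZ : ∀ g ∈ Z, x * g * x⁻¹ ∈ Z) :
    (delta x).range ≤ fix Z ∨
      ∃ Y ≤ Z, Nat.card Z = p * Nat.card Y ∧ (delta x).range ≤ part Z Y ∧ (∀ u ∈ part Z Y, x u ∈ part Z Y) ∧
        (∀ g ∈ Y, x * g * x⁻¹ ∈ Y) := by
  classical
  have hodd := odd_card h2 hp2 Z hZp
  have hxinv : ∀ g ∈ Z, x⁻¹ * g * x ∈ Z := fun g hg => by
    have e : x⁻¹ = x ^ 2 := inv_eq_of_mul_eq_one_right (by rw [← pow_succ', hx])
    have h := hxZ _ (hxZ g hg)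
    rw [e]
    rw [show x * (x * g * x⁻¹) * x⁻¹ = x ^ 2 * g * (x ^ 2)⁻¹ by rw [pow_two, mul_inv_rev]; simp only [mul_assoc], ← e, inv_inv] at h
    rw [← e]
    exact h
  have hxfix : ∀ m ∈ fix Z, x m ∈ fix Z := fun m hm g hg => by
    have h1 := hm _ (hxinv g hg)
    have h3 := congrArg x h1
    rwa [show x ((x⁻¹ * g * x) m) = g (x m) from DFunLike.congr_fun (by group : x * (x⁻¹ * g * x) = g * x) m] at h3
  have hxker : ∀ m ∈ (sigma Z).ker, x m ∈ (sigma Z).ker := fun m hm => by
    rw [MonoidHom.mem_ker, sigma_comm Z hxZ, MonoidHom.mem_ker.1 hm, map_one]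
  have hdinv : ∀ (W : Subgroup M), (∀ m ∈ W, x m ∈ W) → (W.map (delta x) = ⊥ ∨ (delta x).range ≤ W) := by
    intro W hW
    have hmap : ∀ v ∈ W.map (delta x), x v ∈ W.map (delta x) := by
      rintro _ ⟨m, hm, rfl⟩
      exact ⟨x m, hW m hm, by rw [delta_apply, delta_apply, map_mul, map_inv]⟩
    rcases irreducible h2 hx hV _ hmap (map_le_range (delta x) W) with h | h
    · exact Or.inl h
    · refine Or.inr (h ▸ ?_)
      rintro _ ⟨m, hm, rfl⟩
      exact mul_mem (hW m hm) (inv_mem hm)
  rcases hdinv (fix Z) hxfix with hC | hC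
  swap; · exact Or.inl hC
  right
  set T := ⨆ Y ∈ {Y : Subgroup (MulAut M) | Y ≤ Z ∧ Nat.card Z = p * Nat.card Y}, part Z Y with hTdef
  obtain ⟨Y, ⟨hY, hYc⟩, hYne⟩ : ∃ Y ∈ {Y : Subgroup (MulAut M) | Y ≤ Z ∧ Nat.card Z = p * Nat.card Y},
      ¬ part Z Y ≤ (delta x).ker := by
    by_contra hno
    push Not at hno
    have hT : T ≤ (delta x).ker := iSup₂_le hno
    have hall : ∀ m, delta x m = 1 := by
      intro m
      have h1 : sigma Z m ∈ fix Z := fun g hg => apply_sigma Z hg m
      have h3 : m * sigma Z m ∈ (sigma Z).ker := by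
        rw [MonoidHom.mem_ker, map_mul, sigma_of_fix h2 Z hodd h1, h2]
      have e1 : delta x (sigma Z m) = 1 := by
        rw [← mem_bot, ← hC]; exact mem_map_of_mem _ h1
      have e2 : delta x (m * sigma Z m) = 1 := MonoidHom.mem_ker.1 (hT (generation h2 hp2 Z hZc hZp _ h3))
      rwa [map_mul, e1, mul_one] at e2
    have : (delta x).range = ⊥ := eq_bot_iff.2 (by rintro _ ⟨m, rfl⟩; exact hall m)
    rw [this, card_bot] at hV
    omega
  have hconj : ∀ (W : Subgroup (MulAut M)), W ≤ Z → W.map (MulAut.conj x).toMonoidHom ≤ Z := by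
    rintro W hW _ ⟨g, hg, rfl⟩
    simpa using hxZ g (hW hg)
  set Y' := Y.map (MulAut.conj x).toMonoidHom with hY'
  set Y'' := Y'.map (MulAut.conj x).toMonoidHom with hY''
  have hcard : ∀ W : Subgroup (MulAut M), Nat.card (W.map (MulAut.conj x).toMonoidHom) = Nat.card W := fun W =>
    card_map_of_injective (MulAut.conj x).injective
  have hY3 : Y''.map (MulAut.conj x).toMonoidHom = Y := by
    rw [hY'', hY', map_map, map_map]
    have : (MulAut.conj x).toMonoidHom.comp ((MulAut.conj x).toMonoidHom.comp (MulAut.conj x).toMonoidHom) =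
        MonoidHom.id _ := MonoidHom.ext fun g => by
      show x * (x * (x * g * x⁻¹) * x⁻¹) * x⁻¹ = g
      calc x * (x * (x * g * x⁻¹) * x⁻¹) * x⁻¹ = x ^ 3 * g * (x ^ 3)⁻¹ := by
            rw [show x ^ 3 = x * x * x by simp [pow_succ]]; group
        _ = g := by rw [hx, inv_one, one_mul, mul_one]
    rw [MonoidHom.comp_assoc, this, map_id]
  have hmove : ∀ (W : Subgroup (MulAut M)) (u : M), u ∈ part Z W → x u ∈ part Z (W.map (MulAut.conj x).toMonoidHom) := by
    intro W u hu
    refine ⟨?_, hxker _ hu.2⟩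
    rintro _ ⟨g, hg, rfl⟩
    show (x * g * x⁻¹) (x u) = x u
    have : (x * g * x⁻¹) (x u) = x (g u) := DFunLike.congr_fun (by group : x * g * x⁻¹ * x = x * g) u
    rw [this, hu.1 g hg]
  by_cases hfix : Y' = Y
  · have hinv : ∀ u ∈ part Z Y, x u ∈ part Z Y := fun u hu => hfix ▸ hmove Y u hu
    refine ⟨Y, hY, hYc, (hdinv _ hinv).resolve_left fun h => hYne fun m hm => ?_, hinv,
      fun g hg => hfix ▸ mem_map_of_mem _ hg⟩
    rw [MonoidHom.mem_ker, ← mem_bot, ← h]
    exact mem_map_of_mem _ hm
  exfalso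
  have hsup : ∀ A B : Subgroup (MulAut M), A ≤ Z → B ≤ Z → Nat.card Z = p * Nat.card A → Nat.card B = Nat.card A →
      A ≠ B → A ⊔ B = Z := by
    intro A B hA hB hAc hBc hne
    have hlt : A < A ⊔ B := lt_of_le_of_ne le_sup_left fun e =>
      hne (eq_of_le_of_card_ge (show B ≤ A from e ▸ le_sup_right) hBc.ge).symm
    refine eq_of_le_of_card_ge (sup_le hA hB) ?_
    obtain ⟨k, hk⟩ := card_dvd_of_le (le_sup_left : A ≤ A ⊔ B)
    have hd := card_dvd_of_le (sup_le hA hB)
    have hne' : Nat.card A ≠ Nat.card ↥(A ⊔ B) := fun e => hlt.ne (eq_of_le_of_card_ge le_sup_left e.ge)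
    rw [hAc, hk] at hd
    have : k ∣ p := by
      rw [mul_comm p] at hd
      exact Nat.dvd_of_mul_dvd_mul_left Nat.card_pos hd
    rcases (Nat.dvd_prime hp.out).1 this with rfl | rfl
    · exact absurd (by rw [hk, mul_one]) hne'
    · rw [hAc, hk, mul_comm]
  have hY'Z : Y' ≤ Z := hconj Y hY
  have hY''Z : Y'' ≤ Z := hconj Y' hY'Z
  have e01 : Y ⊔ Y' = Z := hsup Y Y' hY hY'Z hYc (hcard Y) (Ne.symm hfix)
  have hY''Y : Y ≠ Y'' := fun e => hfix (by
    conv_rhs => rw [← hY3]
    rw [← e])
  have e02 : Y ⊔ Y'' = Z := hsup Y Y'' hY hY''Z hYc ((hcard Y').trans (hcard Y)) hY''Y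
  have e12 : Y' ⊔ Y'' = Z := hsup Y' Y'' hY'Z hY''Z (by rw [hYc, hY', hcard]) (hcard Y') fun e =>
    hfix (by
      have hinj : Function.Injective fun W : Subgroup (MulAut M) => W.map (MulAut.conj x).toMonoidHom :=
        map_injective (MulAut.conj x).injective
      exact (hinj e).symm)
  let ψ : part Z Y × part Z Y → (delta x).range := fun uv =>
    ⟨delta x uv.1 * delta x (x uv.2), mul_mem ⟨_, rfl⟩ ⟨_, rfl⟩⟩
  have hψ : Function.Injective ψ := by
    rintro ⟨u, v⟩ ⟨u', v'⟩ h
    have h' : delta x u * delta x (x v) = delta x u' * delta x (x v') := congrArg Subtype.val h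
    have hA : (u : M) * u' ∈ part Z Y := mul_mem u.2 u'.2
    have hB : (v : M) * v' ∈ part Z Y := mul_mem v.2 v'.2
    set A := (u : M) * u'
    set B := (v : M) * v'
    have h3 : delta x A * delta x (x B) = 1 := by
      rw [show delta x A * delta x (x B) = (delta x u * delta x (x v)) * (delta x u' * delta x (x v')) by
        simp only [A, B, map_mul]; ac_rfl, h', h2]
    have hzero : A * (x A * x B) * x (x B) = 1 := by
      rw [← h3, delta_apply, delta_apply, inv_eq' h2, inv_eq' h2]; ac_rfl
    obtain ⟨a1, -, a3⟩ := independent h2 hp2 Z hZc hZp hY hY'Z hY''Z e01 e02 e12 hA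
      (mul_mem (hmove Y A hA) (hmove Y B hB)) (hmove Y' _ (hmove Y B hB)) hzero
    have hB1 : B = 1 := x.injective (x.injective (by rw [a3, map_one, map_one]))
    exact Prod.ext (Subtype.ext (eq_of_mul_eq_one' h2 a1)) (Subtype.ext (eq_of_mul_eq_one' h2 hB1))
  have hle := Nat.card_le_card_of_injective ψ hψ
  rw [Nat.card_prod, hV] at hle
  obtain ⟨u, hu, hune⟩ := SetLike.not_le_iff_exists.1 hYne
  have hu1 : u ≠ 1 := fun e => hune (e ▸ one_mem _)
  obtain ⟨z, hz, hzu⟩ : ∃ z ∈ Z, z u ≠ u := by
    by_contra hno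
    push Not at hno
    exact hu1 (eq_one_of_fix h2 hp2 Z hZp hu.2 hno)
  have h3 : 3 ≤ Nat.card (part Z Y) := by
    have hsub : (({1, u, z u} : Finset M) : Set M) ⊆ part Z Y := by
      intro y hy
      simp only [Finset.coe_insert, Finset.coe_singleton, Set.mem_insert_iff, Set.mem_singleton_iff] at hy
      rcases hy with rfl | rfl | rfl
      exacts [one_mem _, hu, apply_mem_part Z hZc hY hz hu]
    have := Set.ncard_le_ncard hsub (Set.toFinite _)
    rw [Set.ncard_coe_finset, Finset.card_insert_of_notMem (by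
      simp only [Finset.mem_insert, Finset.mem_singleton, not_or]
      exact ⟨Ne.symm hu1, fun e => hu1 (z.injective (e.symm.trans (map_one z).symm))⟩),
      Finset.card_insert_of_notMem (by simp [Ne.symm hzu]), Finset.card_singleton] at this
    exact this
  nlinarith

include hp2 in
/-- The elementary abelian case. -/
theorem bound_elementary {x : MulAut M} (hx : x ^ 3 = 1) (hV : Nat.card (delta x).range = 4)
    (hZc' : ∀ a ∈ Z, ∀ b ∈ Z, a * b = b * a) (hZp' : ∀ a ∈ Z, a ^ p = 1) (hxZ : ∀ g ∈ Z, x * g * x⁻¹ ∈ Z) :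
    ∃ K ≤ Z, Nat.card Z ≤ p * Nat.card K ∧ (delta x).range ≤ fix K := by
  rcases exists_part h2 hp2 Z hZc' hZp' hx hV hxZ with h | ⟨Y, hY, hYc, h, -, -⟩
  · exact ⟨Z, le_rfl, Nat.le_mul_of_pos_left _ hp.out.pos, h⟩
  · exact ⟨Y, hY, hYc.le, h.trans inf_le_left⟩

end Exponent

/-- Restriction of an automorphism to an invariant subgroup. -/
noncomputable def res [Finite M] (φ : MulAut M) (C : Subgroup M) (h : ∀ m ∈ C, φ m ∈ C) : MulAut C :=
  MulEquiv.ofBijective
    (MonoidHom.mk' (fun m : C => (⟨φ m, h m m.2⟩ : C)) fun a b => Subtype.ext (map_mul φ (a : M) b))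
    (Finite.injective_iff_bijective.1 fun a b e => Subtype.ext (φ.injective (congrArg Subtype.val e)))

theorem coe_res [Finite M] (φ : MulAut M) (C : Subgroup M) (h : ∀ m ∈ C, φ m ∈ C) (m : C) :
    ((res φ C h m : C) : M) = φ m := rfl

theorem small_arith {p a b : ℕ} (hp : p.Prime) (hp2 : p ≠ 2) (hp3 : p ≠ 3) (ha : a ≤ 4) (hb : 1 ≤ b) (hba : b < a)
    (h1 : 2 ^ a ≡ 1 [MOD p]) (h2 : 2 ^ a ≡ 2 ^ b [MOD p]) : False := by
  have d1 : p ∣ 2 ^ a - 1 := (Nat.modEq_iff_dvd' Nat.one_le_two_pow).1 h1.symm
  have d2 : p ∣ 2 ^ a - 2 ^ b := (Nat.modEq_iff_dvd' (Nat.pow_le_pow_right (by norm_num) hba.le)).1 h2.symm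
  have d3 : p ∣ Nat.gcd (2 ^ a - 1) (2 ^ a - 2 ^ b) := Nat.dvd_gcd d1 d2
  interval_cases a <;> interval_cases b <;> norm_num at d3 <;>
    first
      | exact hp.ne_one d3
      | exact hp3 ((Nat.prime_dvd_prime_iff_eq hp Nat.prime_three).1 d3)

universe u

/-- The general bound. -/
theorem bound_pGroup {p : ℕ} [hp : Fact p.Prime] (hp2 : p ≠ 2) (hp3 : p ≠ 3) :
    ∀ (n : ℕ) (M : Type u) [CommGroup M] [Finite M], Nat.card M = n → (∀ m : M, m * m = 1) →
      ∀ x : MulAut M, x ^ 3 = 1 → Nat.card (delta x).range = 4 → ∀ P : Subgroup (MulAut M), IsPGroup p P →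
        (∀ g ∈ P, x * g * x⁻¹ ∈ P) → ∃ K ≤ P, Nat.card P ≤ p * Nat.card K ∧ (delta x).range ≤ fix K := by
  intro n
  induction n using Nat.strong_induction_on with
  | _ n ih =>
    intro M _ _ hn h2 x hx hV P hP hxP
    classical
    by_cases hP1 : P = ⊥
    · subst hP1
      exact ⟨⊥, le_rfl, Nat.le_mul_of_pos_left _ hp.out.pos, fun v _ y hy => by rw [mem_bot.1 hy]; rfl⟩
    let Z : Subgroup (MulAut M) :=
      { carrier := {z | z ∈ P ∧ z ^ p = 1 ∧ ∀ g ∈ P, g * z = z * g}
        one_mem' := ⟨one_mem P, one_pow p, fun g _ => by rw [mul_one, one_mul]⟩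
        mul_mem' := fun {a b} ha hb => ⟨mul_mem ha.1 hb.1, by
          rw [Commute.mul_pow (show Commute a b from hb.2.2 a ha.1), ha.2.1, hb.2.1, one_mul], fun g hg =>
            ((show Commute g a from ha.2.2 g hg).mul_right (show Commute g b from hb.2.2 g hg)).eq⟩
        inv_mem' := fun {a} ha => ⟨inv_mem ha.1, by rw [inv_pow, ha.2.1, inv_one], fun g hg =>
          (show Commute g a from ha.2.2 g hg).inv_right.eq⟩ }
    obtain ⟨z₀, hz₀, hz₀1⟩ : ∃ z ∈ Z, z ≠ 1 := by
      have : Nontrivial P := (Subgroup.nontrivial_iff_ne_bot P).2 hP1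
      obtain ⟨k, hk0, hk⟩ := (IsPGroup.nontrivial_iff_card (hP.to_subgroup (center P))).1 hP.center_nontrivial
      obtain ⟨c, hc⟩ := exists_prime_orderOf_dvd_card' (G := center P) p (hk ▸ dvd_pow_self p hk0.ne')
      refine ⟨((c : P) : MulAut M), ⟨(c : P).2, ?_, fun g hg => congrArg Subtype.val (mem_center_iff.1 c.2 ⟨g, hg⟩)⟩, ?_⟩
      · rw [← Subgroup.coe_pow, ← Subgroup.coe_pow, ← hc, pow_orderOf_eq_one]; rfl
      · intro e
        have : c = 1 := Subtype.ext (Subtype.ext e)
        rw [this, orderOf_one] at hc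
        exact hp.out.ne_one hc.symm
    have hZc : ∀ a ∈ Z, ∀ b ∈ Z, a * b = b * a := fun a ha b hb => hb.2.2 a ha.1
    have hZp : ∀ a ∈ Z, a ^ p = 1 := fun a ha => ha.2.1
    have hx3 : x⁻¹ = x * x := inv_eq_of_mul_eq_one_right (by rw [← hx]; simp [pow_succ, mul_assoc])
    have hxPinv : ∀ g ∈ P, x⁻¹ * g * x ∈ P := fun g hg => by
      have h := hxP _ (hxP g hg)
      have h3 : x * x * x = 1 := by rw [← hx]; simp [pow_succ]
      have e : x * (x * g * x⁻¹) * x⁻¹ = x⁻¹ * g * x := by
        rw [hx3]
        calc x * (x * g * (x * x)) * (x * x) = x * x * g * (x * x * x) * x := by simp only [mul_assoc]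
          _ = x * x * g * x := by rw [h3, mul_one]
      rwa [e] at h
    have hxZ : ∀ g ∈ Z, x * g * x⁻¹ ∈ Z := fun g hg => by
      refine ⟨hxP g hg.1, by rw [conj_pow, hg.2.1, mul_one, mul_inv_cancel], fun h hh => ?_⟩
      have e := hg.2.2 _ (hxPinv h hh)
      calc h * (x * g * x⁻¹) = x * ((x⁻¹ * h * x) * g) * x⁻¹ := by group
        _ = x * (g * (x⁻¹ * h * x)) * x⁻¹ := by rw [e]
        _ = x * g * x⁻¹ * h := by group
    rcases exists_part h2 hp2 Z hZc hZp hx hV hxZ with hC | ⟨Y, hY, hYc, hVU, hxU, hxY⟩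
    · -- restrict to the fixed points
      set C := fix Z with hCdef
      have hgC : ∀ g ∈ P, ∀ m ∈ C, g m ∈ C := fun g hg m hm y hy => by
        have : y (g m) = g (y m) := DFunLike.congr_fun (hy.2.2 g hg).symm m
        rw [this, hm y hy]
      have hxC : ∀ m ∈ C, x m ∈ C := fun m hm y hy => by
        have h1 : (x⁻¹ * y * x) ∈ Z := by
          refine ⟨hxPinv y hy.1, by
            rw [show x⁻¹ * y * x = x⁻¹ * y * x⁻¹⁻¹ by rw [inv_inv], conj_pow, hy.2.1, mul_one, mul_inv_cancel], fun h hh => ?_⟩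
          have e := hy.2.2 _ (hxP h hh)
          calc h * (x⁻¹ * y * x) = x⁻¹ * ((x * h * x⁻¹) * y) * x := by group
            _ = x⁻¹ * (y * (x * h * x⁻¹)) * x := by rw [e]
            _ = x⁻¹ * y * x * h := by group
        have h3 := congrArg x (hm _ h1)
        rwa [show x ((x⁻¹ * y * x) m) = y (x m) from DFunLike.congr_fun (by group : x * (x⁻¹ * y * x) = y * x) m] at h3
      have hlt : Nat.card C < n := by
        rw [← hn]
        refine lt_of_le_of_ne (Subgroup.card_le_card_group C) fun e => hz₀1 (MulEquiv.ext fun m => ?_)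
        have : m ∈ C := (Subgroup.eq_top_of_card_eq C e) ▸ mem_top m
        exact this z₀ hz₀
      let r : P →* MulAut C := MonoidHom.mk' (fun g => res (g : MulAut M) C (hgC g g.2))
        (fun a b => MulEquiv.ext fun m => Subtype.ext rfl)
      let xC := res x C hxC
      have hmap : ((delta xC).range).map C.subtype = (delta x).range := by
        refine ((irreducible h2 hx hV _ ?_ ?_).resolve_left ?_)
        · rintro _ ⟨_, ⟨m, rfl⟩, rfl⟩
          exact ⟨delta xC (xC m), ⟨_, rfl⟩, by simp [delta_apply, xC, coe_res]⟩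
        · rintro _ ⟨_, ⟨m, rfl⟩, rfl⟩
          exact ⟨m, rfl⟩
        · intro hb
          have hne : (delta x).range ≠ ⊥ := fun e => by rw [e, card_bot] at hV; omega
          refine hne (eq_bot_iff.2 ?_)
          rintro _ ⟨m, rfl⟩
          have hmem : delta x m ∈ C := hC ⟨m, rfl⟩
          have h0 : delta x (delta x m) ∈ ((delta xC).range).map C.subtype := ⟨delta xC ⟨_, hmem⟩, ⟨_, rfl⟩, rfl⟩
          rw [hb, mem_bot, delta_apply x (delta x m), mul_inv_eq_one] at h0
          exact delta_fix_eq_one h2 hx h0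
      obtain ⟨K', hK', hK'c, hK'f⟩ := ih _ hlt C rfl (fun m => Subtype.ext (h2 m)) xC
        (MulEquiv.ext fun m => Subtype.ext (by
          show ((xC (xC (xC m)) : C) : M) = m
          exact pow_three_apply hx (m : M)))
        (by rw [← card_map_of_injective C.subtype_injective, hmap, hV]) r.range
        (hP.of_surjective r.rangeRestrict r.rangeRestrict_surjective)
        (by
          rintro _ ⟨g, rfl⟩
          refine ⟨⟨x * g * x⁻¹, hxP g g.2⟩, ?_⟩
          rw [eq_mul_inv_iff_mul_eq]
          refine MulEquiv.ext fun m => Subtype.ext ?_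
          show (x * (g : MulAut M) * x⁻¹) (x m) = x ((g : MulAut M) m)
          exact DFunLike.congr_fun (by group : x * (g : MulAut M) * x⁻¹ * x = x * g) (m : M))
      refine ⟨(K'.comap r).map P.subtype, map_subtype_le _, ?_, ?_⟩
      · rw [card_map_of_injective P.subtype_injective, ← card_mul_index (K'.comap r), index_comap, mul_comm]
        refine Nat.mul_le_mul_right _ (Nat.le_of_mul_le_mul_right ?_ (Nat.card_pos (α := K')))
        rw [← relIndex_bot_left K', mul_comm (K'.relIndex _), relIndex_mul_relIndex _ _ _ bot_le hK',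
          relIndex_bot_left, relIndex_bot_left]
        exact hK'c
      · intro v hv
        rw [← hmap] at hv
        obtain ⟨w, hw, rfl⟩ := hv
        rintro _ ⟨g, hg, rfl⟩
        exact congrArg Subtype.val (hK'f hw (r g) hg)
    · -- one homogeneous part
      set U := part Z Y with hUdef
      have hZodd := odd_card h2 hp2 Z hZp
      have hgU : ∀ g ∈ P, ∀ u ∈ U, g u ∈ U := fun g hg u hu => by
        refine ⟨fun y hy => ?_, ?_⟩
        · have : y (g u) = g (y u) := DFunLike.congr_fun ((hY hy).2.2 g hg).symm u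
          rw [this, hu.1 y hy]
        · show sigma Z (g u) = 1
          rw [sigma_comm Z (fun a ha => by rw [ha.2.2 g hg, mul_inv_cancel_right]; exact ha) u,
            MonoidHom.mem_ker.1 hu.2, map_one]
      obtain ⟨z, hz, hzY⟩ := SetLike.exists_of_lt (lt_of_le_of_ne hY fun e => by
        rw [e] at hYc
        nlinarith [hp.out.two_le, Nat.card_pos (α := Z)])
      have hfpf : ∀ w ∈ Z, w ∉ Y → ∀ u ∈ U, w u = u → u = 1 := by
        intro w hw hwY u hu hwu
        refine eq_one_of_fix h2 hp2 Z hZp hu.2 ?_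
        have hle : Y ⊔ zpowers w ≤ Z := sup_le hY (zpowers_le.2 hw)
        have htop : Y ⊔ zpowers w = Z := by
          refine eq_of_le_of_card_ge hle ?_
          have hlt : Y < Y ⊔ zpowers w := lt_of_le_of_ne le_sup_left fun e =>
            hwY (e ▸ mem_sup_right (mem_zpowers w))
          obtain ⟨k, hk⟩ := card_dvd_of_le (le_sup_left : Y ≤ Y ⊔ zpowers w)
          have hd := card_dvd_of_le hle
          rw [hYc, hk, mul_comm p] at hd
          rcases (Nat.dvd_prime hp.out).1 (Nat.dvd_of_mul_dvd_mul_left Nat.card_pos hd) with rfl | rfl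
          · exact absurd (eq_of_le_of_card_ge le_sup_left (by rw [hk, mul_one])) hlt.ne
          · rw [hk, hYc, mul_comm]
        exact htop ▸ fix_sup hu.1 hwu
      obtain ⟨v, hv, hv1⟩ : ∃ v ∈ (delta x).range, v ≠ 1 := by
        refine (delta x).range.bot_or_exists_ne_one.resolve_left fun e => ?_
        rw [e, card_bot] at hV; omega
      -- the two parts of the coprime action on `U`
      have hcong : ∀ (Q : Subgroup (MulAut M)), Q ≤ P → (∀ g ∈ Q, ∀ u ∈ U, g u ∈ U) →
          ∀ F : Subgroup M, (∀ u, u ∈ F ↔ u ∈ U ∧ ∀ g ∈ Q, g u = u) → Nat.card U ≡ Nat.card F [MOD p] := by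
        intro Q hQ hQU F hF
        let rQ : Q →* MulAut U := MonoidHom.mk' (fun g => res (g : MulAut M) U (hQU g g.2))
          (fun a b => MulEquiv.ext fun m => Subtype.ext rfl)
        have hQp : IsPGroup p rQ.range :=
          (hP.to_le hQ).of_surjective rQ.rangeRestrict rQ.rangeRestrict_surjective
        have e : MulAction.fixedPoints rQ.range U ≃ F :=
          { toFun := fun u => ⟨u.1, (hF _).2 ⟨u.1.2, fun g hg => congrArg Subtype.val (u.2 ⟨rQ ⟨g, hg⟩, ⟨⟨g, hg⟩, rfl⟩⟩)⟩⟩
            invFun := fun u => ⟨⟨u.1, ((hF _).1 u.2).1⟩, by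
              rintro ⟨_, g, rfl⟩
              exact Subtype.ext (((hF _).1 u.2).2 g g.2)⟩
            left_inv := fun u => Subtype.ext (Subtype.ext rfl)
            right_inv := fun u => Subtype.ext rfl }
        rw [← Nat.card_congr e]
        exact hQp.card_modEq_card_fixedPoints U
      have hU1 : Nat.card U ≡ 1 [MOD p] := by
        rw [← card_bot (G := M)]
        refine hcong (zpowers z) (zpowers_le.2 hz.1) (fun g hg => hgU g (zpowers_le.2 hz.1 hg)) ⊥ fun u => ?_
        constructor
        · intro hu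
          rw [mem_bot.1 hu]
          exact ⟨one_mem _, fun g _ => map_one g⟩
        · exact fun hu => mem_bot.2 (hfpf z hz hzY u hu.1 (hu.2 z (mem_zpowers z)))
      have hU16 : Nat.card U ≤ 16 := by
        by_cases hcomm : z⁻¹ * (x * z * x⁻¹) ∈ Y
        · exfalso
          have hzx : ∀ u ∈ U, z (x u) = x (z u) := by
            intro u hu
            have h1 := (hxU u hu).1 _ hcomm
            have h3 := congrArg z h1
            rw [← h3]
            exact DFunLike.congr_fun (by group : z * (z⁻¹ * (x * z * x⁻¹)) * x = x * z) u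
          have hvU : v ∈ U := hVU hv
          have hpow : ∀ j : ℕ, (z ^ j) v ∈ (delta x).range := by
            intro j
            induction j with
            | zero => exact hv
            | succ j ihj =>
              obtain ⟨m, hm⟩ := ihj
              have hw : (z ^ j) v ∈ U := hgU _ (pow_mem hz.1 j) _ hvU
              rw [pow_succ', MulAut.mul_apply, ← hm]
              -- the displacement is the image of a displacement on `U`
              obtain ⟨u, hu, hue⟩ : ∃ u ∈ U, delta x u = delta x m := by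
                have hmapU : U.map (delta x) = (delta x).range := by
                  refine (irreducible h2 hx hV _ ?_ (map_le_range _ _)).resolve_left fun hb => ?_
                  · rintro _ ⟨a, ha, rfl⟩
                    exact ⟨x a, hxU a ha, by rw [delta_apply, delta_apply, map_mul, map_inv]⟩
                  · apply hv1
                    obtain ⟨a, rfl⟩ := hv
                    have h0 : delta x (delta x a) ∈ U.map (delta x) := mem_map_of_mem _ hvU
                    rw [hb, mem_bot, delta_apply x (delta x a), mul_inv_eq_one] at h0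
                    exact delta_fix_eq_one h2 hx h0
                obtain ⟨u, hu, hue⟩ := (hmapU ▸ (⟨m, rfl⟩ : delta x m ∈ (delta x).range) : delta x m ∈ U.map (delta x))
                exact ⟨u, hu, hue⟩
              refine ⟨z u, ?_⟩
              rw [← hue, delta_apply, delta_apply, map_mul, map_inv, hzx u hu]
          have hinj : Function.Injective fun j : Fin p => (⟨(z ^ (j : ℕ)) v, hpow _⟩ : (delta x).range) := by
            intro i j hij
            have hij' : (z ^ (i : ℕ)) v = (z ^ (j : ℕ)) v := congrArg Subtype.val hij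
            by_contra hne
            wlog hlt : (j : ℕ) ≤ i generalizing i j
            · exact this hij.symm hij'.symm (Ne.symm hne) (le_of_not_ge hlt)
            set d := (i : ℕ) - j with hd
            have hdv : (z ^ d) v = v := by
              apply (z ^ (j : ℕ)).injective
              rw [← MulAut.mul_apply, ← pow_add, hd, Nat.add_sub_cancel' hlt, hij']
            refine hv1 (hfpf (z ^ d) (pow_mem hz d) (fun hmem => hzY ?_) v hvU hdv)
            have hd0 : d ≠ 0 := fun e => hne (Fin.ext (by omega))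
            have hcop : d.Coprime (orderOf z) := by
              refine Nat.Coprime.coprime_dvd_right (orderOf_dvd_of_pow_eq_one (hZp z hz)) ?_
              exact ((hp.out.coprime_iff_not_dvd).2 fun hdd => by
                have := Nat.le_of_dvd (Nat.pos_of_ne_zero hd0) hdd
                have := i.2
                omega).symm
            exact zpowers_le.2 hmem (mem_zpowers_pow_iff.2 hcop)
          have := Nat.card_le_card_of_injective _ hinj
          rw [Nat.card_fin, hV] at this
          have := hp.out.two_le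
          interval_cases p <;> first | omega | exact absurd hp.out (by norm_num)
        · have hzz : x * z * x⁻¹ ∈ Z := hxZ z hz
          let φ : (U ⊓ (delta x).ker : Subgroup M) → (delta x).range := fun f =>
            ⟨delta x (z f), ⟨_, rfl⟩⟩
          have hφ : Function.Injective φ := by
            intro f f' hff
            have hff' : delta x (z f) = delta x (z f') := congrArg Subtype.val hff
            set g := (f : M) * f'
            have hg : g ∈ U ⊓ (delta x).ker := mul_mem f.2 f'.2
            have hg0 : delta x (z g) = 1 := by rw [map_mul, map_mul, hff', h2]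
            have hxg : x g = g := mul_inv_eq_one.1 (MonoidHom.mem_ker.1 hg.2)
            have e : (x * z * x⁻¹) g = z g := by
              rw [delta_apply, mul_inv_eq_one] at hg0
              calc (x * z * x⁻¹) g = (x * z * x⁻¹) (x g) := by rw [hxg]
                _ = x (z g) := DFunLike.congr_fun (by group : x * z * x⁻¹ * x = x * z) g
                _ = z g := hg0
            have e2 : (z⁻¹ * (x * z * x⁻¹)) g = g := by
              rw [MulAut.mul_apply, e, ← MulAut.mul_apply, inv_mul_cancel]; rfl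
            exact Subtype.ext (eq_of_mul_eq_one' h2 (hfpf _ (mul_mem (inv_mem hz) hzz) hcomm g hg.1 e2))
          have h1 := Nat.card_le_card_of_injective φ hφ
          let dU : U →* (delta x).range := (delta x).rangeRestrict.comp U.subtype
          have hker : Nat.card dU.ker ≤ Nat.card (U ⊓ (delta x).ker : Subgroup M) :=
            Nat.card_le_card_of_injective
              (fun a => ⟨((a : U) : M), (a : U).2, congrArg Subtype.val (MonoidHom.mem_ker.1 a.2)⟩)
              (fun a b h => Subtype.ext (Subtype.ext (congrArg Subtype.val h :)))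
          have hcardU : Nat.card U = dU.ker.index * Nat.card dU.ker := (index_mul_card _).symm
          have hidx : dU.ker.index ≤ 4 := by
            rw [index_ker, ← hV]
            exact Subgroup.card_le_card_group _
          rw [hV] at h1
          nlinarith
      refine ⟨P ⊓ MulAction.stabilizer (MulAut M) v, inf_le_left, ?_, ?_⟩
      · have := Fintype.ofFinite P
        have := Fintype.ofFinite (MulAction.orbit P v)
        have := Fintype.ofFinite (MulAction.stabilizer P v)
        have horb := MulAction.card_orbit_mul_card_stabilizer_eq_card_group P v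
        simp only [← Nat.card_eq_fintype_card] at horb
        rw [← horb]
        refine Nat.mul_le_mul ?_ (le_of_eq ?_)
        · obtain ⟨k, hk⟩ := (show ∃ k, Nat.card (MulAction.orbit P v) = p ^ k from hP.card_orbit v)
          have hle : Nat.card (MulAction.orbit P v) ≤ 16 :=
            le_trans (Nat.card_le_card_of_injective
              (fun w : MulAction.orbit P v => (⟨w.1, by
                obtain ⟨g, hg⟩ := w.2
                exact hg ▸ hgU g g.2 v (hVU hv)⟩ : U))
              (fun a b h => Subtype.ext (congrArg Subtype.val h :))) hU16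
          rw [hk] at hle ⊢
          have hp5 : 5 ≤ p := by
            have := hp.out.two_le
            by_contra hlt
            interval_cases p <;> first | omega | exact absurd hp.out (by norm_num)
          calc p ^ k ≤ p ^ 1 := Nat.pow_le_pow_right hp.out.pos (by
                by_contra hk2
                have : p ^ 2 ≤ p ^ k := Nat.pow_le_pow_right hp.out.pos (by omega)
                nlinarith)
            _ = p := pow_one p
        · exact Nat.card_congr
            { toFun := fun g => ⟨g.1.1, g.1.2, g.2⟩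
              invFun := fun g => ⟨⟨g.1, g.2.1⟩, g.2.2⟩
              left_inv := fun g => rfl
              right_inv := fun g => rfl }
      · intro w hw
        set K := P ⊓ MulAction.stabilizer (MulAut M) v with hKdef
        let F : Subgroup M := U ⊓ fix K
        have hFmod := hcong K inf_le_left (fun g hg => hgU g hg.1) F fun u => Iff.rfl
        obtain ⟨a, ha⟩ : ∃ a, Nat.card U = 2 ^ a := IsPGroup.iff_card.1 fun m => ⟨1, Subtype.ext (by
          rw [pow_one, pow_two]; exact h2 m)⟩
        obtain ⟨b, hb⟩ : ∃ b, Nat.card F = 2 ^ b := IsPGroup.iff_card.1 fun m => ⟨1, Subtype.ext (by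
          rw [pow_one, pow_two]; exact h2 m)⟩
        have hFU : F = U := by
          by_contra hne
          have hlt : Nat.card F < Nat.card U := by
            by_contra hge
            exact hne (eq_of_le_of_card_ge inf_le_left (not_lt.1 hge))
          have hb1 : 1 ≤ b := by
            by_contra hb0
            obtain rfl : b = 0 := by omega
            have hbot : F = ⊥ := Subgroup.eq_bot_of_card_eq _ (by rw [hb, pow_zero])
            exact hv1 (mem_bot.1 (hbot ▸ (⟨hVU hv, fun g hg => hg.2⟩ : v ∈ F)))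
          have hba : b < a := by
            rw [ha, hb] at hlt
            exact (Nat.pow_lt_pow_iff_right (by norm_num)).1 hlt
          have ha4 : a ≤ 4 := by
            rw [ha] at hU16
            exact (Nat.pow_le_pow_iff_right (a := 2) (by norm_num)).1 (show 2 ^ a ≤ 2 ^ 4 from hU16)
          rw [ha, hb] at hFmod
          rw [ha] at hU1
          exact small_arith hp.out hp2 hp3 ha4 hb1 hba hU1 hFmod
        have : w ∈ F := hFU ▸ hVU hw
        exact this.2

end CfsgLib.PGroup.FourDisplacement
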