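import Cfsg.Agent.Lib.FGS.ThompsonKernel
import Cfsg.Agent.Lib.Cores.Basic

/-!
A finite solvable group with a fixed-point-free automorphism `σ`, `σ ^ 4 = 1`, has nilpotent
derived subgroup (Gorenstein–Herstein).
-/

set_option autoImplicit false

open scoped commutatorElement

namespace CfsgLib.PGroup.FpfFour

universe u

variable {G : Type u} [Group G]

theorem eq_inv_of_sq_fixed [Finite G] (σ : MulAut G) (hfix : ∀ x, σ x = x → x = 1) {z : G}
    (hz : σ (σ z) = z) : σ z = z⁻¹ := by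
  have hb := CfsgLib.FGS.bijective_inv_mul_apply σ hfix
  obtain ⟨w, hw⟩ := hb.2 z
  have hw' : w⁻¹ * σ w = z := hw
  have h1 : σ (σ w) = w := hb.1 (show (σ (σ w))⁻¹ * σ (σ (σ w)) = w⁻¹ * σ w by
    rw [hw', ← hz, ← hw']; simp)
  rw [← hw', map_mul, map_inv, h1, mul_inv_rev, inv_inv]

theorem pow_four_apply (σ : MulAut G) (hσ : σ ^ 4 = 1) (x : G) : σ (σ (σ (σ x))) = x :=
  calc σ (σ (σ (σ x))) = (σ ^ 4) x := rfl
    _ = x := by rw [hσ]; rfl

/-- A fixed-point-free automorphism with `σ ^ 4 = 1` forces odd order. -/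
theorem odd_card [Finite G] (σ : MulAut G) (hσ : σ ^ 4 = 1) (hfix : ∀ x, σ x = x → x = 1) :
    ¬ 2 ∣ Nat.card G := by
  classical
  intro h2
  haveI : Fact (Nat.Prime 2) := ⟨Nat.prime_two⟩
  obtain ⟨P, hP⟩ := CfsgLib.FGS.exists_invariant_sylow_fpf σ hfix 2
  haveI := Fintype.ofFinite (P : Subgroup G)
  obtain ⟨ψ, hψ⟩ := CfsgLib.FGS.exists_restrict_mulAut σ hP
  have hPc : 2 ∣ Fintype.card (P : Subgroup G) := by
    rw [← Nat.card_eq_fintype_card]; exact P.dvd_card_of_dvd_card h2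
  have hψ4 : (MulAut.toPerm (M := (P : Subgroup G)) ψ) ^ 2 ^ 2 = 1 := by
    rw [← map_pow]
    have : ψ ^ (2 ^ 2) = 1 := MulEquiv.ext fun x => Subtype.ext (by
      rw [hψ, show (2 : ℕ) ^ 2 = 4 from rfl, hσ]; rfl)
    rw [this, map_one]
  obtain ⟨b, hb, hb1⟩ := Equiv.Perm.exists_fixed_point_of_prime' hPc hψ4
    (a := (1 : (P : Subgroup G))) (map_one ψ)
  refine hb1 (Subtype.ext (hfix b ?_))
  have h := hψ 1 b
  rw [pow_one, pow_one] at h
  rw [← h]
  exact congrArg Subtype.val hb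

/-- The averaging argument for automorphisms with `ψ ^ 4 = 1`. -/
theorem trivial_of_average {V Q : Type*} [CommGroup V] [Group Q] [Finite Q]
    (α : Q →* MulAut V) (ψ : MulAut V) (σ : MulAut Q)
    (hcomm : ∀ x v, ψ (α x v) = α (σ x) (ψ v)) (hψ : ψ ^ 4 = 1)
    (hψfix : ∀ v, ψ v = v → v = 1) (h1 : ∀ x, σ x = x → x = 1)
    (h2 : ∀ x, (σ ^ 2) x = x → x = 1) (h3 : ∀ x, (σ ^ 3) x = x → x = 1)
    (hcop : (Nat.card Q).Coprime (Nat.card V)) : ∀ x v, α x v = v := by
  classical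
  haveI := Fintype.ofFinite Q
  let N : V →* V :=
    { toFun := fun v => ∏ y : Q, α y v
      map_one' := by simp
      map_mul' := fun a b => by simp [Finset.prod_mul_distrib] }
  have hN : ∀ v, N v = ∏ y : Q, α y v := fun v => rfl
  have hpow : ∀ (n : ℕ) (x : Q) (w : V), (ψ ^ n) (α x w) = α ((σ ^ n) x) ((ψ ^ n) w) := by
    intro n
    induction n with
    | zero => intro x w; rfl
    | succ n ih =>
      intro x w
      simp only [pow_succ, MulAut.mul_apply]
      rw [hcomm, ih]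
  have hNψ : ∀ (n : ℕ) (v : V), N ((ψ ^ n) v) = (ψ ^ n) (N v) := by
    intro n v
    rw [hN, hN, map_prod]
    simp only [hpow]
    exact (Equiv.prod_comp (σ ^ n).toEquiv (fun y => α y ((ψ ^ n) v))).symm
  have horbit : ∀ w : V, w * ψ w * (ψ ^ 2) w * (ψ ^ 3) w = 1 := by
    intro w
    apply hψfix
    have e : ψ ((ψ ^ 3) w) = w := by
      rw [← MulAut.mul_apply, ← pow_succ', hψ]; rfl
    have e2 : ψ (ψ w) = (ψ ^ 2) w := by rw [sq]; rfl
    have e3 : ψ ((ψ ^ 2) w) = (ψ ^ 3) w := by rw [pow_succ' ψ 2]; rfl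
    rw [map_mul, map_mul, map_mul, e, e2, e3]
    exact (mul_comm _ w).trans (by simp only [mul_assoc])
  have hterm : ∀ i : ℕ, (∀ x, (σ ^ i) x = x → x = 1) → ∀ v : V,
      ∏ x : Q, α (x * ((σ ^ i) x)⁻¹) ((ψ ^ i) v) = N ((ψ ^ i) v) := by
    intro i hi v
    have hinj : Function.Injective fun x : Q => x * ((σ ^ i) x)⁻¹ := by
      intro x y e
      have e' : x * ((σ ^ i) x)⁻¹ = y * ((σ ^ i) y)⁻¹ := e
      have hz : (σ ^ i) (y⁻¹ * x) = y⁻¹ * x := by
        rw [map_mul, map_inv]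
        calc ((σ ^ i) y)⁻¹ * (σ ^ i) x = y⁻¹ * (y * ((σ ^ i) y)⁻¹) * (σ ^ i) x := by group
          _ = y⁻¹ * (x * ((σ ^ i) x)⁻¹) * (σ ^ i) x := by rw [e']
          _ = _ := by group
      exact (inv_mul_eq_one.1 (hi _ hz)).symm
    exact Equiv.prod_comp (Equiv.ofBijective _ (Finite.injective_iff_bijective.1 hinj))
      (fun y => α y ((ψ ^ i) v))
  have key : ∀ v : V, v ^ Nat.card Q * N (ψ v) * N ((ψ ^ 2) v) * N ((ψ ^ 3) v) = 1 := by
    intro v
    have e1 := hterm 1 (by simpa using h1) v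
    have e2 := hterm 2 h2 v
    have e3 := hterm 3 h3 v
    rw [pow_one, pow_one] at e1
    rw [← e1, ← e2, ← e3, Nat.card_eq_fintype_card, ← Finset.card_univ, ← Finset.prod_const,
      ← Finset.prod_mul_distrib, ← Finset.prod_mul_distrib, ← Finset.prod_mul_distrib]
    refine Finset.prod_eq_one fun x _ => ?_
    have h := congrArg (α x) (horbit (α x⁻¹ v))
    rw [map_one, map_mul, map_mul, map_mul] at h
    refine Eq.trans ?_ h
    congr 1
    · congr 1
      · congr 1
        · rw [← MulAut.mul_apply, ← map_mul, mul_inv_cancel, map_one]; rfl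
        · rw [hcomm, map_inv σ, map_mul α, MulAut.mul_apply]
      · rw [hpow, map_inv (σ ^ 2), map_mul α, MulAut.mul_apply]
    · rw [hpow, map_inv (σ ^ 3), map_mul α, MulAut.mul_apply]
  have hinjN : ∀ v, N v = 1 → v = 1 := by
    intro v hv
    have h := key v
    have e : N (ψ v) = 1 := by
      have := hNψ 1 v
      rw [pow_one, hv, map_one] at this
      exact this
    rw [e, hNψ 2, hNψ 3, hv, map_one, map_one, mul_one, mul_one, mul_one] at h
    refine orderOf_eq_one_iff.1 (Nat.eq_one_of_dvd_coprimes hcop (orderOf_dvd_of_pow_eq_one h) ?_)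
    exact orderOf_dvd_natCard v
  intro x v
  have h : N (α x v) = N v := by
    rw [hN, hN]
    simp only [← MulAut.mul_apply, ← map_mul]
    exact Equiv.prod_comp (Equiv.mulRight x) (fun y => α y v)
  exact mul_inv_eq_one.1 (hinjN _ (by rw [map_mul, map_inv, h, mul_inv_cancel]))

/-- If `σ` acts fixed-point-freely on `V` compatibly with a faithful action of the solvable group
`H` on `V`, then `σ ^ 2` fixes every invariant subgroup of order prime to `|V|`. -/
theorem sq_fixed {V : Type*} [CommGroup V] [Finite V] {H : Type u} [Group H] [Finite H]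
    [Group.IsSolvable H] (α : H →* MulAut V) (hα : Function.Injective α) (ψ : MulAut V)
    (σ : MulAut H) (hσ : σ ^ 4 = 1) (hcomm : ∀ x v, ψ (α x v) = α (σ x) (ψ v)) (hψ : ψ ^ 4 = 1)
    (hψfix : ∀ v, ψ v = v → v = 1) (hfix : ∀ x, σ x = x → x = 1)
    (hodd : ¬ 2 ∣ Nat.card H) :
    ∀ (n : ℕ) (X : Subgroup H), Nat.card X = n → (∀ x ∈ X, σ x ∈ X) →
      (Nat.card X).Coprime (Nat.card V) → ∀ x ∈ X, σ (σ x) = x := by
  intro n
  induction n using Nat.strong_induction_on with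
  | _ n ih =>
  intro X hn hX hcop x hx
  subst hn
  by_cases hX1 : X = ⊥
  · subst hX1; rw [Subgroup.mem_bot.1 hx, map_one, map_one]
  have hlt : ⁅X, X⁆ < X := CfsgLib.Solvable.commutator_self_lt inferInstance hX1
  have hinv : ∀ z ∈ ⁅X, X⁆, σ z ∈ ⁅X, X⁆ := by
    intro z hz
    have h : (⁅X, X⁆).map σ.toMonoidHom ≤ ⁅X, X⁆ := by
      rw [Subgroup.map_commutator]
      exact Subgroup.commutator_mono (Subgroup.map_le_iff_le_comap.2 hX) (Subgroup.map_le_iff_le_comap.2 hX)
    exact h ⟨z, hz, rfl⟩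
  have hD : ∀ z ∈ ⁅X, X⁆, σ z = z⁻¹ := fun z hz =>
    eq_inv_of_sq_fixed σ hfix (ih _ (Set.Finite.card_lt_card (Set.toFinite _) hlt) _ rfl hinv
      (hcop.coprime_dvd_left (Subgroup.card_dvd_of_le hlt.le)) z hz)
  have hsq : ∀ w : H, w ^ 2 = 1 → w = 1 := fun w hw =>
    orderOf_eq_one_iff.1 (Nat.eq_one_of_dvd_coprimes
      ((Nat.prime_two.coprime_iff_not_dvd.2 hodd)) (orderOf_dvd_of_pow_eq_one hw)
      (orderOf_dvd_natCard w))
  set y := x⁻¹ * σ (σ x) with hy
  have hyX : y ∈ X := X.mul_mem (X.inv_mem hx) (hX _ (hX _ hx))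
  have hy2 : σ (σ y) = y⁻¹ := by
    rw [hy, map_mul, map_mul, map_inv, map_inv, pow_four_apply σ hσ, mul_inv_rev, inv_inv]
  set c := ⁅y, σ y⁆ with hc
  have hcX : c ∈ ⁅X, X⁆ := Subgroup.commutator_mem_commutator hyX (hX _ hyX)
  have hconj : y⁻¹ * c * y = c⁻¹ := by
    rw [← hD c hcX, hc, map_commutatorElement, hy2]
    simp only [commutatorElement_def]
    group
  have hcy : Commute y c := by
    have e : ∀ k : ℕ, Commute ((y ^ 2) ^ k) c := fun k => Commute.pow_left (by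
      show y ^ 2 * c = c * y ^ 2
      have h' : y⁻¹ * c⁻¹ * y = c := by
        calc y⁻¹ * c⁻¹ * y = (y⁻¹ * c * y)⁻¹ := by group
          _ = c := by rw [hconj, inv_inv]
      calc y ^ 2 * c = y ^ 2 * (y⁻¹ * (y⁻¹ * c * y) * y) := by rw [hconj, h']
        _ = c * y ^ 2 := by simp only [sq]; group) k
    obtain ⟨m, hm⟩ := exists_pow_eq_self_of_coprime (n := 2) (x := y)
      ((Nat.prime_two.coprime_iff_not_dvd.2 hodd).coprime_dvd_right (orderOf_dvd_natCard y))
    rw [← hm]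
    exact e m
  have hc1 : c = 1 := by
    refine hsq c ?_
    rw [sq]
    nth_rw 1 [← inv_inv c]
    rw [← hconj, mul_assoc y⁻¹, ← hcy.eq, inv_mul_cancel_left, inv_mul_cancel]
  -- the invariant abelian subgroup generated by `y` and `σ y`
  have hyσ : y * σ y = σ y * y := commutatorElement_eq_one_iff_mul_comm.1 hc1
  set Y := Subgroup.closure ({y, σ y} : Set H) with hY
  have hYX : Y ≤ X := (Subgroup.closure_le _).2 (by
    rintro z (rfl | rfl)
    · exact hyX
    · exact hX _ hyX)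
  haveI hYc : IsMulCommutative Y := Subgroup.isMulCommutative_closure (by
    rintro a (rfl | rfl) b (rfl | rfl) <;> first | rfl | exact hyσ | exact hyσ.symm)
  have hYσ : ∀ z ∈ Y, σ z ∈ Y := by
    intro z hz
    have h : Y ≤ Y.comap σ.toMonoidHom := (Subgroup.closure_le _).2 (by
      rintro z (rfl | rfl)
      · exact Subgroup.subset_closure (Set.mem_insert_of_mem _ rfl)
      · show σ (σ y) ∈ Y
        rw [hy2]; exact Y.inv_mem (Subgroup.subset_closure (Set.mem_insert _ _)))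
    exact h hz
  have hτ : ∀ z ∈ Y, σ (σ z) = z⁻¹ := by
    intro z hz
    induction hz using Subgroup.closure_induction with
    | mem z hz =>
      rcases hz with rfl | rfl
      · exact hy2
      · rw [hy2, map_inv]
    | one => simp
    | mul a b ha hb iha ihb =>
      rw [map_mul, map_mul, iha, ihb, ← mul_inv_rev]
      congr 1
      exact congrArg Subtype.val (hYc.is_comm.comm ⟨b, hb⟩ ⟨a, ha⟩)
    | inv a _ iha => rw [map_inv, map_inv, iha]
  obtain ⟨σY, hσY⟩ := CfsgLib.FGS.exists_restrict_mulAut σ hYσ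
  have htriv := trivial_of_average (α.comp Y.subtype) ψ σY (fun z v => by
      have h := hσY 1 z
      rw [pow_one, pow_one] at h
      show ψ (α (z : H) v) = α ((σY z : Y) : H) (ψ v)
      rw [h]; exact hcomm _ _)
    hψ hψfix
    (fun z hz => Subtype.ext (hfix _ (by
      have h := hσY 1 z
      rw [pow_one, pow_one, hz] at h
      exact h.symm)))
    (fun z hz => Subtype.ext (hsq _ (by
      have h := hσY 2 z
      rw [hz, sq, MulAut.mul_apply, hτ z z.2] at h
      rw [sq]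
      nth_rw 1 [h]
      exact inv_mul_cancel _)))
    (fun z hz => Subtype.ext (hfix _ (by
      have h := hσY 3 z
      rw [hz] at h
      calc σ (z : H) = σ ((σ ^ 3) (z : H)) := by rw [← h]
        _ = (z : H) := pow_four_apply σ hσ _)))
    (hcop.coprime_dvd_left (Subgroup.card_dvd_of_le hYX))
  have hy1 : y = 1 := hα (by
    rw [map_one]
    exact MulEquiv.ext fun v => htriv ⟨y, Subgroup.subset_closure (Set.mem_insert _ _)⟩ v)
  exact (inv_mul_eq_one.1 hy1).symm

/-- Gorenstein–Herstein. -/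
theorem isNilpotent_commutator : ∀ (n : ℕ) {G : Type u} [Group G] [Finite G] [Group.IsSolvable G]
    (σ : MulAut G), Nat.card G = n → σ ^ 4 = 1 → (∀ x, σ x = x → x = 1) →
      Group.IsNilpotent (commutator G) := by
  intro n
  induction n using Nat.strong_induction_on with
  | _ n ih =>
  intro G _ _ _ σ hn hσ hfix
  subst hn
  classical
  rcases subsingleton_or_nontrivial G with hs | hnt
  · infer_instance
  obtain ⟨N, p, a, hN, hp, -, -, hNc, hNbot, -, -⟩ :=
    CfsgLib.Solvable.exists_normal_prime_pow_card (G := G)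
  haveI : Fact p.Prime := ⟨hp⟩
  haveI := hN
  set O := Cfsg.pCore p G with hO
  have hOp : IsPGroup p O := CfsgLib.Cores.isPGroup_pCore p
  have hObot : O ≠ ⊥ := fun h => hNbot (le_bot_iff.1 (h ▸ CfsgLib.Cores.le_pCore (IsPGroup.of_card hNc)))
  haveI hOchar : O.Characteristic := CfsgLib.Cores.pCore_characteristic p
  set S := {V : Subgroup G | V.Normal ∧ V ≠ ⊥ ∧ (∀ x ∈ V, σ x ∈ V) ∧ IsPGroup p V ∧
    ∀ x ∈ V, ∀ y ∈ V, x * y = y * x}
  have hSne : S.Nonempty := by
    refine ⟨O ⊓ Subgroup.centralizer (O : Set G), inferInstance, ?_, ?_, hOp.to_le inf_le_left, ?_⟩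
    · haveI := (Subgroup.nontrivial_iff_ne_bot O).2 hObot
      obtain ⟨z, hz⟩ := (nontrivial_iff_exists_ne (1 : Subgroup.center O)).1 hOp.center_nontrivial
      intro h
      refine hz (Subtype.ext (Subtype.ext ?_))
      have : ((z : O) : G) ∈ O ⊓ Subgroup.centralizer (O : Set G) :=
        ⟨(z : O).2, Subgroup.mem_centralizer_iff.2 fun w hw =>
          congrArg Subtype.val (Subgroup.mem_center_iff.1 z.2 ⟨w, hw⟩)⟩
      rwa [h, Subgroup.mem_bot] at this
    · intro x hx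
      have hOmap : O.map σ.toMonoidHom = O := Subgroup.characteristic_iff_map_eq.1 hOchar σ
      refine ⟨hOmap.le ⟨x, hx.1, rfl⟩, Subgroup.mem_centralizer_iff.2 fun w hw => ?_⟩
      obtain ⟨u, hu, rfl⟩ := hOmap.ge hw
      show σ u * σ x = σ x * σ u
      rw [← map_mul, ← map_mul, Subgroup.mem_centralizer_iff.1 hx.2 u hu]
    · exact fun x hx y hy => Subgroup.mem_centralizer_iff.1 hy.2 x hx.1
  obtain ⟨V, ⟨hVn, hVbot, hVσ, hVp, hVc⟩, hVmin⟩ := (Set.toFinite S).exists_minimal hSne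
  haveI := hVn
  haveI : IsMulCommutative V := ⟨⟨fun x y => Subtype.ext (hVc x x.2 y y.2)⟩⟩
  letI : CommGroup V := { (inferInstance : Group V) with mul_comm := fun x y => Subtype.ext (hVc x x.2 y y.2) }
  set φ : G →* MulAut V := MulAut.conjNormal with hφ
  set C := φ.ker with hC
  have hVC : V ≤ C := fun x hx => MonoidHom.mem_ker.2 (MulEquiv.ext fun v => Subtype.ext (by
    show x * (v : G) * x⁻¹ = v
    rw [hVc x hx v v.2, mul_inv_cancel_right]))
  obtain ⟨ψ, hψ⟩ := CfsgLib.FGS.exists_restrict_mulAut σ hVσ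
  have hψ1 : ∀ v : V, ((ψ v : V) : G) = σ v := fun v => by
    have h := hψ 1 v
    rwa [pow_one, pow_one] at h
  have hψfix : ∀ v, ψ v = v → v = 1 := fun v hv => Subtype.ext (hfix _ (by rw [← hψ1, hv]))
  have hψ4 : ψ ^ 4 = 1 := MulEquiv.ext fun v => Subtype.ext (by rw [hψ, hσ]; rfl)
  have hcomm0 : ∀ (g : G) (v : V), ψ (φ g v) = φ (σ g) (ψ v) := fun g v => Subtype.ext (by
    rw [hψ1]
    show σ (g * (v : G) * g⁻¹) = σ g * ((ψ v : V) : G) * (σ g)⁻¹
    rw [hψ1, map_mul, map_mul, map_inv])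
  have hCσ : ∀ x ∈ C, σ x ∈ C := fun x hx => MonoidHom.mem_ker.2 (MulEquiv.ext fun v => by
    obtain ⟨u, rfl⟩ := ψ.surjective v
    rw [← hcomm0, MonoidHom.mem_ker.1 hx]
    rfl)
  obtain ⟨σH, hσH⟩ := CfsgLib.FGS.exists_quotient_mulAut σ hCσ
  have hσH1 : ∀ g : G, σH (QuotientGroup.mk' C g) = QuotientGroup.mk' C (σ g) := fun g => by
    have h := hσH 1 g
    rwa [pow_one, pow_one] at h
  have hH4 : σH ^ 4 = 1 := MulEquiv.ext fun x => by
    obtain ⟨g, rfl⟩ := QuotientGroup.mk'_surjective C x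
    rw [hσH, hσ]; rfl
  have hHfix : ∀ x, σH x = x → x = 1 := by
    have hsurj : Function.Surjective fun x : G ⧸ C => x⁻¹ * σH x := by
      intro y
      obtain ⟨g, rfl⟩ := QuotientGroup.mk'_surjective C y
      obtain ⟨h, hh⟩ := (CfsgLib.FGS.bijective_inv_mul_apply σ hfix).2 g
      refine ⟨QuotientGroup.mk' C h, ?_⟩
      show (QuotientGroup.mk' C h)⁻¹ * σH (QuotientGroup.mk' C h) = _
      rw [hσH1, ← map_inv, ← map_mul]
      exact congrArg _ hh
    exact fun x hx => (Finite.injective_iff_surjective.2 hsurj)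
      (show x⁻¹ * σH x = (1 : G ⧸ C)⁻¹ * σH 1 by rw [hx, map_one]; group)
  set α : G ⧸ C →* MulAut V := QuotientGroup.kerLift φ with hαdef
  have hαinj : Function.Injective α := QuotientGroup.kerLift_injective φ
  have hαcomm : ∀ x v, ψ (α x v) = α (σH x) (ψ v) := fun x v => by
    obtain ⟨g, rfl⟩ := QuotientGroup.mk'_surjective C x
    rw [hσH1]
    exact hcomm0 g v
  have hHodd : ¬ 2 ∣ Nat.card (G ⧸ C) := odd_card σH hH4 hHfix
  haveI : Group.IsSolvable (G ⧸ C) :=
    Group.isSolvable_of_surjective (f := QuotientGroup.mk' C) (QuotientGroup.mk'_surjective C)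
  -- no normal `p`-subgroup acts on `V`
  have hcore : Cfsg.pCore p (G ⧸ C) = ⊥ := by
    set R := Cfsg.pCore p (G ⧸ C) with hR
    haveI hRc : R.Characteristic := CfsgLib.Cores.pCore_characteristic p
    have hRp : IsPGroup p R := CfsgLib.Cores.isPGroup_pCore p
    let W : Subgroup G :=
      { carrier := {x | ∃ hx : x ∈ V, ∀ r ∈ R, α r ⟨x, hx⟩ = ⟨x, hx⟩}
        one_mem' := ⟨V.one_mem, fun r _ => map_one (α r)⟩
        mul_mem' := by
          rintro x y ⟨hx, hx'⟩ ⟨hy, hy'⟩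
          refine ⟨V.mul_mem hx hy, fun r hr => ?_⟩
          rw [show (⟨x * y, V.mul_mem hx hy⟩ : V) = ⟨x, hx⟩ * ⟨y, hy⟩ from rfl, map_mul, hx' r hr, hy' r hr]
        inv_mem' := by
          rintro x ⟨hx, hx'⟩
          refine ⟨V.inv_mem hx, fun r hr => ?_⟩
          rw [show (⟨x⁻¹, V.inv_mem hx⟩ : V) = (⟨x, hx⟩ : V)⁻¹ from rfl, map_inv, hx' r hr] }
    have hWne : W ≠ ⊥ := by
      letI : MulAction R V := MulAction.compHom V (α.comp R.subtype)
      haveI : Nontrivial V := (Subgroup.nontrivial_iff_ne_bot V).2 hVbot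
      obtain ⟨k, hk, hk'⟩ := (IsPGroup.nontrivial_iff_card hVp).1 inferInstance
      obtain ⟨b, hb, hb1⟩ := hRp.exists_fixed_point_of_prime_dvd_card_of_fixed_point V
        (show p ∣ Nat.card V by rw [hk']; exact dvd_pow_self p (by omega))
        (a := (1 : V)) (fun r => map_one (α (r : G ⧸ C)))
      intro hW
      have : (b : G) ∈ W := ⟨b.2, fun r hr => hb ⟨r, hr⟩⟩
      rw [hW, Subgroup.mem_bot] at this
      exact hb1 (Subtype.ext this.symm)
    have hWV : W ≤ V := fun x hx => hx.1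
    have hWS : W ∈ S := by
      refine ⟨⟨fun x hx g => ?_⟩, hWne, fun x hx => ?_, hVp.to_le hWV, fun x hx y hy => hVc x (hWV hx) y (hWV hy)⟩
      · obtain ⟨hxV, hx'⟩ := hx
        refine ⟨hVn.conj_mem x hxV g, fun r hr => ?_⟩
        have hr' := hRc.fixed (MulAut.conj (QuotientGroup.mk' C g)⁻¹)
        have hr2 : (QuotientGroup.mk' C g)⁻¹ * r * QuotientGroup.mk' C g ∈ R := by
          rw [← hr'] at hr
          simpa using hr
        have e : (⟨g * x * g⁻¹, hVn.conj_mem x hxV g⟩ : V) = α (QuotientGroup.mk' C g) ⟨x, hxV⟩ := Subtype.ext rfl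
        rw [e, ← MulAut.mul_apply, ← map_mul,
          show r * QuotientGroup.mk' C g = QuotientGroup.mk' C g * ((QuotientGroup.mk' C g)⁻¹ * r * QuotientGroup.mk' C g) by group,
          map_mul, MulAut.mul_apply, hx' _ hr2]
      · obtain ⟨hxV, hx'⟩ := hx
        refine ⟨hVσ x hxV, fun r hr => ?_⟩
        obtain ⟨u, hu, rfl⟩ := (Subgroup.characteristic_iff_map_eq.1 hRc σH).ge hr
        have e : (⟨σ x, hVσ x hxV⟩ : V) = ψ ⟨x, hxV⟩ := Subtype.ext (hψ1 ⟨x, hxV⟩).symm
        show α (σH u) _ = _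
        rw [e, ← hαcomm, hx' u hu]
    have hVW : V ≤ W := hVmin hWS hWV
    rw [eq_bot_iff]
    intro r hr
    rw [Subgroup.mem_bot]
    refine hαinj ?_
    rw [map_one]
    exact MulEquiv.ext fun v => (hVW v.2).2 r hr
  have hCbot : C ≠ ⊥ := fun h => hVbot (le_bot_iff.1 (h ▸ hVC))
  have hnilH : Group.IsNilpotent (commutator (G ⧸ C)) :=
    ih _ (CfsgLib.Solvable.card_quotient_lt C hCbot) σH rfl hH4 hHfix
  have hcopV : ∀ X : Subgroup (G ⧸ C), ¬ p ∣ Nat.card X → (Nat.card X).Coprime (Nat.card V) := by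
    intro X hX
    obtain ⟨k, hk⟩ := IsPGroup.iff_card.1 hVp
    rw [hk]
    exact Nat.Coprime.pow_right k ((hp.coprime_iff_not_dvd.2 hX).symm)
  have hnormal : ∀ X : Subgroup (G ⧸ C), X.Normal → Group.IsNilpotent X → ¬ p ∣ Nat.card X := by
    intro X hX hXn hd
    haveI := hX
    obtain ⟨P⟩ : Nonempty (Sylow p X) := inferInstance
    haveI hPn : (P : Subgroup X).Normal :=
      ((Group.isNilpotent_of_finite_tfae (G := X)).out 0 3 rfl rfl).mp hXn p ⟨hp⟩ P
    haveI := Sylow.characteristic_of_normal P hPn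
    have hle : (P : Subgroup X).map X.subtype ≤ Cfsg.pCore p (G ⧸ C) :=
      CfsgLib.Cores.le_pCore (P.2.map X.subtype)
    rw [hcore, le_bot_iff, Subgroup.map_eq_bot_iff_of_injective _ X.subtype_injective] at hle
    exact P.ne_bot_of_dvd_card hd hle
  have hσcomm : ∀ x ∈ commutator (G ⧸ C), σH x ∈ commutator (G ⧸ C) := fun x hx =>
    (Subgroup.characteristic_iff_map_le.1 inferInstance σH) ⟨x, hx, rfl⟩
  have hfixD : ∀ x ∈ commutator (G ⧸ C), σH x = x⁻¹ := fun x hx =>
    eq_inv_of_sq_fixed σH hHfix (sq_fixed α hαinj ψ σH hH4 hαcomm hψ4 hψfix hHfix hHodd _ _ rfl hσcomm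
      (hcopV _ (hnormal _ inferInstance hnilH)) x hx)
  have hcentral : commutator (G ⧸ C) ≤ Subgroup.center (G ⧸ C) := by
    intro x hx
    rw [Subgroup.mem_center_iff]
    intro g
    obtain ⟨h, rfl⟩ := (CfsgLib.FGS.bijective_inv_mul_apply σH hHfix).2 g
    have e1 : σH (h * x * h⁻¹) = (h * x * h⁻¹)⁻¹ :=
      hfixD _ ((inferInstance : (commutator (G ⧸ C)).Normal).conj_mem x hx h)
    rw [map_mul, map_mul, map_inv, hfixD x hx] at e1
    have e2 : σH h * x * (σH h)⁻¹ = h * x * h⁻¹ := by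
      calc σH h * x * (σH h)⁻¹ = (σH h * x⁻¹ * (σH h)⁻¹)⁻¹ := by group
        _ = _ := by rw [e1, inv_inv]
    show h⁻¹ * σH h * x = x * (h⁻¹ * σH h)
    calc h⁻¹ * σH h * x = h⁻¹ * (σH h * x * (σH h)⁻¹) * σH h := by group
      _ = h⁻¹ * (h * x * h⁻¹) * σH h := by rw [e2]
      _ = x * (h⁻¹ * σH h) := by group
  haveI : Group.IsNilpotent (G ⧸ C) :=
    Subgroup.isNilpotent_of_ker_le_center (Abelianization.of (G := G ⧸ C))
      (by rw [Abelianization.ker_of]; exact hcentral)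
  have hpH : ¬ p ∣ Nat.card (G ⧸ C) := by
    rw [← Subgroup.card_top]
    exact hnormal ⊤ inferInstance (Group.nilpotent_of_mulEquiv Subgroup.topEquiv.symm)
  have hinvH : ∀ x : G ⧸ C, σH x = x⁻¹ := fun x =>
    eq_inv_of_sq_fixed σH hHfix (sq_fixed α hαinj ψ σH hH4 hαcomm hψ4 hψfix hHfix hHodd _ ⊤ rfl
      (fun _ _ => Subgroup.mem_top _) (hcopV ⊤ (by rwa [Subgroup.card_top])) x (Subgroup.mem_top x))
  have habel : ∀ x y : G ⧸ C, x * y = y * x := fun x y => by
    have h := hinvH (x⁻¹ * y⁻¹)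
    rw [map_mul, hinvH, hinvH, inv_inv, inv_inv, mul_inv_rev, inv_inv, inv_inv] at h
    exact h
  have hGC : commutator G ≤ C := by
    rw [commutator_def, Subgroup.commutator_le]
    intro x _ y _
    rw [← QuotientGroup.eq_one_iff]
    show QuotientGroup.mk' C ⁅x, y⁆ = 1
    rw [map_commutatorElement, commutatorElement_eq_one_iff_mul_comm]
    exact habel _ _
  -- `G'` is a central extension of `(G/V)'`
  obtain ⟨σV, hσV⟩ := CfsgLib.FGS.exists_quotient_mulAut σ hVσ
  have hV4 : σV ^ 4 = 1 := MulEquiv.ext fun x => by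
    obtain ⟨g, rfl⟩ := QuotientGroup.mk'_surjective V x
    rw [hσV, hσ]; rfl
  have hVfix : ∀ x, σV x = x → x = 1 := by
    have hsurj : Function.Surjective fun x : G ⧸ V => x⁻¹ * σV x := by
      intro y
      obtain ⟨g, rfl⟩ := QuotientGroup.mk'_surjective V y
      obtain ⟨h, hh⟩ := (CfsgLib.FGS.bijective_inv_mul_apply σ hfix).2 g
      refine ⟨QuotientGroup.mk' V h, ?_⟩
      show (QuotientGroup.mk' V h)⁻¹ * σV (QuotientGroup.mk' V h) = _
      have h1 := hσV 1 h
      rw [pow_one, pow_one] at h1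
      rw [h1, ← map_inv, ← map_mul]
      exact congrArg _ hh
    exact fun x hx => (Finite.injective_iff_surjective.2 hsurj)
      (show x⁻¹ * σV x = (1 : G ⧸ V)⁻¹ * σV 1 by rw [hx, map_one]; group)
  haveI : Group.IsSolvable (G ⧸ V) :=
    Group.isSolvable_of_surjective (f := QuotientGroup.mk' V) (QuotientGroup.mk'_surjective V)
  haveI := ih _ (CfsgLib.Solvable.card_quotient_lt V hVbot) σV rfl hV4 hVfix
  have hmap : (commutator G).map (QuotientGroup.mk' V) ≤ commutator (G ⧸ V) := by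
    rw [commutator_def, commutator_def, Subgroup.map_commutator]
    exact Subgroup.commutator_mono le_top le_top
  let f : commutator G →* commutator (G ⧸ V) :=
    ((QuotientGroup.mk' V).comp (commutator G).subtype).codRestrict _ fun x => hmap ⟨x, x.2, rfl⟩
  refine Subgroup.isNilpotent_of_ker_le_center f (fun x hx => ?_)
  have hxV : (x : G) ∈ V := (QuotientGroup.eq_one_iff (x : G)).1 (congrArg Subtype.val (MonoidHom.mem_ker.1 hx))
  rw [Subgroup.mem_center_iff]
  intro y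
  refine Subtype.ext ?_
  have h := congrArg (fun e : MulAut V => ((e ⟨x, hxV⟩ : V) : G)) (MonoidHom.mem_ker.1 (hGC y.2))
  show (y : G) * x = x * y
  have h' : (y : G) * x * (y : G)⁻¹ = x := h
  exact mul_inv_eq_iff_eq_mul.1 h'

end CfsgLib.PGroup.FpfFour
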