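import Cfsg.Agent.Lib.Solvable.ShultGross
import Cfsg.Agent.Lib.Solvable.CharProjection
import Cfsg.Agent.Lib.FGS.ThompsonKernel

/-!
A fixed-point-free automorphism of prime order `p` of `K` intertwined with an operator whose space
of fixed vectors is at most one-dimensional: the image of `K` is abelian (BG 3.10).
-/

set_option autoImplicit false

namespace CfsgLib.PGroup

open CfsgLib.Solvable

universe u v w

theorem commute_of_fixed_line_aux {k : Type v} [Field k] [IsAlgClosed k] {p : ℕ}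
    [hp : Fact p.Prime] :
    ∀ (n : ℕ) {K : Type u} [Group K] [Finite K], Nat.card K = n → (Nat.card K : k) ≠ 0 →
      ∀ (σ : MulAut K), σ ^ p = 1 → (∀ x, σ x = x → x = 1) →
      ∀ {V : Type w} [AddCommGroup V] [Module k V] (ρ : K →* Module.End k V) (S : Module.End k V),
        (∀ x, S * ρ x = ρ (σ x) * S) → S ^ p = 1 →
        (∀ v w, S v = v → S w = w → v ≠ 0 → ∃ c : k, w = c • v) →
        (∀ x y, ρ x * ρ y = ρ y * ρ x) ∧ ((∀ v, S v = v → v = 0) → ∀ x, ρ x = 1) := by
  intro n
  induction n using Nat.strong_induction_on with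
  | _ n ih =>
  intro K _ _ hn hKk σ hσ hfpf V _ _ ρ S hS hSp hline
  classical
  have hcardk : ∀ m : ℕ, m ∣ Nat.card K → (m : k) ≠ 0 := fun m hm h => hKk (by
    obtain ⟨c, hc⟩ := hm
    rw [hc, Nat.cast_mul, h, zero_mul])
  have hker : ∀ {W : Type w} [AddCommGroup W] [Module k W] (ρW : K →* Module.End k W)
      (T : Module.End k W), (∀ x, T * ρW x = ρW (σ x) * T) → T ^ p = 1 →
      (∀ v w, T v = v → T w = w → v ≠ 0 → ∃ c : k, w = c • v) → ρW.ker ≠ ⊥ →
      (∀ x y, ρW x * ρW y = ρW y * ρW x) ∧ ((∀ v, T v = v → v = 0) → ∀ x, ρW x = 1) := by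
    intro W _ _ ρW T hT hTp hlineW hne
    set N := ρW.ker
    have hTinv : T * T ^ (p - 1) = 1 := by
      rw [← pow_succ', Nat.sub_add_cancel hp.out.pos, hTp]
    have hNσ : ∀ y ∈ N, σ y ∈ N := fun y hy => by
      show ρW (σ y) = 1
      calc ρW (σ y) = ρW (σ y) * T * T ^ (p - 1) := by rw [mul_assoc, hTinv, mul_one]
        _ = T * ρW y * T ^ (p - 1) := by rw [hT]
        _ = 1 := by rw [show ρW y = 1 from hy, mul_one, hTinv]
    obtain ⟨g, hg⟩ := CfsgLib.FGS.exists_quotient_mulAut σ hNσ
    have hg1 : ∀ y, g (QuotientGroup.mk' N y) = QuotientGroup.mk' N (σ y) := fun y => by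
      have h := hg 1 y
      rwa [pow_one, pow_one] at h
    have hgp : g ^ p = 1 := MulEquiv.ext fun t => by
      obtain ⟨y, rfl⟩ := QuotientGroup.mk'_surjective N t
      rw [hg, hσ]; rfl
    let ρ' : K ⧸ N →* Module.End k W := QuotientGroup.lift N ρW (le_refl N)
    have hρ' : ∀ y : K, ρ' (QuotientGroup.mk' N y) = ρW y := fun y =>
      QuotientGroup.lift_mk N (le_refl N) y
    have hlt : Nat.card (K ⧸ N) < n := by
      rw [← hn, Subgroup.card_eq_card_quotient_mul_card_subgroup N]
      exact lt_mul_of_one_lt_right Nat.card_pos ((Subgroup.one_lt_card_iff_ne_bot N).2 hne)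
    have h := ih _ hlt rfl (hcardk _ (Subgroup.card_quotient_dvd_card N)) g hgp
      (fpf_quotient σ hfpf hNσ hg1) ρ' T
      (fun t => by
        obtain ⟨y, rfl⟩ := QuotientGroup.mk'_surjective N t
        rw [hg1, hρ', hρ']
        exact hT y) hTp hlineW
    refine ⟨fun x y => ?_, fun hf x => ?_⟩
    · rw [← hρ', ← hρ']; exact h.1 _ _
    · rw [← hρ']; exact h.2 hf _
  rcases ne_or_eq ρ.ker ⊥ with hne | hinj
  · exact hker ρ S hS hSp hline hne
  rw [MonoidHom.ker_eq_bot_iff] at hinj
  rcases subsingleton_or_nontrivial K with hss | hnt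
  · exact ⟨fun x y => by rw [Subsingleton.elim x y],
      fun _ x => by rw [Subsingleton.elim x 1, map_one]⟩
  haveI : Group.IsNilpotent K :=
    CfsgLib.FGS.thompson_nilpotent_aux hp.out _ σ rfl hfpf hσ
  set A := Subgroup.center K with hAdef
  have hA : A ≠ ⊥ := Group.IsNilpotent.center_ne_bot K
  letI : CommGroup A :=
    { (inferInstance : Group A) with
      mul_comm := fun a b => Subtype.ext (Subgroup.mem_center_iff.1 b.2 a) }
  have hAσ : ∀ a ∈ A, σ a ∈ A := fun a ha => Subgroup.mem_center_iff.2 fun g => by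
    obtain ⟨g, rfl⟩ := σ.surjective g
    rw [← map_mul, ← map_mul, Subgroup.mem_center_iff.1 ha g]
  obtain ⟨φ, hφ⟩ := CfsgLib.FGS.exists_restrict_mulAut σ hAσ
  have hφ1 : ∀ a : A, ((φ a : A) : K) = σ a := fun a => by
    have h := hφ 1 a
    rwa [pow_one, pow_one] at h
  have hφp : φ ^ (p ^ 1) = 1 := MulEquiv.ext fun a => Subtype.ext (by rw [hφ, pow_one, hσ]; rfl)
  have hφfpf : ∀ a, φ a = a → a = 1 := fun a ha =>
    Subtype.ext (hfpf _ (by rw [← hφ1, ha]))
  let ρA : A →* Module.End k V := ρ.comp A.subtype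
  have hAk : (Nat.card A : k) ≠ 0 := hcardk _ (Subgroup.card_subgroup_dvd_card A)
  have hSA : ∀ a : A, S * ρA a = ρA (φ a) * S := fun a => by
    show S * ρ a = ρ ((φ a : A) : K) * S
    rw [hφ1]; exact hS a
  have hcomm : ∀ (x : K) (χ : A →* kˣ), ρ x * charProj ρA χ = charProj ρA χ * ρ x := fun x χ =>
    charProj_comm ρA χ fun a => by
      show ρ x * ρ (a : K) = ρ (a : K) * ρ x
      rw [← map_mul, ← map_mul, Subgroup.mem_center_iff.1 a.2 x]
  set s : Module.End k V := ∑ i ∈ Finset.range p, S ^ i with hs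
  have hSs : ∀ v, S (s v) = s v := by
    intro v
    have h1 : S * s = s := by
      rw [hs, Finset.mul_sum]
      simp only [← pow_succ']
      have h2 := Finset.sum_range_succ' (fun i => S ^ i) p
      rw [Finset.sum_range_succ, hSp, pow_zero] at h2
      exact (add_right_cancel h2).symm
    exact LinearMap.congr_fun h1 v
  have hmoved : ∀ (χ : A →* kˣ), χ ≠ 1 → ∀ i, 0 < i → i < p →
      χ.comp (φ ^ i).toMonoidHom ≠ χ := by
    intro χ hχ
    obtain ⟨a, ha, hper, hne⟩ := exists_period φ hφp χ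
    rcases Nat.le_one_iff_eq_zero_or_eq_one.1 ha with rfl | rfl
    · exfalso
      refine hχ (MonoidHom.ext fun b => ?_)
      obtain ⟨c, hc⟩ := (CfsgLib.FGS.bijective_inv_mul_apply φ hφfpf).2 b
      have h1 := DFunLike.congr_fun hper c
      simp only [pow_zero, pow_one, MonoidHom.coe_comp, Function.comp_apply,
        MulEquiv.coe_toMonoidHom] at h1
      rw [← hc, map_mul, map_inv, h1, inv_mul_cancel]
      rfl
    · rwa [pow_one] at hne
  have hPs : ∀ (χ : A →* kˣ), χ ≠ 1 → ∀ v, charProj ρA χ v = v → charProj ρA χ (s v) = v := by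
    intro χ hχ v hv
    rw [hs, LinearMap.sum_apply, map_sum, Finset.sum_eq_single 0]
    · rw [pow_zero, Module.End.one_apply, hv]
    · intro i hi hi0
      have h2 : charProj ρA χ ((S ^ i) v) =
          (S ^ i) (charProj ρA (χ.comp (φ ^ i).toMonoidHom) v) :=
        (LinearMap.congr_fun (charProj_semiconj ρA (φ ^ i) (semiconj_pow ρA φ hSA i) χ) v).symm
      rw [h2, ← hv]
      have h3 : charProj ρA (χ.comp (φ ^ i).toMonoidHom) (charProj ρA χ v) = 0 :=
        LinearMap.congr_fun (charProj_mul_of_ne ρA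
          (hmoved χ hχ i (Nat.pos_of_ne_zero hi0) (Finset.mem_range.1 hi))) v
      rw [h3, map_zero]
    · intro h; exact absurd (Finset.mem_range.2 hp.out.pos) h
  have hPid : ∀ (χ : A →* kˣ) (v : V), charProj ρA χ (charProj ρA χ v) = charProj ρA χ v :=
    fun χ v => LinearMap.congr_fun (charProj_idem ρA hAk χ) v
  -- a component on which the centre is moved
  obtain ⟨χ₀, hχ₀, v₀, hv₀⟩ : ∃ χ : A →* kˣ, χ ≠ 1 ∧ ∃ v, charProj ρA χ v ≠ 0 := by
    by_contra hcon
    push Not at hcon
    apply hA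
    rw [Subgroup.eq_bot_iff_forall]
    intro a ha
    refine hinj ?_
    rw [map_one]
    refine ext_charProj ρA hAk fun χ => ?_
    rw [mul_one, show ρ a = ρA ⟨a, ha⟩ from rfl, charProj_mul_apply]
    rcases eq_or_ne χ 1 with rfl | hχ
    · simp
    · have h0 : charProj ρA χ = 0 := LinearMap.ext (hcon χ hχ)
      rw [h0, smul_zero]
  set z := s (charProj ρA χ₀ v₀) with hz
  have hzfix : S z = z := hSs _
  have hPz : charProj ρA χ₀ z = charProj ρA χ₀ v₀ := hPs χ₀ hχ₀ _ (hPid _ _)
  have hz0 : z ≠ 0 := fun h => hv₀ (by rw [← hPz, h, map_zero])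
  refine ⟨fun x y => ?_, fun hf => absurd (hf z hzfix) hz0⟩
  refine ext_charProj ρA hAk fun χ => ?_
  rcases eq_or_ne χ 1 with rfl | hχ
  · -- the centralised part is fixed-point-free
    set P := charProj ρA 1 with hP
    let C : Submodule k V := LinearMap.range P
    have hCmem : ∀ v ∈ C, P v = v := by
      rintro _ ⟨v, rfl⟩; exact hPid 1 v
    have hCinv : ∀ x, ∀ v ∈ C, ρ x v ∈ C := fun x v hv =>
      ⟨ρ x v, by rw [← Module.End.mul_apply, ← hcomm, Module.End.mul_apply, hCmem v hv]⟩
    have hSP : S * P = P * S := by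
      have h := charProj_semiconj ρA φ hSA 1
      rwa [MonoidHom.one_comp] at h
    have hCS : ∀ v ∈ C, S v ∈ C := fun v hv =>
      ⟨S v, by rw [← Module.End.mul_apply, ← hSP, Module.End.mul_apply, hCmem v hv]⟩
    let ρC : K →* Module.End k C :=
      { toFun := fun y => (ρ y).restrict (hCinv y)
        map_one' := LinearMap.ext fun w => Subtype.ext (by simp)
        map_mul' := fun y z => LinearMap.ext fun w => Subtype.ext (by simp) }
    have hfixC : ∀ v : C, S.restrict hCS v = v → v = 0 := by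
      intro v hv
      obtain ⟨c, hc⟩ := hline z v hzfix (congrArg Subtype.val hv) hz0
      refine Subtype.ext ?_
      show (v : V) = 0
      have h0 : P z = 0 := by
        have h1 : ∀ i : ℕ, S ^ i * P = P * S ^ i := fun i => (Commute.pow_left hSP i).eq
        rw [hz, hs, LinearMap.sum_apply, map_sum]
        refine Finset.sum_eq_zero fun i _ => ?_
        rw [← Module.End.mul_apply P, ← h1, Module.End.mul_apply, ← Module.End.mul_apply P,
          charProj_mul_of_ne ρA (Ne.symm hχ₀), LinearMap.zero_apply, map_zero]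
      rw [← hCmem _ v.2, hc, map_smul, h0, smul_zero]
    have hpowC : ∀ (i : ℕ) (w : C), ((((S.restrict hCS) ^ i) w : C) : V) = (S ^ i) (w : V) := by
      intro i
      induction i with
      | zero => intro w; rfl
      | succ i ih' =>
        intro w
        rw [pow_succ', pow_succ', Module.End.mul_apply, Module.End.mul_apply, ← ih']
        rfl
    have hkerC : ρC.ker ≠ ⊥ := fun h => by
      apply hA
      rw [eq_bot_iff, ← h]
      intro a ha
      refine LinearMap.ext fun w => Subtype.ext ?_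
      show ρ a (w : V) = w
      conv_lhs => rw [← hCmem _ w.2, ← Module.End.mul_apply]
      rw [show ρ a * P = ((((1 : A →* kˣ) ⟨a, ha⟩ : kˣ) : k)) • P from
        apply_mul_charProj ρA 1 ⟨a, ha⟩, MonoidHom.one_apply, Units.val_one, one_smul, hCmem _ w.2]
    have htriv := (hker ρC (S.restrict hCS)
      (fun y => LinearMap.ext fun w => Subtype.ext (LinearMap.congr_fun (hS y) (w : V)))
      (LinearMap.ext fun w => Subtype.ext (by rw [hpowC, hSp]; rfl))
      (fun v w hv _ hv0 => absurd (hfixC v hv) hv0) hkerC).2 hfixC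
    have key : ∀ y, ρ y * P = P := fun y => LinearMap.ext fun v =>
      congrArg Subtype.val (LinearMap.congr_fun (htriv y) ⟨P v, v, rfl⟩)
    rw [← mul_assoc, ← mul_assoc, ← hcomm, ← hcomm, key, key, ← hcomm, ← hcomm, key, key]
  · set P := charProj ρA χ with hP
    have hline' : ∀ v w, P v = v → P w = w → v ≠ 0 → ∃ c : k, w = c • v := by
      intro v w hv hw hv0
      obtain ⟨c, hc⟩ := hline (s v) (s w) (hSs v) (hSs w)
        (fun h => hv0 (by rw [← hPs χ hχ v hv, h, map_zero]))
      refine ⟨c, ?_⟩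
      rw [← hPs χ hχ w hw, hc, map_smul, hPs χ hχ v hv]
    refine LinearMap.ext fun v => ?_
    have hr : ∀ (a : K) (u : V), P u = u → P (ρ a u) = ρ a u := fun a u hu => by
      rw [← Module.End.mul_apply P, ← hcomm, Module.End.mul_apply, hu]
    have hl : ∀ a b : K, P (ρ a (ρ b v)) = ρ a (ρ b (P v)) := fun a b => by
      rw [← Module.End.mul_apply P, ← hcomm, Module.End.mul_apply, ← Module.End.mul_apply P,
        ← hcomm, Module.End.mul_apply]
    show P (ρ x (ρ y v)) = P (ρ y (ρ x v))
    rw [hl, hl]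
    rcases eq_or_ne (P v) 0 with h0 | h0
    · simp [h0]
    obtain ⟨a, ha⟩ := hline' (P v) (ρ x (P v)) (hPid χ v) (hr x _ (hPid χ v)) h0
    obtain ⟨b, hb⟩ := hline' (P v) (ρ y (P v)) (hPid χ v) (hr y _ (hPid χ v)) h0
    rw [hb, map_smul, ha, map_smul, hb, smul_comm]

end CfsgLib.PGroup
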