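import Cfsg.Agent.Lib.PGroup.TameCommute
import Cfsg.Agent.Lib.PGroup.Basic
import Cfsg.Agent.Lib.InvolChar.SmallAut
import Cfsg.Agent.Lib.Transfer.PSolvable
import Cfsg.Agent.Lib.Transfer.SolvablePSolvable

/-!
Automorphisms of order four moving a plane of an abelian group with a pairing.

The squares of two such automorphisms lying in a common `2`-group commute, and hence such a square
lies in `O_{2',2}` of every solvable group of automorphisms preserving the pairing.
-/

set_option autoImplicit false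

namespace CfsgLib.PGroup.GrossPlane

open Cfsg

universe u v

variable {U : Type v} [CommGroup U]

/-- An automorphism whose square inverts a plane and which fixes what the square fixes. -/
def IsPlane (q : ℕ) (μ : MulAut U) : Prop :=
  Nat.card (Tame.moved (μ * μ)) = q * q ∧
    (∀ e ∈ Tame.moved (μ * μ), (μ * μ) e = e⁻¹) ∧ ∀ a, (μ * μ) a = a → μ a = a

theorem mem_moved {f : MulAut U} (a : U) : f a / a ∈ Tame.moved f := ⟨a, rfl⟩

theorem IsPlane.conj {q : ℕ} {μ : MulAut U} (h : IsPlane q μ) (g : MulAut U) :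
    IsPlane q (g * μ * g⁻¹) := by
  have hsq : g * μ * g⁻¹ * (g * μ * g⁻¹) = g * (μ * μ) * g⁻¹ := by group
  have hmv : Tame.moved (g * (μ * μ) * g⁻¹) = (Tame.moved (μ * μ)).map g.toMonoidHom := by
    ext e
    constructor
    · rintro ⟨a, rfl⟩
      refine ⟨(μ * μ) (g⁻¹ a) / g⁻¹ a, mem_moved _, ?_⟩
      show g ((μ * μ) (g⁻¹ a) / g⁻¹ a) = _
      rw [map_div, MulAut.apply_inv_self]
      rfl
    · rintro ⟨_, ⟨a, rfl⟩, rfl⟩
      refine ⟨g a, ?_⟩
      show g ((μ * μ) (g⁻¹ (g a))) / g a = g ((μ * μ) a / a)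
      rw [MulAut.inv_apply_self, map_div]
  refine ⟨?_, ?_, fun a ha => ?_⟩
  · rw [hsq, hmv, Subgroup.card_map_of_injective g.injective]
    exact h.1
  · rw [hsq, hmv]
    rintro _ ⟨e, he, rfl⟩
    show g ((μ * μ) (g⁻¹ (g e))) = (g e)⁻¹
    rw [MulAut.inv_apply_self, h.2.1 e he, map_inv]
  · rw [hsq] at ha
    show g (μ (g⁻¹ a)) = a
    have h1 : (μ * μ) (g⁻¹ a) = g⁻¹ a := g.injective (by rw [MulAut.apply_inv_self]; exact ha)
    rw [h.2.2 _ h1, MulAut.apply_inv_self]

section Fixed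

variable [Finite U] {q : ℕ} {μ ν : MulAut U}

theorem eq_one_of_sq (hodd : (Nat.card U).Coprime 2) {a : U} (ha : a * a = 1) : a = 1 :=
  orderOf_eq_one_iff.1 (Nat.eq_one_of_dvd_coprimes hodd (orderOf_dvd_natCard a)
    (orderOf_dvd_of_pow_eq_one (by rw [pow_two]; exact ha)))

theorem mem_of_sq_mem (hodd : (Nat.card U).Coprime 2) (H : Subgroup U) {a : U} (ha : a * a ∈ H) :
    a ∈ H := by
  obtain ⟨i, hi⟩ := exists_pow_eq_self_of_coprime
    (Nat.Coprime.coprime_dvd_right (orderOf_dvd_natCard a) hodd.symm)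
  rw [← hi, pow_two]
  exact pow_mem ha i

theorem eq_one_of_moved (hodd : (Nat.card U).Coprime 2) (h : IsPlane q μ) {e : U}
    (he : e ∈ Tame.moved (μ * μ)) (hf : (μ * μ) e = e) : e = 1 := by
  refine eq_one_of_sq hodd ?_
  have h1 := (h.2.1 e he).symm.trans hf
  rw [inv_eq_iff_mul_eq_one] at h1
  exact h1

theorem mem_moved_of_inverted (hodd : (Nat.card U).Coprime 2) {f : MulAut U} {e : U}
    (he : f e = e⁻¹) : e ∈ Tame.moved f := by
  refine mem_of_sq_mem hodd _ ?_
  have h1 := inv_mem (mem_moved (f := f) e)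
  rwa [he, div_eq_mul_inv, mul_inv_rev, inv_inv] at h1

theorem exists_split (hodd : (Nat.card U).Coprime 2) (h : IsPlane q μ) (a : U) :
    ∃ e f, e ∈ Tame.moved (μ * μ) ∧ (μ * μ) f = f ∧ a = e * f := by
  set τ := μ * μ with hτ
  have hττ : τ (τ a) = a := by
    have h1 := h.2.1 _ (mem_moved (f := τ) a)
    rw [map_div, inv_div, div_left_inj] at h1
    exact h1
  have hsq : a * a ∈ Tame.moved τ ⊔ Tame.fixed τ := by
    rw [show a * a = (τ a / a)⁻¹ * (τ a * a) by
      rw [inv_div, div_mul_eq_mul_div, mul_comm (τ a) a, ← mul_assoc, mul_div_cancel_right]]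
    exact Subgroup.mul_mem_sup (inv_mem (mem_moved a)) (Tame.mem_fixed.2 (by
      rw [map_mul, hττ, mul_comm]))
  obtain ⟨e, he, f, hf, hef⟩ := Subgroup.mem_sup.1 (mem_of_sq_mem hodd _ hsq)
  exact ⟨e, f, he, Tame.mem_fixed.1 hf, hef.symm⟩

theorem div_mem_moved (hodd : (Nat.card U).Coprime 2) (h : IsPlane q μ) (a : U) :
    μ a / a ∈ Tame.moved (μ * μ) := by
  obtain ⟨e, f, he, hf, rfl⟩ := exists_split hodd h a
  rw [map_mul, h.2.2 f hf, mul_div_mul_right_eq_div]
  refine Subgroup.div_mem _ ?_ he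
  refine mem_moved_of_inverted hodd ?_
  show μ (μ (μ e)) = (μ e)⁻¹
  rw [← map_inv, ← h.2.1 e he]
  rfl

/-- An automorphism commuting with `τ` preserves what `τ` moves. -/
theorem apply_mem_moved {f g : MulAut U} (hc : g * f = f * g) {e : U} (he : e ∈ Tame.moved f) :
    g e ∈ Tame.moved f := by
  obtain ⟨a, rfl⟩ := he
  refine ⟨g a, ?_⟩
  rw [Tame.dhom_apply, Tame.dhom_apply, map_div]
  exact congrArg (· / g a) (DFunLike.congr_fun hc.symm a)

end Fixed

section Pairing

variable [Finite U] {q : ℕ} [hq : Fact q.Prime] {M : Type*} [CommMonoid M] (β : U →* U →* M)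
  {μ ν : MulAut U}

theorem pairing_moved_fixed (hodd : (Nat.card U).Coprime 2) (hinv : ∀ a b, β (μ a) (μ b) = β a b)
    (h : IsPlane q μ) {e f : U} (he : e ∈ Tame.moved (μ * μ)) (hf : (μ * μ) f = f) :
    β e f = 1 := by
  have h1 : β e⁻¹ f = β e f := by
    rw [← h.2.1 e he]
    conv_lhs => rw [← hf]
    rw [MulAut.mul_apply, MulAut.mul_apply, hinv, hinv]
  have h2 : β e f * β e f = 1 := by
    nth_rewrite 1 [← h1]
    rw [← MonoidHom.mul_apply, ← map_mul, inv_mul_cancel, map_one, MonoidHom.one_apply]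
  refine orderOf_eq_one_iff.1 (Nat.eq_one_of_dvd_coprimes hodd (orderOf_dvd_of_pow_eq_one ?_)
    (orderOf_dvd_of_pow_eq_one (by rw [pow_two]; exact h2)))
  rw [← map_pow, pow_card_eq_one', map_one]

variable (hodd : (Nat.card U).Coprime 2) (hself : ∀ a, β a a = 1)
  (hnd : ∀ e, (∀ b, β e b = 1) → e = 1)

include hodd hnd in
theorem eq_one_of_pairing_moved (hinv : ∀ a b, β (μ a) (μ b) = β a b) (h : IsPlane q μ) {e : U}
    (he : e ∈ Tame.moved (μ * μ)) (h1 : ∀ e' ∈ Tame.moved (μ * μ), β e e' = 1) : e = 1 := by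
  refine hnd e fun b => ?_
  obtain ⟨e', f, he', hf, rfl⟩ := exists_split hodd h b
  rw [map_mul, h1 e' he', pairing_moved_fixed β hodd hinv h he hf, one_mul]

include hodd hnd hself in
/-- Two planes with commuting involutions are equal or meet trivially. -/
theorem inf_moved_eq_bot (hinv : ∀ a b, β (μ a) (μ b) = β a b)
    (hinv' : ∀ a b, β (ν a) (ν b) = β a b) (h : IsPlane q μ) (h' : IsPlane q ν)
    (hc : μ * μ * (ν * ν) = ν * ν * (μ * μ)) :
    Tame.moved (μ * μ) ⊓ Tame.moved (ν * ν) = ⊥ ∨ Tame.moved (μ * μ) = Tame.moved (ν * ν) := by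
  set E := Tame.moved (μ * μ) with hE
  set E' := Tame.moved (ν * ν) with hE'
  set D := E ⊓ E' with hD
  by_cases hD1 : Nat.card D = 1
  · exact Or.inl (Subgroup.eq_bot_of_card_eq _ hD1)
  have hdvd : Nat.card D ∣ q ^ 2 := by
    rw [pow_two, ← h.1]
    exact Subgroup.card_dvd_of_le inf_le_left
  obtain ⟨i, hi, hDi⟩ := (Nat.dvd_prime_pow hq.out).1 hdvd
  interval_cases i
  · exact absurd (by simpa using hDi) hD1
  · exfalso
    have : IsCyclic D := isCyclic_of_prime_card (p := q) (by simpa using hDi)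
    obtain ⟨g, hg⟩ := IsCyclic.exists_generator (α := D)
    have hcyc : ∀ a b : D, β (a : U) (b : U) = 1 := fun a b => by
      obtain ⟨i, rfl⟩ := (mem_powers_iff_mem_zpowers.2 (hg a))
      obtain ⟨j, rfl⟩ := (mem_powers_iff_mem_zpowers.2 (hg b))
      simp only [Subgroup.coe_pow, map_pow, MonoidHom.pow_apply, hself, one_pow]
    obtain ⟨e, he, he1⟩ := (Subgroup.ne_bot_iff_exists_ne_one.1 (fun hb : D = ⊥ => hD1 (by
      rw [hb, Subgroup.card_bot]))) |>.elim fun x hx =>
        (⟨(x : U), x.2, fun h0 => hx (Subtype.ext h0)⟩ : ∃ e ∈ D, e ≠ 1)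
    refine he1 (eq_one_of_pairing_moved β hodd hnd hinv h he.1 fun e'' he'' => ?_)
    obtain ⟨d, f, hd, hf, rfl⟩ := exists_split hodd h' e''
    have hdE : d ∈ E := by
      refine mem_of_sq_mem hodd _ ?_
      have h1 : (ν * ν) (d * f) ∈ E := apply_mem_moved hc.symm he''
      have h2 := E.mul_mem he'' (E.inv_mem h1)
      rw [map_mul, h'.2.1 d hd, hf] at h2
      rwa [show d * f * (d⁻¹ * f)⁻¹ = d * d by
        rw [mul_inv, inv_inv, mul_mul_mul_comm, mul_inv_cancel, mul_one]] at h2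
    rw [map_mul, hcyc ⟨e, he⟩ ⟨d, hdE, hd⟩, pairing_moved_fixed β hodd hinv' h' he.2 hf, one_mul]
  · refine Or.inr ((Subgroup.eq_of_le_of_card_ge inf_le_left ?_).symm.trans
      (Subgroup.eq_of_le_of_card_ge inf_le_right ?_))
    · rw [hDi, h.1, pow_two]
    · rw [hDi, h'.1, pow_two]

include hodd hnd hself in
/-- Commuting squares are equal, or each plane is fixed by the other square. -/
theorem eq_or_fixed (hinv : ∀ a b, β (μ a) (μ b) = β a b)
    (hinv' : ∀ a b, β (ν a) (ν b) = β a b) (h : IsPlane q μ) (h' : IsPlane q ν)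
    (hc : μ * μ * (ν * ν) = ν * ν * (μ * μ)) :
    μ * μ = ν * ν ∨ ((∀ e ∈ Tame.moved (μ * μ), (ν * ν) e = e) ∧
      ∀ e ∈ Tame.moved (ν * ν), (μ * μ) e = e) := by
  rcases inf_moved_eq_bot β hodd hself hnd hinv hinv' h h' hc with hb | hEq
  · refine Or.inr ⟨fun e he => ?_, fun e he => ?_⟩
    · rw [← div_eq_one, ← Subgroup.mem_bot, ← hb]
      exact ⟨Subgroup.div_mem _ (apply_mem_moved hc.symm he) he, mem_moved e⟩
    · rw [← div_eq_one, ← Subgroup.mem_bot, ← hb]
      exact ⟨mem_moved e, Subgroup.div_mem _ (apply_mem_moved hc he) he⟩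
  · refine Or.inl (MulEquiv.ext fun a => ?_)
    obtain ⟨e, f, he, hf, rfl⟩ := exists_split hodd h a
    obtain ⟨d, g, hd, hg, rfl⟩ := exists_split hodd h' f
    have hd1 : d = 1 := by
      rw [map_mul] at hf
      have h1 : (μ * μ) g = d * (d * g) := by
        rw [h.2.1 d (hEq ▸ hd), inv_mul_eq_iff_eq_mul] at hf
        exact hf
      have h2 : (ν * ν) ((μ * μ) g) = (μ * μ) g := by
        rw [← MulAut.mul_apply, ← hc, MulAut.mul_apply, hg]
      rw [h1, ← mul_assoc, map_mul, hg, mul_left_inj] at h2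
      exact eq_one_of_sq hodd (eq_one_of_moved hodd h' (mul_mem hd hd) h2)
    subst hd1
    rw [one_mul] at hf ⊢
    rw [map_mul, map_mul, h.2.1 e he, hf, h'.2.1 e (hEq ▸ he), hg]

include hodd hnd hself in
/-- Plane automorphisms with commuting squares commute or have the same square. -/
theorem eq_or_commute (hinv : ∀ a b, β (μ a) (μ b) = β a b)
    (hinv' : ∀ a b, β (ν a) (ν b) = β a b) (h : IsPlane q μ) (h' : IsPlane q ν)
    (hc : μ * μ * (ν * ν) = ν * ν * (μ * μ)) : μ * μ = ν * ν ∨ μ * ν = ν * μ := by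
  refine (eq_or_fixed β hodd hself hnd hinv hinv' h h' hc).imp id fun hfix => ?_
  refine MulEquiv.ext fun a => ?_
  show μ (ν a) = ν (μ a)
  have h1 : μ (ν a / a) = ν a / a := h.2.2 _ (hfix.2 _ (div_mem_moved hodd h' a))
  have h2 : ν (μ a / a) = μ a / a := h'.2.2 _ (hfix.1 _ (div_mem_moved hodd h a))
  rw [map_div, div_eq_iff_eq_mul] at h1 h2
  rw [h1, h2]
  simp [div_eq_mul_inv, mul_comm, mul_left_comm, mul_assoc]

include hodd hnd hself in
/-- If the conjugates of a square by a plane automorphism commute with it, so does its square. -/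
theorem commute_of_conjugates_commute (hinv : ∀ a b, β (μ a) (μ b) = β a b)
    (hinv' : ∀ a b, β (ν a) (ν b) = β a b) (h : IsPlane q μ) (h' : IsPlane q ν)
    (hc₁ : μ * μ * (ν * (μ * μ) * ν⁻¹) = ν * (μ * μ) * ν⁻¹ * (μ * μ))
    (hc₂ : μ * μ * (ν * ν * (μ * μ) * (ν * ν)⁻¹) = ν * ν * (μ * μ) * (ν * ν)⁻¹ * (μ * μ)) :
    μ * μ * (ν * ν) = ν * ν * (μ * μ) := by
  classical
  set τ := μ * μ with hτ
  have hconjinv : ∀ g : MulAut U, (∀ a b, β (g a) (g b) = β a b) →
      ∀ a b, β ((g * μ * g⁻¹) a) ((g * μ * g⁻¹) b) = β a b := fun g hg a b => by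
    show β (g (μ (g⁻¹ a))) (g (μ (g⁻¹ b))) = _
    rw [hg, hinv, ← hg, MulAut.apply_inv_self, MulAut.apply_inv_self]
  have hsq : ∀ g : MulAut U, g * μ * g⁻¹ * (g * μ * g⁻¹) = g * τ * g⁻¹ := fun g => by
    rw [hτ]; group
  rcases eq_or_fixed β hodd hself hnd hinv (hconjinv ν hinv') h (h.conj ν)
    (by rw [hsq]; exact hc₁) with heq | hfix
  · rw [hsq] at heq
    have h1 : τ * ν = ν * τ := mul_inv_eq_iff_eq_mul.1 heq.symm |>.symm
    show τ * (ν * ν) = ν * ν * τ
    rw [← mul_assoc, h1, mul_assoc, h1, ← mul_assoc]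
  rw [hsq] at hfix
  exfalso
  set E := Tame.moved τ with hE
  -- `ν` maps the plane into the fixed points of `τ`
  have hνE : ∀ e ∈ E, τ (ν e) = ν e := fun e he => hfix.2 _ (mem_moved_of_inverted hodd (by
    show ν (τ (ν⁻¹ (ν e))) = (ν e)⁻¹
    rw [MulAut.inv_apply_self, h.2.1 e he, map_inv]))
  have hmeet : ∀ e ∈ E, τ e = e → e = 1 := fun e he hf => eq_one_of_moved hodd h he hf
  let d : E → Tame.moved (ν * ν) := fun e => ⟨ν e.1 / e.1, div_mem_moved hodd h' _⟩
  have hdinj : Function.Injective d := by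
    intro e₁ e₂ he
    have h1 : ν e₁.1 / e₁.1 = ν e₂.1 / e₂.1 := congrArg Subtype.val he
    have h2 : ν (e₁.1 / e₂.1) = e₁.1 / e₂.1 := by
      rw [map_div, ← div_eq_one, div_div_div_comm, h1, div_self']
    have hm : e₁.1 / e₂.1 ∈ E := Subgroup.div_mem _ e₁.2 e₂.2
    have h3 := hνE _ hm
    rw [h2] at h3
    exact Subtype.ext (div_eq_one.1 (hmeet _ hm h3))
  have hdsurj : Function.Surjective d := ((Nat.bijective_iff_injective_and_card d).2
    ⟨hdinj, by rw [h.1, h'.1]⟩).2
  -- the plane and the image under the square of `ν`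
  have hcase : (∀ e ∈ E, (ν * ν) e ∈ E) ∨ ∀ e ∈ E, τ ((ν * ν) e) = (ν * ν) e := by
    rcases eq_or_fixed β hodd hself hnd hinv (hconjinv (ν * ν) (fun a b => by
        show β (ν (ν a)) (ν (ν b)) = _
        rw [hinv', hinv'])) h (h.conj (ν * ν)) (by rw [hsq]; exact hc₂) with heq | hf₂
    · rw [hsq] at heq
      exact Or.inl fun e he => apply_mem_moved (mul_inv_eq_iff_eq_mul.1 heq.symm) he
    · rw [hsq] at hf₂
      refine Or.inr fun e he => hf₂.2 _ (mem_moved_of_inverted hodd ?_)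
      show (ν * ν) (τ ((ν * ν)⁻¹ ((ν * ν) e))) = ((ν * ν) e)⁻¹
      rw [MulAut.inv_apply_self, h.2.1 e he, map_inv]
  obtain ⟨⟨e, he⟩, he1⟩ : ∃ e : E, e ≠ 1 := by
    have : Nontrivial E := Finite.one_lt_card_iff_nontrivial.1 (by
      rw [h.1]; exact Nat.one_lt_mul_iff.2 ⟨hq.out.pos, hq.out.pos, Or.inl hq.out.one_lt⟩)
    exact exists_ne 1
  have he1 : e ≠ 1 := fun h0 => he1 (Subtype.ext h0)
  obtain ⟨⟨e', he'⟩, hde⟩ := hdsurj ⟨ν (ν e) / ν e, div_mem_moved hodd h' _⟩
  have hde : ν e' / e' = ν (ν e) / ν e := congrArg Subtype.val hde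
  have hkey : (ν * ν) e * e' = ν (e * e') := by
    rw [div_eq_div_iff_mul_eq_mul] at hde
    show ν (ν e) * e' = _
    rw [map_mul, ← hde, mul_comm (ν e)]
  rcases hcase with hin | hout
  · have h1 : (ν * ν) e * e' = 1 := by
      refine hmeet _ (mul_mem (hin e he) he') ?_
      rw [hkey]
      exact hνE _ (mul_mem he he')
    have h2 : e' = e⁻¹ := by
      have h3 : ν (e * e') = ν 1 := by rw [← hkey, h1, map_one]
      exact eq_inv_of_mul_eq_one_right (ν.injective h3)
    have h4 : (ν * ν) e = e := by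
      rw [h2, mul_inv_eq_one] at h1
      exact h1
    have h5 : (ν * ν) (ν e / e) = ν e / e := by
      rw [map_div, h4]
      show ν (ν (ν e)) / e = _
      rw [show ν (ν e) = e from h4]
    have h6 : (⟨e, he⟩ : E) = 1 := hdinj (Subtype.ext (by
      show ν e / e = ν 1 / 1
      rw [map_one, div_one]
      exact eq_one_of_moved hodd h' (div_mem_moved hodd h' e) h5))
    exact he1 (congrArg Subtype.val h6)
  · have h1 : τ e' = e' := by
      have h2 : τ ((ν * ν) e * e') = (ν * ν) e * e' := by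
        rw [hkey]; exact hνE _ (mul_mem he he')
      rwa [map_mul, hout e he, mul_right_inj] at h2
    obtain rfl := hmeet _ he' h1
    rw [mul_one, mul_one] at hkey
    have h3 : ν e = e := ν.injective hkey
    exact he1 (hmeet e he (by rw [← h3]; exact hνE e he))

end Pairing

section Group

variable [Finite U] {q : ℕ} [hq : Fact q.Prime] {M : Type*} [CommMonoid M] (β : U →* U →* M)
  (hodd : (Nat.card U).Coprime 2) (hself : ∀ a, β a a = 1)
  (hnd : ∀ e, (∀ b, β e b = 1) → e = 1)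
  {X : Type u} [Group X] [Finite X] (act : X →* MulAut U)
  (hinv : ∀ g a b, β (act g a) (act g b) = β a b)

include hodd hself hnd hinv in
/-- In a `2`-group the squares of plane automorphisms commute. -/
theorem squares_commute : ∀ (H : Subgroup X), IsPGroup 2 H → ∀ x ∈ H, ∀ y ∈ H,
    IsPlane q (act x) → IsPlane q (act y) →
    act x * act x * (act y * act y) = act y * act y * (act x * act x) := by
  classical
  intro H
  induction H using WellFoundedLT.induction with
  | _ H ih =>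
  intro hH x hx y hy hpx hpy
  rcases eq_or_lt_of_le ((Subgroup.zpowers_le).2 hx : Subgroup.zpowers x ≤ H) with heq | hlt
  · obtain ⟨i, rfl⟩ := Subgroup.mem_zpowers_iff.1 (heq ▸ hy : y ∈ Subgroup.zpowers x)
    have hc : Commute (act x) (act (x ^ i)) := ((Commute.refl x).zpow_right i).map act
    exact ((hc.mul_left hc).mul_right (hc.mul_left hc)).eq
  have hne : (Subgroup.zpowers x).subgroupOf H ≠ ⊤ := fun h =>
    hlt.not_ge (Subgroup.subgroupOf_eq_top.1 h)
  obtain ⟨N, hN, hxN⟩ := (eq_top_or_exists_le_coatom _).resolve_left hne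
  haveI : Group.IsNilpotent H := hH.isNilpotent
  haveI : N.Normal := Subgroup.NormalizerCondition.normal_of_coatom N
    normalizerCondition_of_isNilpotent hN
  set Mm := N.map H.subtype with hMm
  have hMlt : Mm < H := lt_of_le_of_ne (Subgroup.map_subtype_le N) fun h => hN.1
    (Subgroup.map_injective H.subtype_injective
      (h.trans (by rw [← MonoidHom.range_eq_map, Subgroup.range_subtype])))
  have hxM : x ∈ Mm := ⟨⟨x, hx⟩, hxN (Subgroup.mem_subgroupOf.2 (Subgroup.mem_zpowers x)), rfl⟩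
  have hconjM : ∀ g ∈ H, g * x * g⁻¹ ∈ Mm := fun g hg =>
    ⟨⟨g, hg⟩ * ⟨x, hx⟩ * ⟨g, hg⟩⁻¹, (inferInstance : N.Normal).conj_mem _
      (hxN (Subgroup.mem_subgroupOf.2 (Subgroup.mem_zpowers x))) _, rfl⟩
  have hM2 : IsPGroup 2 Mm := hH.to_le hMlt.le
  have key : ∀ g ∈ H, act x * act x * (act g * (act x * act x) * (act g)⁻¹) =
      act g * (act x * act x) * (act g)⁻¹ * (act x * act x) := by
    intro g hg
    have h1 := ih Mm hMlt hM2 x hxM _ (hconjM g hg) hpx (by
      rw [map_mul, map_mul, map_inv]; exact hpx.conj _)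
    rw [map_mul, map_mul, map_inv] at h1
    have e : act g * act x * (act g)⁻¹ * (act g * act x * (act g)⁻¹) =
        act g * (act x * act x) * (act g)⁻¹ := by group
    rwa [e] at h1
  exact commute_of_conjugates_commute β hodd hself hnd (hinv x) (hinv y) hpx hpy (key y hy)
    (by rw [← map_mul act y y]; exact key _ (mul_mem hy hy))

include hodd hself hnd hinv in
/-- The square of a plane automorphism lies in `O_{2',2}`. -/
theorem sq_mem_pCore (hinj : Function.Injective act) (hsol : Group.IsSolvable X) {x : X}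
    (hx2 : IsPGroup 2 (Subgroup.zpowers x)) (hpx : IsPlane q (act x)) :
    QuotientGroup.mk' (pPrimeCore 2 X) (x * x) ∈ pCore 2 (X ⧸ pPrimeCore 2 X) := by
  classical
  haveI := hsol
  set π := QuotientGroup.mk' (pPrimeCore 2 X) with hπ
  set R := pCore 2 (X ⧸ pPrimeCore 2 X) with hR
  have hRp : IsPGroup 2 R := CfsgLib.Cores.isPGroup_pCore 2
  have hker := CfsgLib.A8.ker_frattiniAct
    (CfsgLib.Transfer.centralizer_pCore_le_of_isPSolvable
      (CfsgLib.Transfer.isPSolvable_of_isSolvable 2 (G := X ⧸ pPrimeCore 2 X) inferInstance)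
      (CfsgLib.Cores.pPrimeCore_quotient_self (G := X) 2))
  obtain ⟨P, hP⟩ := hx2.exists_le_sylow
  have hxP : x ∈ (P : Subgroup X) := hP (Subgroup.mem_zpowers x)
  have hRP : R ≤ (P : Subgroup X).map π := by
    rw [← Sylow.coe_mapSurjective (QuotientGroup.mk'_surjective _)]
    exact CfsgLib.Cores.pCore_le_sylow _
  rw [hR, ← hker, MonoidHom.mem_ker]
  refine MulEquiv.ext fun v => ?_
  obtain ⟨r, rfl⟩ := QuotientGroup.mk_surjective v
  obtain ⟨s, hs, hsr⟩ := hRP r.2
  set y := s * x * s⁻¹ with hy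
  have hyP : y ∈ (P : Subgroup X) := mul_mem (mul_mem hs hxP) (inv_mem hs)
  have hpy : IsPlane q (act y) := by rw [hy, map_mul, map_mul, map_inv]; exact hpx.conj _
  have hc := squares_commute β hodd hself hnd act hinv _ P.2 x hxP y hyP hpx hpy
  show (QuotientGroup.mk (MulAut.conjNormal (π (x * x)) r) : ↥R ⧸ frattini ↥R) = QuotientGroup.mk r
  have hval : ((MulAut.conjNormal (π (x * x)) r : R) : X ⧸ pPrimeCore 2 X) =
      π (x * x) * π s * (π (x * x))⁻¹ := by
    rw [MulAut.conjNormal_apply, hsr]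
  rcases eq_or_commute β hodd hself hnd (hinv x) (hinv y) hpx hpy hc with heq | hcm
  · have h1 : x * x = y * y := hinj (by rw [map_mul, map_mul]; exact heq)
    refine congrArg _ (Subtype.ext ?_)
    rw [hval, ← hsr, h1, mul_inv_eq_iff_eq_mul, ← map_mul, ← map_mul]
    conv_rhs => rw [← h1]
    rw [hy]
    exact congrArg π (by group)
  · have hxy : Commute x y := hinj ((map_mul act x y).trans (hcm.trans (map_mul act y x).symm))
    have hwR : π (x * y⁻¹) ∈ R := by
      rw [show x * y⁻¹ = x * s * x⁻¹ * s⁻¹ by rw [hy]; group, map_mul, map_mul, map_mul]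
      refine R.mul_mem ?_ (by rw [map_inv]; exact R.inv_mem (hsr ▸ r.2))
      have h1 := (inferInstance : R.Normal).conj_mem _ r.2 (π x)
      rwa [← hsr, ← map_inv] at h1
    have h2 : MulAut.conjNormal (π (x * x)) r = (⟨_, hwR⟩ : R) ^ 2 * r := by
      refine Subtype.ext ?_
      rw [hval, Subgroup.coe_mul, Subgroup.coe_pow, ← hsr]
      show π (x * x) * π s * (π (x * x))⁻¹ = π (x * y⁻¹) ^ 2 * π s
      rw [← map_inv, ← map_mul, ← map_mul, ← map_pow, ← map_mul]
      refine congrArg π ?_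
      rw [hxy.inv_right.mul_pow, inv_pow, pow_two, pow_two, hy]
      group
    rw [h2, QuotientGroup.mk_mul, QuotientGroup.mk_pow, quotient_frattini_pow hRp, one_mul]

end Group

end CfsgLib.PGroup.GrossPlane
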