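import Cfsg.Agent.Lib.PGroup.HHExceptional
import Cfsg.Agent.Lib.PGroup.GrossPlane

/-!
The component on which an exceptional element of order `2 ^ N` acts is a plane.
-/

set_option autoImplicit false

open scoped commutatorElement

namespace CfsgLib.PGroup.GrossPlane

open CfsgLib CfsgLib.Solvable CfsgLib.Transfer.HHB CfsgLib.PGroup.HHExceptional

variable {k : Type*} [Field k] [IsAlgClosed k] {W : Type*} [AddCommGroup W] [Module k W]
  [FiniteDimensional k W] [CharP k 2]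

/-- A power of a prime one below a power of two is that prime. -/
theorem eq_one_of_pow_eq_two_pow_sub_one {q m N : ℕ} (hq : Odd q) (hq1 : 1 < q) (hm : 1 ≤ m)
    (h : q ^ m + 1 = 2 ^ N) : m = 1 := by
  rcases Nat.even_or_odd m with ⟨j, rfl⟩ | hodd
  · exfalso
    obtain ⟨r, hr⟩ := hq.pow (n := j)
    rcases N with _ | _ | N
    · have := Nat.one_le_pow (j + j) q (by omega)
      simp at h
      omega
    · have h2 : q ≤ q ^ (j + j) := Nat.le_self_pow (by omega) q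
      simp at h
      omega
    · have h4 : (q ^ (j + j) + 1) % 4 = 2 := by
        rw [pow_add, hr, show (2 * r + 1) * (2 * r + 1) + 1 = 4 * (r * r + r) + 2 by ring,
          Nat.mul_add_mod]
      rw [h, pow_succ, pow_succ, mul_assoc] at h4
      simp at h4
  · by_contra hne
    have hq' : (q : ℤ) + 1 ∣ (q : ℤ) ^ m + 1 := by
      have h1 := sub_dvd_pow_sub_pow (q : ℤ) (-1) m
      rwa [hodd.neg_one_pow, sub_neg_eq_add, sub_neg_eq_add] at h1
    obtain ⟨c, hc⟩ := hq'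
    have hS : (∑ i ∈ Finset.range m, (q : ℤ) ^ i * (-1) ^ (m - 1 - i)) * (q + 1) =
        (q : ℤ) ^ m + 1 := by
      have h1 := geom_sum₂_mul (q : ℤ) (-1) m
      rwa [hodd.neg_one_pow, sub_neg_eq_add, sub_neg_eq_add] at h1
    set S := ∑ i ∈ Finset.range m, (q : ℤ) ^ i * (-1) ^ (m - 1 - i) with hSdef
    have hSodd : Odd S := by
      rw [Int.odd_iff]
      have : S % 2 = (m : ℤ) % 2 := by
        rw [hSdef, Finset.sum_int_mod]
        have h2 : ∀ i ∈ Finset.range m, ((q : ℤ) ^ i * (-1) ^ (m - 1 - i)) % 2 = 1 := fun i _ =>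
          Int.odd_iff.1 (Odd.mul ((Int.odd_coe_nat q).2 hq).pow (Odd.pow ⟨-1, by ring⟩))
        rw [Finset.sum_congr rfl h2]
        simp
      rw [this]
      obtain ⟨t, rfl⟩ := hodd
      push_cast
      omega
    have hqN : S.natAbs ∣ 2 ^ N := by
      rw [← h]
      exact Int.natAbs_dvd_natAbs.2 ⟨(q : ℤ) + 1, by push_cast; exact hS.symm⟩
    obtain ⟨t, -, ht⟩ := (Nat.dvd_prime_pow Nat.prime_two).1 hqN
    have hS1 : S = 1 := by
      rcases t with _ | t
      · have h1 : (0 : ℤ) < S := by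
          have : (0 : ℤ) < (q : ℤ) ^ m + 1 := by positivity
          rw [← hS] at this
          exact (pos_iff_pos_of_mul_pos this).2 (by positivity)
        simp at ht
        omega
      · exact absurd (Int.natAbs_odd.2 hSodd) (by rw [ht, Nat.not_odd_iff_even, pow_succ]; exact even_two.mul_left _)
    rw [hS1, one_mul, add_left_inj] at hS
    have : q ^ 1 = q ^ m := by rw [pow_one]; exact_mod_cast hS
    exact hne (Nat.pow_right_injective hq1 this).symm

set_option maxHeartbeats 1000000 in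
/-- The part of a component moved by the involution of a defective operator is a plane. -/
theorem moved_plane [Nontrivial W] {q : ℕ} [hqf : Fact q.Prime] (hq2 : q ≠ 2) {Q : Type*} [Group Q]
    [Finite Q] (hQ2 : IsPGroup q Q) (ρ : Q →* Module.End k W)
    (hD : ∀ x y : Q, ∃ c : k, ρ ⁅x, y⁆ = c • (1 : Module.End k W)) (γ : MulAut Q) {N : ℕ} (hN : 0 < N)
    (hγ : γ ^ 2 ^ N = 1) {S : Module.End k W} (hS : ∀ x, S * ρ x = ρ (γ x) * S)
    (hSN : S ^ 2 ^ N = 1) (hdef : (S - 1) ^ (2 ^ N - 1) = 0) {U : Type*} [CommGroup U] [Finite U]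
    (π : Q →* U) (hπ : Function.Surjective π) (hker : ∀ x : Q, π x = 1 ↔ ∀ y : Q, ρ ⁅y, x⁆ = 1)
    (τ : MulAut U) (hτ : ∀ x, π ((γ ^ 2 ^ (N - 1)) x) = τ (π x)) :
    τ = 1 ∨ (2 ≤ N ∧ ∀ μ : MulAut U, (∀ x, π ((γ ^ 2 ^ (N - 2)) x) = μ (π x)) →
      μ * μ = τ ∧ IsPlane q μ) := by
  classical
  obtain ⟨f₀, hf₀⟩ := IsPGroup.iff_card.1 hQ2
  have hk2 : (2 : k) = 0 := by exact_mod_cast CharP.cast_eq_zero k 2
  have hcop2 : Nat.Coprime q 2 := (Nat.coprime_primes hqf.out Nat.prime_two).2 hq2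
  have hQk : (Nat.card Q : k) ≠ 0 := by
    intro h0
    rw [CharP.cast_eq_zero_iff k 2, hf₀] at h0
    exact hq2 ((Nat.prime_dvd_prime_iff_eq Nat.prime_two hqf.out).1
      (Nat.prime_two.dvd_of_dvd_pow h0)).symm
  set t := γ ^ 2 ^ (N - 1) with ht
  have htp : t ^ 2 = 1 := by
    rw [ht, ← pow_mul, ← pow_succ, Nat.sub_add_cancel hN, hγ]
  have hSu : S * S ^ (2 ^ N - 1) = 1 := by
    rw [← pow_succ', Nat.sub_add_cancel (Nat.pow_pos Nat.two_pos), hSN]
  have hscalar : ∀ z : Q, (∃ c : k, ρ z = c • 1) → ρ (γ z) = ρ z := fun z ⟨c, hc⟩ => by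
    calc ρ (γ z) = ρ (γ z) * S * S ^ (2 ^ N - 1) := by rw [mul_assoc, hSu, mul_one]
      _ = S * ρ z * S ^ (2 ^ N - 1) := by rw [hS]
      _ = ρ z := by rw [hc, mul_smul_comm, mul_one, smul_mul_assoc, hSu]
  have hscalpow : ∀ (i : ℕ) (z : Q), (∃ c : k, ρ z = c • 1) → ρ ((γ ^ i) z) = ρ z := by
    intro i
    induction i with
    | zero => intro z _; rfl
    | succ i ih =>
      intro z hz
      rw [pow_succ, MulAut.mul_apply, ih (γ z) (hz.imp fun c hc => (hscalar z hz).trans hc),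
        hscalar z hz]
  -- the radical
  set R := π.ker with hR
  haveI : R.Normal := π.normal_ker
  have hRmem : ∀ x, x ∈ R ↔ ∀ y, ρ ⁅y, x⁆ = 1 := fun x => MonoidHom.mem_ker.trans (hker x)
  have hRcomm : ∀ r ∈ R, ∀ y, ρ r * ρ y = ρ y * ρ r := fun r hr y => by
    have e1 : ⁅y, r⁆ * (r * y) = y * r := by rw [commutatorElement_def]; group
    rw [← map_mul, ← map_mul, ← e1, map_mul _ ⁅y, r⁆, (hRmem r).1 hr y, one_mul]
  have hDR : ∀ x y, ⁅x, y⁆ ∈ R := fun x y => by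
    rw [hR, MonoidHom.mem_ker, map_commutatorElement, commutatorElement_eq_one_iff_mul_comm,
      mul_comm]
  have hγR : ∀ r ∈ R, γ r ∈ R := fun r hr => (hRmem _).2 fun y => by
    obtain ⟨z, rfl⟩ := γ.surjective y
    rw [← map_commutatorElement, hscalar _ (hD z r), (hRmem r).1 hr z]
  have htR : ∀ r ∈ R, t r ∈ R := pow_apply_invariant hγR _
  obtain ⟨ψ, hψ⟩ := CfsgLib.FGS.exists_restrict_mulAut γ hγR
  have hSR : ∀ r : R, S * (ρ.comp R.subtype) r = (ρ.comp R.subtype) (ψ r) * S := fun r => by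
    show S * ρ r = ρ (ψ r : R) * S
    have h1 := hψ 1 r
    rw [pow_one, pow_one] at h1
    rw [h1, hS]
  have htfix : ∀ r ∈ R, ρ (t r) = ρ r := by
    by_contra hcon
    push Not at hcon
    obtain ⟨r, hr, hrne⟩ := hcon
    have h := regular_bound (π := ρ.comp R.subtype) (σ := ψ) (S := S) (M := Nat.card Q)
      (fun a b => hRcomm a a.2 b) hQk
      (fun a => by show ρ a ^ _ = 1; rw [← map_pow, pow_card_eq_one', map_one])
      hSR hN (MulEquiv.ext fun a => Subtype.ext (by rw [hψ, hγ]; rfl)) hSN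
      ⟨⟨r, hr⟩, by show ρ ((ψ ^ 2 ^ (N - 1)) ⟨r, hr⟩ : R) ≠ ρ r; rwa [hψ, ← ht]⟩ hdef
    have := Nat.pow_pos (n := N) Nat.two_pos
    omega
  obtain ⟨φ, hφ⟩ := exists_weight (ρ.comp R.subtype) fun a b => hRcomm a a.2 b
  obtain ⟨w₀, hw₀, hw₀ne⟩ := Submodule.exists_mem_ne_zero_of_ne_bot hφ
  have hφfix : ∀ r : R, φ ((ψ ^ 2 ^ (N - 1)) r) = φ r := fun r => by
    refine smul_left_injective k hw₀ne ?_
    show φ _ • w₀ = φ r • w₀
    rw [← mem_weightSpace.1 hw₀ _, ← mem_weightSpace.1 hw₀ r]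
    show ρ ((ψ ^ 2 ^ (N - 1)) r : R) w₀ = ρ r w₀
    rw [hψ, ← ht, htfix r r.2]
  obtain ⟨b, hbN, hbfix, hbdef⟩ := orbit_step hSR hN hSN hdef hφfix
  set W' := weightSpace (ρ.comp R.subtype) φ with hW'
  haveI : Nontrivial W' := Submodule.nontrivial_iff_ne_bot.2 hφ
  have hWinv : ∀ y, ∀ w ∈ W', ρ y w ∈ W' := fun y w hw => by
    rw [hW', mem_weightSpace] at hw ⊢
    intro a
    show ρ a (ρ y w) = φ a • ρ y w
    rw [← Module.End.mul_apply, hRcomm a a.2, Module.End.mul_apply, ← map_smul, ← hw a]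
    rfl
  set ρ' := restrictRep ρ W' hWinv with hρ'
  have hT : ∀ w ∈ W', (S ^ (2 : ℕ) ^ b) w ∈ W' := pow_weight_invariant hSR hbfix
  set T : Module.End k W' := (S ^ (2 : ℕ) ^ b).restrict hT with hTdef
  have hTpow : ∀ (i : ℕ) (w : W'), (((T ^ i) w : W') : W) = ((S ^ (2 : ℕ) ^ b) ^ i) w := by
    intro i
    induction i with
    | zero => intro w; rfl
    | succ i ihi => intro w; rw [pow_succ', pow_succ', Module.End.mul_apply,
        LinearMap.coe_restrict_apply, ihi]; rfl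
  have hTN : T ^ 2 ^ (N - b) = 1 := LinearMap.ext fun w => Subtype.ext (by
    rw [hTpow, ← pow_mul, ← pow_add, Nat.add_sub_cancel' hbN.le, hSN]; rfl)
  have hTdef0 : (T - 1) ^ (2 ^ (N - b) - 1) = 0 := by
    have key : ∀ (i : ℕ) (w : W'), ((((T - 1) ^ i) w : W') : W) = ((S ^ (2 : ℕ) ^ b - 1) ^ i) w := by
      intro i
      induction i with
      | zero => intro w; rfl
      | succ i ihi => intro w; rw [pow_succ', pow_succ', Module.End.mul_apply,
          Module.End.mul_apply, ← ihi]; rfl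
    exact LinearMap.ext fun w => Subtype.ext ((key _ w).trans (hbdef w w.2))
  set γ' := γ ^ (2 : ℕ) ^ b with hγ'
  have hγ'N : γ' ^ 2 ^ (N - b) = 1 := by
    rw [hγ', ← pow_mul, ← pow_add, Nat.add_sub_cancel' hbN.le, hγ]
  have hγ't : γ' ^ 2 ^ (N - b - 1) = t := by
    rw [hγ', ht, ← pow_mul, ← pow_add, show b + (N - b - 1) = N - 1 by omega]
  have hγ'R : ∀ r ∈ R, γ' r ∈ R := pow_apply_invariant hγR _
  -- the moved part
  set D := Tame.moved τ with hDdef
  set Q₂ := D.comap π with hQ₂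
  have hRQ₂ : R ≤ Q₂ := fun x hx => show π x ∈ D by rw [MonoidHom.mem_ker.1 hx]; exact one_mem _
  have hτp : τ ^ 2 = 1 := MulEquiv.ext fun u => by
    obtain ⟨x, rfl⟩ := hπ u
    have key : ∀ i : ℕ, (τ ^ i) (π x) = π ((t ^ i) x) := by
      intro i
      induction i with
      | zero => rfl
      | succ i ih => rw [pow_succ', MulAut.mul_apply, ih, ← hτ, pow_succ' t, MulAut.mul_apply]
    rw [key, htp]; rfl
  have hU2 : IsPGroup q U := hQ2.of_surjective π hπ
  have hrootU : ∀ u : U, u ^ 2 = 1 → u = 1 := fun u hu =>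
    orderOf_eq_one_iff.1 (Nat.eq_one_of_dvd_coprimes (by
      obtain ⟨i, hi⟩ := IsPGroup.iff_card.1 hU2
      rw [hi]; exact Nat.Coprime.pow_left i hcop2)
      (orderOf_dvd_natCard u) (orderOf_dvd_of_pow_eq_one hu))
  -- fixed and moved parts meet trivially
  have hnormD : ∀ u ∈ D, Tame.norm τ 2 u = 1 := by
    rintro _ ⟨v, rfl⟩
    rw [Tame.dhom_apply, map_div, Tame.norm_apply, Tame.norm_apply, div_eq_one]
    have h1 := Finset.prod_range_succ' (fun j => (τ ^ j) v) 2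
    have h2 := Finset.prod_range_succ (fun j => (τ ^ j) v) 2
    rw [hτp] at h2
    rw [h2] at h1
    refine (mul_right_cancel (b := (τ ^ 0) v) ?_).symm
    refine (by rw [pow_zero] : _ = _).trans (h1.trans ?_)
    exact congrArg (· * _) (Finset.prod_congr rfl fun j _ => by rw [pow_succ, MulAut.mul_apply])
  have hfpf : ∀ x ∈ Q₂, π (t x) = π x → x ∈ R := fun x hx hfix => by
    refine MonoidHom.mem_ker.2 (hrootU _ ?_)
    rw [← Tame.norm_of_fixed ((hτ x).symm.trans hfix)]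
    exact hnormD _ hx
  by_cases htriv : D = ⊥
  · left
    refine MulEquiv.ext fun u => ?_
    have h1 : τ u / u ∈ D := ⟨u, rfl⟩
    rw [htriv, Subgroup.mem_bot, div_eq_one] at h1
    exact h1
  set R₂ := R.subgroupOf Q₂ with hR₂
  haveI : R₂.Normal := by rw [hR₂]; infer_instance
  obtain ⟨γ₂, hγ₂⟩ := CfsgLib.FGS.exists_restrict_mulAut γ' (show ∀ x ∈ Q₂, γ' x ∈ Q₂ from fun x hx => by
    obtain ⟨v, hv⟩ : π x ∈ D := hx
    obtain ⟨z, rfl⟩ := hπ v
    refine ⟨π (γ' z), ?_⟩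
    rw [Tame.dhom_apply, ← hτ, ← map_div]
    have h1 : (x⁻¹ * (t z / z)) ∈ R := MonoidHom.mem_ker.2 (by
      rw [map_mul, map_inv, map_div, hτ, ← Tame.dhom_apply, hv, inv_mul_cancel])
    have h2 := MonoidHom.mem_ker.1 (hγ'R _ h1)
    rw [map_mul γ', map_inv γ', map_div γ', map_mul, map_inv, inv_mul_eq_one] at h2
    rw [h2, show t (γ' z) = γ' (t z) by
      rw [← MulAut.mul_apply, ← MulAut.mul_apply, ht, hγ', ← pow_add, ← pow_add, add_comm]])
  have hγ₂1 : ∀ x : Q₂, ((γ₂ x : Q₂) : Q) = γ' x := fun x => by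
    have h1 := hγ₂ 1 x
    rwa [pow_one, pow_one] at h1
  have hD' : ∀ x y : Q₂, ⁅x, y⁆ ∈ R₂ := fun x y => hDR x y
  have hR₂top : R₂ ≠ ⊤ := fun h => htriv (by
    rw [Subgroup.eq_bot_iff_forall]
    intro u hu
    obtain ⟨x, rfl⟩ := hπ u
    exact MonoidHom.mem_ker.1 (show x ∈ R from (h ▸ Subgroup.mem_top (⟨x, hu⟩ : Q₂) : (⟨x, hu⟩ : Q₂) ∈ R₂)))
  have hsc' : ∀ r ∈ R, ∃ c : k, ρ' r = c • 1 := fun r hr =>
    ⟨φ ⟨r, hr⟩, LinearMap.ext fun w => Subtype.ext (mem_weightSpace.1 w.2 ⟨r, hr⟩)⟩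
  have hpair : ∀ x y : Q, ρ' ⁅y, x⁆ = 1 → ρ ⁅y, x⁆ = 1 := fun x y h => by
    obtain ⟨c, hc⟩ := hD y x
    obtain ⟨w, hw⟩ := exists_ne (0 : W')
    have h1 : c = 1 := smul_left_injective k hw (show c • w = (1 : k) • w by
      have h2 := congrArg Subtype.val (LinearMap.congr_fun h w)
      change ρ ⁅y, x⁆ (w : W) = (w : W) at h2
      rw [hc, LinearMap.smul_apply, Module.End.one_apply] at h2
      exact Subtype.ext (h2.trans (one_smul k (w : W)).symm))
    rw [hc, h1, one_smul]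
  have hmulL : ∀ y y' x : Q, ρ ⁅y * y', x⁆ = ρ ⁅y, x⁆ * ρ ⁅y', x⁆ := fun y y' x => by
    obtain ⟨c, hc⟩ := hD y x
    obtain ⟨c', hc'⟩ := hD y' x
    rw [show ⁅y * y', x⁆ = (y * ⁅y', x⁆ * y⁻¹) * ⁅y, x⁆ by simp only [commutatorElement_def]; group,
      map_mul, map_mul, map_mul, hc, hc']
    simp only [mul_smul_comm, smul_mul_assoc, mul_one]
    rw [← map_mul, mul_inv_cancel, map_one, smul_comm]
  have hmodR : ∀ y y' x : Q, π y = π y' → ρ ⁅y, x⁆ = ρ ⁅y', x⁆ := fun y y' x h => by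
    have h1 : y'⁻¹ * y ∈ R := MonoidHom.mem_ker.2 (by rw [map_mul, map_inv, h, inv_mul_cancel])
    have h2 : ρ ⁅y'⁻¹ * y, x⁆ = 1 := by
      have h3 := (hRmem _).1 h1 x
      obtain ⟨c, hc⟩ := hD (y'⁻¹ * y) x
      have : ρ ⁅y'⁻¹ * y, x⁆ * ρ ⁅x, y'⁻¹ * y⁆ = 1 := by
        rw [← map_mul, ← commutatorElement_inv, inv_mul_cancel, map_one]
      rwa [h3, mul_one] at this
    conv_lhs => rw [show y = y' * (y'⁻¹ * y) by group]
    rw [hmulL, h2, mul_one]
  have hfixed : ∀ z : Q, π (t z) = π z → ∀ x : Q₂, ρ ⁅z, (x : Q)⁆ = 1 := by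
    intro z hz x
    obtain ⟨v, hv⟩ : π (x : Q) ∈ D := x.2
    obtain ⟨v, rfl⟩ := hπ v
    rw [Tame.dhom_apply, ← hτ] at hv
    have hzv : ρ ⁅z, t v⁆ = ρ ⁅z, v⁆ := by
      rw [← hmodR (t z) z (t v) hz, ← map_commutatorElement,
        hscalpow (2 ^ (N - 1)) _ (hD z v)]
    have h1 : ρ ⁅z, (x : Q) * v⁆ = ρ ⁅z, t v⁆ := by
      have h2 : π ((x : Q) * v) = π (t v) := by rw [map_mul, ← hv, div_mul_cancel]
      have e : ∀ a : Q, ⁅z, a⁆ = ⁅a, z⁆⁻¹ := fun a => (commutatorElement_inv a z).symm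
      have h3 := hmodR _ _ z h2
      obtain ⟨c, hc⟩ := hD z (t v)
      have h4 : ρ ⁅z, (x : Q) * v⁆ * ρ ⁅(x : Q) * v, z⁆ = 1 := by
        rw [← map_mul, e, inv_mul_cancel, map_one]
      have h5 : ρ ⁅t v, z⁆ * ρ ⁅z, t v⁆ = 1 := by
        rw [← map_mul, e, mul_inv_cancel, map_one]
      calc ρ ⁅z, (x : Q) * v⁆ = ρ ⁅z, (x : Q) * v⁆ * (ρ ⁅t v, z⁆ * ρ ⁅z, t v⁆) := by
            rw [h5, mul_one]
        _ = ρ ⁅z, t v⁆ := by rw [← h3, ← mul_assoc, h4, one_mul]
    have h4 : ρ ⁅z, (x : Q) * v⁆ = ρ ⁅z, (x : Q)⁆ * ρ ⁅z, v⁆ := by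
      obtain ⟨c, hc⟩ := hD z v
      rw [show ⁅z, (x : Q) * v⁆ = ⁅z, (x : Q)⁆ * ((x : Q) * ⁅z, v⁆ * (x : Q)⁻¹) by
        simp only [commutatorElement_def]; group, map_mul, map_mul, map_mul, hc]
      simp only [mul_smul_comm, smul_mul_assoc, mul_one]
      rw [← map_mul ρ (x : Q), mul_inv_cancel, map_one, mul_one]
    rw [h1, hzv] at h4
    have h5 : ρ ⁅z, v⁆ * ρ ⁅v, z⁆ = 1 := by
      rw [← map_mul, ← commutatorElement_inv v z, inv_mul_cancel, map_one]
    calc ρ ⁅z, (x : Q)⁆ = ρ ⁅z, (x : Q)⁆ * (ρ ⁅z, v⁆ * ρ ⁅v, z⁆) := by rw [h5, mul_one]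
      _ = 1 := by rw [← mul_assoc, ← h4, h5]
  have hnd : ∀ x : Q₂, x ∉ R₂ → ∃ y : Q₂, (ρ'.comp Q₂.subtype) ⁅y, x⁆ ≠ 1 := by
    intro x hx
    by_contra hcon
    push Not at hcon
    have hcon' : ∀ y ∈ Q₂, ρ ⁅y, (x : Q)⁆ = 1 := fun y hy => hpair _ _ (hcon ⟨y, hy⟩)
    refine hx ((hRmem _).2 fun y => ?_)
    -- the pairing with the fixed elements is trivial
    have hdec : ∃ a b : Q, π y ^ 2 = π a * π b ∧ π (t a) = π a ∧ b ∈ Q₂ := by
      obtain ⟨a, ha⟩ := hπ (Tame.norm τ 2 (π y))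
      obtain ⟨b, hb⟩ := hπ (∏ j ∈ Finset.range 2, π y / (τ ^ j) (π y))
      refine ⟨a, b, ?_, ?_, show π b ∈ D from hb ▸ Subgroup.prod_mem _ fun j hj' => ?_⟩
      · rw [ha, hb, Tame.norm_apply, ← Finset.prod_mul_distrib]; simp
      · rw [hτ, ha]; exact Tame.mem_fixed.1 (Tame.norm_mem_fixed hτp _)
      · clear hj'
        induction j with
        | zero => simp
        | succ j ihj =>
          have : π y / (τ ^ (j + 1)) (π y) =
              (π y / (τ ^ j) (π y)) * (Tame.dhom τ ((τ ^ j) (π y)))⁻¹ := by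
            rw [Tame.dhom_apply, pow_succ', MulAut.mul_apply, inv_div, div_mul_div_cancel]
          rw [this]; exact mul_mem ihj (inv_mem ⟨_, rfl⟩)
    obtain ⟨a, b', hab, hafix, hbQ⟩ := hdec
    have h1 : ρ ⁅y ^ 2, (x : Q)⁆ = 1 := by
      rw [hmodR (y ^ 2) (a * b') _ (by rw [map_pow, map_mul, hab]), hmulL, hfixed a hafix x,
        hcon' b' hbQ, one_mul]
    have h2 : ∀ i : ℕ, ρ ⁅y ^ i, (x : Q)⁆ = ρ ⁅y, (x : Q)⁆ ^ i := by
      intro i
      induction i with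
      | zero => simp
      | succ i ih => rw [pow_succ, hmulL, ih, pow_succ]
    rw [h2] at h1
    refine orderOf_eq_one_iff.1 (Nat.eq_one_of_dvd_coprimes ?_ (orderOf_dvd_of_pow_eq_one
      (show ρ ⁅y, (x : Q)⁆ ^ Nat.card Q = 1 by rw [← map_pow, pow_card_eq_one', map_one]))
      (orderOf_dvd_of_pow_eq_one h1))
    rw [hf₀]; exact Nat.Coprime.pow_left _ hcop2
  have hsemi : ∀ x : Q₂, x ∉ R₂ → ∀ i, 0 < i → i < 2 ^ (N - b) → x⁻¹ * (γ₂ ^ i) x ∉ R₂ := by
    intro x hx i hi hin hmem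
    have hmem' : π ((γ' ^ i) (x : Q)) = π (x : Q) := by
      have h1 : π ((x : Q)⁻¹ * ((γ₂ ^ i) x : Q₂)) = 1 := MonoidHom.mem_ker.1 hmem
      rw [map_mul, map_inv, inv_mul_eq_one] at h1
      rw [← hγ₂ i x, ← h1]
    obtain ⟨j, hj⟩ := exists_mul_mod_prime_pow (p := 2) (m := N - b) hi hin
    have hit : ∀ j, π ((γ' ^ (i * j)) (x : Q)) = π (x : Q) := by
      intro j
      induction j with
      | zero => rfl
      | succ j ih =>
        have h1 : ((γ' ^ i) (x : Q))⁻¹ * (x : Q) ∈ R := MonoidHom.mem_ker.2 (by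
          rw [map_mul, map_inv, hmem', inv_mul_cancel])
        have h2 := MonoidHom.mem_ker.1 (pow_apply_invariant hγ'R (i * j) _ h1)
        rw [map_mul (γ' ^ (i * j)), map_inv (γ' ^ (i * j)), map_mul, map_inv, inv_mul_eq_one] at h2
        rw [mul_add, mul_one, pow_add, MulAut.mul_apply, h2, ih]
    refine hx (hfpf _ x.2 ?_)
    have h2 := hit j
    rwa [← Nat.mod_add_div (i * j) (2 ^ (N - b)), pow_add, pow_mul γ' (2 ^ (N - b)), hγ'N, one_pow,
      mul_one, hj, Nat.mod_eq_of_lt (Nat.pow_lt_pow_right Nat.one_lt_two (by omega)), hγ't] at h2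
  rcases component_bound (ρ'.comp Q₂.subtype) (R := R₂) (fun r hr => hsc' _ hr) hD' hR₂top hnd
    (by
      intro h
      refine hQk ?_
      obtain ⟨c, hc⟩ := Subgroup.card_subgroup_dvd_card Q₂
      rw [hc, Nat.cast_mul, h, zero_mul])
    γ₂ (fun r hr => show ((γ₂ r : Q₂) : Q) ∈ R by rw [hγ₂1]; exact hγ'R _ hr)
    (MulEquiv.ext fun x => Subtype.ext (by rw [hγ₂, hγ'N]; rfl)) hsemi
    (S := T) (fun x => LinearMap.ext fun w => Subtype.ext (by
      show (S ^ (2 : ℕ) ^ b) (ρ x w) = ρ (γ₂ x : Q₂) ((S ^ (2 : ℕ) ^ b) w)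
      rw [hγ₂1, hγ', ← Module.End.mul_apply, pow_intertwine hS, Module.End.mul_apply])) hTN with
    h | ⟨hcard, -⟩
  · have h1 := h _ hTdef0
    have := Nat.pow_pos (n := N - b) Nat.two_pos
    omega
  have hDcard : Nat.card (Q₂ ⧸ R₂) = Nat.card D := by
    show R.relIndex Q₂ = _
    rw [hR, Subgroup.relIndex_ker, hQ₂, Subgroup.map_comap_eq_self_of_surjective hπ]
  rw [hDcard] at hcard
  obtain ⟨i, hi⟩ := IsPGroup.iff_card.1 (hU2.to_subgroup D)
  obtain ⟨m, -, hm⟩ := (Nat.dvd_prime_pow hqf.out).1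
    (hi ▸ hcard ▸ Dvd.intro _ rfl : 2 ^ (N - b) - 1 ∣ q ^ i)
  have hbig : 2 ≤ N - b := by
    by_contra h2
    refine htriv (Subgroup.eq_bot_of_card_eq _ ?_)
    rw [← hcard, show N - b = 1 by omega]
    rfl
  have hm0 : 1 ≤ m := by
    by_contra h2
    obtain rfl : m = 0 := by omega
    rw [pow_zero] at hm
    have h4 : 2 ^ 2 ≤ 2 ^ (N - b) := Nat.pow_le_pow_right (by norm_num) hbig
    omega
  obtain rfl : m = 1 := eq_one_of_pow_eq_two_pow_sub_one (N := N - b) (hqf.out.odd_of_ne_two hq2)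
    hqf.out.one_lt hm0 (by rw [← hm]; have := Nat.one_le_pow (N - b) 2 (by norm_num); omega)
  rw [pow_one] at hm
  obtain ⟨r, hr⟩ : ∃ r, 2 ^ (N - b) - 1 = 2 * r + 1 := by
    obtain ⟨r, hr⟩ := hqf.out.odd_of_ne_two hq2
    exact ⟨r, hm.trans hr⟩
  refine Or.inr ⟨by omega, fun μ hμ => ?_⟩
  have hμτ : μ * μ = τ := MulEquiv.ext fun u => by
    obtain ⟨z, rfl⟩ := hπ u
    rw [MulAut.mul_apply, ← hμ, ← hμ, ← MulAut.mul_apply, ← pow_add, ← hτ,
      ← two_mul, ← pow_succ', show N - 2 + 1 = N - 1 by omega]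
  refine ⟨hμτ, by rw [hμτ, ← hDdef, ← hcard, hm], ?_, ?_⟩
  · rw [hμτ]
    intro u hu
    have h1 := hnormD u hu
    rw [Tame.norm_apply, Finset.prod_range_succ, Finset.prod_range_one, pow_zero, pow_one,
      MulAut.one_apply] at h1
    exact eq_inv_of_mul_eq_one_right h1
  rw [hμτ]
  intro u hu
  obtain ⟨z, rfl⟩ := hπ u
  suffices hγz : π (γ' z) = π z by
    have key : ∀ i : ℕ, π ((γ' ^ i) z) = π z := by
      intro i
      induction i with
      | zero => rfl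
      | succ i ih =>
        have h1 : z⁻¹ * γ' z ∈ R := MonoidHom.mem_ker.2 (by
          rw [map_mul, map_inv, hγz, inv_mul_cancel])
        have h2 := MonoidHom.mem_ker.1 (pow_apply_invariant hγ'R i _ h1)
        rw [map_mul (γ' ^ i), map_inv (γ' ^ i), map_mul, map_inv, inv_mul_eq_one] at h2
        rw [pow_succ, MulAut.mul_apply, ← h2, ih]
    rw [← hμ, show γ ^ 2 ^ (N - 2) = γ' ^ 2 ^ (N - b - 2) by
      rw [hγ', ← pow_mul, ← pow_add, show b + (N - b - 2) = N - 2 by omega]]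
    exact key _
  -- the operator commutes with the commutant of the moved part
  have hTρ : ∀ x : Q, T * ρ' x = ρ' (γ' x) * T := fun x => LinearMap.ext fun w => Subtype.ext (by
    show (S ^ (2 : ℕ) ^ b) (ρ x w) = ρ (γ' x) ((S ^ (2 : ℕ) ^ b) w)
    rw [hγ', ← Module.End.mul_apply, pow_intertwine hS, Module.End.mul_apply])
  set M := 2 ^ (N - b) with hMdef
  have hT1 : T * T ^ (M - 1) = 1 := by
    rw [← pow_succ', Nat.sub_add_cancel (Nat.pow_pos Nat.two_pos), hTN]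
  have hT2 : T ^ (M - 1) * T = 1 := by
    rw [← pow_succ, Nat.sub_add_cancel (Nat.pow_pos Nat.two_pos), hTN]
  have hcom₂ : ∀ x : Q₂, ρ' z * ρ' x = ρ' x * ρ' z := fun x => by
    have h0 : ρ' ⁅z, (x : Q)⁆ = 1 := LinearMap.ext fun w => Subtype.ext (by
      show ρ ⁅z, (x : Q)⁆ (w : W) = w
      rw [hfixed z (by rw [hτ, hu]) x, Module.End.one_apply])
    rw [← map_mul, show z * (x : Q) = ⁅z, (x : Q)⁆ * (x * z) by rw [commutatorElement_def]; group,
      map_mul, h0, one_mul, map_mul]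
  let Ad : Module.End k (Module.End k W') :=
    (LinearMap.mulRight k (T ^ (M - 1))).comp (LinearMap.mulLeft k T)
  have hAd : ∀ B : Module.End k W', Ad B = T * B * T ^ (M - 1) := fun B => rfl
  set F : Module.End k (Module.End k W') := Ad - 1 with hF
  have hFM : F ^ M = 0 := by
    have hp : ∀ (i : ℕ) (B : Module.End k W'), (Ad ^ i) B = T ^ i * B * (T ^ (M - 1)) ^ i := by
      intro i
      induction i with
      | zero => intro B; simp
      | succ i ih =>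
        intro B
        rw [pow_succ', Module.End.mul_apply, ih, hAd, pow_succ' T, pow_succ (T ^ (M - 1))]
        simp only [mul_assoc]
    have h3 := congrArg (Polynomial.aeval Ad)
      (sub_pow_char_pow (n := N - b) (Polynomial.X : Polynomial k) 1 (p := 2))
    simp only [map_pow, map_sub, map_one, Polynomial.aeval_X, one_pow] at h3
    rw [← hMdef] at h3
    rw [hF, h3, sub_eq_zero]
    refine LinearMap.ext fun B => ?_
    rw [hp, hTN, ← pow_mul, mul_comm (M - 1) M, pow_mul, hTN, one_pow, Module.End.one_apply,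
      one_mul, mul_one]
  -- the commutant is invariant
  have hγ'Q : Function.Surjective (fun x : Q₂ => γ₂ x) := γ₂.surjective
  have hFcomm : ∀ B : Module.End k W', (∀ x : Q₂, B * ρ' x = ρ' x * B) →
      ∀ x : Q₂, (F B) * ρ' x = ρ' x * (F B) := by
    intro B hB x
    obtain ⟨y, rfl⟩ := hγ'Q x
    show (T * B * T ^ (M - 1) - B) * ρ' (γ₂ y : Q₂) = ρ' (γ₂ y : Q₂) * (T * B * T ^ (M - 1) - B)
    rw [sub_mul, mul_sub, hB (γ₂ y)]
    refine congrArg (· - _) ?_
    rw [hγ₂1]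
    calc T * B * T ^ (M - 1) * ρ' (γ' y)
        = T * B * T ^ (M - 1) * (ρ' (γ' y) * T) * T ^ (M - 1) := by
          simp only [mul_assoc, hT1, mul_one]
      _ = T * B * ρ' y * T ^ (M - 1) := by
          rw [← hTρ, mul_assoc (T * B) (T ^ (M - 1)), ← mul_assoc (T ^ (M - 1)) T, hT2, one_mul]
      _ = ρ' (γ' y) * (T * B * T ^ (M - 1)) := by
          rw [mul_assoc T B, hB y, ← mul_assoc T, hTρ]
          simp only [mul_assoc]
  by_contra hne
  have hF0 : F (ρ' z) ≠ 0 := fun h => hne (by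
    have h1 : T * ρ' z * T ^ (M - 1) = ρ' z := sub_eq_zero.1 h
    rw [hTρ, mul_assoc, hT1, mul_one] at h1
    have hw : ρ' (z⁻¹ * γ' z) = 1 := by
      rw [map_mul, h1, ← map_mul, inv_mul_cancel, map_one]
    have h2 : z⁻¹ * γ' z ∈ R := (hRmem _).2 fun y => hpair _ _ (by
      have h3 : ρ' (z⁻¹ * γ' z)⁻¹ = 1 := by
        have h5 : ρ' ((z⁻¹ * γ' z)⁻¹ * (z⁻¹ * γ' z)) = 1 := by rw [inv_mul_cancel, map_one]
        rwa [map_mul, hw, mul_one] at h5
      rw [commutatorElement_def, map_mul, map_mul, map_mul, hw, mul_one, ← map_mul ρ' y,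
        mul_inv_cancel, map_one, one_mul, h3])
    have h6 := MonoidHom.mem_ker.1 h2
    rwa [map_mul, map_inv, inv_mul_eq_one, eq_comm] at h6)
  have hex : ∃ i, (F ^ i) (ρ' z) = 0 := ⟨M, by rw [hFM]; rfl⟩
  obtain ⟨j, hj⟩ : ∃ j, Nat.find hex = j + 2 := by
    refine ⟨Nat.find hex - 2, (Nat.sub_add_cancel ?_).symm⟩
    rw [Nat.le_find_iff]
    intro l hl h0
    interval_cases l
    · rw [pow_zero, Module.End.one_apply] at h0
      exact hF0 (by rw [h0, map_zero])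
    · rw [pow_one] at h0
      exact hF0 h0
  set B := (F ^ j) (ρ' z) with hB
  set c := F B with hc
  have hc0 : c ≠ 0 := by
    rw [hc, hB, ← Module.End.mul_apply, ← pow_succ']
    exact Nat.find_min hex (by omega)
  have hFc : F c = 0 := by
    show F (F B) = 0
    rw [hB]
    show (F * (F * F ^ j)) (ρ' z) = 0
    rw [← pow_succ', ← pow_succ', ← hj]
    exact Nat.find_spec hex
  have hBcomm : ∀ x : Q₂, B * ρ' x = ρ' x * B := by
    rw [hB]
    clear hc hFc hc0 hB hj c B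
    induction j with
    | zero => rw [pow_zero, Module.End.one_apply]; exact hcom₂
    | succ j ih => rw [pow_succ', Module.End.mul_apply]; exact hFcomm _ ih
  have hccomm : ∀ x : Q₂, c * ρ' x = ρ' x * c := hFcomm B hBcomm
  have hTB : T * B = B * T + c * T := by
    rw [hc, show F B = T * B * T ^ (M - 1) - B from rfl, sub_mul, mul_assoc (T * B), hT2, mul_one,
      add_sub_cancel]
  have hTc : T * c = c * T := by
    have h1 : T * c * T ^ (M - 1) = c := sub_eq_zero.1 hFc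
    calc T * c = T * c * T ^ (M - 1) * T := by rw [mul_assoc (T * c), hT2, mul_one]
      _ = c * T := by rw [h1]
  have h2W : ∀ A : Module.End k W', A + A = 0 := fun A => by rw [← two_smul k A, hk2, zero_smul]
  set Δ := T - 1 with hΔ
  have hΔB : Δ * B = B * Δ + c * T := by
    rw [hΔ, sub_mul, mul_sub, hTB, one_mul, mul_one]; abel
  have hΔc : Commute Δ c := (Commute.sub_left hTc (Commute.one_left c))
  have hΔT : Commute Δ T := (Commute.sub_left (Commute.refl T) (Commute.one_left T))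
  have hΔ2 : Commute (Δ * Δ) B := by
    show Δ * Δ * B = B * (Δ * Δ)
    rw [mul_assoc, hΔB, mul_add, ← mul_assoc, hΔB, (hΔc.mul_right hΔT).eq, add_mul, add_assoc,
      h2W, add_zero, mul_assoc]
  have hzero : c * Δ ^ (2 * r) = 0 := by
    have h1 : Δ ^ (2 * r + 1) = 0 := hr ▸ hTdef0
    have h3 : Δ ^ (2 * r) * (Δ * B) = B * Δ ^ (2 * r + 1) + Δ ^ (2 * r) * (c * T) := by
      rw [hΔB, mul_add, ← mul_assoc]
      congr 1
      rw [pow_mul, pow_two, (hΔ2.pow_left r).eq, mul_assoc, ← pow_two, ← pow_mul, ← pow_succ]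
    rw [← mul_assoc (Δ ^ (2 * r)) Δ, ← pow_succ, h1, zero_mul, mul_zero, zero_add] at h3
    have h4 : Δ ^ (2 * r) * c * T * T ^ (M - 1) = 0 := by
      rw [mul_assoc (Δ ^ (2 * r)) c, ← h3, zero_mul]
    rwa [mul_assoc, hT1, mul_one, (hΔc.pow_left (2 * r)).eq] at h4
  set W'' := LinearMap.range c with hW''
  haveI : Nontrivial W'' := Submodule.nontrivial_iff_ne_bot.2 fun h =>
    hc0 (LinearMap.range_eq_bot.1 h)
  have hinv'' : ∀ (x : Q₂), ∀ w ∈ W'', (ρ'.comp Q₂.subtype) x w ∈ W'' := by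
    rintro x _ ⟨v, rfl⟩
    exact ⟨ρ' x v, LinearMap.congr_fun (hccomm x) v⟩
  have hT'' : ∀ w ∈ W'', T w ∈ W'' := by
    rintro _ ⟨v, rfl⟩
    exact ⟨T v, (LinearMap.congr_fun hTc v).symm⟩
  set ρ'' := restrictRep (ρ'.comp Q₂.subtype) W'' hinv'' with hρ''
  have hpow'' : ∀ (i : ℕ) (w : W''), ((((T.restrict hT'') ^ i) w : W'') : W') = (T ^ i) w := by
    intro i
    induction i with
    | zero => intro w; rfl
    | succ i ihi => intro w; rw [pow_succ', pow_succ', Module.End.mul_apply, Module.End.mul_apply,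
        LinearMap.coe_restrict_apply, ihi]
  have hdelta : ∀ (i : ℕ) (w : W''), ((((T.restrict hT'' - 1) ^ i) w : W'') : W') = (Δ ^ i) w := by
    intro i
    induction i with
    | zero => intro w; rfl
    | succ i ihi => intro w; rw [pow_succ', pow_succ', Module.End.mul_apply, Module.End.mul_apply,
        ← ihi, hΔ, LinearMap.sub_apply, LinearMap.sub_apply, Submodule.coe_sub]; rfl
  have hzero'' : (T.restrict hT'' - 1) ^ (2 * r) = 0 := by
    refine LinearMap.ext fun w => Subtype.ext ?_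
    rw [hdelta]
    obtain ⟨v, hv⟩ := w.2
    rw [← hv, ← Module.End.mul_apply, (hΔc.pow_left (2 * r)).eq, hzero]
    rfl
  have hnd'' : ∀ x : Q₂, x ∉ R₂ → ∃ y : Q₂, ρ'' ⁅y, x⁆ ≠ 1 := fun x hx => by
    obtain ⟨y, hy⟩ := hnd x hx
    refine ⟨y, fun h => hy ?_⟩
    obtain ⟨d, hd⟩ := hsc' _ (hD' y x)
    obtain ⟨w, hw⟩ := exists_ne (0 : W'')
    have hd1 : d = 1 := smul_left_injective k (fun h0 : (w : W') = 0 => hw (Subtype.ext h0)) (by
      show d • (w : W') = (1 : k) • (w : W')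
      have h5 := congrArg Subtype.val (LinearMap.congr_fun h w)
      change ρ' ((⁅y, x⁆ : Q₂) : Q) (w : W') = (w : W') at h5
      rw [show ρ' ((⁅y, x⁆ : Q₂) : Q) = d • 1 from hd] at h5
      rw [one_smul]; exact h5)
    show ρ' ((⁅y, x⁆ : Q₂) : Q) = 1
    exact hd.trans (by rw [hd1, one_smul])
  rcases component_bound ρ'' (R := R₂)
    (fun x hx => (hsc' _ hx).imp fun d hd => restrictRep_smul _ W'' hinv'' hd) hD' hR₂top hnd''
    (by
      intro h
      refine hQk ?_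
      obtain ⟨d, hd⟩ := Subgroup.card_subgroup_dvd_card Q₂
      rw [hd, Nat.cast_mul, h, zero_mul])
    γ₂ (fun r hr => show ((γ₂ r : Q₂) : Q) ∈ R by rw [hγ₂1]; exact hγ'R _ hr)
    (MulEquiv.ext fun x => Subtype.ext (by rw [hγ₂, hγ'N]; rfl)) hsemi
    (S := T.restrict hT'') (fun x => LinearMap.ext fun w => Subtype.ext (by
      show T (ρ' x (w : W')) = ρ' (γ₂ x : Q₂) (T (w : W'))
      rw [hγ₂1, ← Module.End.mul_apply, hTρ, Module.End.mul_apply]))
    (LinearMap.ext fun w => Subtype.ext (by rw [hpow'', hTN]; rfl)) with h | ⟨-, h⟩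
  · have := h _ hzero''
    omega
  · have := h _ hzero''
    omega

end CfsgLib.PGroup.GrossPlane
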