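import Cfsg.Agent.Lib.Transfer.CyclicMaximal
import Cfsg.Agent.Lib.Solvable.HallHigmanArith
import Mathlib.GroupTheory.PGroup

/-!
Elements of small support in a `p`-group acting on an abelian `2`-group commute.
-/

set_option autoImplicit false

namespace CfsgLib.PGroup.Tame

open CfsgLib Cfsg

universe u v

section Basic

variable {U : Type v} [CommGroup U]

/-- The map `u ↦ f u / u`. -/
def dhom (f : MulAut U) : U →* U := f.toMonoidHom / MonoidHom.id U

theorem dhom_apply (f : MulAut U) (x : U) : dhom f x = f x / x := rfl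

/-- The subgroup moved by an automorphism. -/
def moved (f : MulAut U) : Subgroup U := (dhom f).range

/-- The fixed subgroup of an automorphism. -/
def fixed (f : MulAut U) : Subgroup U := (dhom f).ker

theorem mem_fixed {f : MulAut U} {x : U} : x ∈ fixed f ↔ f x = x := by
  rw [fixed, MonoidHom.mem_ker, dhom_apply, div_eq_one]

theorem fixed_invariant {f g : MulAut U} (h : g * f = f * g) {x : U} (hx : x ∈ fixed f) :
    g x ∈ fixed f := by
  rw [mem_fixed] at hx ⊢
  rw [← MulAut.mul_apply, ← h, MulAut.mul_apply, hx]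

/-- The norm map of an automorphism. -/
def norm (f : MulAut U) (n : ℕ) : U →* U := ∏ j ∈ Finset.range n, (f ^ j).toMonoidHom

theorem norm_apply (f : MulAut U) (n : ℕ) (x : U) :
    norm f n x = ∏ j ∈ Finset.range n, (f ^ j) x := by
  rw [norm, MonoidHom.finsetProd_apply]; rfl

theorem norm_mem_fixed {f : MulAut U} {n : ℕ} (hf : f ^ n = 1) (x : U) : norm f n x ∈ fixed f := by
  have h1 : f (norm f n x) * (f ^ 0) x = norm f n x * (f ^ n) x := by
    rw [norm_apply, map_prod, ← Finset.prod_range_succ (fun j => (f ^ j) x),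
      Finset.prod_range_succ' (fun j => (f ^ j) x)]
    refine congrArg (· * _) (Finset.prod_congr rfl fun j _ => ?_)
    rw [pow_succ', MulAut.mul_apply]
  rw [hf, pow_zero] at h1
  exact mem_fixed.2 (mul_right_cancel h1)

theorem pow_fixed {f : MulAut U} {x : U} (hx : f x = x) (j : ℕ) : (f ^ j) x = x := by
  induction j with
  | zero => rfl
  | succ j ih => rw [pow_succ, MulAut.mul_apply, hx, ih]

theorem norm_of_fixed {f : MulAut U} {n : ℕ} {x : U} (hx : f x = x) : norm f n x = x ^ n := by
  rw [norm_apply, Finset.prod_congr rfl fun j _ => pow_fixed hx j, Finset.prod_const,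
    Finset.card_range]

end Basic

/-- The restriction of an action to an invariant subgroup. -/
def restrictAct {P : Type u} [Group P] {U : Type v} [CommGroup U] (act : P →* MulAut U)
    (M : Subgroup P) (S : Subgroup U) (hS : ∀ g ∈ M, ∀ x ∈ S, act g x ∈ S) : M →* MulAut S where
  toFun g :=
    { toFun := fun x => ⟨act g.1 x, hS g g.2 x x.2⟩
      invFun := fun x => ⟨act (g⁻¹ : M).1 x, hS _ (g⁻¹).2 x x.2⟩
      left_inv := fun x => Subtype.ext (by
        show act (g.1)⁻¹ (act g.1 x) = x
        rw [← MulAut.mul_apply, ← map_mul, inv_mul_cancel, map_one, MulAut.one_apply])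
      right_inv := fun x => Subtype.ext (by
        show act g.1 (act (g.1)⁻¹ x) = x
        rw [← MulAut.mul_apply, ← map_mul, mul_inv_cancel, map_one, MulAut.one_apply])
      map_mul' := fun x y => Subtype.ext (map_mul (act g.1) _ _) }
  map_one' := MulEquiv.ext fun x => Subtype.ext (by
    show act 1 x = x
    rw [map_one]; rfl)
  map_mul' g h := MulEquiv.ext fun x => Subtype.ext (by
    show act (g.1 * h.1) x = act g.1 (act h.1 x)
    rw [map_mul]; rfl)

/-- Small support, or a `p`-th power with moderately small support. -/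
def IsTame (p B : ℕ) {P : Type u} [Group P] {U : Type v} [CommGroup U] (act : P →* MulAut U)
    (y : P) : Prop :=
  Nat.card (moved (act y)) ≤ B ∨ ((∃ t, t ^ p = y) ∧ Nat.card (moved (act y)) ≤ B ^ p)

theorem moved_restrict {P : Type u} [Group P] {U : Type v} [CommGroup U] (act : P →* MulAut U)
    (M : Subgroup P) (S : Subgroup U) (hS : ∀ g ∈ M, ∀ x ∈ S, act g x ∈ S) (y : M) :
    Nat.card (moved (restrictAct act M S hS y)) = Nat.card (S.map (dhom (act y.1))) := by
  refine (Nat.card_congr ((moved (restrictAct act M S hS y)).equivMapOfInjective S.subtype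
    S.subtype_injective).toEquiv).trans ?_
  have h : (moved (restrictAct act M S hS y)).map S.subtype = S.map (dhom (act y.1)) := by
    ext x
    constructor
    · rintro ⟨_, ⟨a, rfl⟩, rfl⟩; exact ⟨a, a.2, rfl⟩
    · rintro ⟨a, ha, rfl⟩; exact ⟨_, ⟨⟨a, ha⟩, rfl⟩, rfl⟩
  rw [h]

theorem card_map_le {P : Type u} [Group P] {U : Type v} [CommGroup U] [Finite U]
    (act : P →* MulAut U) (S : Subgroup U) (y : P) :
    Nat.card (S.map (dhom (act y))) ≤ Nat.card (moved (act y)) :=
  Subgroup.card_le_of_le (by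
    rintro _ ⟨a, -, rfl⟩; exact ⟨a, rfl⟩)

variable {p B : ℕ} [hp : Fact p.Prime]

/-- Tame elements of a `p`-group of automorphisms of an abelian `2`-group commute. -/
theorem commute_of_tame (hp2 : p ≠ 2) (hB : ∀ i, 0 < i → 2 ^ i % p = 1 → B ≤ 2 ^ i) (hB2 : 2 ≤ B) :
    ∀ (c : ℕ) {P : Type u} [Group P] {U : Type v} [CommGroup U] [Finite U], Nat.card U = c →
      IsPGroup p P → IsPGroup 2 U → ∀ (act : P →* MulAut U) (y y' : P),
      IsTame p B act y → IsTame p B act y' → act (y * y') = act (y' * y) := by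
  intro c
  induction c using Nat.strong_induction_on with
  | _ c ih =>
  intro P _ U _ _ hc hP hU act y y' hy hy'
  classical
  have hp3 : 3 ≤ p := by have := hp.out.two_le; omega
  -- the reduction to invariant proper subgroups
  have hrec : ∀ (S : Subgroup U), S ≠ ⊤ → (∀ g, ∀ x ∈ S, act g x ∈ S) →
      ∀ x ∈ S, act (y * y') x = act (y' * y) x := by
    intro S hS hinv x hx
    have hlt : Nat.card S < c := hc ▸ lt_of_le_of_ne (Subgroup.card_le_card_group S)
      fun h => hS (Subgroup.eq_top_of_card_eq S h)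
    have htame : ∀ w, IsTame p B act w →
        IsTame p B (restrictAct act ⊤ S fun g _ => hinv g) ⟨w, Subgroup.mem_top w⟩ := by
      intro w hw
      refine hw.imp (fun h => ?_) fun ⟨⟨t, ht⟩, h⟩ => ⟨⟨⟨t, Subgroup.mem_top t⟩, Subtype.ext ht⟩, ?_⟩
      · exact le_of_eq_of_le (moved_restrict _ _ _ _ _) ((card_map_le act S w).trans h)
      · exact le_of_eq_of_le (moved_restrict _ _ _ _ _) ((card_map_le act S w).trans h)
    exact congrArg Subtype.val (DFunLike.congr_fun (ih _ hlt rfl (hP.to_subgroup ⊤) (hU.to_subgroup S)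
      (restrictAct act ⊤ S fun g _ => hinv g) ⟨y, Subgroup.mem_top y⟩ ⟨y', Subgroup.mem_top y'⟩
      (htame y hy) (htame y' hy')) (⟨x, hx⟩ : S))
  have hcop : (Nat.card U).Coprime p := by
    obtain ⟨i, hi⟩ := IsPGroup.iff_card.1 hU
    rw [hi]; exact Nat.Coprime.pow_left i ((Nat.coprime_primes Nat.prime_two hp.out).2 hp2.symm)
  have hroot : ∀ x : U, x ^ p = 1 → x = 1 := fun x hx =>
    orderOf_eq_one_iff.1 (Nat.eq_one_of_dvd_coprimes hcop (orderOf_dvd_natCard x)
      (orderOf_dvd_of_pow_eq_one hx))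
  -- a property that holds on subgroups generating the `p`-th powers holds everywhere
  have hfinish : (∀ x : U, act (y * y') (x ^ p) = act (y' * y) (x ^ p)) →
      act (y * y') = act (y' * y) := fun h => MulEquiv.ext fun x => by
    have h1 := h x
    rw [map_pow, map_pow] at h1
    exact div_eq_one.1 (hroot _ (by rw [div_pow, h1, div_self']))
  by_cases hcyc : IsCyclic act.range
  · letI := hcyc.commGroup
    rw [map_mul, map_mul]
    exact congrArg Subtype.val (mul_comm (⟨act y, y, rfl⟩ : act.range) ⟨act y', y', rfl⟩)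
  have hRp : IsPGroup p act.range := hP.of_surjective act.rangeRestrict act.rangeRestrict_surjective
  have htop : ¬ IsCyclic (⊤ : Subgroup act.range) := fun h =>
    hcyc (isCyclic_of_surjective _ (Subgroup.topEquiv (G := act.range)).surjective)
  obtain ⟨E, -, hEn, hEe, hEc⟩ := Transfer.exists_normal_elemAb_sq hRp hp2 htop
  obtain ⟨Z, hZE, hZc, hZn, hZ⟩ := PGroup.exists_card_eq_le_center hRp E (fun h => by
    rw [h, Subgroup.card_bot] at hEc
    exact hp.out.ne_one (by nlinarith [hp.out.pos]))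
  obtain ⟨z₀, hz₀⟩ := (isCyclic_of_prime_card hZ : IsCyclic Z).exists_generator
  obtain ⟨e₀, he₀E, he₀Z⟩ := SetLike.not_le_iff_exists.1 (fun h : E ≤ Z => by
    have := Subgroup.card_le_of_le h
    rw [hEc, hZ] at this
    nlinarith [hp.out.two_le])
  -- the two automorphisms
  set z : MulAut U := ((z₀ : act.range) : MulAut U) with hz
  set e : MulAut U := (e₀ : MulAut U) with he
  have hzp : z ^ p = 1 := by
    have h1 : z₀ ^ Nat.card Z = 1 := pow_card_eq_one'
    rw [hZ] at h1
    exact congrArg (fun w : Z => ((w : act.range) : MulAut U)) h1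
  have hep : e ^ p = 1 := congrArg Subtype.val (hEe.2 e₀ he₀E)
  have hzc : ∀ g, act g * z = z * act g := fun g =>
    congrArg Subtype.val (Subgroup.mem_center_iff.1 (hZc z₀.2) (⟨act g, g, rfl⟩ : act.range))
  have hZmem : ∀ w : act.range, w ∈ Z → ∃ i : ℕ, (w : MulAut U) = z ^ i := fun w hw => by
    obtain ⟨i, hi⟩ := Submonoid.mem_powers_iff _ _ |>.1
      ((mem_powers_iff_mem_zpowers).2 (hz₀ ⟨w, hw⟩))
    exact ⟨i, (congrArg (fun w : Z => ((w : act.range) : MulAut U)) hi).symm⟩
  have hez : e * z = z * e :=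
    congrArg Subtype.val (Subgroup.mem_center_iff.1 (hZc z₀.2) e₀)
  have heg : ∀ g, ∃ i : ℕ, act g * e = e * z ^ i * act g := by
    intro g
    set gg : act.range := ⟨act g, g, rfl⟩
    set π := QuotientGroup.mk' Z
    haveI : (E.map π).Normal := hEn.map π (QuotientGroup.mk'_surjective Z)
    obtain ⟨W, hWE, hWc, -, hW⟩ := PGroup.exists_card_eq_le_center (hRp.to_quotient Z) (E.map π)
      fun h => he₀Z ((QuotientGroup.eq_one_iff e₀).1
        (Subgroup.mem_bot.1 (h ▸ Subgroup.mem_map_of_mem π he₀E)))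
    have hWeq : W = E.map π := Subgroup.eq_of_le_of_card_ge hWE (by
      have h1 : Nat.card (E.map π) * Nat.card Z = Nat.card E := by
        have h2 := Subgroup.card_mul_index (Z.subgroupOf E)
        have h3 : (Z.subgroupOf E).index = Nat.card (E.map π) := by
          rw [← Subgroup.relIndex_ker]
          show Z.relIndex E = π.ker.relIndex E
          rw [show π.ker = Z from QuotientGroup.ker_mk' Z]
        rw [Nat.card_congr (Subgroup.subgroupOfEquivOfLe hZE).toEquiv, h3] at h2
        rw [mul_comm]; exact h2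
      rw [hZ, hEc, sq] at h1
      rw [hW]; exact (Nat.eq_of_mul_eq_mul_right hp.out.pos h1).le)
    have h1 := Subgroup.mem_center_iff.1 (hWc (hWeq ▸ Subgroup.mem_map_of_mem π he₀E)) (π gg)
    rw [← map_mul, ← map_mul] at h1
    obtain ⟨i, hi⟩ := hZmem _ (QuotientGroup.eq.1 h1.symm)
    refine ⟨i, ?_⟩
    have h2 : (e * act g)⁻¹ * (act g * e) = z ^ i := hi
    have hc2 : Commute (act g) (z ^ i) := (Commute.pow_right (hzc g) i)
    rw [inv_mul_eq_iff_eq_mul] at h2
    rw [h2, mul_assoc, mul_assoc, hc2.eq]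
  have hz1 : z ≠ 1 := fun h => by
    have h1 : (z₀ : act.range) = 1 := Subtype.ext h
    have h2 : Z = ⊥ := (Subgroup.eq_bot_iff_forall Z).2 fun w hw => by
      obtain ⟨i, hi⟩ := hZmem w hw
      exact Subtype.ext (by rw [hi, h, one_pow]; rfl)
    rw [h2, Subgroup.card_bot] at hZ
    exact hp.out.ne_one hZ.symm
  by_cases hCz : fixed z = ⊥
  swap
  · have hne1 : fixed z ≠ ⊤ := fun h => hz1 (MulEquiv.ext fun x =>
      mem_fixed.1 (h ▸ Subgroup.mem_top x))
    have hne2 : moved z ≠ ⊤ := fun h => hCz ((dhom z).ker_eq_bot_iff.2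
      (Finite.injective_iff_surjective.2 (MonoidHom.range_eq_top.1 h)))
    have h1 := hrec _ hne1 fun g x hx => fixed_invariant (hzc g) hx
    have h2 := hrec (moved z) hne2 (by
      rintro g _ ⟨x, rfl⟩
      refine ⟨act g x, ?_⟩
      rw [dhom_apply, dhom_apply, map_div, ← MulAut.mul_apply, ← hzc g, MulAut.mul_apply])
    refine hfinish fun x => ?_
    have hx : x ^ p = norm z p x * ∏ j ∈ Finset.range p, x / (z ^ j) x := by
      rw [norm_apply, ← Finset.prod_mul_distrib]; simp
    have hmem : ∀ j : ℕ, x / (z ^ j) x ∈ moved z := fun j => by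
      induction j with
      | zero => simp
      | succ j ihj =>
        have : x / (z ^ (j + 1)) x = (x / (z ^ j) x) * (dhom z ((z ^ j) x))⁻¹ := by
          rw [dhom_apply, pow_succ', MulAut.mul_apply, inv_div, div_mul_div_cancel]
        rw [this]; exact mul_mem ihj (inv_mem ⟨_, rfl⟩)
    rw [hx, map_mul (act (y * y')), map_mul (act (y' * y)), h1 _ (norm_mem_fixed hzp x),
      h2 _ (Subgroup.prod_mem _ fun j _ => hmem j)]
  have hfree : ∀ x, z x = x → x = 1 := fun x hx => Subgroup.mem_bot.1 (hCz ▸ mem_fixed.2 hx)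
  -- the lines
  let f : ℕ → MulAut U := fun i => e * z ^ i
  have hfp : ∀ i, f i ^ p = 1 := fun i => by
    show (e * z ^ i) ^ p = 1
    rw [((Commute.pow_right hez i)).mul_pow, hep, one_mul, ← pow_mul, mul_comm, pow_mul, hzp, one_pow]
  have hfix_both : ∀ i j, i < p → j < p → i ≠ j → ∀ x, f i x = x → f j x = x → x = 1 := by
    intro i j hi hj hij x h1 h2
    wlog hlt : i < j generalizing i j
    · exact this j i hj hi (Ne.symm hij) h2 h1 (by omega)
    have h3 : (z ^ (j - i)) x = x := by
      conv_rhs at h2 => rw [← h1]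
      have h4 : f j = f i * z ^ (j - i) := by
        show e * z ^ j = e * z ^ i * z ^ (j - i)
        rw [mul_assoc, ← pow_add, Nat.add_sub_cancel' hlt.le]
      rw [h4, MulAut.mul_apply] at h2
      exact (f i).injective h2
    refine hfree x ?_
    obtain ⟨t, ht⟩ := CfsgLib.Solvable.exists_mul_mod_prime_pow (p := p) (m := 1) (j := j - i)
      (by omega) (by rw [pow_one]; omega)
    rw [pow_one, Nat.sub_self, pow_zero, Nat.mod_eq_of_lt hp.out.one_lt] at ht
    have h5 := pow_fixed h3 t
    rwa [← pow_mul, pow_eq_pow_mod _ hzp, ht, pow_one] at h5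
  have hnormz : ∀ x, norm z p x = 1 := fun x => hfree _ (mem_fixed.1 (norm_mem_fixed hzp x))
  have hdecomp : ∀ x : U, x ^ p = ∏ i ∈ Finset.range p, norm (f i) p x := by
    intro x
    have hterm : ∀ i j : ℕ, (f i ^ j) x = (e ^ j) ((z ^ (i * j)) x) := fun i j => by
      show ((e * z ^ i) ^ j) x = _
      rw [(Commute.pow_right hez i).mul_pow, ← pow_mul, MulAut.mul_apply]
    rw [Finset.prod_congr rfl fun i _ => norm_apply (f i) p x, Finset.prod_comm,
      Finset.prod_eq_single_of_mem 0 (Finset.mem_range.2 hp.out.pos) fun j hj hj0 => ?_]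
    · simp
    · obtain ⟨t, ht⟩ := CfsgLib.Solvable.exists_mul_mod_prime_pow (p := p) (m := 1) (j := j)
        (Nat.pos_of_ne_zero hj0) (by rw [pow_one]; exact Finset.mem_range.1 hj)
      rw [pow_one, Nat.sub_self, pow_zero, Nat.mod_eq_of_lt hp.out.one_lt] at ht
      rw [Finset.prod_congr rfl fun i _ => hterm i j, ← map_prod]
      have hfix : z (∏ i ∈ Finset.range p, (z ^ (i * j)) x) = ∏ i ∈ Finset.range p, (z ^ (i * j)) x := by
        have h1 : norm (z ^ j) p x = ∏ i ∈ Finset.range p, (z ^ (i * j)) x := by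
          rw [norm_apply]
          exact Finset.prod_congr rfl fun i _ => by rw [← pow_mul, mul_comm]
        have h2 := pow_fixed (mem_fixed.1 (norm_mem_fixed (f := z ^ j) (n := p)
          (by rw [← pow_mul, mul_comm, pow_mul, hzp, one_pow]) x)) t
        rwa [← pow_mul, pow_eq_pow_mod _ hzp, ht, pow_one, h1] at h2
      rw [hfree _ hfix, map_one]
  have hfinish' : (∀ i, i < p → ∀ x ∈ fixed (f i), act (y * y') x = act (y' * y) x) →
      act (y * y') = act (y' * y) := fun h => hfinish fun x => by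
    rw [hdecomp, map_prod, map_prod]
    exact Finset.prod_congr rfl fun i hi => h i (Finset.mem_range.1 hi) _ (norm_mem_fixed (hfp i) x)
  by_cases hcent : ∀ g, act g * e = e * act g
  · refine hfinish' fun i _ => hrec (fixed (f i)) (fun h => he₀Z ?_) fun g x hx =>
      fixed_invariant ?_ hx
    · have h1 : e = (z ^ i)⁻¹ := eq_inv_of_mul_eq_one_left (MulEquiv.ext fun x =>
        mem_fixed.1 (h ▸ Subgroup.mem_top x))
      have : e₀ = ((z₀ : act.range) ^ i)⁻¹ := Subtype.ext h1
      rw [this]; exact inv_mem (pow_mem z₀.2 i)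
    · show act g * (e * z ^ i) = e * z ^ i * act g
      rw [← mul_assoc, hcent g, mul_assoc, (Commute.pow_right (hzc g) i).eq, mul_assoc]
  push Not at hcent
  obtain ⟨g₀, hg₀⟩ := hcent
  -- the stabiliser of the lines
  let M : Subgroup P := (Subgroup.centralizer {e}).comap act
  have hMmem : ∀ g, g ∈ M ↔ act g * e = e * act g := fun g => by
    simp only [M, Subgroup.mem_comap, Subgroup.mem_centralizer_singleton_iff]
  have hconjn : ∀ g i, act g * e = e * z ^ i * act g → ∀ n : ℕ, act (g ^ n) * e = e * z ^ (n * i) * act (g ^ n) := by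
    intro g i hgi n
    induction n with
    | zero => simp
    | succ n ihn =>
      rw [pow_succ, map_mul, mul_assoc, hgi, ← mul_assoc, ← mul_assoc, ihn]
      have hc1 : Commute (act (g ^ n)) (z ^ i) := Commute.pow_right (hzc _) i
      rw [mul_assoc (e * z ^ (n * i)), hc1.eq, ← mul_assoc, mul_assoc e, ← pow_add,
        show n * i + i = (n + 1) * i by ring, mul_assoc]
  have hpowM : ∀ t : P, t ^ p ∈ M := fun t => by
    obtain ⟨i, hi⟩ := heg t
    rw [hMmem, hconjn t i hi p, pow_mul, hzp, one_pow, mul_one]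
  have htrans : ∀ g i, act g * e = e * z ^ i * act g → ∀ a b, a < p → (a + i) % p = b →
      ∀ x ∈ fixed (f b), act g⁻¹ x ∈ fixed (f a) := by
    intro g i hgi a b _ hab x hx
    rw [mem_fixed] at hx ⊢
    apply (act g).injective
    have h1 : act g * f a = f b * act g := by
      show act g * (e * z ^ a) = e * z ^ b * act g
      rw [← mul_assoc, hgi, mul_assoc (e * z ^ i), (Commute.pow_right (hzc g) a).eq, ← mul_assoc,
        mul_assoc e, ← pow_add, add_comm i a, pow_eq_pow_mod _ hzp, hab]
    have h2 : act g (act g⁻¹ x) = x := by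
      rw [← MulAut.mul_apply, ← map_mul, mul_inv_cancel, map_one, MulAut.one_apply]
    rw [← MulAut.mul_apply, h1, MulAut.mul_apply, h2, hx]
  -- all lines have large fixed groups
  obtain ⟨i₀, hi₀⟩ := heg g₀
  have hi₀p : i₀ % p ≠ 0 := fun h => hg₀ (by rw [hi₀, pow_eq_pow_mod _ hzp, h, pow_zero, mul_one])
  have hmove : ∀ (g : P) (i : ℕ), act g * e = e * z ^ i * act g → i % p ≠ 0 → ∀ a b, a < p → b < p →
      ∃ h : P, (∀ x ∈ fixed (f b), act h x ∈ fixed (f a)) ∧ ∃ m : ℕ, h = (g ^ m)⁻¹ := by
    intro g i hgi hip a b ha hb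
    obtain ⟨t, ht⟩ := CfsgLib.Solvable.exists_mul_mod_prime_pow (p := p) (m := 1) (j := i % p)
      (Nat.pos_of_ne_zero hip) (by rw [pow_one]; exact Nat.mod_lt _ hp.out.pos)
    rw [pow_one, Nat.sub_self, pow_zero, Nat.mod_eq_of_lt hp.out.one_lt] at ht
    refine ⟨_, htrans (g ^ ((b + p - a) * t)) _ (hconjn g i hgi _) a b ha ?_, _, rfl⟩
    have h1 : i * t % p = 1 := by rw [Nat.mul_mod, ← ht, Nat.mul_mod (i % p) t, Nat.mod_mod]
    rw [mul_assoc, mul_comm t, Nat.add_mod, Nat.mul_mod, h1, mul_one, Nat.mod_mod, ← Nat.add_mod,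
      show a + (b + p - a) = b + p by omega, Nat.add_mod_right, Nat.mod_eq_of_lt hb]
  have hsome : ∃ a, a < p ∧ fixed (f a) ≠ ⊥ := by
    by_contra hcon
    push Not at hcon
    refine hz1 (MulEquiv.ext fun x => ?_)
    have h1 : x ^ p = 1 := by
      rw [hdecomp]
      exact Finset.prod_eq_one fun i hi => Subgroup.mem_bot.1
        (hcon i (Finset.mem_range.1 hi) ▸ norm_mem_fixed (hfp i) x)
    rw [hroot x h1, map_one, map_one]
  obtain ⟨a₀, ha₀, ha₀ne⟩ := hsome
  have hbig : ∀ a, a < p → B ≤ Nat.card (fixed (f a)) := by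
    intro a ha
    have hne : fixed (f a) ≠ ⊥ := fun h => ha₀ne <| by
      obtain ⟨g, hg, -⟩ := hmove g₀ i₀ hi₀ hi₀p a a₀ ha ha₀
      rw [Subgroup.eq_bot_iff_forall]
      intro x hx
      exact (act g).injective ((Subgroup.mem_bot.1 (h ▸ hg x hx)).trans (map_one _).symm)
    obtain ⟨i, hi⟩ := IsPGroup.iff_card.1 (hU.to_subgroup (fixed (f a)))
    rw [hi]
    have hi0 : 0 < i := Nat.pos_of_ne_zero fun h0 => hne (Subgroup.card_eq_one.1 (by rw [hi, h0, pow_zero]))
    refine hB i hi0 ?_
    have hzinv : z * f a = f a * z := (((Commute.symm hez).mul_right ((Commute.refl z).pow_right a)) :)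
    letI : MulAction (Subgroup.zpowers z) (fixed (f a)) :=
      { smul := fun w x => ⟨w.1 x.1, fixed_invariant (by
          obtain ⟨m, hm⟩ := w.2
          rw [← hm]; exact (Commute.zpow_left (hzinv) m).eq) x.2⟩
        one_smul := fun x => Subtype.ext rfl
        mul_smul := fun w w' x => Subtype.ext rfl }
    have hZp : IsPGroup p (Subgroup.zpowers z) := IsPGroup.of_card (n := 1) (by
      rw [pow_one, Nat.card_zpowers, orderOf_eq_prime hzp hz1])
    have h1 := hZp.card_modEq_card_fixedPoints (fixed (f a))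
    have h2 : Nat.card (MulAction.fixedPoints (Subgroup.zpowers z) (fixed (f a))) = 1 := by
      rw [Nat.card_eq_one_iff_unique]
      refine ⟨⟨fun u w => Subtype.ext (Subtype.ext ?_)⟩, ⟨⟨1, fun w => Subtype.ext (map_one w.1)⟩⟩⟩
      rw [hfree _ (congrArg Subtype.val (u.2 ⟨z, Subgroup.mem_zpowers z⟩)),
        hfree _ (congrArg Subtype.val (w.2 ⟨z, Subgroup.mem_zpowers z⟩))]
    rw [h2, hi] at h1
    exact Eq.trans h1 (Nat.mod_eq_of_lt hp.out.one_lt)
  -- independence of the lines
  have hind : ∀ (x : Fin p → U), (∀ a : Fin p, x a ∈ fixed (f a)) → ∏ a, x a = 1 → ∀ a, x a = 1 := by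
    intro x hx h a
    apply hroot
    have h1 := congrArg (norm (f a) p) h
    rw [map_prod, map_one, Finset.prod_eq_single a ?_ (fun h => absurd (Finset.mem_univ a) h),
      norm_of_fixed (mem_fixed.1 (hx a))] at h1
    · exact h1
    · intro b _ hba
      refine hfix_both a b a.2 b.2 (fun h => hba (Fin.ext h.symm)) _
        (mem_fixed.1 (norm_mem_fixed (hfp a) _)) ?_
      rw [norm_apply, map_prod]
      refine Finset.prod_congr rfl fun j _ => ?_
      have hcm : f b * f a ^ j = f a ^ j * f b :=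
        (Commute.pow_right (((Commute.refl e).mul_right (Commute.pow_right hez a)).mul_left
          (((Commute.symm hez).pow_left b).mul_right ((Commute.refl z).pow_pow b a))) j :)
      rw [← MulAut.mul_apply, hcm, MulAut.mul_apply, mem_fixed.1 (hx b)]
  have hprodle : ∀ (T : Fin p → Subgroup U) (T₀ : Subgroup U), (∀ a : Fin p, T a ≤ fixed (f a)) →
      (∀ a, T a ≤ T₀) → ∏ a, Nat.card (T a) ≤ Nat.card T₀ := by
    intro T T₀ hT hT₀
    rw [← Nat.card_pi]
    refine Nat.card_le_card_of_injective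
      (fun x => (⟨∏ a, (x a : U), Subgroup.prod_mem _ fun a _ => hT₀ a (x a).2⟩ : T₀)) fun x x' h => ?_
    funext a
    refine Subtype.ext (div_eq_one.1 (hind (fun a => (x a : U) / x' a)
      (fun a => div_mem (hT a (x a).2) (hT a (x' a).2)) ?_ a))
    have h' : (∏ a, (x a : U)) = ∏ a, (x' a : U) := congrArg Subtype.val h
    rw [Finset.prod_div_distrib, h', div_self']
  have hUcard : B ^ p ≤ Nat.card U := by
    have h := hprodle (fun a => fixed (f a)) ⊤ (fun a => le_rfl) fun a => le_top
    rw [Subgroup.card_top] at h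
    refine le_trans ?_ h
    calc B ^ p = ∏ _a : Fin p, B := by simp
      _ ≤ _ := Finset.prod_le_prod (fun _ _ => Nat.zero_le _) fun a _ => hbig a a.2
  -- tame elements lie in the stabiliser
  have hinM : ∀ w, IsTame p B act w → w ∈ M := by
    intro w hw
    rcases hw with hw | ⟨⟨t, rfl⟩, -⟩
    swap
    · exact hpowM t
    by_contra hwM
    obtain ⟨i, hi⟩ := heg w
    have hip : i % p ≠ 0 := fun h =>
      hwM ((hMmem w).2 (by rw [hi, pow_eq_pow_mod _ hzp, h, pow_zero, mul_one]))
    obtain ⟨t, ht⟩ := CfsgLib.Solvable.exists_mul_mod_prime_pow (p := p) (m := 1) (j := i % p)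
      (Nat.pos_of_ne_zero hip) (by rw [pow_one]; exact Nat.mod_lt _ hp.out.pos)
    rw [pow_one, Nat.sub_self, pow_zero, Nat.mul_mod, Nat.mod_mod, ← Nat.mul_mod, Nat.mod_eq_of_lt hp.out.one_lt] at ht
    have hbij : Function.Surjective (dhom (z ^ i)) := Finite.injective_iff_surjective.1
      ((dhom (z ^ i)).ker_eq_bot_iff.1 ((Subgroup.eq_bot_iff_forall _).2 fun x hx => hfree x (by
        have h1 := pow_fixed (mem_fixed.1 hx : (z ^ i) x = x) t
        rwa [← pow_mul, pow_eq_pow_mod _ hzp, ht, pow_one] at h1)))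
    have hsurj : Function.Surjective (fun x : moved (act w) × moved (act w) => (x.1 : U) * e x.2) := by
      intro u
      obtain ⟨v, rfl⟩ := hbij u
      set s := (act w)⁻¹ (e⁻¹ v) with hs
      refine ⟨(⟨dhom (act w) (e s), ⟨_, rfl⟩⟩, ⟨(dhom (act w) s)⁻¹, inv_mem ⟨_, rfl⟩⟩), ?_⟩
      have hcz : z ^ i = e⁻¹ * (act w * e * (act w)⁻¹) := by rw [hi]; group
      have hcz' : e * z ^ i = z ^ i * e := Commute.pow_right hez i
      show (act w (e s) / e s) * e ((act w s / s)⁻¹) = (z ^ i) v / v
      have hws : act w s = e⁻¹ v := MulAut.apply_inv_self _ _ _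
      rw [hws, inv_div, map_div, MulAut.apply_inv_self, div_mul_div_cancel]
      refine congrArg (· / v) ?_
      rw [hs, ← MulAut.mul_apply, ← MulAut.mul_apply, hi, ← MulAut.mul_apply]
      have h2 : e * z ^ i * act w * (act w)⁻¹ * e⁻¹ = z ^ i := by
        rw [mul_inv_cancel_right, hcz', mul_inv_cancel_right]
      rw [h2]
    have h1 := Nat.card_le_card_of_surjective _ hsurj
    rw [Nat.card_prod] at h1
    have h2 : B ^ 3 ≤ B ^ p := Nat.pow_le_pow_right (by omega) hp3
    have h3 := Nat.mul_le_mul hw hw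
    nlinarith
  have hyM := hinM y hy
  have hy'M := hinM y' hy'
  -- induction on each line
  refine hfinish' fun a ha x hx => ?_
  have hinv : ∀ g ∈ M, ∀ x ∈ fixed (f a), act g x ∈ fixed (f a) := fun g hg x hx => fixed_invariant
    (Commute.mul_right ((hMmem g).1 hg : Commute (act g) e) (Commute.pow_right (hzc g) a)).eq hx
  have hlt : Nat.card (fixed (f a)) < c := hc ▸ lt_of_le_of_ne (Subgroup.card_le_card_group _)
    fun h => by
      have h' : fixed (f a) = ⊤ := Subgroup.eq_top_of_card_eq _ h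
      obtain ⟨b, hb, hba⟩ : ∃ b, b < p ∧ b ≠ a := ⟨if a = 0 then 1 else 0, by split <;> omega, by split <;> omega⟩
      have h1 := hbig b hb
      rw [(Subgroup.eq_bot_iff_forall _).2 fun x hx => hfix_both b a hb ha hba x (mem_fixed.1 hx)
        (mem_fixed.1 (h' ▸ Subgroup.mem_top x)), Subgroup.card_bot] at h1
      omega
  have htame : ∀ (w : P) (hw : w ∈ M), IsTame p B act w →
      IsTame p B (restrictAct act M (fixed (f a)) hinv) ⟨w, hw⟩ := by
    intro w hwM hw
    rcases hw with hw | ⟨⟨t, rfl⟩, hw⟩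
    · exact Or.inl (le_of_eq_of_le (moved_restrict _ _ _ _ _) ((card_map_le act _ w).trans hw))
    by_cases htM : t ∈ M
    · exact Or.inr ⟨⟨⟨t, htM⟩, rfl⟩, le_of_eq_of_le (moved_restrict _ _ _ _ _)
        ((card_map_le act _ _).trans hw)⟩
    refine Or.inl (le_of_eq_of_le (moved_restrict _ _ _ _ _) ?_)
    obtain ⟨i, hi⟩ := heg t
    have hip : i % p ≠ 0 := fun h =>
      htM ((hMmem t).2 (by rw [hi, pow_eq_pow_mod _ hzp, h, pow_zero, mul_one]))
    have hle : ∀ b : Fin p, Nat.card ((fixed (f a)).map (dhom (act (t ^ p)))) ≤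
        Nat.card ((fixed (f b)).map (dhom (act (t ^ p)))) := by
      intro b
      obtain ⟨h, hh, m, rfl⟩ := hmove t i hi hip b a b.2 ha
      refine Nat.card_le_card_of_injective (fun w => (⟨act (t ^ m)⁻¹ w.1, by
        obtain ⟨_, v, hv, rfl⟩ := w
        refine ⟨_, hh v hv, ?_⟩
        show act (t ^ p) (act (t ^ m)⁻¹ v) / act (t ^ m)⁻¹ v = act (t ^ m)⁻¹ (act (t ^ p) v / v)
        rw [map_div, ← MulAut.mul_apply, ← map_mul, ← MulAut.mul_apply,
          ← map_mul, ((Commute.pow_pow_self t p m).inv_right).eq]⟩ : (fixed (f b)).map (dhom (act (t ^ p)))))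
        fun w w' hww => Subtype.ext ((act _).injective (congrArg Subtype.val hww))
    have hprod := hprodle (fun b => (fixed (f b)).map (dhom (act (t ^ p)))) (moved (act (t ^ p)))
      (fun b => by
        rintro _ ⟨v, hv, rfl⟩
        rw [dhom_apply]
        exact div_mem (fixed_invariant (Commute.mul_right ((hMmem _).1 (hpowM t) :
          Commute (act (t ^ p)) e) (Commute.pow_right (hzc _) b)).eq hv) hv)
      (fun b => by rintro _ ⟨v, -, rfl⟩; exact ⟨v, rfl⟩)
    refine (Nat.pow_le_pow_iff_left hp.out.ne_zero).1 (le_trans ?_ (hprod.trans hw))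
    calc _ = ∏ _b : Fin p, Nat.card ((fixed (f a)).map (dhom (act (t ^ p)))) := by simp
      _ ≤ _ := Finset.prod_le_prod (fun _ _ => Nat.zero_le _) fun b _ => hle b
  exact congrArg Subtype.val (DFunLike.congr_fun (ih _ hlt rfl (hP.to_subgroup M) (hU.to_subgroup _)
    (restrictAct act M (fixed (f a)) hinv) ⟨y, hyM⟩ ⟨y', hy'M⟩
    (htame y hyM hy) (htame y' hy'M hy')) (⟨x, hx⟩ : fixed (f a)))

end CfsgLib.PGroup.Tame
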