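import Cfsg.Agent.Lib.Transfer.HallHigmanB
import Cfsg.Agent.Lib.PGroup.TameCommute
import Cfsg.Agent.S3784

/-!
The components on which an exceptional element of Theorem B of Hall and Higman acts.
-/

set_option autoImplicit false

open scoped commutatorElement

namespace CfsgLib.PGroup.HHExceptional

open CfsgLib.Solvable CfsgLib.Transfer.HHB

variable {k : Type*} [Field k] [IsAlgClosed k] {W : Type*} [AddCommGroup W] [Module k W]
  [FiniteDimensional k W] {p : ℕ} [hp : Fact p.Prime] [CharP k p]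

/-- Commuting operators have a common eigenvector. -/
theorem exists_weight {A : Type*} [Group A] [Nontrivial W] (π : A →* Module.End k W)
    (hcomm : ∀ a b, π a * π b = π b * π a) : ∃ φ : A → k, weightSpace π φ ≠ ⊥ := by
  obtain ⟨U, hUinv, hUne, hUirr⟩ := exists_irreducible_invariant π
  have : Nontrivial U := Submodule.nontrivial_iff_ne_bot.2 hUne
  have hsc : ∀ a, ∃ t : k, restrictRep π U hUinv a = t • 1 := fun a =>
    schur_scalar _ hUirr (T := restrictRep π U hUinv a) fun b => by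
      refine LinearMap.ext fun u => Subtype.ext ?_
      show π a (π b (u : W)) = π b (π a (u : W))
      rw [← Module.End.mul_apply, hcomm, Module.End.mul_apply]
  choose φ hφ using hsc
  obtain ⟨u, hu⟩ := exists_ne (0 : U)
  refine ⟨φ, fun h => hu (Subtype.ext ?_)⟩
  show (u : W) = 0
  rw [← Submodule.mem_bot k, ← h, mem_weightSpace]
  exact fun a => congrArg Subtype.val (LinearMap.congr_fun (hφ a) u)

/-- A weight fixed by the power of order `p` has an orbit leaving an operator of defective degree. -/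
theorem orbit_step {A : Type*} [Group A] {π : A →* Module.End k W} {σ : MulAut A}
    {S : Module.End k W} (hS : ∀ a, S * π a = π (σ a) * S) {n : ℕ} (hn : 0 < n)
    (hSN : S ^ p ^ n = 1) (hdef : (S - 1) ^ (p ^ n - 1) = 0) {φ : A → k}
    (hfix : ∀ a, φ ((σ ^ p ^ (n - 1)) a) = φ a) :
    ∃ b, b < n ∧ (∀ a, φ ((σ ^ p ^ b) a) = φ a) ∧
      ∀ w ∈ weightSpace π φ, ((S ^ p ^ b - 1) ^ (p ^ (n - b) - 1)) w = 0 := by
  classical
  have hex : ∃ l, 0 < l ∧ ∀ a, φ ((σ ^ l) a) = φ a := ⟨p ^ (n - 1), Nat.pow_pos hp.out.pos, hfix⟩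
  obtain ⟨hl0, hlfix⟩ := Nat.find_spec hex
  set l := Nat.find hex with hl
  have hlmul : ∀ i a, φ ((σ ^ (l * i)) a) = φ a := by
    intro i
    induction i with
    | zero => intro a; rfl
    | succ i ih => intro a; rw [mul_add, mul_one, pow_add, MulAut.mul_apply, ih, hlfix]
  have hldvd : l ∣ p ^ (n - 1) := by
    rw [Nat.dvd_iff_mod_eq_zero]
    by_contra hne
    refine Nat.find_min hex (Nat.mod_lt _ hl0) ⟨Nat.pos_of_ne_zero hne, fun a => ?_⟩
    have h1 := hfix a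
    rw [← Nat.mod_add_div (p ^ (n - 1)) l, add_comm, pow_add, MulAut.mul_apply] at h1
    exact (hlmul _ _).symm.trans h1
  obtain ⟨b, hbn, hlb⟩ := (Nat.dvd_prime_pow hp.out).1 hldvd
  have hfree : ∀ j, 0 < j → j < p ^ b → ∃ a, φ ((σ ^ j) a) ≠ φ a := fun j hj hjl => by
    by_contra hcon
    push Not at hcon
    exact Nat.find_min hex (lt_of_lt_of_eq hjl hlb.symm : j < l) ⟨hj, hcon⟩
  rw [hlb] at hlfix
  refine ⟨b, by omega, hlfix, fun w hw => ?_⟩
  by_contra hne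
  have h := orbit_bound hS hSN (φ := φ) (b := b) (Nat.pow_le_pow_right hp.out.pos (by omega))
    hlfix hfree hw hne hdef
  have h1 : 0 < p ^ (n - b) := Nat.pow_pos hp.out.pos
  rw [Nat.sub_add_cancel h1, ← pow_add, Nat.add_sub_cancel' (by omega : b ≤ n)] at h
  have : 0 < p ^ n := Nat.pow_pos hp.out.pos
  omega

theorem sq_le_of_pow_sub_one {p s n m : ℕ} (hp : p.Prime) (hs : p = 2 ^ s + 1) (hp2 : p ≠ 2)
    (hn : 1 ≤ n) (hm : p ^ n - 1 = 2 ^ m) :
    (p ^ n - 1) * (p ^ n - 1) ≤ (p - 1) ^ 2 ∨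
      (2 ≤ n ∧ (p ^ n - 1) * (p ^ n - 1) ≤ ((p - 1) ^ 2) ^ p) := by
  rcases eq_or_lt_of_le hn with rfl | hn2
  · left; rw [pow_one, sq]
  right
  refine ⟨hn2, ?_⟩
  have hm1 : 1 ≤ m := Nat.one_le_iff_ne_zero.2 fun h0 => by
    have h1 : 3 ^ 1 ≤ p ^ n := le_trans (Nat.pow_le_pow_left (by have := hp.two_le; omega) 1)
      (Nat.pow_le_pow_right hp.pos (by omega))
    rw [h0, pow_zero] at hm
    omega
  have hpe : p ^ n = 2 ^ m + 1 := by
    have := Nat.one_le_pow n p hp.pos; omega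
  rcases Cfsg.Agent.S3784.result p 2 n m hp Nat.prime_two (by omega) hm1 hpe with
    ⟨h, -⟩ | ⟨-, h, -⟩ | ⟨h9, -⟩
  · exact absurd h hp2
  · omega
  · have hp3 : p = 3 := by
      have h1 : p ∣ 3 ^ 2 := by rw [show 3 ^ 2 = p ^ n by rw [h9]; rfl]; exact dvd_pow_self p (by omega)
      exact (Nat.prime_dvd_prime_iff_eq hp Nat.prime_three).1 (hp.dvd_of_dvd_pow h1)
    subst hp3
    rw [h9]; norm_num

/-- The part of a component moved by the power of order `p` of a defective operator is small. -/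
theorem moved_bound (hp2 : p ≠ 2) {s : ℕ} (hs : p = 2 ^ s + 1) [Nontrivial W] {Q : Type*} [Group Q]
    [Finite Q] (hQ2 : IsPGroup 2 Q) (ρ : Q →* Module.End k W)
    (hD : ∀ x y : Q, ∃ c : k, ρ ⁅x, y⁆ = c • (1 : Module.End k W)) (γ : MulAut Q) {N : ℕ} (hN : 0 < N)
    (hγ : γ ^ p ^ N = 1) {S : Module.End k W} (hS : ∀ x, S * ρ x = ρ (γ x) * S)
    (hSN : S ^ p ^ N = 1) (hdef : (S - 1) ^ (p ^ N - 1) = 0) {U : Type*} [CommGroup U] [Finite U]
    (π : Q →* U) (hπ : Function.Surjective π) (hker : ∀ x : Q, π x = 1 ↔ ∀ y : Q, ρ ⁅y, x⁆ = 1)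
    (τ : MulAut U) (hτ : ∀ x, π ((γ ^ p ^ (N - 1)) x) = τ (π x)) :
    Nat.card (Tame.moved τ) ≤ (p - 1) ^ 2 ∨
      (2 ≤ N ∧ Nat.card (Tame.moved τ) ≤ ((p - 1) ^ 2) ^ p) := by
  classical
  have hk2 : (2 : k) ≠ 0 := fun h => hp2 ((Nat.prime_dvd_prime_iff_eq hp.out Nat.prime_two).1
    ((CharP.cast_eq_zero_iff k p 2).1 (by exact_mod_cast h)))
  obtain ⟨f₀, hf₀⟩ := IsPGroup.iff_card.1 hQ2
  have hQk : (Nat.card Q : k) ≠ 0 := by
    rw [hf₀, Nat.cast_pow, Nat.cast_ofNat]; exact pow_ne_zero _ hk2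
  set t := γ ^ p ^ (N - 1) with ht
  have htp : t ^ p = 1 := by
    rw [ht, ← pow_mul, ← pow_succ, Nat.sub_add_cancel hN, hγ]
  have hSu : S * S ^ (p ^ N - 1) = 1 := by
    rw [← pow_succ', Nat.sub_add_cancel (Nat.pow_pos hp.out.pos), hSN]
  have hscalar : ∀ z : Q, (∃ c : k, ρ z = c • 1) → ρ (γ z) = ρ z := fun z ⟨c, hc⟩ => by
    calc ρ (γ z) = ρ (γ z) * S * S ^ (p ^ N - 1) := by rw [mul_assoc, hSu, mul_one]
      _ = S * ρ z * S ^ (p ^ N - 1) := by rw [hS]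
      _ = ρ z := by rw [hc, mul_smul_comm, mul_one, smul_mul_assoc, hSu]
  have hscalpow : ∀ (i : ℕ) (z : Q), (∃ c : k, ρ z = c • 1) → ρ ((γ ^ i) z) = ρ z := by
    intro i
    induction i with
    | zero => intro z _; rfl
    | succ i ih =>
      intro z hz
      rw [pow_succ, MulAut.mul_apply, ih (γ z) (hz.imp fun c hc => (hscalar z hz).trans hc),
        hscalar z hz]
  -- the radical
  set R := π.ker with hR
  haveI : R.Normal := π.normal_ker
  have hRmem : ∀ x, x ∈ R ↔ ∀ y, ρ ⁅y, x⁆ = 1 := fun x => MonoidHom.mem_ker.trans (hker x)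
  have hRcomm : ∀ r ∈ R, ∀ y, ρ r * ρ y = ρ y * ρ r := fun r hr y => by
    have e1 : ⁅y, r⁆ * (r * y) = y * r := by rw [commutatorElement_def]; group
    rw [← map_mul, ← map_mul, ← e1, map_mul _ ⁅y, r⁆, (hRmem r).1 hr y, one_mul]
  have hDR : ∀ x y, ⁅x, y⁆ ∈ R := fun x y => by
    rw [hR, MonoidHom.mem_ker, map_commutatorElement, commutatorElement_eq_one_iff_mul_comm,
      mul_comm]
  have hγR : ∀ r ∈ R, γ r ∈ R := fun r hr => (hRmem _).2 fun y => by
    obtain ⟨z, rfl⟩ := γ.surjective y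
    rw [← map_commutatorElement, hscalar _ (hD z r), (hRmem r).1 hr z]
  have htR : ∀ r ∈ R, t r ∈ R := pow_apply_invariant hγR _
  obtain ⟨ψ, hψ⟩ := CfsgLib.FGS.exists_restrict_mulAut γ hγR
  have hSR : ∀ r : R, S * (ρ.comp R.subtype) r = (ρ.comp R.subtype) (ψ r) * S := fun r => by
    show S * ρ r = ρ (ψ r : R) * S
    have h1 := hψ 1 r
    rw [pow_one, pow_one] at h1
    rw [h1, hS]
  have htfix : ∀ r ∈ R, ρ (t r) = ρ r := by
    by_contra hcon
    push Not at hcon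
    obtain ⟨r, hr, hrne⟩ := hcon
    have h := regular_bound (π := ρ.comp R.subtype) (σ := ψ) (S := S) (M := Nat.card Q)
      (fun a b => hRcomm a a.2 b) hQk
      (fun a => by show ρ a ^ _ = 1; rw [← map_pow, pow_card_eq_one', map_one])
      hSR hN (MulEquiv.ext fun a => Subtype.ext (by rw [hψ, hγ]; rfl)) hSN
      ⟨⟨r, hr⟩, by show ρ ((ψ ^ p ^ (N - 1)) ⟨r, hr⟩ : R) ≠ ρ r; rwa [hψ, ← ht]⟩ hdef
    have := Nat.pow_pos (n := N) hp.out.pos
    omega
  obtain ⟨φ, hφ⟩ := exists_weight (ρ.comp R.subtype) fun a b => hRcomm a a.2 b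
  obtain ⟨w₀, hw₀, hw₀ne⟩ := Submodule.exists_mem_ne_zero_of_ne_bot hφ
  have hφfix : ∀ r : R, φ ((ψ ^ p ^ (N - 1)) r) = φ r := fun r => by
    refine smul_left_injective k hw₀ne ?_
    show φ _ • w₀ = φ r • w₀
    rw [← mem_weightSpace.1 hw₀ _, ← mem_weightSpace.1 hw₀ r]
    show ρ ((ψ ^ p ^ (N - 1)) r : R) w₀ = ρ r w₀
    rw [hψ, ← ht, htfix r r.2]
  obtain ⟨b, hbN, hbfix, hbdef⟩ := orbit_step hSR hN hSN hdef hφfix
  set W' := weightSpace (ρ.comp R.subtype) φ with hW'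
  haveI : Nontrivial W' := Submodule.nontrivial_iff_ne_bot.2 hφ
  have hWinv : ∀ y, ∀ w ∈ W', ρ y w ∈ W' := fun y w hw => by
    rw [hW', mem_weightSpace] at hw ⊢
    intro a
    show ρ a (ρ y w) = φ a • ρ y w
    rw [← Module.End.mul_apply, hRcomm a a.2, Module.End.mul_apply, ← map_smul, ← hw a]
    rfl
  set ρ' := restrictRep ρ W' hWinv with hρ'
  have hT : ∀ w ∈ W', (S ^ p ^ b) w ∈ W' := pow_weight_invariant hSR hbfix
  set T : Module.End k W' := (S ^ p ^ b).restrict hT with hTdef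
  have hTpow : ∀ (i : ℕ) (w : W'), (((T ^ i) w : W') : W) = ((S ^ p ^ b) ^ i) w := by
    intro i
    induction i with
    | zero => intro w; rfl
    | succ i ihi => intro w; rw [pow_succ', pow_succ', Module.End.mul_apply,
        LinearMap.coe_restrict_apply, ihi]; rfl
  have hTN : T ^ p ^ (N - b) = 1 := LinearMap.ext fun w => Subtype.ext (by
    rw [hTpow, ← pow_mul, ← pow_add, Nat.add_sub_cancel' hbN.le, hSN]; rfl)
  have hTdef0 : (T - 1) ^ (p ^ (N - b) - 1) = 0 := by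
    have key : ∀ (i : ℕ) (w : W'), ((((T - 1) ^ i) w : W') : W) = ((S ^ p ^ b - 1) ^ i) w := by
      intro i
      induction i with
      | zero => intro w; rfl
      | succ i ihi => intro w; rw [pow_succ', pow_succ', Module.End.mul_apply,
          Module.End.mul_apply, ← ihi]; rfl
    exact LinearMap.ext fun w => Subtype.ext ((key _ w).trans (hbdef w w.2))
  set γ' := γ ^ p ^ b with hγ'
  have hγ'N : γ' ^ p ^ (N - b) = 1 := by
    rw [hγ', ← pow_mul, ← pow_add, Nat.add_sub_cancel' hbN.le, hγ]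
  have hγ't : γ' ^ p ^ (N - b - 1) = t := by
    rw [hγ', ht, ← pow_mul, ← pow_add, show b + (N - b - 1) = N - 1 by omega]
  have hγ'R : ∀ r ∈ R, γ' r ∈ R := pow_apply_invariant hγR _
  -- the moved part
  set D := Tame.moved τ with hDdef
  set Q₂ := D.comap π with hQ₂
  have hRQ₂ : R ≤ Q₂ := fun x hx => show π x ∈ D by rw [MonoidHom.mem_ker.1 hx]; exact one_mem _
  have hτp : τ ^ p = 1 := MulEquiv.ext fun u => by
    obtain ⟨x, rfl⟩ := hπ u
    have key : ∀ i : ℕ, (τ ^ i) (π x) = π ((t ^ i) x) := by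
      intro i
      induction i with
      | zero => rfl
      | succ i ih => rw [pow_succ', MulAut.mul_apply, ih, ← hτ, pow_succ' t, MulAut.mul_apply]
    rw [key, htp]; rfl
  have hU2 : IsPGroup 2 U := hQ2.of_surjective π hπ
  have hrootU : ∀ u : U, u ^ p = 1 → u = 1 := fun u hu =>
    orderOf_eq_one_iff.1 (Nat.eq_one_of_dvd_coprimes (by
      obtain ⟨i, hi⟩ := IsPGroup.iff_card.1 hU2
      rw [hi]; exact Nat.Coprime.pow_left i ((Nat.coprime_primes Nat.prime_two hp.out).2 hp2.symm))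
      (orderOf_dvd_natCard u) (orderOf_dvd_of_pow_eq_one hu))
  -- fixed and moved parts meet trivially
  have hnormD : ∀ u ∈ D, Tame.norm τ p u = 1 := by
    rintro _ ⟨v, rfl⟩
    rw [Tame.dhom_apply, map_div, Tame.norm_apply, Tame.norm_apply, div_eq_one]
    have h1 := Finset.prod_range_succ' (fun j => (τ ^ j) v) p
    have h2 := Finset.prod_range_succ (fun j => (τ ^ j) v) p
    rw [hτp] at h2
    rw [h2] at h1
    refine (mul_right_cancel (b := (τ ^ 0) v) ?_).symm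
    refine (by rw [pow_zero] : _ = _).trans (h1.trans ?_)
    exact congrArg (· * _) (Finset.prod_congr rfl fun j _ => by rw [pow_succ, MulAut.mul_apply])
  have hfpf : ∀ x ∈ Q₂, π (t x) = π x → x ∈ R := fun x hx hfix => by
    refine MonoidHom.mem_ker.2 (hrootU _ ?_)
    rw [← Tame.norm_of_fixed ((hτ x).symm.trans hfix)]
    exact hnormD _ hx
  by_cases htriv : D = ⊥
  · left
    rw [htriv, Subgroup.card_bot]
    exact Nat.one_le_pow _ _ (by have := hp.out.two_le; omega)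
  set R₂ := R.subgroupOf Q₂ with hR₂
  haveI : R₂.Normal := by rw [hR₂]; infer_instance
  obtain ⟨γ₂, hγ₂⟩ := CfsgLib.FGS.exists_restrict_mulAut γ' (show ∀ x ∈ Q₂, γ' x ∈ Q₂ from fun x hx => by
    obtain ⟨v, hv⟩ : π x ∈ D := hx
    obtain ⟨z, rfl⟩ := hπ v
    refine ⟨π (γ' z), ?_⟩
    rw [Tame.dhom_apply, ← hτ, ← map_div]
    have h1 : (x⁻¹ * (t z / z)) ∈ R := MonoidHom.mem_ker.2 (by
      rw [map_mul, map_inv, map_div, hτ, ← Tame.dhom_apply, hv, inv_mul_cancel])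
    have h2 := MonoidHom.mem_ker.1 (hγ'R _ h1)
    rw [map_mul γ', map_inv γ', map_div γ', map_mul, map_inv, inv_mul_eq_one] at h2
    rw [h2, show t (γ' z) = γ' (t z) by
      rw [← MulAut.mul_apply, ← MulAut.mul_apply, ht, hγ', ← pow_add, ← pow_add, add_comm]])
  have hγ₂1 : ∀ x : Q₂, ((γ₂ x : Q₂) : Q) = γ' x := fun x => by
    have h1 := hγ₂ 1 x
    rwa [pow_one, pow_one] at h1
  have hD' : ∀ x y : Q₂, ⁅x, y⁆ ∈ R₂ := fun x y => hDR x y
  have hR₂top : R₂ ≠ ⊤ := fun h => htriv (by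
    rw [Subgroup.eq_bot_iff_forall]
    intro u hu
    obtain ⟨x, rfl⟩ := hπ u
    exact MonoidHom.mem_ker.1 (show x ∈ R from (h ▸ Subgroup.mem_top (⟨x, hu⟩ : Q₂) : (⟨x, hu⟩ : Q₂) ∈ R₂)))
  have hsc' : ∀ r ∈ R, ∃ c : k, ρ' r = c • 1 := fun r hr =>
    ⟨φ ⟨r, hr⟩, LinearMap.ext fun w => Subtype.ext (mem_weightSpace.1 w.2 ⟨r, hr⟩)⟩
  have hpair : ∀ x y : Q, ρ' ⁅y, x⁆ = 1 → ρ ⁅y, x⁆ = 1 := fun x y h => by
    obtain ⟨c, hc⟩ := hD y x
    obtain ⟨w, hw⟩ := exists_ne (0 : W')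
    have h1 : c = 1 := smul_left_injective k hw (show c • w = (1 : k) • w by
      have h2 := congrArg Subtype.val (LinearMap.congr_fun h w)
      change ρ ⁅y, x⁆ (w : W) = (w : W) at h2
      rw [hc, LinearMap.smul_apply, Module.End.one_apply] at h2
      exact Subtype.ext (h2.trans (one_smul k (w : W)).symm))
    rw [hc, h1, one_smul]
  have hmulL : ∀ y y' x : Q, ρ ⁅y * y', x⁆ = ρ ⁅y, x⁆ * ρ ⁅y', x⁆ := fun y y' x => by
    obtain ⟨c, hc⟩ := hD y x
    obtain ⟨c', hc'⟩ := hD y' x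
    rw [show ⁅y * y', x⁆ = (y * ⁅y', x⁆ * y⁻¹) * ⁅y, x⁆ by simp only [commutatorElement_def]; group,
      map_mul, map_mul, map_mul, hc, hc']
    simp only [mul_smul_comm, smul_mul_assoc, mul_one]
    rw [← map_mul, mul_inv_cancel, map_one, smul_comm]
  have hmodR : ∀ y y' x : Q, π y = π y' → ρ ⁅y, x⁆ = ρ ⁅y', x⁆ := fun y y' x h => by
    have h1 : y'⁻¹ * y ∈ R := MonoidHom.mem_ker.2 (by rw [map_mul, map_inv, h, inv_mul_cancel])
    have h2 : ρ ⁅y'⁻¹ * y, x⁆ = 1 := by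
      have h3 := (hRmem _).1 h1 x
      obtain ⟨c, hc⟩ := hD (y'⁻¹ * y) x
      have : ρ ⁅y'⁻¹ * y, x⁆ * ρ ⁅x, y'⁻¹ * y⁆ = 1 := by
        rw [← map_mul, ← commutatorElement_inv, inv_mul_cancel, map_one]
      rwa [h3, mul_one] at this
    conv_lhs => rw [show y = y' * (y'⁻¹ * y) by group]
    rw [hmulL, h2, mul_one]
  have hnd : ∀ x : Q₂, x ∉ R₂ → ∃ y : Q₂, (ρ'.comp Q₂.subtype) ⁅y, x⁆ ≠ 1 := by
    intro x hx
    by_contra hcon
    push Not at hcon
    have hcon' : ∀ y ∈ Q₂, ρ ⁅y, (x : Q)⁆ = 1 := fun y hy => hpair _ _ (hcon ⟨y, hy⟩)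
    refine hx ((hRmem _).2 fun y => ?_)
    -- the pairing with the fixed elements is trivial
    have hfixed : ∀ z : Q, π (t z) = π z → ρ ⁅z, (x : Q)⁆ = 1 := by
      intro z hz
      obtain ⟨v, hv⟩ : π (x : Q) ∈ D := x.2
      obtain ⟨v, rfl⟩ := hπ v
      rw [Tame.dhom_apply, ← hτ] at hv
      have hzv : ρ ⁅z, t v⁆ = ρ ⁅z, v⁆ := by
        rw [← hmodR (t z) z (t v) hz, ← map_commutatorElement,
          hscalpow (p ^ (N - 1)) _ (hD z v)]
      have h1 : ρ ⁅z, (x : Q) * v⁆ = ρ ⁅z, t v⁆ := by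
        have h2 : π ((x : Q) * v) = π (t v) := by rw [map_mul, ← hv, div_mul_cancel]
        have e : ∀ a : Q, ⁅z, a⁆ = ⁅a, z⁆⁻¹ := fun a => (commutatorElement_inv a z).symm
        have h3 := hmodR _ _ z h2
        obtain ⟨c, hc⟩ := hD z (t v)
        have h4 : ρ ⁅z, (x : Q) * v⁆ * ρ ⁅(x : Q) * v, z⁆ = 1 := by
          rw [← map_mul, e, inv_mul_cancel, map_one]
        have h5 : ρ ⁅t v, z⁆ * ρ ⁅z, t v⁆ = 1 := by
          rw [← map_mul, e, mul_inv_cancel, map_one]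
        calc ρ ⁅z, (x : Q) * v⁆ = ρ ⁅z, (x : Q) * v⁆ * (ρ ⁅t v, z⁆ * ρ ⁅z, t v⁆) := by
              rw [h5, mul_one]
          _ = ρ ⁅z, t v⁆ := by rw [← h3, ← mul_assoc, h4, one_mul]
      have h4 : ρ ⁅z, (x : Q) * v⁆ = ρ ⁅z, (x : Q)⁆ * ρ ⁅z, v⁆ := by
        obtain ⟨c, hc⟩ := hD z v
        rw [show ⁅z, (x : Q) * v⁆ = ⁅z, (x : Q)⁆ * ((x : Q) * ⁅z, v⁆ * (x : Q)⁻¹) by
          simp only [commutatorElement_def]; group, map_mul, map_mul, map_mul, hc]
        simp only [mul_smul_comm, smul_mul_assoc, mul_one]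
        rw [← map_mul ρ (x : Q), mul_inv_cancel, map_one, mul_one]
      rw [h1, hzv] at h4
      have h5 : ρ ⁅z, v⁆ * ρ ⁅v, z⁆ = 1 := by
        rw [← map_mul, ← commutatorElement_inv v z, inv_mul_cancel, map_one]
      calc ρ ⁅z, (x : Q)⁆ = ρ ⁅z, (x : Q)⁆ * (ρ ⁅z, v⁆ * ρ ⁅v, z⁆) := by rw [h5, mul_one]
        _ = 1 := by rw [← mul_assoc, ← h4, h5]
    have hdec : ∃ a b : Q, π y ^ p = π a * π b ∧ π (t a) = π a ∧ b ∈ Q₂ := by
      obtain ⟨a, ha⟩ := hπ (Tame.norm τ p (π y))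
      obtain ⟨b, hb⟩ := hπ (∏ j ∈ Finset.range p, π y / (τ ^ j) (π y))
      refine ⟨a, b, ?_, ?_, show π b ∈ D from hb ▸ Subgroup.prod_mem _ fun j hj' => ?_⟩
      · rw [ha, hb, Tame.norm_apply, ← Finset.prod_mul_distrib]; simp
      · rw [hτ, ha]; exact Tame.mem_fixed.1 (Tame.norm_mem_fixed hτp _)
      · clear hj'
        induction j with
        | zero => simp
        | succ j ihj =>
          have : π y / (τ ^ (j + 1)) (π y) =
              (π y / (τ ^ j) (π y)) * (Tame.dhom τ ((τ ^ j) (π y)))⁻¹ := by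
            rw [Tame.dhom_apply, pow_succ', MulAut.mul_apply, inv_div, div_mul_div_cancel]
          rw [this]; exact mul_mem ihj (inv_mem ⟨_, rfl⟩)
    obtain ⟨a, b', hab, hafix, hbQ⟩ := hdec
    have h1 : ρ ⁅y ^ p, (x : Q)⁆ = 1 := by
      rw [hmodR (y ^ p) (a * b') _ (by rw [map_pow, map_mul, hab]), hmulL, hfixed a hafix,
        hcon' b' hbQ, one_mul]
    have h2 : ∀ i : ℕ, ρ ⁅y ^ i, (x : Q)⁆ = ρ ⁅y, (x : Q)⁆ ^ i := by
      intro i
      induction i with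
      | zero => simp
      | succ i ih => rw [pow_succ, hmulL, ih, pow_succ]
    rw [h2] at h1
    refine orderOf_eq_one_iff.1 (Nat.eq_one_of_dvd_coprimes ?_ (orderOf_dvd_of_pow_eq_one
      (show ρ ⁅y, (x : Q)⁆ ^ Nat.card Q = 1 by rw [← map_pow, pow_card_eq_one', map_one]))
      (orderOf_dvd_of_pow_eq_one h1))
    rw [hf₀]; exact Nat.Coprime.pow_left _ ((Nat.coprime_primes Nat.prime_two hp.out).2 hp2.symm)
  have hsemi : ∀ x : Q₂, x ∉ R₂ → ∀ i, 0 < i → i < p ^ (N - b) → x⁻¹ * (γ₂ ^ i) x ∉ R₂ := by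
    intro x hx i hi hin hmem
    have hmem' : π ((γ' ^ i) (x : Q)) = π (x : Q) := by
      have h1 : π ((x : Q)⁻¹ * ((γ₂ ^ i) x : Q₂)) = 1 := MonoidHom.mem_ker.1 hmem
      rw [map_mul, map_inv, inv_mul_eq_one] at h1
      rw [← hγ₂ i x, ← h1]
    obtain ⟨j, hj⟩ := exists_mul_mod_prime_pow (p := p) (m := N - b) hi hin
    have hit : ∀ j, π ((γ' ^ (i * j)) (x : Q)) = π (x : Q) := by
      intro j
      induction j with
      | zero => rfl
      | succ j ih =>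
        have h1 : ((γ' ^ i) (x : Q))⁻¹ * (x : Q) ∈ R := MonoidHom.mem_ker.2 (by
          rw [map_mul, map_inv, hmem', inv_mul_cancel])
        have h2 := MonoidHom.mem_ker.1 (pow_apply_invariant hγ'R (i * j) _ h1)
        rw [map_mul (γ' ^ (i * j)), map_inv (γ' ^ (i * j)), map_mul, map_inv, inv_mul_eq_one] at h2
        rw [mul_add, mul_one, pow_add, MulAut.mul_apply, h2, ih]
    refine hx (hfpf _ x.2 ?_)
    have h2 := hit j
    rwa [← Nat.mod_add_div (i * j) (p ^ (N - b)), pow_add, pow_mul γ' (p ^ (N - b)), hγ'N, one_pow,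
      mul_one, hj, Nat.mod_eq_of_lt (Nat.pow_lt_pow_right hp.out.one_lt (by omega)), hγ't] at h2
  rcases component_bound (ρ'.comp Q₂.subtype) (R := R₂) (fun r hr => hsc' _ hr) hD' hR₂top hnd
    (by
      intro h
      refine hQk ?_
      obtain ⟨c, hc⟩ := Subgroup.card_subgroup_dvd_card Q₂
      rw [hc, Nat.cast_mul, h, zero_mul])
    γ₂ (fun r hr => show ((γ₂ r : Q₂) : Q) ∈ R by rw [hγ₂1]; exact hγ'R _ hr)
    (MulEquiv.ext fun x => Subtype.ext (by rw [hγ₂, hγ'N]; rfl)) hsemi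
    (S := T) (fun x => LinearMap.ext fun w => Subtype.ext (by
      show (S ^ p ^ b) (ρ x w) = ρ (γ₂ x : Q₂) ((S ^ p ^ b) w)
      rw [hγ₂1, hγ', ← Module.End.mul_apply, pow_intertwine hS, Module.End.mul_apply])) hTN with
    h | ⟨hcard, -⟩
  · have h1 := h _ hTdef0
    have := Nat.pow_pos (n := N - b) hp.out.pos
    omega
  have hDcard : Nat.card (Q₂ ⧸ R₂) = Nat.card D := by
    show R.relIndex Q₂ = _
    rw [hR, Subgroup.relIndex_ker, hQ₂, Subgroup.map_comap_eq_self_of_surjective hπ]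
  rw [hDcard] at hcard
  obtain ⟨i, hi⟩ := IsPGroup.iff_card.1 (hU2.to_subgroup D)
  obtain ⟨m, -, hm⟩ := (Nat.dvd_prime_pow Nat.prime_two).1
    (hi ▸ hcard ▸ Dvd.intro _ rfl : p ^ (N - b) - 1 ∣ 2 ^ i)
  rcases sq_le_of_pow_sub_one hp.out hs hp2 (by omega) hm with h | ⟨h2, h⟩
  · exact Or.inl (hcard ▸ h)
  · exact Or.inr ⟨by omega, hcard ▸ h⟩

end CfsgLib.PGroup.HHExceptional
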