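import Cfsg.Agent.Lib.PGroup.AbelianSylowLength
import Cfsg.Agent.Lib.Transfer.HallHigmanB
import Mathlib.Algebra.Ring.GeomSum
import Mathlib.Algebra.CharP.Lemmas
import Mathlib.Algebra.Polynomial.Expand

/-!
Hall and Higman: away from the exceptional case, an element of order `p ^ (n + 1)` modulo `O_p(G)`
has nonzero norm on the Frattini quotient of `O_p(G)`.
-/

set_option autoImplicit false

namespace CfsgLib.PGroup

open CfsgLib.Solvable Cfsg

universe u

/-- In characteristic `p`, the norm of a `p ^ j`-cycle is a power of `X - 1`. -/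
theorem geom_sum_prime_pow (k : Type*) [Field k] {p : ℕ} [hp : Fact p.Prime] [CharP k p] (j : ℕ) :
    ∑ i ∈ Finset.range (p ^ j), (Polynomial.X : Polynomial k) ^ i =
      (Polynomial.X - 1) ^ (p ^ j - 1) := by
  have h1 : (Polynomial.X - 1 : Polynomial k) ≠ 0 := by
    simpa using Polynomial.X_sub_C_ne_zero (1 : k)
  refine mul_right_cancel₀ h1 ?_
  have hN : p ^ j - 1 + 1 = p ^ j := Nat.sub_add_cancel (Nat.one_le_pow _ _ hp.out.pos)
  rw [geom_sum_mul, ← pow_succ, hN, sub_pow_char_pow, one_pow]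

/-- `p ^ i - 1` is a power of `2` only for `p = 2 ^ s + 1`. -/
theorem fermat_of_pow_sub_one {p i q m : ℕ} (hp : p.Prime) (hp2 : p ≠ 2) (hq : q.Prime) (hi : 1 ≤ i)
    (hm : 1 ≤ m) (h : p ^ i - 1 = q ^ m) : q = 2 ∧ ∃ s, p = 2 ^ s + 1 := by
  have hodd : Odd (p ^ i) := (hp.odd_of_ne_two hp2).pow
  have h2q : 2 ∣ q ^ m := by
    obtain ⟨c, hc⟩ := hodd
    exact ⟨c, by omega⟩
  obtain rfl : q = 2 := ((Nat.prime_dvd_prime_iff_eq Nat.prime_two hq).1 (Nat.prime_two.dvd_of_dvd_pow h2q)).symm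
  refine ⟨rfl, ?_⟩
  have hd : p - 1 ∣ 2 ^ m := h ▸ Nat.sub_one_dvd_pow_sub_one p i
  obtain ⟨s, -, hs⟩ := (Nat.dvd_prime_pow Nat.prime_two).1 hd
  exact ⟨s, by have := hp.two_le; omega⟩

set_option maxHeartbeats 1000000 in
/-- Away from the exceptional case some translate `r * x` has `(r * x) ^ N` different from `x ^ N`
modulo the Frattini subgroup of `O_p(G)`, where `N` is the order of `x` modulo `O_p(G)`. -/
theorem exists_norm_not_mem_frattini {G : Type u} [Group G] [Finite G] {p n : ℕ}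
    [hp : Fact p.Prime] (hp2 : p ≠ 2) (hsol : IsPSolvable p G) (hO : pPrimeCore p G = ⊥)
    (hnx : (¬ ∃ s : ℕ, p = 2 ^ s + 1) ∨ ∀ T : Sylow 2 G, IsMulCommutative (T : Subgroup G))
    {x : G} (hx1 : x ^ p ^ (n + 1) ∈ pCore p G) (hx0 : x ^ p ^ n ∉ pCore p G) :
    ∃ r : ↥(pCore p G), ∀ c : ↥(pCore p G), (c : G) * x ^ p ^ (n + 1) = ((r : G) * x) ^ p ^ (n + 1) →
      c ∉ frattini ↥(pCore p G) := by
  classical
  set R := pCore p G with hR
  have hRp : IsPGroup p R := CfsgLib.Cores.isPGroup_pCore p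
  letI : CommGroup (↥R ⧸ frattini ↥R) :=
    { (inferInstance : Group (↥R ⧸ frattini ↥R)) with mul_comm := quotient_frattini_comm hRp }
  obtain ⟨d, f, hfinj, hfnorm⟩ := exists_norm_rep (↥R ⧸ frattini ↥R) p (quotient_frattini_pow hRp)
  let act : G →* MulAut (↥R ⧸ frattini ↥R) := CfsgLib.A8.frattiniAct R
  have hker : act.ker = R :=
    CfsgLib.A8.ker_frattiniAct (CfsgLib.Transfer.centralizer_pCore_le_of_isPSolvable hsol hO)
  let actb : G ⧸ R →* MulAut (↥R ⧸ frattini ↥R) := QuotientGroup.lift R act hker.ge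
  have hactb : Function.Injective actb := by
    rw [injective_iff_map_eq_one]
    intro t ht
    obtain ⟨g, rfl⟩ := QuotientGroup.mk'_surjective R t
    refine (QuotientGroup.eq_one_iff g).2 ?_
    rw [← hker]; exact ht
  obtain ⟨xb, hxb⟩ : ∃ xb : G ⧸ R, xb = QuotientGroup.mk' R x := ⟨_, rfl⟩
  have hxbm : xb ^ p ^ (n + 1) = 1 := by
    rw [hxb, ← map_pow, QuotientGroup.mk'_apply, QuotientGroup.eq_one_iff]; exact hx1
  by_contra hcon0
  push Not at hcon0
  set K := pPrimeCore p (G ⧸ R) with hK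
  haveI hKn : K.Normal := by
    haveI := CfsgLib.Cores.pPrimeCore_characteristic (G := G ⧸ R) p
    infer_instance
  have hcent := CyclicTransvection.centralizer_pPrimeCore_le (CfsgLib.Transfer.isPSolvable_quotient hsol R)
    (CfsgLib.Cores.pCore_quotient_self (G := G) p)
  have hKcop : (Nat.card K).Coprime p := CfsgLib.Cores.coprime_card_pPrimeCore p
  have hnotc : xb ^ p ^ n ∉ Subgroup.centralizer (K : Set (G ⧸ R)) := fun h => by
    refine hx0 ((QuotientGroup.eq_one_iff (x ^ p ^ n)).1 ?_)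
    show QuotientGroup.mk' R (x ^ p ^ n) = 1
    rw [map_pow, ← hxb, ← orderOf_eq_one_iff]
    refine Nat.eq_one_of_dvd_coprimes (hKcop.symm.pow_left (n + 1))
      (orderOf_dvd_of_pow_eq_one ?_) ((Subgroup.orderOf_mk (xb ^ p ^ n) (hcent h)) ▸
        orderOf_dvd_natCard (⟨xb ^ p ^ n, hcent h⟩ : K))
    rw [← pow_mul, mul_comm, pow_mul, hxbm, one_pow]
  have hAK : Subgroup.zpowers xb ≤ Subgroup.normalizer (K : Set (G ⧸ R)) := by
    rw [Subgroup.normalizer_eq_top]; exact le_top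
  have hcop : (Nat.card (Subgroup.zpowers xb)).Coprime (Nat.card K) := by
    rw [Nat.card_zpowers]
    exact Nat.Coprime.coprime_dvd_left (orderOf_dvd_of_pow_eq_one hxbm) (hKcop.symm.pow_left _)
  obtain ⟨q, hq, hqK, Q, hQn, hQnot⟩ : ∃ (q : ℕ), q.Prime ∧ q ∣ Nat.card K ∧ ∃ Q : Sylow q K,
      Subgroup.zpowers xb ≤ Subgroup.normalizer ((Q : Subgroup K).map K.subtype : Set (G ⧸ R)) ∧
      ¬ (Q : Subgroup K).map K.subtype ≤ Subgroup.centralizer {xb ^ p ^ n} := by
    by_contra hcon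
    push Not at hcon
    refine hnotc (Subgroup.mem_centralizer_iff.2 fun y hy => ?_)
    have hle : Nat.card K ∣ Nat.card (Subgroup.centralizer {xb ^ p ^ n} ⊓ K : Subgroup (G ⧸ R)) := by
      refine (Nat.dvd_iff_prime_pow_dvd_dvd _ _).2 fun q k hq hqk => ?_
      rcases Nat.eq_zero_or_pos k with rfl | hk
      · simp
      haveI := Fact.mk hq
      obtain ⟨Q, hQ⟩ := exists_invariant_sylow (Subgroup.zpowers xb) K hAK hcop (Or.inl inferInstance) q
      have h1 := hcon q hq ((dvd_pow_self q hk.ne').trans hqk) Q hQ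
      refine dvd_trans ?_ (Subgroup.card_dvd_of_le (le_inf h1 (Subgroup.map_subtype_le _)))
      rw [card_sylow_map, Q.card_eq_multiplicity]
      exact pow_dvd_pow _ ((Nat.Prime.pow_dvd_iff_le_factorization hq Nat.card_pos.ne').1 hqk)
    have heq := Subgroup.eq_of_le_of_card_ge inf_le_right (Nat.le_of_dvd Nat.card_pos hle)
    exact Subgroup.mem_centralizer_singleton_iff.1 (heq.ge hy).1
  haveI := Fact.mk hq
  have hqp : q ≠ p := fun h =>
    hq.ne_one (Nat.eq_one_of_dvd_coprimes hKcop hqK (h ▸ dvd_refl q))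
  set Qb := (Q : Subgroup K).map K.subtype with hQb
  have hQq : IsPGroup q Qb := Q.2.map _
  obtain ⟨b, hbQ, hbne⟩ := SetLike.not_le_iff_exists.1 hQnot
  rw [Subgroup.mem_centralizer_singleton_iff] at hbne
  let φ : MulAut Qb := Subgroup.normalizerMonoidHom Qb ⟨xb, hQn (Subgroup.mem_zpowers xb)⟩
  have hφpow : ∀ (i : ℕ) (z : Qb), (((φ ^ i) z : Qb) : G ⧸ R) = xb ^ i * z * (xb ^ i)⁻¹ := by
    intro i z
    rw [← map_pow]
    rfl
  let ρ : Qb →* Module.End (AlgebraicClosure (ZMod p)) (Fin d → AlgebraicClosure (ZMod p)) :=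
    f.comp (actb.comp Qb.subtype)
  have hρ : Function.Injective ρ := hfinj.comp (hactb.comp Qb.subtype_injective)
  have hS : ∀ z, f (actb xb) * ρ z = ρ (φ z) * f (actb xb) := fun z => by
    show f (actb xb) * f (actb z) = f (actb ((φ z : Qb) : G ⧸ R)) * f (actb xb)
    rw [← map_mul f, ← map_mul f, ← map_mul actb, ← map_mul actb]
    refine congrArg _ (congrArg _ ?_)
    show xb * (z : G ⧸ R) = xb * z * xb⁻¹ * xb
    rw [inv_mul_cancel_right]
  have hnorm : ∑ i ∈ Finset.range (p ^ (n + 1)), f (actb xb) ^ i = 0 := by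
    simp only [← map_pow]
    rw [show (fun i : ℕ => f (actb (xb ^ i))) = fun i => f (act (x ^ i)) from funext fun i => by
      rw [hxb, ← map_pow]; rfl]
    simp only [map_pow act]
    refine hfnorm (act x) _ fun v => ?_
    obtain ⟨r, rfl⟩ := QuotientGroup.mk_surjective v
    have key : ∀ m : ℕ, ∃ c : R, (c : G) * x ^ m = ((r : G) * x) ^ m ∧
        (QuotientGroup.mk c : ↥R ⧸ frattini ↥R) =
          ∏ i ∈ Finset.range m, ((act x) ^ i) (QuotientGroup.mk r) := by
      intro m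
      induction m with
      | zero => exact ⟨1, by simp, by simp⟩
      | succ m ih =>
        obtain ⟨c, hc1, hc2⟩ := ih
        refine ⟨c * MulAut.conjNormal (x ^ m) r, ?_, ?_⟩
        · rw [pow_succ ((r : G) * x) m, ← hc1, Subgroup.coe_mul, MulAut.conjNormal_apply, pow_succ]
          group
        · rw [Finset.prod_range_succ, ← hc2, ← map_pow]
          rfl
    obtain ⟨c, hc1, hc2⟩ := key (p ^ (n + 1))
    obtain ⟨c', hc', hcf⟩ := hcon0 r
    rw [← hc2, (QuotientGroup.eq_one_iff c).2]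
    rwa [show c = c' from Subtype.ext (mul_right_cancel (hc1.trans hc'.symm))]
  have hpow0 : (f (actb xb) - 1) ^ (p ^ (n + 1) - 1) = 0 := by
    have h := congrArg (Polynomial.aeval (f (actb xb)))
      (geom_sum_prime_pow (AlgebraicClosure (ZMod p)) (p := p) (n + 1))
    simp only [map_sum, map_pow, map_sub, map_one, Polynomial.aeval_X] at h
    exact h.symm.trans hnorm
  rcases CfsgLib.Transfer.HHB.hall_higman_b (k := AlgebraicClosure (ZMod p)) (p := p) (q := q)
    (n := n + 1) hqp (Nat.succ_pos n) (Nat.card Qb) (Q := Qb) rfl hQq φ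
    (MulEquiv.ext fun z => Subtype.ext (by rw [hφpow, hxbm]; simp))
    ⟨⟨b, hbQ⟩, fun h => hbne (by
      have h1 := congrArg Subtype.val h
      rw [Nat.add_sub_cancel, hφpow] at h1
      exact (mul_inv_eq_iff_eq_mul.1 h1).symm)⟩
    ρ hρ (f (actb xb)) hS (by rw [← map_pow, ← map_pow, hxbm, map_one, map_one]) _ hpow0 with
    h | ⟨⟨a, c, hac⟩, n₀, m, hn1, -, hm1, hpq, -⟩
  · have := pow_pos hp.out.pos (n + 1); omega
  · obtain ⟨rfl, hs⟩ := fermat_of_pow_sub_one hp.out hp2 hq hn1 hm1 hpq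
    rcases hnx with hnf | hab
    · exact hnf hs
    · obtain ⟨T, hT⟩ := hQq.exists_le_sylow
      have hTab := sylow_comm_of_surjective (QuotientGroup.mk'_surjective R) hab T
      exact hac (Subtype.ext
        (congrArg Subtype.val (hTab.is_comm.comm ⟨a, hT a.2⟩ ⟨c, hT c.2⟩) :))

end CfsgLib.PGroup
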