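import Cfsg.Agent.Lib.PGroup.AbelianSylowLength
import Cfsg.Agent.Lib.PGroup.HHExceptional
import Cfsg.Agent.Lib.PGroup.HallHigmanLength

/-!
The bound `2 e` of Hall and Higman on the `p`-length of a `p`-solvable group.
-/

set_option autoImplicit false

open scoped commutatorElement

namespace CfsgLib.PGroup.HH2e

open CfsgLib.Solvable CfsgLib.PGroup Cfsg CfsgLib.Transfer.HHB

universe u

section Rep

/-- A faithful linear representation of the automorphisms of an elementary abelian group. -/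
theorem exists_linear_rep_aux (A : Type u) [CommGroup A] [Finite A] (r : ℕ) [hr : Fact r.Prime]
    [Module (ZMod r) (Additive A)] :
    ∃ (d : ℕ) (f : MulAut A →* Module.End (AlgebraicClosure (ZMod r))
        (Fin d → AlgebraicClosure (ZMod r))),
      Function.Injective f ∧ (∀ (a : MulAut A) (m : ℕ),
        (∀ v, (∏ i ∈ Finset.range m, (a ^ i) v) = 1) → ∑ i ∈ Finset.range m, f a ^ i = 0) ∧
      ∀ (a : MulAut A) (m l : ℕ),
        (∀ v, (a ^ l) (∏ i ∈ Finset.range m, (a ^ i) v) = ∏ i ∈ Finset.range m, (a ^ i) v) →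
        f a ^ l * ∑ i ∈ Finset.range m, f a ^ i = ∑ i ∈ Finset.range m, f a ^ i := by
  classical
  haveI : Finite (Additive A) := Finite.of_equiv A Additive.ofMul
  haveI : Module.Finite (ZMod r) (Additive A) := Module.Finite.of_finite
  let B := Module.finBasis (ZMod r) (Additive A)
  let d := Module.finrank (ZMod r) (Additive A)
  let k := AlgebraicClosure (ZMod r)
  let g : Module.End (ZMod r) (Additive A) →+* Module.End k (Fin d → k) :=
    ((Matrix.toLinAlgEquiv' : Matrix (Fin d) (Fin d) k ≃ₐ[k] _).toRingEquiv.toRingHom).comp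
      (((algebraMap (ZMod r) k).mapMatrix).comp (LinearMap.toMatrixAlgEquiv B).toRingEquiv.toRingHom)
  have hginj : Function.Injective g :=
    (Matrix.toLinAlgEquiv' : Matrix (Fin d) (Fin d) k ≃ₐ[k] _).injective.comp
      ((Matrix.map_injective (algebraMap (ZMod r) k).injective).comp
        (LinearMap.toMatrixAlgEquiv B).injective)
  have hz : ∀ (a : MulAut A) (m : ℕ) (v : Additive A),
      (∑ i ∈ Finset.range m, zmodAut r (a ^ i)) v =
        Additive.ofMul (∏ i ∈ Finset.range m, (a ^ i) v.toMul) := fun a m v => by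
    rw [LinearMap.sum_apply]
    simp only [zmodAut_apply]
    rw [← ofMul_prod]
  refine ⟨d, (g : _ →* _).comp (zmodAut r), ?_, ?_, ?_⟩
  · intro a b hab
    refine MulEquiv.ext fun x => ?_
    have h := LinearMap.congr_fun (hginj hab) (Additive.ofMul x)
    rw [zmodAut_apply, zmodAut_apply] at h
    exact Additive.ofMul.injective h
  · intro a m h
    have h0 : ∑ i ∈ Finset.range m, zmodAut r (a ^ i) = 0 := LinearMap.ext fun v => by
      rw [hz, h, ofMul_one, LinearMap.zero_apply]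
    simp only [← map_pow]
    show ∑ i ∈ Finset.range m, g (zmodAut r (a ^ i)) = 0
    rw [← map_sum, h0, map_zero]
  · intro a m l h
    have h0 : zmodAut r (a ^ l) * ∑ i ∈ Finset.range m, zmodAut r (a ^ i) =
        ∑ i ∈ Finset.range m, zmodAut r (a ^ i) := LinearMap.ext fun v => by
      rw [Module.End.mul_apply, hz, zmodAut_apply]
      exact congrArg Additive.ofMul (h v.toMul)
    simp only [← map_pow]
    show g (zmodAut r (a ^ l)) * ∑ i ∈ Finset.range m, g (zmodAut r (a ^ i)) =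
      ∑ i ∈ Finset.range m, g (zmodAut r (a ^ i))
    rw [← map_sum, ← map_mul, h0]

theorem exists_linear_rep (A : Type u) [CommGroup A] [Finite A] (r : ℕ) [hr : Fact r.Prime]
    (hexp : ∀ a : A, a ^ r = 1) :
    ∃ (d : ℕ) (f : MulAut A →* Module.End (AlgebraicClosure (ZMod r))
        (Fin d → AlgebraicClosure (ZMod r))),
      Function.Injective f ∧ (∀ (a : MulAut A) (m : ℕ),
        (∀ v, (∏ i ∈ Finset.range m, (a ^ i) v) = 1) → ∑ i ∈ Finset.range m, f a ^ i = 0) ∧
      ∀ (a : MulAut A) (m l : ℕ),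
        (∀ v, (a ^ l) (∏ i ∈ Finset.range m, (a ^ i) v) = ∏ i ∈ Finset.range m, (a ^ i) v) →
        f a ^ l * ∑ i ∈ Finset.range m, f a ^ i = ∑ i ∈ Finset.range m, f a ^ i := by
  have h0 : ∀ v : Additive A, r • v = 0 := fun v => by
    refine Additive.toMul.injective ?_
    rw [toMul_nsmul, toMul_zero]
    exact hexp _
  exact @exists_linear_rep_aux A _ _ r _ (AddCommGroup.zmodModule h0)

end Rep

theorem eq_one_of_coprime_pow {G : Type*} [Group G] {x : G} {a b : ℕ} (hab : a.Coprime b)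
    (ha : x ^ a = 1) (hb : x ^ b = 1) : x = 1 :=
  orderOf_eq_one_iff.1 (Nat.eq_one_of_dvd_coprimes hab (orderOf_dvd_of_pow_eq_one ha)
    (orderOf_dvd_of_pow_eq_one hb))

variable {k : Type*} [Field k] [IsAlgClosed k] {V : Type*} [AddCommGroup V] [Module k V]
  [FiniteDimensional k V] {p : ℕ} [hp : Fact p.Prime] [CharP k p]

/-- The element `y` fixes every `q`-group that `x` normalises, outside the exceptional case. -/
theorem fixes_of_defective (hp2 : p ≠ 2) {G : Type u} [Group G] [Finite G]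
    (f : G →* Module.End k V) (hf : Function.Injective f) {n : ℕ} {x : G}
    (hx : x ^ p ^ (n + 1) = 1) (hdef : (f x - 1) ^ (p ^ (n + 1) - 1) = 0) {q : ℕ} [hq : Fact q.Prime]
    (hqp : q ≠ p) {H : Subgroup G} (hH : IsPGroup q H) (hxH : x ∈ Subgroup.normalizer (H : Set G))
    (hc : q ≠ 2 ∨ ∀ a ∈ H, ∀ b ∈ H, a * b = b * a) {h : G} (hh : h ∈ H) :
    x ^ p ^ n * h = h * x ^ p ^ n := by
  by_contra hne
  let φ : MulAut H := Subgroup.normalizerMonoidHom H ⟨x, hxH⟩
  have hφpow : ∀ (i : ℕ) (z : H), (((φ ^ i) z : H) : G) = x ^ i * z * (x ^ i)⁻¹ := by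
    intro i z
    rw [← map_pow]
    rfl
  rcases hall_higman_b (k := k) (p := p) (q := q) (n := n + 1) hqp (Nat.succ_pos n) (Nat.card H)
    (Q := H) rfl hH φ (MulEquiv.ext fun z => Subtype.ext (by rw [hφpow, hx]; simp))
    ⟨⟨h, hh⟩, fun h0 => hne (by
      have h1 := congrArg Subtype.val h0
      rw [Nat.add_sub_cancel, hφpow] at h1
      exact mul_inv_eq_iff_eq_mul.1 h1)⟩
    (f.comp H.subtype) (hf.comp H.subtype_injective) (f x) (fun z => by
      show f x * f z = f ((φ z : H) : G) * f x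
      rw [← map_mul, ← map_mul]
      show f (x * z) = f (x * z * x⁻¹ * x)
      rw [inv_mul_cancel_right])
    (by rw [← map_pow, hx, map_one]) _ hdef with h1 | ⟨⟨a, b, hab⟩, n₀, m, hn₀, -, hm, he, -⟩
  · have := Nat.pow_pos (n := n + 1) hp.out.pos
    omega
  · rcases hc with hc | hc
    · exact hc (fermat_of_pow_sub_one hp.out hp2 hq.out hn₀ hm he).1
    · exact hab (Subtype.ext (hc a a.2 b b.2))

set_option maxHeartbeats 1000000 in
/-- The powers of order `p` of two defective elements of a Sylow subgroup commute. -/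
theorem commute_defective (hp2 : p ≠ 2) {s : ℕ} (hs : p = 2 ^ s + 1) {G : Type u} [Group G]
    [Finite G] (f : G →* Module.End k V) (hf : Function.Injective f)
    (hcent : Subgroup.centralizer ((pPrimeCore p G : Subgroup G) : Set G) ≤ pPrimeCore p G)
    (P : Sylow p G) {n : ℕ}
    (hdef : ∀ x ∈ (P : Subgroup G), x ^ p ^ (n + 1) = 1 ∧ (f x - 1) ^ (p ^ (n + 1) - 1) = 0)
    {x x' : G} (hx : x ∈ (P : Subgroup G)) (hx' : x' ∈ (P : Subgroup G)) :
    x ^ p ^ n * x' ^ p ^ n = x' ^ p ^ n * x ^ p ^ n := by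
  classical
  set K := pPrimeCore p G with hK
  haveI hKn : K.Normal := by
    haveI := CfsgLib.Cores.pPrimeCore_characteristic (G := G) p
    infer_instance
  have hKcop : (Nat.card K).Coprime p := CfsgLib.Cores.coprime_card_pPrimeCore p
  haveI : Group.IsNilpotent (P : Subgroup G) := P.2.isNilpotent
  have hPK : (P : Subgroup G) ≤ Subgroup.normalizer (K : Set G) := by
    rw [Subgroup.normalizer_eq_top]; exact le_top
  have hcop : (Nat.card (P : Subgroup G)).Coprime (Nat.card K) := by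
    obtain ⟨i, hi⟩ := IsPGroup.iff_card.1 P.2
    rw [hi]; exact hKcop.symm.pow_left i
  rw [← commutatorElement_eq_one_iff_mul_comm]
  set w := ⁅x ^ p ^ n, x' ^ p ^ n⁆ with hw
  have hwP : w ∈ (P : Subgroup G) := by
    rw [hw, commutatorElement_def]
    exact mul_mem (mul_mem (mul_mem (pow_mem hx _) (pow_mem hx' _)) (inv_mem (pow_mem hx _)))
      (inv_mem (pow_mem hx' _))
  suffices hwK : w ∈ Subgroup.centralizer (K : Set G) by
    obtain ⟨i, hi⟩ := IsPGroup.iff_card.1 P.2
    refine eq_one_of_coprime_pow (hKcop.symm.pow_left i) (a := p ^ i) (b := Nat.card K) ?_ ?_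
    · rw [← hi]; exact congrArg Subtype.val (pow_card_eq_one' (x := (⟨w, hwP⟩ : (P : Subgroup G))))
    · exact congrArg Subtype.val (pow_card_eq_one' (x := (⟨w, hcent hwK⟩ : K)))
  refine Subgroup.mem_centralizer_iff.2 fun z hz => ?_
  have hle : Nat.card K ∣ Nat.card (Subgroup.centralizer {w} ⊓ K : Subgroup G) := by
    refine (Nat.dvd_iff_prime_pow_dvd_dvd _ _).2 fun q j hq hqj => ?_
    rcases Nat.eq_zero_or_pos j with rfl | hj
    · simp
    haveI := Fact.mk hq
    have hqp : q ≠ p := fun h =>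
      hq.ne_one (Nat.eq_one_of_dvd_coprimes hKcop ((dvd_pow_self q hj.ne').trans hqj) (h ▸ dvd_refl q))
    obtain ⟨Q, hQn⟩ := exists_invariant_sylow (P : Subgroup G) K hPK hcop (Or.inl inferInstance) q
    refine dvd_trans ?_ (Subgroup.card_dvd_of_le (le_inf (?_ : (Q : Subgroup K).map K.subtype ≤
      Subgroup.centralizer {w}) (Subgroup.map_subtype_le _)))
    · rw [card_sylow_map, Q.card_eq_multiplicity]
      exact pow_dvd_pow _ ((Nat.Prime.pow_dvd_iff_le_factorization hq Nat.card_pos.ne').1 hqj)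
    set Qb := (Q : Subgroup K).map K.subtype with hQb
    have hQq : IsPGroup q Qb := Q.2.map _
    by_cases hq2 : q = 2
    swap
    · intro h hh
      have h1 := fixes_of_defective hp2 f hf (hdef x hx).1 (hdef x hx).2 hqp hQq (hQn hx) (Or.inl hq2) hh
      have h2 := fixes_of_defective hp2 f hf (hdef x' hx').1 (hdef x' hx').2 hqp hQq (hQn hx') (Or.inl hq2) hh
      rw [Subgroup.mem_centralizer_singleton_iff, hw, commutatorElement_def]
      exact (((Commute.mul_left (Commute.mul_left (Commute.mul_left h1 h2) (Commute.inv_left h1))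
        (Commute.inv_left h2)) : Commute _ h)).symm
    subst hq2
    -- the subgroup generated by the commutators of the powers
    let Ys : Set G := {y | ∃ x ∈ (P : Subgroup G), y = x ^ p ^ n}
    have hYP : ∀ y ∈ Ys, y ∈ (P : Subgroup G) := by rintro _ ⟨x, hx, rfl⟩; exact pow_mem hx _
    let gens : Set G := {d | ∃ a ∈ Ys, ∃ b ∈ Ys, d = ⁅a, b⁆}
    have hgP : ∀ d ∈ gens, d ∈ (P : Subgroup G) := by
      rintro _ ⟨a, ha, b, hb, rfl⟩
      rw [commutatorElement_def]
      exact mul_mem (mul_mem (mul_mem (hYP a ha) (hYP b hb)) (inv_mem (hYP a ha))) (inv_mem (hYP b hb))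
    have hgconj : ∀ g ∈ (P : Subgroup G), ∀ d ∈ gens, g * d * g⁻¹ ∈ gens := by
      rintro g hg _ ⟨a, ⟨a₀, ha₀, rfl⟩, b, ⟨b₀, hb₀, rfl⟩, rfl⟩
      refine ⟨_, ⟨g * a₀ * g⁻¹, mul_mem (mul_mem hg ha₀) (inv_mem hg), rfl⟩,
        _, ⟨g * b₀ * g⁻¹, mul_mem (mul_mem hg hb₀) (inv_mem hg), rfl⟩, ?_⟩
      rw [conj_pow, conj_pow]; simp only [commutatorElement_def]; group
    by_contra hnot
    obtain ⟨Q₁, ⟨hQ₁le, hQ₁n, hQ₁w⟩, hmin⟩ := (wellFounded_lt (α := Subgroup G)).has_min
      {H | H ≤ Qb ∧ (P : Subgroup G) ≤ Subgroup.normalizer (H : Set G) ∧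
        ∃ d ∈ gens, ∃ u ∈ H, d * u ≠ u * d}
      ⟨Qb, le_rfl, hQn, w, ⟨_, ⟨x, hx, rfl⟩, _, ⟨x', hx', rfl⟩, rfl⟩, by
        obtain ⟨u, hu, hu'⟩ := SetLike.not_le_iff_exists.1 hnot
        exact ⟨u, hu, fun h => hu' (Subgroup.mem_centralizer_singleton_iff.2 h.symm)⟩⟩
    have hfixed : ∀ H : Subgroup G, H ≤ Qb → (P : Subgroup G) ≤ Subgroup.normalizer (H : Set G) →
        H < Q₁ → ∀ d ∈ gens, ∀ u ∈ H, d * u = u * d := by
      intro H hH hHn hlt d hd u hu
      by_contra hne
      exact hmin H ⟨hH, hHn, d, hd, u, hu, hne⟩ hlt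
    have hQ₁2 : IsPGroup 2 Q₁ := hQq.to_le hQ₁le
    have hconj : ∀ g ∈ (P : Subgroup G), ∀ u ∈ Q₁, g * u * g⁻¹ ∈ Q₁ := fun g hg u hu =>
      (Subgroup.mem_normalizer_iff.1 (hQ₁n hg) u).1 hu
    have hnorm_of : ∀ H : Subgroup G, (∀ g ∈ (P : Subgroup G), ∀ u ∈ H, g * u * g⁻¹ ∈ H) →
        (P : Subgroup G) ≤ Subgroup.normalizer (H : Set G) := by
      intro H h g hg
      rw [Subgroup.mem_normalizer_iff]
      refine fun u => ⟨h g hg u, fun hu => ?_⟩
      have h1 := h g⁻¹ (inv_mem hg) _ hu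
      simpa [mul_assoc] using h1
    -- coprime action
    have hcoprime : ∀ d ∈ gens, ∀ u ∈ Q₁,
        d * (u⁻¹ * (d * u * d⁻¹)) = (u⁻¹ * (d * u * d⁻¹)) * d → d * u = u * d := by
      intro d hd u hu hc
      set c := u⁻¹ * (d * u * d⁻¹) with hcdef
      have hpow : ∀ i : ℕ, d ^ i * u * (d ^ i)⁻¹ = u * c ^ i := by
        intro i
        induction i with
        | zero => simp
        | succ i ih =>
          calc d ^ (i + 1) * u * (d ^ (i + 1))⁻¹ = d * (d ^ i * u * (d ^ i)⁻¹) * d⁻¹ := by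
                rw [pow_succ', mul_inv_rev]; group
            _ = (d * u * d⁻¹) * (d * c ^ i * d⁻¹) := by rw [ih]; group
            _ = u * c ^ (i + 1) := by
                rw [(Commute.pow_right (hc : Commute d c) i).eq, mul_inv_cancel_right,
                  pow_succ', ← mul_assoc u c, hcdef, mul_inv_cancel_left]
      obtain ⟨i, hi⟩ := P.2 ⟨d, hgP d hd⟩
      have h1 := hpow (p ^ i)
      rw [show d ^ p ^ i = 1 from congrArg Subtype.val hi] at h1
      simp only [one_mul, inv_one, mul_one, left_eq_mul] at h1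
      have hcQ : c ∈ Q₁ := mul_mem (inv_mem hu) (hconj d (hgP d hd) u hu)
      obtain ⟨j, hj⟩ := hQ₁2 ⟨c, hcQ⟩
      have hc1 : c = 1 := eq_one_of_coprime_pow (Nat.Coprime.pow j i
        ((Nat.coprime_primes Nat.prime_two hp.out).2 hp2.symm)) (congrArg Subtype.val hj) h1
      rw [hcdef, inv_mul_eq_one] at hc1
      exact (mul_inv_eq_iff_eq_mul.1 hc1.symm)
    set C₁ := Subgroup.closure {c | ∃ d ∈ gens, ∃ u ∈ Q₁, c = u⁻¹ * (d * u * d⁻¹)} with hC₁
    have hC₁eq : C₁ = Q₁ := by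
      have hle : C₁ ≤ Q₁ := by
        rw [hC₁, Subgroup.closure_le]
        rintro _ ⟨d, hd, u, hu, rfl⟩
        exact mul_mem (inv_mem hu) (hconj d (hgP d hd) u hu)
      by_contra hne
      have hC₁n : (P : Subgroup G) ≤ Subgroup.normalizer (C₁ : Set G) := hnorm_of _ fun g hg u hu => by
        induction hu using Subgroup.closure_induction with
        | mem c hc =>
          obtain ⟨d, hd, v, hv, rfl⟩ := hc
          exact Subgroup.subset_closure ⟨g * d * g⁻¹, hgconj g hg d hd, g * v * g⁻¹, hconj g hg v hv, by group⟩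
        | one => simp
        | mul a b _ _ iha ihb =>
          have : g * (a * b) * g⁻¹ = (g * a * g⁻¹) * (g * b * g⁻¹) := by group
          rw [this]; exact mul_mem iha ihb
        | inv a _ iha =>
          have : g * a⁻¹ * g⁻¹ = (g * a * g⁻¹)⁻¹ := by group
          rw [this]; exact inv_mem iha
      have hfix := hfixed C₁ (hle.trans hQ₁le) hC₁n (lt_of_le_of_ne hle hne)
      obtain ⟨d, hd, u, hu, hdu⟩ := hQ₁w
      exact hdu (hcoprime d hd u hu (hfix d hd _ (Subgroup.subset_closure ⟨d, hd, u, hu, rfl⟩)))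
    haveI : (frattini ↥Q₁).Characteristic := frattini_characteristic
    set Φ := (frattini ↥Q₁).map Q₁.subtype with hΦ
    have hΦfix : ∀ d ∈ gens, ∀ u ∈ Φ, d * u = u * d := by
      refine hfixed Φ ((Subgroup.map_subtype_le _).trans hQ₁le) (hnorm_of _ ?_) ?_
      · rintro g hg _ ⟨u, hu, rfl⟩
        exact ⟨_, (Subgroup.characteristic_iff_le_comap.1 (inferInstance : (frattini ↥Q₁).Characteristic)
          (Subgroup.normalizerMonoidHom Q₁ ⟨g, hQ₁n hg⟩)) hu, rfl⟩
      · refine lt_of_le_of_ne (Subgroup.map_subtype_le _) fun h => ?_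
        have h1 : frattini ↥Q₁ = ⊤ := Subgroup.map_injective Q₁.subtype_injective
          (h.trans (by rw [← MonoidHom.range_eq_map, Subgroup.range_subtype]))
        obtain ⟨d, hd, u, hu, hdu⟩ := hQ₁w
        haveI : Nontrivial Q₁ := ⟨⟨⟨u, hu⟩, 1, fun h0 => hdu (by
          rw [show u = 1 from congrArg Subtype.val h0, one_mul, mul_one])⟩⟩
        obtain ⟨M, hM, -⟩ := (eq_top_or_exists_le_coatom (⊥ : Subgroup ↥Q₁)).resolve_left bot_ne_top
        exact hM.1 (top_le_iff.1 (h1 ▸ frattini_le_coatom hM))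
    have hΦcent : ∀ e ∈ Φ, ∀ v ∈ Q₁, v * e = e * v := by
      intro e he v hv
      have hC : C₁ ≤ Subgroup.centralizer {e} := by
        rw [hC₁, Subgroup.closure_le]
        rintro _ ⟨d, hd, u, hu, rfl⟩
        have hcm : e * u * e⁻¹ * u⁻¹ ∈ Φ := by
          obtain ⟨e₀, he₀, rfl⟩ := he
          have h1 : e₀ * (⟨u, hu⟩ * e₀⁻¹ * (⟨u, hu⟩ : Q₁)⁻¹) ∈ frattini ↥Q₁ :=
            mul_mem he₀ ((inferInstance : (frattini ↥Q₁).Normal).conj_mem _ (inv_mem he₀) _)
          exact ⟨_, h1, by simp [mul_assoc]⟩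
        have h1 := hΦfix d hd _ hcm
        have h2 := hΦfix d hd e he
        refine Subgroup.mem_centralizer_singleton_iff.2 ?_
        have e1 : d * (e * u * e⁻¹ * u⁻¹) * d⁻¹ = e * u * e⁻¹ * u⁻¹ := by
          rw [h1, mul_inv_cancel_right]
        have e2 : d * e * d⁻¹ = e := by rw [h2, mul_inv_cancel_right]
        have e3 : e * (d * u * d⁻¹) * e⁻¹ * (d * u * d⁻¹)⁻¹ = e * u * e⁻¹ * u⁻¹ := by
          conv_rhs => rw [← e1]
          conv_lhs => rw [← e2]
          group
        calc u⁻¹ * (d * u * d⁻¹) * e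
            = u⁻¹ * (e * u * e⁻¹ * u⁻¹)⁻¹ * (e * (d * u * d⁻¹) * e⁻¹) * e := by
              rw [← e3]; group
          _ = e * (u⁻¹ * (d * u * d⁻¹)) := by group
      exact Subgroup.mem_centralizer_singleton_iff.1 (hC (hC₁eq.ge hv))
    have hcomΦ : ∀ a b : Q₁, ((⁅a, b⁆ : Q₁) : G) ∈ Φ := fun a b => by
      refine ⟨⁅a, b⁆, (QuotientGroup.eq_one_iff _).1 ?_, rfl⟩
      show QuotientGroup.mk' (frattini ↥Q₁) ⁅a, b⁆ = 1
      rw [map_commutatorElement, commutatorElement_eq_one_iff_mul_comm]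
      exact quotient_frattini_comm hQ₁2 _ _
    -- the centre
    set A := (Subgroup.center Q₁).map Q₁.subtype with hA
    have hAQ : A ≤ Q₁ := Subgroup.map_subtype_le _
    have hAn : ∀ g ∈ (P : Subgroup G), ∀ u ∈ A, g * u * g⁻¹ ∈ A := by
      rintro g hg _ ⟨u, hu, rfl⟩
      exact ⟨_, (Subgroup.characteristic_iff_le_comap.1
        (inferInstance : (Subgroup.center ↥Q₁).Characteristic)
          (Subgroup.normalizerMonoidHom Q₁ ⟨g, hQ₁n hg⟩)) hu, rfl⟩
    have hAc : ∀ a ∈ A, ∀ v ∈ Q₁, v * a = a * v := by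
      rintro _ ⟨a, ha, rfl⟩ v hv
      exact congrArg Subtype.val (Subgroup.mem_center_iff.1 ha ⟨v, hv⟩)
    have hYA : ∀ y ∈ Ys, ∀ a ∈ A, y * a = a * y := by
      rintro _ ⟨x, hx, rfl⟩ a ha
      exact fixes_of_defective hp2 f hf (hdef x hx).1 (hdef x hx).2 hqp (hQq.to_le (hAQ.trans hQ₁le))
        (hnorm_of A hAn hx) (Or.inr fun a ha b hb => hAc b hb a (hAQ ha)) ha
    have hgA : ∀ d ∈ gens, ∀ a ∈ A, d * a = a * d := by
      rintro _ ⟨y, hy, y', hy', rfl⟩ a ha
      rw [commutatorElement_def]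
      exact Commute.mul_left (Commute.mul_left (Commute.mul_left (hYA y hy a ha) (hYA y' hy' a ha))
        (Commute.inv_left (hYA y hy a ha))) (Commute.inv_left (hYA y' hy' a ha))
    obtain ⟨d₀, hd₀, u₀, hu₀, hdu₀⟩ := hQ₁w
    refine hdu₀ (hcoprime d₀ hd₀ u₀ hu₀ (hgA d₀ hd₀ _ ?_))
    obtain ⟨_, ⟨x₁, hx₁, rfl⟩, _, ⟨x₂, hx₂, rfl⟩, hd₀eq⟩ := hd₀
    have hd₀P : d₀ ∈ (P : Subgroup G) := by
      rw [hd₀eq, commutatorElement_def]
      exact mul_mem (mul_mem (mul_mem (pow_mem hx₁ _) (pow_mem hx₂ _)) (inv_mem (pow_mem hx₁ _)))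
        (inv_mem (pow_mem hx₂ _))
    set c₀ : Q₁ := ⟨u₀⁻¹ * (d₀ * u₀ * d₀⁻¹), mul_mem (inv_mem hu₀) (hconj d₀ hd₀P u₀ hu₀)⟩ with hc₀
    refine ⟨c₀, Subgroup.mem_center_iff.2 fun v => ?_, rfl⟩
    let π₁ : ↥(Subgroup.center ↥Q₁) →* Module.End k V :=
      f.comp (Q₁.subtype.comp (Subgroup.center ↥Q₁).subtype)
    have hπcomm : ∀ a b, π₁ a * π₁ b = π₁ b * π₁ a := fun a b => by
      rw [← map_mul, ← map_mul]
      exact congrArg π₁ (Subtype.ext (Subgroup.mem_center_iff.1 b.2 a.1))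
    have hcomA : ∀ a b : Q₁, ⁅a, b⁆ ∈ Subgroup.center ↥Q₁ := fun a b =>
      Subgroup.mem_center_iff.2 fun v => Subtype.ext (hΦcent _ (hcomΦ a b) v v.2)
    rw [← commutatorElement_eq_one_iff_mul_comm]
    by_contra hne
    have hk2 : (2 : k) ≠ 0 := fun h => hp2 ((Nat.prime_dvd_prime_iff_eq hp.out Nat.prime_two).1
      ((CharP.cast_eq_zero_iff k p 2).1 (by exact_mod_cast h)))
    obtain ⟨j₀, hj₀⟩ := IsPGroup.iff_card.1 (hQ₁2.to_subgroup (Subgroup.center ↥Q₁))
    obtain ⟨φ, hφ, hφne⟩ := exists_separating_weight π₁ hπcomm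
      (M := Nat.card ↥(Subgroup.center ↥Q₁))
      (by rw [hj₀, Nat.cast_pow, Nat.cast_ofNat]; exact pow_ne_zero _ hk2)
      (fun a => by rw [← map_pow, pow_card_eq_one', map_one])
      (a₁ := ⟨⁅v, c₀⁆, hcomA _ _⟩) (a₂ := 1) (fun h => hne (Q₁.subtype_injective (hf h)))
    apply hφne
    set Wt := weightSpace π₁ φ with hWt
    haveI : Nontrivial Wt := Submodule.nontrivial_iff_ne_bot.2 hφ
    obtain ⟨w₁, hw₁⟩ := exists_ne (0 : Wt)
    have hw₁V : (w₁ : V) ≠ 0 := fun h => hw₁ (Subtype.ext h)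
    have hφeq : ∀ a b, π₁ a = π₁ b → φ a = φ b := fun a b h =>
      smul_left_injective k hw₁V (by
        show φ a • (w₁ : V) = φ b • (w₁ : V)
        rw [← mem_weightSpace.1 w₁.2 a, h, mem_weightSpace.1 w₁.2 b])
    have hWinv : ∀ y : Q₁, ∀ v ∈ Wt, (f.comp Q₁.subtype) y v ∈ Wt := fun y v hv => by
      rw [hWt, mem_weightSpace] at hv ⊢
      intro a
      show f (((a : Q₁) : G)) (f (y : G) v) = φ a • f (y : G) v
      rw [← Module.End.mul_apply, ← map_mul,
        show ((a : Q₁) : G) * (y : G) = (y : G) * ((a : Q₁) : G) from (hAc _ ⟨a.1, a.2, rfl⟩ y y.2).symm,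
        map_mul,
        Module.End.mul_apply, ← map_smul, ← hv a]
      rfl
    set ρ := restrictRep (f.comp Q₁.subtype) Wt hWinv with hρ
    have hρc : ∀ a : ↥(Subgroup.center ↥Q₁), ρ a = φ a • 1 := fun a =>
      LinearMap.ext fun v => Subtype.ext (mem_weightSpace.1 v.2 a)
    have hD : ∀ a b : Q₁, ∃ c : k, ρ ⁅a, b⁆ = c • 1 := fun a b => ⟨_, hρc ⟨_, hcomA a b⟩⟩
    have hmulR : ∀ a b b' : Q₁, ρ ⁅a, b * b'⁆ = ρ ⁅a, b⁆ * ρ ⁅a, b'⁆ := fun a b b' => by
      rw [← map_mul, show ⁅a, b * b'⁆ = ⁅a, b⁆ * (b * ⁅a, b'⁆ * b⁻¹) by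
        simp only [commutatorElement_def]; group,
        Subgroup.mem_center_iff.1 (hcomA a b') b, mul_inv_cancel_right]
    let R : Subgroup Q₁ :=
      { carrier := {b | ∀ a, ρ ⁅a, b⁆ = 1}
        one_mem' := fun a => by rw [commutatorElement_one_right, map_one]
        mul_mem' := fun {b b'} hb hb' (a : Q₁) => by rw [hmulR, hb a, hb' a, one_mul]
        inv_mem' := fun {b} hb (a : Q₁) => by
          have h1 : ρ ⁅a, b⁆ * ρ ⁅a, b⁻¹⁆ = 1 := by
            rw [← hmulR, mul_inv_cancel, commutatorElement_one_right, map_one]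
          rwa [hb a, one_mul] at h1 }
    have hRmem : ∀ b : Q₁, b ∈ R ↔ ∀ a : Q₁, ρ ⁅a, b⁆ = 1 := fun b => Iff.rfl
    have hRc : ∀ a b : Q₁, ⁅a, b⁆ ∈ R := fun a b c => by
      rw [commutatorElement_eq_one_iff_mul_comm.2 (Subgroup.mem_center_iff.1 (hcomA a b) c), map_one]
    haveI : R.Normal := ⟨fun b hb g => by
      rw [show g * b * g⁻¹ = ⁅g, b⁆ * b by rw [commutatorElement_def]; group]
      exact R.mul_mem (hRc g b) hb⟩
    letI : CommGroup (↥Q₁ ⧸ R) :=
      { (inferInstance : Group (↥Q₁ ⧸ R)) with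
        mul_comm := fun a b => by
          obtain ⟨a, rfl⟩ := QuotientGroup.mk'_surjective R a
          obtain ⟨b, rfl⟩ := QuotientGroup.mk'_surjective R b
          rw [← commutatorElement_eq_one_iff_mul_comm, ← map_commutatorElement]
          exact (QuotientGroup.eq_one_iff _).2 (hRc a b) }
    -- the stabiliser of the character
    let conjQ : (P : Subgroup G) →* MulAut Q₁ :=
      (Subgroup.normalizerMonoidHom Q₁).comp (Subgroup.inclusion hQ₁n)
    have hchar : ∀ (g : (P : Subgroup G)) (a : Q₁), a ∈ Subgroup.center ↥Q₁ →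
        conjQ g a ∈ Subgroup.center ↥Q₁ := fun g a ha =>
      (Subgroup.characteristic_iff_le_comap.1
        (inferInstance : (Subgroup.center ↥Q₁).Characteristic) (conjQ g)) ha
    let Pφ : Subgroup (P : Subgroup G) :=
      { carrier := {g | ∀ a : ↥(Subgroup.center ↥Q₁), φ ⟨conjQ g a, hchar g a a.2⟩ = φ a}
        one_mem' := fun a => congrArg φ (Subtype.ext (show conjQ 1 (a : Q₁) = a by rw [map_one]; rfl))
        mul_mem' := fun {g g'} hg hg' (a : ↥(Subgroup.center ↥Q₁)) => by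
          refine Eq.trans ?_ ((hg ⟨conjQ g' a, hchar g' a a.2⟩).trans (hg' a))
          exact congrArg φ (Subtype.ext (show conjQ (g * g') (a : Q₁) = conjQ g (conjQ g' a) by rw [map_mul]; rfl))
        inv_mem' := fun {g} hg (a : ↥(Subgroup.center ↥Q₁)) => by
          refine Eq.trans (hg ⟨conjQ g⁻¹ a, hchar g⁻¹ a a.2⟩).symm (congrArg φ (Subtype.ext ?_))
          show conjQ g (conjQ g⁻¹ a) = a
          rw [← MulAut.mul_apply, ← map_mul, mul_inv_cancel, map_one]; rfl }
    have hRinv : ∀ g : Pφ, ∀ b ∈ R, conjQ g b ∈ R := by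
      intro g b hb a
      obtain ⟨a, rfl⟩ := (conjQ g).surjective a
      rw [← map_commutatorElement]
      have h1 : ρ (conjQ g ⁅a, b⁆) = φ ⟨_, hchar g _ (hcomA a b)⟩ • 1 :=
        hρc ⟨conjQ g ⁅a, b⁆, hchar g _ (hcomA a b)⟩
      rw [h1, g.2 ⟨_, hcomA a b⟩, ← hρc ⟨_, hcomA a b⟩]
      exact hb a
    let act : Pφ →* MulAut (↥Q₁ ⧸ R) :=
      { toFun := fun g => QuotientGroup.congr R R (conjQ g) (le_antisymm
          (by rintro _ ⟨b, hb, rfl⟩; exact hRinv g b hb)
          fun b hb => ⟨conjQ (g⁻¹ : Pφ) b, hRinv g⁻¹ b hb, by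
            show conjQ g (conjQ (g.1)⁻¹ b) = b
            rw [← MulAut.mul_apply, ← map_mul, mul_inv_cancel, map_one]; rfl⟩)
        map_one' := MulEquiv.ext fun b => by
          induction b using QuotientGroup.induction_on with
          | H b => show QuotientGroup.mk (conjQ 1 b) = _; rw [map_one]; rfl
        map_mul' := fun g g' => MulEquiv.ext fun b => by
          induction b using QuotientGroup.induction_on with
          | H b =>
            show QuotientGroup.mk (conjQ (g.1 * g'.1) b) = QuotientGroup.mk (conjQ g (conjQ g' b))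
            rw [map_mul]; rfl }
    have hy : ∀ x (hx : x ∈ (P : Subgroup G)) (hm : (⟨x, hx⟩ : (P : Subgroup G)) ^ p ^ n ∈ Pφ),
        Tame.IsTame p ((p - 1) ^ 2) act ⟨_, hm⟩ := by
      intro x hx hm
      set g : (P : Subgroup G) := ⟨x, hx⟩
      obtain ⟨ψ, hψ⟩ := CfsgLib.FGS.exists_restrict_mulAut (conjQ g)
        (show ∀ a ∈ Subgroup.center ↥Q₁, conjQ g a ∈ Subgroup.center ↥Q₁ from hchar g)
      have hS : ∀ a, f x * π₁ a = π₁ (ψ a) * f x := fun a => by
        show f x * f ((a : Q₁) : G) = f ((ψ a : Q₁) : G) * f x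
        have h1 := hψ 1 a
        rw [pow_one, pow_one] at h1
        rw [h1, ← map_mul, ← map_mul]
        show f (x * ((a : Q₁) : G)) = f (x * ((a : Q₁) : G) * x⁻¹ * x)
        rw [inv_mul_cancel_right]
      have hSN : f x ^ p ^ (n + 1) = 1 := by rw [← map_pow, (hdef x hx).1, map_one]
      have hpowc : ∀ (i : ℕ) (a : ↥(Subgroup.center ↥Q₁)),
          (⟨conjQ (g ^ i) a, hchar _ a a.2⟩ : ↥(Subgroup.center ↥Q₁)) = (ψ ^ i) a := fun i a =>
        Subtype.ext (by rw [hψ]; exact DFunLike.congr_fun (map_pow conjQ g i) (a : Q₁))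
      obtain ⟨b, hbn, hbfix, hbdef⟩ := HHExceptional.orbit_step hS (Nat.succ_pos n) hSN (hdef x hx).2
        (φ := φ) (fun a => by show φ ((ψ ^ p ^ n) a) = φ a; rw [← hpowc]; exact hm a)
      have hgb : g ^ p ^ b ∈ Pφ := fun a => by rw [hpowc]; exact hbfix a
      have hT : ∀ v ∈ Wt, (f x ^ p ^ b) v ∈ Wt := pow_weight_invariant hS hbfix
      have hgp : (g ^ p ^ b) ^ p ^ (n + 1 - b - 1) = g ^ p ^ n := by
        rw [← pow_mul, ← pow_add, show b + (n + 1 - b - 1) = n by omega]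
      rcases HHExceptional.moved_bound hp2 hs hQ₁2 ρ hD (conjQ (g ^ p ^ b))
        (N := n + 1 - b) (by omega)
        (by
          rw [← map_pow conjQ, ← pow_mul, ← pow_add, Nat.add_sub_cancel' hbn.le,
            show g ^ p ^ (n + 1) = 1 from Subtype.ext (hdef x hx).1, map_one])
        (S := (f x ^ p ^ b).restrict hT)
        (fun z => LinearMap.ext fun v => Subtype.ext (by
          show (f x ^ p ^ b) (f (z : G) v) = f ((conjQ (g ^ p ^ b) z : Q₁) : G) ((f x ^ p ^ b) v)
          rw [← map_pow f, ← Module.End.mul_apply, ← map_mul, ← Module.End.mul_apply, ← map_mul]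
          show f (x ^ p ^ b * z) (v : V) = f (x ^ p ^ b * z * (x ^ p ^ b)⁻¹ * x ^ p ^ b) (v : V)
          rw [inv_mul_cancel_right]))
        (by
          rw [Module.End.pow_restrict]
          refine LinearMap.ext fun v => Subtype.ext ?_
          show ((f x ^ p ^ b) ^ p ^ (n + 1 - b)) (v : V) = v
          rw [← pow_mul, ← pow_add, Nat.add_sub_cancel' hbn.le, hSN]; rfl)
        (by
          have key : ∀ (i : ℕ) (v : Wt), (((((f x ^ p ^ b).restrict hT - 1) ^ i) v : Wt) : V) =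
              ((f x ^ p ^ b - 1) ^ i) v := by
            intro i
            induction i with
            | zero => intro v; rfl
            | succ i ihi => intro v; rw [pow_succ', pow_succ', Module.End.mul_apply,
                Module.End.mul_apply, ← ihi]; rfl
          exact LinearMap.ext fun v => Subtype.ext ((key _ v).trans (hbdef v v.2)))
        (QuotientGroup.mk' R) (QuotientGroup.mk'_surjective R)
        (fun z => (QuotientGroup.eq_one_iff z).trans (hRmem z)) (act ⟨_, hm⟩)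
        (fun z => by
          rw [← map_pow conjQ, hgp]
          rfl) with h | ⟨hN2, h⟩
      · exact Or.inl h
      · refine Or.inr ⟨⟨⟨(g ^ p ^ b) ^ p ^ (n + 1 - b - 2), pow_mem hgb _⟩, Subtype.ext ?_⟩, h⟩
        show ((g ^ p ^ b) ^ p ^ (n + 1 - b - 2)) ^ p = g ^ p ^ n
        rw [← pow_mul, ← pow_mul, ← pow_succ, ← pow_add,
          show b + (n + 1 - b - 2 + 1) = n by omega]
    have hyφ : ∀ x (hx : x ∈ (P : Subgroup G)), (⟨x, hx⟩ : (P : Subgroup G)) ^ p ^ n ∈ Pφ := by
      intro x hx a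
      refine congrArg φ (Subtype.ext (Subtype.ext ?_))
      show x ^ p ^ n * ((a : Q₁) : G) * (x ^ p ^ n)⁻¹ = ((a : Q₁) : G)
      rw [show x ^ p ^ n * ((a : Q₁) : G) = ((a : Q₁) : G) * x ^ p ^ n from
        hYA _ ⟨x, hx, rfl⟩ _ ⟨a.1, a.2, rfl⟩, mul_inv_cancel_right]
    set Y₁ : Pφ := ⟨_, hyφ x₁ hx₁⟩
    set Y₂ : Pφ := ⟨_, hyφ x₂ hx₂⟩
    have hB : ∀ i, 0 < i → 2 ^ i % p = 1 → (p - 1) ^ 2 ≤ 2 ^ i := by
      intro i hi hmod
      rw [hs, Nat.add_sub_cancel, ← pow_mul]
      refine Nat.pow_le_pow_right (by norm_num) ?_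
      by_contra hlt
      push Not at hlt
      have hp3 : 3 ≤ p := by have := hp.out.two_le; omega
      rcases Nat.lt_or_ge s i with hsi | hsi
      · have h1 : 2 ^ (i - s) + 1 < p := by
          have h2 : 2 ^ (i - s) < 2 ^ s := Nat.pow_lt_pow_right (by norm_num) (by omega)
          omega
        have h2 : (2 ^ i + 2 ^ (i - s)) % p = 0 := by
          have : 2 ^ i + 2 ^ (i - s) = 2 ^ (i - s) * p := by
            rw [hs, mul_add, ← pow_add, Nat.sub_add_cancel hsi.le, mul_one]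
          rw [this, Nat.mul_mod_left]
        rw [Nat.add_mod, hmod, Nat.mod_eq_of_lt (show 2 ^ (i - s) < p by omega),
          Nat.mod_eq_of_lt (show 1 + 2 ^ (i - s) < p by omega)] at h2
        simp at h2
      · have h2 : 2 ^ i ≤ 2 ^ s := Nat.pow_le_pow_right (by norm_num) hsi
        rw [Nat.mod_eq_of_lt (by omega)] at hmod
        have : 2 ^ 1 ≤ 2 ^ i := Nat.pow_le_pow_right (by norm_num) hi
        omega
    have hcomm := Tame.commute_of_tame hp2 hB (by
        have : 2 ≤ p - 1 := by have := hp.out.two_le; omega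
        nlinarith) _ rfl (P.2.to_subgroup Pφ) (hQ₁2.to_quotient R) act Y₁ Y₂
      (hy x₁ hx₁ _) (hy x₂ hx₂ _)
    have hact : act ⁅Y₁, Y₂⁆ = 1 := by
      rw [map_commutatorElement, commutatorElement_eq_one_iff_mul_comm, ← map_mul, ← map_mul, hcomm]
    have hd₀φ : conjQ ((⁅Y₁, Y₂⁆ : Pφ) : (P : Subgroup G)) ⟨u₀, hu₀⟩ = ⟨u₀, hu₀⟩ * c₀ := by
      refine Subtype.ext ?_
      show ((((⁅Y₁, Y₂⁆ : Pφ) : (P : Subgroup G)) : G)) * u₀ * _ = u₀ * (u₀⁻¹ * (d₀ * u₀ * d₀⁻¹))
      rw [mul_inv_cancel_left, hd₀eq]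
      simp [commutatorElement_def, Y₁, Y₂]
    have h1 := DFunLike.congr_fun hact (QuotientGroup.mk (⟨u₀, hu₀⟩ : Q₁))
    have h1' : (QuotientGroup.mk (⟨u₀, hu₀⟩ * c₀) : ↥Q₁ ⧸ R) = QuotientGroup.mk (⟨u₀, hu₀⟩ : Q₁) := by
      rw [← hd₀φ]; exact h1
    rw [QuotientGroup.mk_mul, mul_eq_left] at h1'
    have h2 := (hRmem c₀).1 ((QuotientGroup.eq_one_iff c₀).1 h1') v
    refine smul_left_injective k hw₁ ?_
    show φ ⟨⁅v, c₀⁆, hcomA v c₀⟩ • w₁ = φ 1 • w₁
    have h3 := LinearMap.congr_fun (hρc ⟨⁅v, c₀⁆, hcomA v c₀⟩) w₁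
    have h4 := LinearMap.congr_fun (hρc 1) w₁
    rw [h2] at h3
    rw [OneMemClass.coe_one, map_one] at h4
    simp only [LinearMap.smul_apply, Module.End.one_apply] at h3 h4
    rw [← h3, ← h4]
  have heq := Subgroup.eq_of_le_of_card_ge inf_le_right (Nat.le_of_dvd Nat.card_pos hle)
  exact Subgroup.mem_centralizer_singleton_iff.1 (heq.ge hz).1

/-- In the representation on the Frattini quotient, the difference with `1` of an element of order
`p ^ (n + 1)` has degree of nilpotency at least `p ^ (n + 1) - p ^ n`. -/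
theorem degree_lower_bound {G : Type u} [Group G] [Finite G]
    (f : G →* Module.End k V) (hf : Function.Injective f)
    (hcent : Subgroup.centralizer ((pPrimeCore p G : Subgroup G) : Set G) ≤ pPrimeCore p G) {n : ℕ}
    {x : G} (hx : x ^ p ^ (n + 1) = 1) (hnot : x ^ p ^ n ≠ 1) {e : ℕ} (he : (f x - 1) ^ e = 0) :
    p ^ (n + 1) - p ^ n ≤ e := by
  classical
  set K := pPrimeCore p G with hK
  haveI hKn : K.Normal := by
    haveI := CfsgLib.Cores.pPrimeCore_characteristic (G := G) p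
    infer_instance
  have hKcop : (Nat.card K).Coprime p := CfsgLib.Cores.coprime_card_pPrimeCore p
  have hnotc : x ^ p ^ n ∉ Subgroup.centralizer (K : Set G) := fun h => hnot
    (eq_one_of_coprime_pow (hKcop.symm.pow_left 1) (a := p ^ 1)
      (by rw [← pow_mul, ← pow_add]; exact hx)
      (congrArg Subtype.val (pow_card_eq_one' (x := (⟨x ^ p ^ n, hcent h⟩ : K)))))
  have hAK : Subgroup.zpowers x ≤ Subgroup.normalizer (K : Set G) := by
    rw [Subgroup.normalizer_eq_top]; exact le_top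
  have hcop : (Nat.card (Subgroup.zpowers x)).Coprime (Nat.card K) := by
    rw [Nat.card_zpowers]
    exact Nat.Coprime.coprime_dvd_left (orderOf_dvd_of_pow_eq_one hx) (hKcop.symm.pow_left _)
  obtain ⟨q, hq, hqK, Q, hQn, hQnot⟩ : ∃ (q : ℕ), q.Prime ∧ q ∣ Nat.card K ∧ ∃ Q : Sylow q K,
      Subgroup.zpowers x ≤ Subgroup.normalizer ((Q : Subgroup K).map K.subtype : Set G) ∧
      ¬ (Q : Subgroup K).map K.subtype ≤ Subgroup.centralizer {x ^ p ^ n} := by
    by_contra hcon
    push Not at hcon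
    refine hnotc (Subgroup.mem_centralizer_iff.2 fun y hy => ?_)
    have hle : Nat.card K ∣ Nat.card (Subgroup.centralizer {x ^ p ^ n} ⊓ K : Subgroup G) := by
      refine (Nat.dvd_iff_prime_pow_dvd_dvd _ _).2 fun q j hq hqj => ?_
      rcases Nat.eq_zero_or_pos j with rfl | hj
      · simp
      haveI := Fact.mk hq
      obtain ⟨Q, hQ⟩ := exists_invariant_sylow (Subgroup.zpowers x) K hAK hcop (Or.inl inferInstance) q
      have h1 := hcon q hq ((dvd_pow_self q hj.ne').trans hqj) Q hQ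
      refine dvd_trans ?_ (Subgroup.card_dvd_of_le (le_inf h1 (Subgroup.map_subtype_le _)))
      rw [card_sylow_map, Q.card_eq_multiplicity]
      exact pow_dvd_pow _ ((Nat.Prime.pow_dvd_iff_le_factorization hq Nat.card_pos.ne').1 hqj)
    have heq := Subgroup.eq_of_le_of_card_ge inf_le_right (Nat.le_of_dvd Nat.card_pos hle)
    exact Subgroup.mem_centralizer_singleton_iff.1 (heq.ge hy).1
  haveI := Fact.mk hq
  have hqp : q ≠ p := fun h =>
    hq.ne_one (Nat.eq_one_of_dvd_coprimes hKcop hqK (h ▸ dvd_refl q))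
  set Qb := (Q : Subgroup K).map K.subtype with hQb
  obtain ⟨b, hbQ, hbne⟩ := SetLike.not_le_iff_exists.1 hQnot
  rw [Subgroup.mem_centralizer_singleton_iff] at hbne
  let φ : MulAut Qb := Subgroup.normalizerMonoidHom Qb ⟨x, hQn (Subgroup.mem_zpowers x)⟩
  have hφpow : ∀ (i : ℕ) (z : Qb), (((φ ^ i) z : Qb) : G) = x ^ i * z * (x ^ i)⁻¹ := by
    intro i z
    rw [← map_pow]
    rfl
  rcases hall_higman_b (k := k) (p := p) (q := q) (n := n + 1) hqp (Nat.succ_pos n) (Nat.card Qb)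
    (Q := Qb) rfl (Q.2.map _) φ (MulEquiv.ext fun z => Subtype.ext (by rw [hφpow, hx]; simp))
    ⟨⟨b, hbQ⟩, fun h => hbne (by
      have h1 := congrArg Subtype.val h
      rw [Nat.add_sub_cancel, hφpow] at h1
      exact (mul_inv_eq_iff_eq_mul.1 h1).symm)⟩
    (f.comp Qb.subtype) (hf.comp Qb.subtype_injective) (f x) (fun z => by
      show f x * f z = f ((φ z : Qb) : G) * f x
      rw [← map_mul, ← map_mul]
      show f (x * z) = f (x * z * x⁻¹ * x)
      rw [inv_mul_cancel_right])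
    (by rw [← map_pow, hx, map_one]) _ he with h1 | ⟨-, n₀, m, hn₀, hn₀le, -, -, hle⟩
  · omega
  · refine le_trans ?_ hle
    rw [Nat.mul_sub, mul_one, ← pow_add, Nat.sub_add_cancel hn₀le]
    exact Nat.sub_le_sub_left (Nat.pow_le_pow_right hp.out.pos (by omega)) _

end CfsgLib.PGroup.HH2e

namespace CfsgLib.PGroup.HH2e

open CfsgLib.Solvable CfsgLib.PGroup Cfsg CfsgLib.Transfer.HHB

universe u

variable {p : ℕ} [hp : Fact p.Prime]

/-- The representation of `G / O_p(G)` on the Frattini quotient of `O_p(G)`. -/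
theorem exists_quotient_rep {G : Type u} [Group G] [Finite G] (hsol : IsPSolvable p G)
    (hO : pPrimeCore p G = ⊥) :
    ∃ (d : ℕ) (F : G ⧸ pCore p G →* Module.End (AlgebraicClosure (ZMod p))
        (Fin d → AlgebraicClosure (ZMod p))), Function.Injective F ∧
      (∀ (x : G) (m : ℕ), (∀ r ∈ pCore p G, (r * x) ^ m = x ^ m) →
        ∑ i ∈ Finset.range m, F (QuotientGroup.mk' (pCore p G) x) ^ i = 0) ∧
      ∀ (x : G) (m : ℕ), (∀ r ∈ pCore p G, Commute (x ^ m) ((r * x) ^ m)) →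
        F (QuotientGroup.mk' (pCore p G) x) ^ m *
            ∑ i ∈ Finset.range m, F (QuotientGroup.mk' (pCore p G) x) ^ i =
          ∑ i ∈ Finset.range m, F (QuotientGroup.mk' (pCore p G) x) ^ i := by
  classical
  set R := pCore p G with hR
  have hRp : IsPGroup p R := CfsgLib.Cores.isPGroup_pCore p
  letI : CommGroup (↥R ⧸ frattini ↥R) :=
    { (inferInstance : Group (↥R ⧸ frattini ↥R)) with mul_comm := quotient_frattini_comm hRp }
  obtain ⟨d, f, hfinj, hfnorm, hffix⟩ :=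
    exists_linear_rep (↥R ⧸ frattini ↥R) p (quotient_frattini_pow hRp)
  let act : G →* MulAut (↥R ⧸ frattini ↥R) := CfsgLib.A8.frattiniAct R
  have hker : act.ker = R :=
    CfsgLib.A8.ker_frattiniAct (CfsgLib.Transfer.centralizer_pCore_le_of_isPSolvable hsol hO)
  let actb : G ⧸ R →* MulAut (↥R ⧸ frattini ↥R) := QuotientGroup.lift R act hker.ge
  have hactb : Function.Injective actb := by
    rw [injective_iff_map_eq_one]
    intro t ht
    obtain ⟨g, rfl⟩ := QuotientGroup.mk'_surjective R t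
    refine (QuotientGroup.eq_one_iff g).2 ?_
    rw [← hker]; exact ht
  have key : ∀ (x : G) (r : R) (m : ℕ), ∃ c : R, (c : G) * x ^ m = ((r : G) * x) ^ m ∧
      (QuotientGroup.mk c : ↥R ⧸ frattini ↥R) =
        ∏ i ∈ Finset.range m, ((act x) ^ i) (QuotientGroup.mk r) := by
    intro x r m
    induction m with
    | zero => exact ⟨1, by simp, by simp⟩
    | succ m ih =>
      obtain ⟨c, hc1, hc2⟩ := ih
      refine ⟨c * MulAut.conjNormal (x ^ m) r, ?_, ?_⟩
      · rw [pow_succ ((r : G) * x) m, ← hc1, Subgroup.coe_mul, MulAut.conjNormal_apply, pow_succ]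
        group
      · rw [Finset.prod_range_succ, ← hc2, ← map_pow]
        rfl
  refine ⟨d, f.comp actb, hfinj.comp hactb, fun x m hx => ?_, fun x m hx => ?_⟩
  · refine hfnorm (act x) m fun v => ?_
    obtain ⟨r, rfl⟩ := QuotientGroup.mk_surjective v
    obtain ⟨c, hc1, hc2⟩ := key x r m
    rw [hx r r.2, mul_eq_right] at hc1
    rw [← hc2, show c = 1 from Subtype.ext hc1]
    rfl
  · refine hffix (act x) m m fun v => ?_
    obtain ⟨r, rfl⟩ := QuotientGroup.mk_surjective v
    obtain ⟨c, hc1, hc2⟩ := key x r m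
    rw [← hc2, ← map_pow]
    show QuotientGroup.mk (MulAut.conjNormal (x ^ m) c) = _
    refine congrArg _ (Subtype.ext ?_)
    rw [MulAut.conjNormal_apply, mul_inv_eq_iff_eq_mul]
    have h1 := (hx r r.2).eq
    rw [← hc1, ← mul_assoc, mul_assoc] at h1
    exact mul_right_cancel (b := x ^ m) (by rw [mul_assoc]; exact h1)

/-- Two steps of the upper series lower the exponent of a Sylow subgroup, `p` being a Fermat prime. -/
theorem pow_mem_second {G : Type u} [Group G] [Finite G] (hp2 : p ≠ 2) {s : ℕ} (hs : p = 2 ^ s + 1)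
    (hsol : IsPSolvable p G) (hO : pPrimeCore p G = ⊥) {n : ℕ}
    (hexp : ∀ (P : Sylow p G), ∀ x ∈ (P : Subgroup G), x ^ p ^ (n + 1) = 1)
    {H : Type u} [Group H] [Finite H] (π : G →* H) (hπ : Function.Surjective π)
    (hker : pCore p G ≤ π.ker) (hOH : pPrimeCore p H = ⊥) (hsolH : IsPSolvable p H)
    (P : Sylow p G) {x : G} (hx : x ∈ (P : Subgroup G)) : π (x ^ p ^ n) ∈ pCore p H := by
  classical
  set R := pCore p G with hR
  set q := QuotientGroup.mk' R with hq
  have hqs : Function.Surjective q := QuotientGroup.mk'_surjective R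
  obtain ⟨d, F, hFinj, hFnorm, -⟩ := exists_quotient_rep hsol hO
  have hRP : R ≤ (P : Subgroup G) := CfsgLib.Cores.pCore_le_sylow P
  have hdefF : ∀ a ∈ (P.mapSurjective hqs : Subgroup (G ⧸ R)), a ^ p ^ (n + 1) = 1 ∧
      (F a - 1) ^ (p ^ (n + 1) - 1) = 0 := by
    intro a ha
    rw [Sylow.coe_mapSurjective] at ha
    obtain ⟨a, ha, rfl⟩ := ha
    refine ⟨by rw [← map_pow, hexp P a ha, map_one], ?_⟩
    have h1 := hFnorm a (p ^ (n + 1)) fun r hr => by
      rw [hexp P _ (mul_mem (hRP hr) ha), hexp P a ha]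
    have h2 := congrArg (Polynomial.aeval (F (q a)))
      (geom_sum_prime_pow (AlgebraicClosure (ZMod p)) (p := p) (n + 1))
    simp only [map_sum, map_pow, map_sub, map_one, Polynomial.aeval_X] at h2
    exact h2.symm.trans h1
  have hcentG : Subgroup.centralizer ((pPrimeCore p (G ⧸ R) : Subgroup (G ⧸ R)) : Set (G ⧸ R)) ≤
      pPrimeCore p (G ⧸ R) :=
    CyclicTransvection.centralizer_pPrimeCore_le (CfsgLib.Transfer.isPSolvable_quotient hsol R)
      (CfsgLib.Cores.pCore_quotient_self (G := G) p)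
  -- powers of elements of the Sylow subgroup commute in the image
  have hcommP : ∀ a ∈ (P : Subgroup G), ∀ b ∈ (P : Subgroup G),
      Commute (π a ^ p ^ n) (π b ^ p ^ n) := by
    intro a ha b hb
    have h1 := commute_defective hp2 hs F hFinj hcentG (P.mapSurjective hqs) hdefF
      (x := q a) (x' := q b)
      (by rw [Sylow.coe_mapSurjective]; exact Subgroup.mem_map_of_mem _ ha)
      (by rw [Sylow.coe_mapSurjective]; exact Subgroup.mem_map_of_mem _ hb)
    have h2 := congrArg (QuotientGroup.lift R π hker) h1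
    simp only [map_mul, map_pow] at h2
    exact h2
  set R₂ := pCore p H with hR₂
  have hR₂P : R₂ ≤ (P : Subgroup G).map π := by
    rw [← Sylow.coe_mapSurjective hπ]; exact CfsgLib.Cores.pCore_le_sylow _
  by_contra hnot
  obtain ⟨d₂, F₂, hF₂inj, -, hF₂fix⟩ := exists_quotient_rep hsolH hOH
  have hcentH : Subgroup.centralizer ((pPrimeCore p (H ⧸ R₂) : Subgroup (H ⧸ R₂)) : Set (H ⧸ R₂)) ≤
      pPrimeCore p (H ⧸ R₂) :=
    CyclicTransvection.centralizer_pPrimeCore_le (CfsgLib.Transfer.isPSolvable_quotient hsolH R₂)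
      (CfsgLib.Cores.pCore_quotient_self (G := H) p)
  set S := F₂ (QuotientGroup.mk' R₂ (π x)) with hS
  have hfix := hF₂fix (π x) (p ^ n) fun r hr => by
    obtain ⟨a, ha, rfl⟩ := hR₂P hr
    rw [← map_mul]
    exact hcommP x hx _ (mul_mem ha hx)
  have hzero : (S - 1) ^ (p ^ n + (p ^ n - 1)) = 0 := by
    have h2 := congrArg (Polynomial.aeval S)
      (geom_sum_prime_pow (AlgebraicClosure (ZMod p)) (p := p) n)
    simp only [map_sum, map_pow, map_sub, map_one, Polynomial.aeval_X] at h2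
    have h3 := congrArg (Polynomial.aeval S)
      (sub_pow_char_pow (n := n) (Polynomial.X : Polynomial (AlgebraicClosure (ZMod p))) 1 (p := p))
    simp only [map_pow, map_sub, map_one, Polynomial.aeval_X, one_pow] at h3
    rw [pow_add, h3, ← h2, sub_mul, one_mul, hfix, sub_self]
  have hb := degree_lower_bound F₂ hF₂inj hcentH (x := QuotientGroup.mk' R₂ (π x)) (n := n)
    (by rw [← map_pow, ← map_pow, hexp P x hx, map_one, map_one])
    (fun h => hnot ((QuotientGroup.eq_one_iff _).1 (by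
      rw [← map_pow] at h
      rw [map_pow]; exact h)))
    hzero
  have hp3 : 3 ≤ p := by have := hp.out.two_le; omega
  have h1 : 3 * p ^ n ≤ p ^ (n + 1) := by rw [pow_succ']; exact Nat.mul_le_mul_right _ hp3
  have h2 : 0 < p ^ n := Nat.pow_pos hp.out.pos
  omega

/-- The bound `2 e` for a Fermat prime. -/
theorem pLengthLE_two_mul (hp2 : p ≠ 2) {s : ℕ} (hs : p = 2 ^ s + 1) : ∀ (e : ℕ) {G : Type u}
    [Group G] [Finite G], IsPSolvable p G →
    (∀ (P : Sylow p G), ∀ x ∈ (P : Subgroup G), x ^ p ^ e = 1) → PLengthLE p (2 * e) G := by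
  intro e
  induction e with
  | zero =>
    intro G _ _ _ hexp
    obtain ⟨P⟩ : Nonempty (Sylow p G) := inferInstance
    show (upperPSeries p G (2 * 0 + 1)).1 = ⊤
    rw [show (upperPSeries p G (2 * 0 + 1)).1 = useries p G 1 from rfl, useries_one, eq_top_iff]
    refine CfsgLib.Cores.le_pPrimeCore ?_
    have hP : (P : Subgroup G) = ⊥ := by
      rw [Subgroup.eq_bot_iff_forall]
      intro x hx
      simpa using hexp P x hx
    rw [Subgroup.card_top, Nat.coprime_comm, hp.out.coprime_iff_not_dvd]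
    intro hd
    have h1 := P.dvd_card_of_dvd_card hd
    rw [hP, Subgroup.card_bot, Nat.dvd_one] at h1
    exact hp.out.ne_one h1
  | succ n ih =>
    intro G _ _ hsol hexp
    haveI : (pPrimeCore p G).Normal := by
      haveI := CfsgLib.Cores.pPrimeCore_characteristic (G := G) p
      infer_instance
    refine pLengthLE_of_coprime_ker (QuotientGroup.mk' (pPrimeCore p G))
      (QuotientGroup.mk'_surjective _)
      (by rw [QuotientGroup.ker_mk']; exact CfsgLib.Cores.coprime_card_pPrimeCore p) ?_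
    set G₀ := G ⧸ pPrimeCore p G
    have hO : pPrimeCore p G₀ = ⊥ := CfsgLib.Cores.pPrimeCore_quotient_self (G := G) p
    have hsol₀ := CfsgLib.Transfer.isPSolvable_quotient hsol (pPrimeCore p G)
    have hexp₀ : ∀ (P : Sylow p G₀), ∀ x ∈ (P : Subgroup G₀), x ^ p ^ (n + 1) = 1 := fun P =>
      exp_sylow_of_surjective (QuotientGroup.mk'_surjective (pPrimeCore p G)) hexp P
    set q₀ := QuotientGroup.mk' (pCore p G₀)
    have hq₀ : Function.Surjective q₀ := QuotientGroup.mk'_surjective _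
    rw [show 2 * (n + 1) = (2 * n + 1) + 1 by ring]
    refine pLengthLE_succ_of_ker_le q₀ hq₀
      (by rw [QuotientGroup.ker_mk', useries_two_of_pPrimeCore_eq_bot p G₀ hO]) ?_
    set G₁ := G₀ ⧸ pCore p G₀
    haveI : (pPrimeCore p G₁).Normal := by
      haveI := CfsgLib.Cores.pPrimeCore_characteristic (G := G₁) p
      infer_instance
    set q₁ := QuotientGroup.mk' (pPrimeCore p G₁)
    have hq₁ : Function.Surjective q₁ := QuotientGroup.mk'_surjective _
    refine pLengthLE_of_coprime_ker q₁ hq₁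
      (by rw [QuotientGroup.ker_mk']; exact CfsgLib.Cores.coprime_card_pPrimeCore p) ?_
    set G₂ := G₁ ⧸ pPrimeCore p G₁
    have hsol₁ := CfsgLib.Transfer.isPSolvable_quotient hsol₀ (pCore p G₀)
    have hsol₂ := CfsgLib.Transfer.isPSolvable_quotient hsol₁ (pPrimeCore p G₁)
    have hO₂ : pPrimeCore p G₂ = ⊥ := CfsgLib.Cores.pPrimeCore_quotient_self (G := G₁) p
    set q₂ := QuotientGroup.mk' (pCore p G₂)
    have hq₂ : Function.Surjective q₂ := QuotientGroup.mk'_surjective _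
    refine pLengthLE_succ_of_ker_le q₂ hq₂
      (by rw [QuotientGroup.ker_mk', useries_two_of_pPrimeCore_eq_bot p G₂ hO₂]) ?_
    refine ih (CfsgLib.Transfer.isPSolvable_quotient hsol₂ _) fun P => ?_
    have hπ : Function.Surjective (q₁.comp q₀) := hq₁.comp hq₀
    obtain ⟨P₂, rfl⟩ := Sylow.mapSurjective_surjective hq₂ p P
    obtain ⟨P₀, rfl⟩ := Sylow.mapSurjective_surjective hπ p P₂
    rw [Sylow.coe_mapSurjective, Sylow.coe_mapSurjective]
    rintro _ ⟨_, ⟨a, ha, rfl⟩, rfl⟩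
    rw [← map_pow, QuotientGroup.mk'_apply, QuotientGroup.eq_one_iff, ← map_pow]
    refine pow_mem_second hp2 hs hsol₀ hO hexp₀ (q₁.comp q₀) hπ ?_ hO₂ hsol₂ P₀ ha
    intro r hr
    show q₁ (q₀ r) = 1
    rw [show q₀ r = 1 from (QuotientGroup.eq_one_iff r).2 hr, map_one]

end CfsgLib.PGroup.HH2e
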