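import Cfsg.Agent.Lib.PGroup.GrossComponent
import Cfsg.Agent.Lib.PGroup.GrossPlane
import Cfsg.Agent.Lib.PGroup.HHLength2e
import Cfsg.Agent.Lib.PGroup.AbelianConjSylow
import Cfsg.Agent.Lib.Transfer.Critical
import Cfsg.Agent.Lib.Solvable.Fitting
import Cfsg.Agent.S0018

/-!
Gross's bound `2 e - 1` for the `2`-length of a solvable group.

The key step: if `x` has order dividing `2 ^ (n + 1)` and is defective in a faithful representation in
characteristic two of a solvable group with trivial `O₂`, then `x ^ 2 ^ n` lies in `O_{2',2}`.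
-/

set_option autoImplicit false

open scoped commutatorElement

namespace CfsgLib.PGroup.GrossTwo

open Cfsg CfsgLib CfsgLib.Solvable CfsgLib.Transfer.HHB CfsgLib.PGroup.GrossPlane

universe u v w

/-- A criterion for membership in `O_{2',2}` by a family of homomorphisms on a normal subgroup. -/
theorem mem_two_two_of_family {G : Type u} [Group G] [Finite G] (C : Subgroup G) [C.Normal]
    {ι : Type v} {X : ι → Type w} [∀ i, Group (X i)] [∀ i, Finite (X i)] (ψ : ∀ i, C →* X i)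
    (hker : ∀ c : C, c ^ 2 = 1 → (∀ i, ψ i c = 1) → c = 1) {y : C}
    (hy : ∀ i, QuotientGroup.mk' (pPrimeCore 2 (X i)) (ψ i y) ∈
      pCore 2 (X i ⧸ pPrimeCore 2 (X i))) :
    QuotientGroup.mk' (pPrimeCore 2 G) (y : G) ∈ pCore 2 (G ⧸ pPrimeCore 2 G) := by
  classical
  set N : Subgroup C := ⨅ i, ((pCore 2 (X i ⧸ pPrimeCore 2 (X i))).comap
    (QuotientGroup.mk' (pPrimeCore 2 (X i)))).comap (ψ i) with hN
  set K : Subgroup C := ⨅ i, (pPrimeCore 2 (X i)).comap (ψ i) with hK
  haveI : N.Normal := Subgroup.normal_iInf_normal fun i => inferInstance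
  haveI : K.Normal := Subgroup.normal_iInf_normal fun i => inferInstance
  have hKcop : (Nat.card K).Coprime 2 := by
    rw [Nat.coprime_comm, Nat.prime_two.coprime_iff_not_dvd]
    intro h2
    obtain ⟨⟨c, hcK⟩, hc⟩ := exists_prime_orderOf_dvd_card' 2 h2
    have hc : orderOf c = 2 := (Subgroup.orderOf_mk c hcK).symm.trans hc
    have hc2 : c ^ 2 = 1 := hc ▸ pow_orderOf_eq_one c
    have h1 : c = 1 := hker c hc2 fun i => by
      have hm : ψ i c ∈ pPrimeCore 2 (X i) := (Subgroup.mem_iInf.1 hcK i)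
      exact HH2e.eq_one_of_coprime_pow (CfsgLib.Cores.coprime_card_pPrimeCore 2).symm
        (by rw [← map_pow, hc2, map_one])
        (congrArg Subtype.val (pow_card_eq_one' (x := (⟨_, hm⟩ : pPrimeCore 2 (X i)))))
    rw [h1, orderOf_one] at hc
    omega
  set J := Nat.card C with hJ
  have hpow : ∀ c ∈ N, c ^ 2 ^ J ∈ K := fun c hc => Subgroup.mem_iInf.2 fun i => by
    have hm : QuotientGroup.mk' (pPrimeCore 2 (X i)) (ψ i c) ∈ pCore 2 (X i ⧸ pPrimeCore 2 (X i)) :=
      Subgroup.mem_iInf.1 hc i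
    obtain ⟨j, hj⟩ := CfsgLib.Cores.isPGroup_pCore 2 ⟨_, hm⟩
    have hj' := congrArg Subtype.val hj
    obtain ⟨l, -, hl⟩ := (Nat.dvd_prime_pow Nat.prime_two).1 (orderOf_dvd_of_pow_eq_one hj')
    have h1 : 2 ^ l ∣ J := hl ▸ ((orderOf_map_dvd _ _).trans
      ((orderOf_map_dvd (ψ i) c).trans (orderOf_dvd_natCard c)))
    have h2 : l ≤ J := (Nat.lt_two_pow_self).le.trans (Nat.le_of_dvd Nat.card_pos h1)
    show ψ i (c ^ 2 ^ J) ∈ pPrimeCore 2 (X i)
    rw [← QuotientGroup.eq_one_iff, map_pow]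
    show QuotientGroup.mk' (pPrimeCore 2 (X i)) (ψ i c ^ 2 ^ J) = 1
    rw [map_pow]
    exact orderOf_dvd_iff_pow_eq_one.1 (hl ▸ pow_dvd_pow 2 h2)
  have hKG : K.map C.subtype ≤ pPrimeCore 2 G := by
    haveI := CfsgLib.Cores.pPrimeCore_characteristic (G := C) 2
    refine (Subgroup.map_mono (CfsgLib.Cores.le_pPrimeCore hKcop)).trans
      (CfsgLib.Cores.le_pPrimeCore ?_)
    rw [Subgroup.card_map_of_injective C.subtype_injective]
    exact CfsgLib.Cores.coprime_card_pPrimeCore 2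
  set π := QuotientGroup.mk' (pPrimeCore 2 G) with hπ
  let g : C →* (C.map π : Subgroup (G ⧸ pPrimeCore 2 G)) := π.subgroupMap C
  have hg : Function.Surjective g := π.subgroupMap_surjective C
  haveI : (N.map g).Normal := Subgroup.Normal.map inferInstance g hg
  have hNp : IsPGroup 2 (N.map g) := by
    rintro ⟨_, c, hc, rfl⟩
    refine ⟨J, Subtype.ext (Subtype.ext ?_)⟩
    show (π (c : G)) ^ 2 ^ J = 1
    rw [← map_pow, hπ, QuotientGroup.mk'_apply, QuotientGroup.eq_one_iff]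
    exact hKG ⟨c ^ 2 ^ J, hpow c hc, rfl⟩
  haveI : (C.map π).Normal :=
    Subgroup.Normal.map inferInstance π (QuotientGroup.mk'_surjective _)
  haveI := CfsgLib.Cores.pCore_characteristic (G := (C.map π : Subgroup _)) 2
  have hle : (pCore 2 (C.map π : Subgroup _)).map (C.map π).subtype ≤
      pCore 2 (G ⧸ pPrimeCore 2 G) :=
    CfsgLib.Cores.le_pCore ((CfsgLib.Cores.isPGroup_pCore 2).map _)
  exact hle ⟨g y, CfsgLib.Cores.le_pCore hNp ⟨y, Subgroup.mem_iInf.2 hy, rfl⟩, rfl⟩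

/-- A characteristic critical subgroup of `O_q`, as a normal subgroup. -/
theorem exists_critical_normal {G : Type u} [Group G] [Finite G] (q : ℕ) [Fact q.Prime] :
    ∃ D : Subgroup G, D.Normal ∧ D ≤ pCore q G ∧
      (∀ a ∈ D, ∀ g ∈ pCore q G, ⁅a, g⁆ ∈ D ∧ ∀ b ∈ D, b * ⁅a, g⁆ = ⁅a, g⁆ * b) ∧
      (∀ a ∈ D, ∀ b ∈ D, b * a ^ q = a ^ q * b) ∧
      ∀ g ∈ pCore q G, (∀ b ∈ D, b * g = g * b) → g ∈ D := by
  classical
  obtain ⟨H, hHc, hHp, hHcomm, hHC⟩ :=
    CfsgLib.Transfer.exists_critical (G := pCore q G) (CfsgLib.Cores.isPGroup_pCore q)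
  haveI := hHc
  haveI : (pCore q G).Normal := inferInstance
  refine ⟨H.map (pCore q G).subtype, inferInstance, Subgroup.map_subtype_le _, ?_, ?_, ?_⟩
  · rintro _ ⟨a, ha, rfl⟩ g hg
    have h1 := hHcomm (Subgroup.commutator_mem_commutator ha (Subgroup.mem_top ⟨g, hg⟩))
    refine ⟨⟨_, h1.1, rfl⟩, ?_⟩
    rintro _ ⟨b, hb, rfl⟩
    exact congrArg Subtype.val (Subgroup.mem_centralizer_iff.1 h1.2 b hb)
  · rintro _ ⟨a, ha, rfl⟩ _ ⟨b, hb, rfl⟩
    exact congrArg Subtype.val (Subgroup.mem_centralizer_iff.1 (hHp a ha).2 b hb)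
  · intro g hg h
    exact ⟨⟨g, hg⟩, hHC (Subgroup.mem_centralizer_iff.2 fun b hb =>
      Subtype.ext (h _ ⟨b, hb, rfl⟩)), rfl⟩

section Component

variable {k : Type*} [Field k] [IsAlgClosed k] {V : Type*} [AddCommGroup V] [Module k V]
  [FiniteDimensional k V] [CharP k 2]

/-- An abelian `q`-group normalised by a defective element is centralised by its power of order 2. -/
theorem fixes_abelian {G : Type u} [Group G] [Finite G]
    (f : G →* Module.End k V) (hf : Function.Injective f) {n : ℕ} {x : G}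
    (hx : x ^ 2 ^ (n + 1) = 1) (hdef : (f x - 1) ^ (2 ^ (n + 1) - 1) = 0) {q : ℕ} [Fact q.Prime]
    (hq2 : q ≠ 2) {H : Subgroup G} (hH : IsPGroup q H) (hxH : x ∈ Subgroup.normalizer (H : Set G))
    (hc : ∀ a ∈ H, ∀ b ∈ H, a * b = b * a) {h : G} (hh : h ∈ H) :
    x ^ 2 ^ n * h = h * x ^ 2 ^ n := by
  by_contra hne
  let φ : MulAut H := Subgroup.normalizerMonoidHom H ⟨x, hxH⟩
  have hφpow : ∀ (i : ℕ) (z : H), (((φ ^ i) z : H) : G) = x ^ i * z * (x ^ i)⁻¹ := by
    intro i z
    rw [← map_pow]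
    rfl
  rcases hall_higman_b (k := k) (p := 2) (q := q) (n := n + 1) hq2 (Nat.succ_pos n) (Nat.card H)
    (Q := H) rfl hH φ (MulEquiv.ext fun z => Subtype.ext (by rw [hφpow, hx]; simp))
    ⟨⟨h, hh⟩, fun h0 => hne (by
      have h1 := congrArg Subtype.val h0
      rw [Nat.add_sub_cancel, hφpow] at h1
      exact mul_inv_eq_iff_eq_mul.1 h1)⟩
    (f.comp H.subtype) (hf.comp H.subtype_injective) (f x) (fun z => by
      show f x * f z = f ((φ z : H) : G) * f x
      rw [← map_mul, ← map_mul]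
      show f (x * z) = f (x * z * x⁻¹ * x)
      rw [inv_mul_cancel_right])
    (by rw [← map_pow, hx, map_one]) _ hdef with h1 | ⟨⟨a, b, hab⟩, -⟩
  · have := Nat.pow_pos (n := n + 1) Nat.two_pos
    omega
  · exact hab (Subtype.ext (hc a a.2 b b.2))

set_option maxHeartbeats 1000000 in
/-- The image of the square in the automorphisms of one component lies in `O_{2',2}`. -/
theorem component {G : Type u} [Group G] [Finite G] (hsol : Group.IsSolvable G)
    (f : G →* Module.End k V) {n : ℕ} {x : G}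
    (hx : x ^ 2 ^ (n + 1) = 1) (hdef : (f x - 1) ^ (2 ^ (n + 1) - 1) = 0) {q : ℕ} [Fact q.Prime]
    (hq2 : q ≠ 2) (D : Subgroup G) [D.Normal] (hDq : IsPGroup q D)
    (hcomm : ∀ a b : D, ⁅a, b⁆ ∈ Subgroup.center ↥D)
    (hpow : ∀ a : D, a ^ q ∈ Subgroup.center ↥D) (C : Subgroup G)
    (hC : ∀ c ∈ C, ∀ a : D, a ∈ Subgroup.center ↥D → c * a = a * c)
    (hyC : x ^ 2 ^ n ∈ C) (φ : ↥(Subgroup.center ↥D) → k)
    (hφ : weightSpace (f.comp (D.subtype.comp (Subgroup.center ↥D).subtype)) φ ≠ ⊥) :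
    ∃ (X : Type u) (_ : Group X) (_ : Finite X) (ψ : C →* X),
      QuotientGroup.mk' (pPrimeCore 2 X) (ψ ⟨_, hyC⟩) ∈ pCore 2 (X ⧸ pPrimeCore 2 X) ∧
      ∀ c, ψ c = 1 → ∀ a d : D,
        φ ⟨⁅d, MulAut.conjNormal (c : G) a * a⁻¹⁆, hcomm _ _⟩ = 1 := by
  classical
  set π₁ : ↥(Subgroup.center ↥D) →* Module.End k V :=
    f.comp (D.subtype.comp (Subgroup.center ↥D).subtype) with hπ₁
  set Wt := weightSpace π₁ φ with hWt
  haveI : Nontrivial Wt := Submodule.nontrivial_iff_ne_bot.2 hφ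
  obtain ⟨w₁, hw₁⟩ := exists_ne (0 : Wt)
  have hw₁V : (w₁ : V) ≠ 0 := fun h => hw₁ (Subtype.ext h)
  have hφone : φ 1 = 1 := smul_left_injective k hw₁V (by
    show φ 1 • (w₁ : V) = (1 : k) • (w₁ : V)
    rw [← mem_weightSpace.1 w₁.2 1, map_one, one_smul, Module.End.one_apply])
  have hφmul : ∀ a b, φ (a * b) = φ a * φ b := fun a b => smul_left_injective k hw₁V (by
    show φ (a * b) • (w₁ : V) = (φ a * φ b) • (w₁ : V)
    rw [← mem_weightSpace.1 w₁.2, map_mul, Module.End.mul_apply, mem_weightSpace.1 w₁.2 b, map_smul,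
      mem_weightSpace.1 w₁.2 a, smul_smul, mul_comm])
  -- commutators as a pairing
  have hbr : ∀ a b b' : D, ⁅a, b * b'⁆ = ⁅a, b⁆ * ⁅a, b'⁆ := fun a b b' => by
    rw [show ⁅a, b * b'⁆ = ⁅a, b⁆ * (b * ⁅a, b'⁆ * b⁻¹) by simp only [commutatorElement_def]; group,
      Subgroup.mem_center_iff.1 (hcomm a b') b, mul_inv_cancel_right]
  have hbl : ∀ a a' b : D, ⁅a * a', b⁆ = ⁅a, b⁆ * ⁅a', b⁆ := fun a a' b => by
    rw [← commutatorElement_inv, hbr, mul_inv_rev, commutatorElement_inv, commutatorElement_inv]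
    exact Subgroup.mem_center_iff.1 (hcomm a b) _
  let c₀ : D → D → ↥(Subgroup.center ↥D) := fun a b => ⟨⁅a, b⁆, hcomm a b⟩
  have hc₀r : ∀ a b b', c₀ a (b * b') = c₀ a b * c₀ a b' := fun a b b' => Subtype.ext (hbr a b b')
  have hc₀l : ∀ a a' b, c₀ (a * a') b = c₀ a b * c₀ a' b := fun a a' b => Subtype.ext (hbl a a' b)
  let β₀ : D →* D →* k :=
    { toFun := fun a =>
        { toFun := fun b => φ (c₀ a b)
          map_one' := by
            show φ (c₀ a 1) = 1
            rw [show c₀ a 1 = 1 from Subtype.ext (commutatorElement_one_right a), hφone]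
          map_mul' := fun b b' => by
            show φ (c₀ a (b * b')) = φ (c₀ a b) * φ (c₀ a b')
            rw [hc₀r, hφmul] }
      map_one' := MonoidHom.ext fun b => by
        show φ (c₀ 1 b) = 1
        rw [show c₀ 1 b = 1 from Subtype.ext (commutatorElement_one_left b), hφone]
      map_mul' := fun a a' => MonoidHom.ext fun b => by
        show φ (c₀ (a * a') b) = φ (c₀ a b) * φ (c₀ a' b)
        rw [hc₀l, hφmul] }
  have hskew : ∀ a b, β₀ a b * β₀ b a = 1 := fun a b => by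
    show φ (c₀ a b) * φ (c₀ b a) = 1
    rw [← hφmul, show c₀ a b * c₀ b a = 1 from Subtype.ext (by
      show ⁅a, b⁆ * ⁅b, a⁆ = 1
      rw [← commutatorElement_inv b a, inv_mul_cancel]), hφone]
  set R := β₀.ker with hR
  haveI : R.Normal := β₀.normal_ker
  have hRl : ∀ b, b ∈ R ↔ ∀ a, β₀ a b = 1 := fun b => by
    rw [hR, MonoidHom.mem_ker]
    constructor
    · intro h a
      have h1 := hskew a b
      rwa [h, MonoidHom.one_apply, mul_one] at h1
    · intro h
      refine MonoidHom.ext fun a => ?_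
      have h1 := hskew a b
      rwa [h a, one_mul] at h1
  have hRc : ∀ a b : D, ⁅a, b⁆ ∈ R := fun a b => (hRl _).2 fun d => by
    show φ (c₀ d ⁅a, b⁆) = 1
    rw [show c₀ d ⁅a, b⁆ = 1 from Subtype.ext (commutatorElement_eq_one_iff_mul_comm.2
      (Subgroup.mem_center_iff.1 (hcomm a b) d)), hφone]
  letI : CommGroup (↥D ⧸ R) :=
    { (inferInstance : Group (↥D ⧸ R)) with
      mul_comm := fun a b => by
        obtain ⟨a, rfl⟩ := QuotientGroup.mk'_surjective R a
        obtain ⟨b, rfl⟩ := QuotientGroup.mk'_surjective R b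
        rw [← commutatorElement_eq_one_iff_mul_comm, ← map_commutatorElement]
        exact (QuotientGroup.eq_one_iff _).2 (hRc a b) }
  let β : (↥D ⧸ R) →* (↥D ⧸ R) →* k :=
    QuotientGroup.lift R ((MonoidHom.flip (QuotientGroup.lift R β₀.flip (fun b hb =>
      MonoidHom.mem_ker.2 (MonoidHom.ext fun a => (hRl b).1 hb a)))))
      (fun a ha => MonoidHom.mem_ker.2 (MonoidHom.ext fun b => by
        induction b using QuotientGroup.induction_on with
        | _ b => exact DFunLike.congr_fun (MonoidHom.mem_ker.1 ha) b))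
  have hβmk : ∀ a b : D, β (QuotientGroup.mk a) (QuotientGroup.mk b) = β₀ a b := fun a b => rfl
  have hself : ∀ a, β a a = 1 := fun a => by
    induction a using QuotientGroup.induction_on with
    | _ a =>
      rw [hβmk]
      show φ (c₀ a a) = 1
      rw [show c₀ a a = 1 from Subtype.ext (commutatorElement_self a), hφone]
  have hnd : ∀ e, (∀ b, β e b = 1) → e = 1 := fun e => by
    induction e using QuotientGroup.induction_on with
    | _ a =>
      intro h
      exact (QuotientGroup.eq_one_iff a).2 (MonoidHom.mem_ker.2 (MonoidHom.ext fun b =>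
        (hβmk a b).symm.trans (h _)))
  have hodd : (Nat.card (↥D ⧸ R)).Coprime 2 := by
    obtain ⟨i, hi⟩ := IsPGroup.iff_card.1 (hDq.to_quotient R)
    rw [hi]
    exact Nat.Coprime.pow_left _ ((Nat.coprime_primes Fact.out Nat.prime_two).2 hq2)
  -- the stabiliser of the weight
  let conjD : G →* MulAut D := MulAut.conjNormal
  have hchar : ∀ (g : G) (a : D), a ∈ Subgroup.center ↥D → conjD g a ∈ Subgroup.center ↥D :=
    fun g a ha => (Subgroup.characteristic_iff_le_comap.1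
      (inferInstance : (Subgroup.center ↥D).Characteristic) (conjD g)) ha
  let Gφ : Subgroup G :=
    { carrier := {g | ∀ a : ↥(Subgroup.center ↥D), φ ⟨conjD g a, hchar g a a.2⟩ = φ a}
      one_mem' := fun a => congrArg φ (Subtype.ext (show conjD 1 (a : D) = a by rw [map_one]; rfl))
      mul_mem' := fun {g g'} hg hg' (a : ↥(Subgroup.center ↥D)) => by
        refine Eq.trans ?_ ((hg ⟨conjD g' a, hchar g' a a.2⟩).trans (hg' a))
        exact congrArg φ (Subtype.ext (show conjD (g * g') (a : D) = conjD g (conjD g' a) by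
          rw [map_mul]; rfl))
      inv_mem' := fun {g} hg (a : ↥(Subgroup.center ↥D)) => by
        refine Eq.trans (hg ⟨conjD g⁻¹ a, hchar g⁻¹ a a.2⟩).symm (congrArg φ (Subtype.ext ?_))
        show conjD g (conjD g⁻¹ a) = a
        rw [← MulAut.mul_apply, ← map_mul, mul_inv_cancel, map_one]; rfl }
  have hβ₀inv : ∀ (g : Gφ) (a b : D), β₀ (conjD g a) (conjD g b) = β₀ a b := fun g a b =>
    (congrArg φ (Subtype.ext (map_commutatorElement (conjD g) a b).symm :
      c₀ (conjD g a) (conjD g b) = ⟨conjD g (c₀ a b), hchar g _ (hcomm a b)⟩)).trans (g.2 _)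
  have hRinv : ∀ g : Gφ, ∀ b ∈ R, conjD g b ∈ R := fun g b hb => (hRl _).2 fun a => by
    obtain ⟨a, rfl⟩ := (conjD g).surjective a
    rw [hβ₀inv]
    exact (hRl b).1 hb a
  let act : Gφ →* MulAut (↥D ⧸ R) :=
    { toFun := fun g => QuotientGroup.congr R R (conjD g) (le_antisymm
        (by rintro _ ⟨b, hb, rfl⟩; exact hRinv g b hb)
        fun b hb => ⟨conjD (g⁻¹ : Gφ) b, hRinv g⁻¹ b hb, by
          show conjD g (conjD (g.1)⁻¹ b) = b
          rw [← MulAut.mul_apply, ← map_mul, mul_inv_cancel, map_one]; rfl⟩)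
      map_one' := MulEquiv.ext fun b => by
        induction b using QuotientGroup.induction_on with
        | _ b => show QuotientGroup.mk (conjD 1 b) = _; rw [map_one]; rfl
      map_mul' := fun g g' => MulEquiv.ext fun b => by
        induction b using QuotientGroup.induction_on with
        | _ b =>
          show QuotientGroup.mk (conjD (g.1 * g'.1) b) = QuotientGroup.mk (conjD g (conjD g' b))
          rw [map_mul]; rfl }
  have hβinv : ∀ (g : act.range) (a b), β (g.1 a) (g.1 b) = β a b := by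
    rintro ⟨_, g, rfl⟩ a b
    induction a using QuotientGroup.induction_on with
    | _ a =>
      induction b using QuotientGroup.induction_on with
      | _ b => exact hβ₀inv g a b
  have hCφ : C ≤ Gφ := fun c hc a => by
    refine congrArg φ (Subtype.ext (Subtype.ext ?_))
    show c * ((a : D) : G) * c⁻¹ = ((a : D) : G)
    rw [hC c hc a a.2, mul_inv_cancel_right]
  let ψ : C →* act.range := act.rangeRestrict.comp (Subgroup.inclusion hCφ)
  refine ⟨act.range, inferInstance, inferInstance, ψ, ?_, fun c hc a d => ?_⟩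
  swap
  · have h1 : act (Subgroup.inclusion hCφ c) = 1 := congrArg Subtype.val hc
    have h2 := DFunLike.congr_fun h1 (QuotientGroup.mk a)
    change (QuotientGroup.mk (conjD c a) : ↥D ⧸ R) = QuotientGroup.mk a at h2
    rw [← div_eq_one, ← QuotientGroup.mk_div, QuotientGroup.eq_one_iff, div_eq_mul_inv] at h2
    exact (hRl _).1 h2 d
  set y : C := ⟨_, hyC⟩ with hy
  by_cases hyact : ψ y = 1
  · rw [hyact, map_one]; exact one_mem _
  -- the representation on the weight space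
  have hWinv : ∀ (d : D), ∀ v ∈ Wt, (f.comp D.subtype) d v ∈ Wt := fun d v hv => by
    rw [hWt, mem_weightSpace] at hv ⊢
    intro a
    show f (((a : D) : G)) (f (d : G) v) = φ a • f (d : G) v
    rw [← Module.End.mul_apply, ← map_mul,
      show ((a : D) : G) * (d : G) = (d : G) * ((a : D) : G) from
        congrArg Subtype.val (Subgroup.mem_center_iff.1 a.2 d).symm,
      map_mul, Module.End.mul_apply, ← map_smul, ← hv a]
    rfl
  set ρ := restrictRep (f.comp D.subtype) Wt hWinv with hρ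
  have hρc : ∀ a : ↥(Subgroup.center ↥D), ρ (a : D) = φ a • 1 := fun a =>
    LinearMap.ext fun v => Subtype.ext (mem_weightSpace.1 v.2 a)
  have hρ1 : ∀ a : ↥(Subgroup.center ↥D), ρ (a : D) = 1 ↔ φ a = 1 := fun a => by
    rw [hρc]
    refine ⟨fun h => smul_left_injective k hw₁ (show φ a • w₁ = (1 : k) • w₁ by
      simpa using LinearMap.congr_fun h w₁), fun h => by rw [h, one_smul]⟩
  -- the orbit of the weight
  obtain ⟨ψc, hψc⟩ := CfsgLib.FGS.exists_restrict_mulAut (conjD x)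
    (show ∀ a ∈ Subgroup.center ↥D, conjD x a ∈ Subgroup.center ↥D from hchar x)
  have hpowc : ∀ (i : ℕ) (a : ↥(Subgroup.center ↥D)),
      (⟨conjD (x ^ i) a, hchar _ a a.2⟩ : ↥(Subgroup.center ↥D)) = (ψc ^ i) a := fun i a =>
    Subtype.ext (by rw [hψc]; exact DFunLike.congr_fun (map_pow conjD x i) (a : D))
  have hS : ∀ a, f x * π₁ a = π₁ (ψc a) * f x := fun a => by
    show f x * f ((a : D) : G) = f ((ψc a : D) : G) * f x
    have h1 := hψc 1 a
    rw [pow_one, pow_one] at h1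
    rw [h1, ← map_mul, ← map_mul]
    show f (x * ((a : D) : G)) = f (x * ((a : D) : G) * x⁻¹ * x)
    rw [inv_mul_cancel_right]
  have hSN : f x ^ 2 ^ (n + 1) = 1 := by rw [← map_pow, hx, map_one]
  obtain ⟨b, hbn, hbfix, hbdef⟩ := HHExceptional.orbit_step hS (Nat.succ_pos n) hSN hdef (φ := φ)
    (fun a => by show φ ((ψc ^ 2 ^ n) a) = φ a; rw [← hpowc]; exact hCφ hyC a)
  have hgb : x ^ 2 ^ b ∈ Gφ := fun a => by rw [hpowc]; exact hbfix a
  have hT : ∀ v ∈ Wt, (f x ^ 2 ^ b) v ∈ Wt := pow_weight_invariant hS hbfix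
  rcases GrossPlane.moved_plane hq2 hDq ρ (fun a b => ⟨_, hρc ⟨_, hcomm a b⟩⟩)
    (conjD (x ^ 2 ^ b)) (N := n + 1 - b) (by omega)
    (by
      rw [← map_pow conjD, ← pow_mul, ← pow_add, Nat.add_sub_cancel' hbn.le, hx, map_one])
    (S := (f x ^ 2 ^ b).restrict hT)
    (fun z => LinearMap.ext fun v => Subtype.ext (by
      show (f x ^ 2 ^ b) (f (z : G) v) = f ((conjD (x ^ 2 ^ b) z : D) : G) ((f x ^ 2 ^ b) v)
      rw [← map_pow f, ← Module.End.mul_apply, ← map_mul, ← Module.End.mul_apply, ← map_mul]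
      show f (x ^ 2 ^ b * z) (v : V) = f (x ^ 2 ^ b * z * (x ^ 2 ^ b)⁻¹ * x ^ 2 ^ b) (v : V)
      rw [inv_mul_cancel_right]))
    (by
      rw [Module.End.pow_restrict]
      refine LinearMap.ext fun v => Subtype.ext ?_
      show ((f x ^ 2 ^ b) ^ 2 ^ (n + 1 - b)) (v : V) = v
      rw [← pow_mul, ← pow_add, Nat.add_sub_cancel' hbn.le, hSN]; rfl)
    (by
      have key : ∀ (i : ℕ) (v : Wt), (((((f x ^ (2 : ℕ) ^ b).restrict hT - 1) ^ i) v : Wt) : V) =
          ((f x ^ (2 : ℕ) ^ b - 1) ^ i) v := by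
        intro i
        induction i with
        | zero => intro v; rfl
        | succ i ihi => intro v; rw [pow_succ', pow_succ', Module.End.mul_apply,
            Module.End.mul_apply, ← ihi]; rfl
      exact LinearMap.ext fun v => Subtype.ext ((key _ v).trans (hbdef v v.2)))
    (QuotientGroup.mk' R) (QuotientGroup.mk'_surjective R)
    (fun z => (QuotientGroup.eq_one_iff z).trans ((hRl z).trans (forall_congr' fun a =>
      (hρ1 ⟨⁅a, z⁆, hcomm a z⟩).symm)))
    (act ⟨x ^ 2 ^ n, hCφ hyC⟩)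
    (fun z => by
      rw [← map_pow conjD, ← pow_mul, ← pow_add, show b + (n + 1 - b - 1) = n by omega]
      rfl) with h | ⟨hN2, h⟩
  · exact absurd (Subtype.ext h : ψ y = 1) hyact
  have hz : x ^ 2 ^ (n - 1) ∈ Gφ := by
    rw [show n - 1 = b + (n + 1 - b - 2) by omega, pow_add, pow_mul]
    exact pow_mem hgb _
  obtain ⟨-, hplane⟩ := h (act ⟨_, hz⟩) (fun z => by
    rw [← map_pow conjD, ← pow_mul, ← pow_add, show b + (n + 1 - b - 2) = n - 1 by omega]
    rfl)
  haveI := hsol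
  haveI : Group.IsSolvable act.range := Group.isSolvable_of_surjective act.rangeRestrict_surjective
  have h2 : IsPGroup 2 (Subgroup.zpowers (act.rangeRestrict ⟨_, hz⟩)) := by
    have : (act.rangeRestrict ⟨_, hz⟩) ^ 2 ^ 2 = 1 := by
      rw [← map_pow, show (⟨_, hz⟩ : Gφ) ^ 2 ^ 2 = 1 from Subtype.ext (by
        show (x ^ 2 ^ (n - 1)) ^ 2 ^ 2 = 1
        rw [← pow_mul, ← pow_add, show n - 1 + 2 = n + 1 by omega, hx]), map_one]
    obtain ⟨i, -, hi⟩ := (Nat.dvd_prime_pow Nat.prime_two).1 (orderOf_dvd_of_pow_eq_one this)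
    exact IsPGroup.of_card (by rw [Nat.card_zpowers, hi])
  have h3 := GrossPlane.sq_mem_pCore β hodd hself hnd act.range.subtype hβinv
    Subtype.val_injective inferInstance (x := act.rangeRestrict ⟨_, hz⟩) h2 hplane
  rwa [show ψ y = act.rangeRestrict ⟨_, hz⟩ * act.rangeRestrict ⟨_, hz⟩ by
    rw [← map_mul]
    refine congrArg act.rangeRestrict (Subtype.ext ?_)
    show x ^ 2 ^ n = x ^ 2 ^ (n - 1) * x ^ 2 ^ (n - 1)
    rw [← pow_add, ← two_mul, ← pow_succ', show n - 1 + 1 = n by omega]]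

/-- A defective element's power of order two lies in `O_{2',2}`. -/
theorem pow_mem_two_two {G : Type u} [Group G] [Finite G] (hsol : Group.IsSolvable G)
    (hO : pCore 2 G = ⊥) (f : G →* Module.End k V) (hf : Function.Injective f) {n : ℕ} {x : G}
    (hx : x ^ 2 ^ (n + 1) = 1) (hdef : (f x - 1) ^ (2 ^ (n + 1) - 1) = 0) :
    QuotientGroup.mk' (pPrimeCore 2 G) (x ^ 2 ^ n) ∈ pCore 2 (G ⧸ pPrimeCore 2 G) := by
  classical
  haveI := hsol
  have hD : ∀ q : ℕ, ∃ D : Subgroup G, D.Normal ∧ (∀ hq : q.Prime, D ≤ pCore q G ∧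
      (∀ a ∈ D, ∀ g ∈ pCore q G, ⁅a, g⁆ ∈ D ∧ ∀ b ∈ D, b * ⁅a, g⁆ = ⁅a, g⁆ * b) ∧
      (∀ a ∈ D, ∀ b ∈ D, b * a ^ q = a ^ q * b) ∧
      ∀ g ∈ pCore q G, (∀ b ∈ D, b * g = g * b) → g ∈ D) := fun q => by
    by_cases hq : q.Prime
    · haveI := Fact.mk hq
      obtain ⟨D, h1, h2⟩ := exists_critical_normal (G := G) q
      exact ⟨D, h1, fun _ => h2⟩
    · exact ⟨⊥, inferInstance, fun h => absurd h hq⟩
  choose D hDn hD using hD
  let C : Subgroup G := ⨅ q : {q : ℕ // q.Prime ∧ q ≠ 2},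
    Subgroup.centralizer (((Subgroup.center ↥(D q.1)).map (D q.1).subtype : Subgroup G) : Set G)
  haveI : C.Normal := Subgroup.normal_iInf_normal fun q => by
    haveI := hDn q.1
    infer_instance
  have hDq : ∀ q : {q : ℕ // q.Prime ∧ q ≠ 2}, IsPGroup q.1 (D q.1) := fun q => by
    haveI := Fact.mk q.2.1
    exact (CfsgLib.Cores.isPGroup_pCore q.1).to_le (hD q.1 q.2.1).1
  have hyC : x ^ 2 ^ n ∈ C := Subgroup.mem_iInf.2 fun q => by
    haveI := Fact.mk q.2.1
    haveI := hDn q.1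
    refine Subgroup.mem_centralizer_iff.2 fun a ha => (fixes_abelian f hf hx hdef q.2.2
      ((hDq q).to_le (Subgroup.map_subtype_le _)) ?_ ?_ ha).symm
    · rw [Subgroup.normalizer_eq_top]; exact Subgroup.mem_top _
    · rintro _ ⟨a, -, rfl⟩ _ ⟨b, hb, rfl⟩
      exact congrArg Subtype.val (Subgroup.mem_center_iff.1 hb a)
  let ι := Σ' (q : {q : ℕ // q.Prime ∧ q ≠ 2}) (φ : ↥(Subgroup.center ↥(D q.1)) → k),
    weightSpace (f.comp ((D q.1).subtype.comp (Subgroup.center ↥(D q.1)).subtype)) φ ≠ ⊥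
  have hcomm : ∀ (q : {q : ℕ // q.Prime ∧ q ≠ 2}) (a b : D q.1),
      ⁅a, b⁆ ∈ Subgroup.center ↥(D q.1) := fun q a b => Subgroup.mem_center_iff.2 fun d =>
    Subtype.ext (((hD q.1 q.2.1).2.1 a a.2 b ((hD q.1 q.2.1).1 b.2)).2 d d.2)
  have hcomp : ∀ i : ι, ∃ (X : Type u) (_ : Group X) (_ : Finite X) (ψ : C →* X),
      QuotientGroup.mk' (pPrimeCore 2 X) (ψ ⟨_, hyC⟩) ∈ pCore 2 (X ⧸ pPrimeCore 2 X) ∧
      ∀ c, ψ c = 1 → ∀ a d : D i.1.1, haveI := hDn i.1.1
        i.2.1 ⟨⁅d, MulAut.conjNormal (c : G) a * a⁻¹⁆, hcomm i.1 _ _⟩ = 1 := fun i => by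
    haveI := Fact.mk i.1.2.1
    haveI := hDn i.1.1
    exact component hsol f hx hdef i.1.2.2 (D i.1.1) (hDq i.1) (hcomm i.1)
      (fun a => Subgroup.mem_center_iff.2 fun d => Subtype.ext
        ((hD i.1.1 i.1.2.1).2.2.1 a a.2 d d.2)) C
      (fun c hc a ha => (Subgroup.mem_centralizer_iff.1 (Subgroup.mem_iInf.1 hc i.1) a
        ⟨a, ha, rfl⟩).symm) hyC i.2.1 i.2.2
  choose X hXg hXf ψ hψy hψk using hcomp
  refine mem_two_two_of_family C ψ (fun c hc2 hc1 => Subtype.ext ?_) (y := ⟨_, hyC⟩) hψy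
  have hc2G : (c : G) ^ 2 = 1 := congrArg Subtype.val hc2
  -- coprime action on a fixed defect
  have hiter : ∀ {q : ℕ} [Fact q.Prime], q ≠ 2 → ∀ {g w : G}, w ∈ pCore q G →
      (c : G) * w = w * c → (c : G) * g * (c : G)⁻¹ = w * g → w = 1 := by
    intro q hq hq2 g w hw hcw hg
    have h2 : w * w = 1 := by
      have h3 : (c : G) ^ 2 * g * ((c : G) ^ 2)⁻¹ = w * w * g := by
        calc (c : G) ^ 2 * g * ((c : G) ^ 2)⁻¹
            = c * ((c : G) * g * (c : G)⁻¹) * (c : G)⁻¹ := by rw [pow_two]; group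
          _ = (c : G) * w * (g * (c : G)⁻¹) := by rw [hg]; group
          _ = w * ((c : G) * g * (c : G)⁻¹) := by rw [hcw]; group
          _ = w * w * g := by rw [hg, mul_assoc]
      rw [hc2G, one_mul, inv_one, mul_one, right_eq_mul] at h3
      exact h3
    obtain ⟨j, hj⟩ := CfsgLib.Cores.isPGroup_pCore q ⟨w, hw⟩
    exact HH2e.eq_one_of_coprime_pow
      (Nat.Coprime.pow_right j ((Nat.coprime_primes Nat.prime_two hq.out).2 hq2.symm))
      (by rw [pow_two]; exact h2) (congrArg Subtype.val hj)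
  have hmem : (c : G) ∈ Subgroup.centralizer (fittingSubgroup G : Set G) := by
    refine ConjAb.le_centralizer_fitting fun r hr => Subgroup.mem_centralizer_iff.2 fun g hg => ?_
    haveI := Fact.mk hr
    by_cases hr2 : r = 2
    · subst hr2
      rw [hO] at hg
      rw [show g = 1 from Subgroup.mem_bot.1 hg, one_mul, mul_one]
    haveI := hDn r
    obtain ⟨hDle, hDcomm, -, hDC⟩ := hD r hr
    have hCZ : ∀ a ∈ D r, (∀ b ∈ D r, b * a = a * b) → (c : G) * a = a * c := fun a ha h =>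
      (Subgroup.mem_centralizer_iff.1 (Subgroup.mem_iInf.1 c.2 ⟨r, hr, hr2⟩) a
        ⟨⟨a, ha⟩, Subgroup.mem_center_iff.2 fun b => Subtype.ext (h b b.2), rfl⟩).symm
    -- the element centralises the critical subgroup
    have hcD : ∀ a ∈ D r, (c : G) * a * (c : G)⁻¹ = a := by
      intro a ha
      set w : D r := MulAut.conjNormal (c : G) ⟨a, ha⟩ * ⟨a, ha⟩⁻¹ with hw
      have hwc : w ∈ Subgroup.center ↥(D r) := by
        refine Subgroup.mem_center_iff.2 fun d => ?_
        rw [← commutatorElement_eq_one_iff_mul_comm]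
        by_contra hne
        set Z := Subgroup.center ↥(D r)
        let π₁ : ↥Z →* Module.End k V := f.comp ((D r).subtype.comp Z.subtype)
        have hπc : ∀ a b, π₁ a * π₁ b = π₁ b * π₁ a := fun a b => by
          rw [← map_mul, ← map_mul]
          exact congrArg π₁ (Subtype.ext (Subgroup.mem_center_iff.1 b.2 a.1))
        obtain ⟨j, hj⟩ := IsPGroup.iff_card.1
          (((CfsgLib.Cores.isPGroup_pCore r).to_le hDle).to_subgroup Z)
        have hk : (Nat.card ↥Z : k) ≠ 0 := by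
          intro h0
          rw [CharP.cast_eq_zero_iff k 2, hj] at h0
          exact hr2 ((Nat.prime_dvd_prime_iff_eq Nat.prime_two hr).1
            (Nat.prime_two.dvd_of_dvd_pow h0)).symm
        obtain ⟨φ, hφ, hφne⟩ := exists_separating_weight π₁ hπc hk
          (fun a => by rw [← map_pow, pow_card_eq_one', map_one])
          (a₁ := ⟨⁅d, w⁆, hcomm ⟨r, hr, hr2⟩ _ _⟩) (a₂ := 1)
          (fun h => hne ((D r).subtype_injective (hf h)))
        refine hφne ((hψk ⟨⟨r, hr, hr2⟩, φ, hφ⟩ c (hc1 _) ⟨a, ha⟩ d).trans ?_)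
        obtain ⟨v, hv⟩ := Submodule.exists_mem_ne_zero_of_ne_bot hφ
        refine (smul_left_injective k hv.2 ?_).symm
        show φ 1 • v = (1 : k) • v
        rw [← mem_weightSpace.1 hv.1 1, map_one, one_smul, Module.End.one_apply]
      have h1 : (w : G) = (c : G) * a * (c : G)⁻¹ * a⁻¹ := by
        rw [hw, Subgroup.coe_mul, Subgroup.coe_inv, MulAut.conjNormal_apply]
      have h2 := hiter hr2 (hDle w.2) (hCZ w w.2 fun b hb =>
        congrArg Subtype.val (Subgroup.mem_center_iff.1 hwc ⟨b, hb⟩))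
        (show (c : G) * a * (c : G)⁻¹ = w * a by rw [h1, inv_mul_cancel_right])
      rw [h1, mul_inv_eq_one] at h2
      exact h2
    -- and so all of `O_r`
    set w := (c : G) * g * (c : G)⁻¹ * g⁻¹ with hw
    have hwQ : w ∈ pCore r G :=
      mul_mem ((inferInstance : (pCore r G).Normal).conj_mem g hg (c : G)) (inv_mem hg)
    have hwD : w ∈ D r := hDC w hwQ fun a ha => by
      obtain ⟨hs, hsc⟩ := hDcomm a ha g⁻¹ (inv_mem hg)
      have e1 : g⁻¹ * a * g = ⁅a, g⁻¹⁆⁻¹ * a := by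
        rw [commutatorElement_def]; group
      have e2 : (c : G) * (g⁻¹ * a * g) * (c : G)⁻¹ = g⁻¹ * a * g :=
        hcD _ (by rw [e1]; exact mul_mem (inv_mem hs) ha)
      have e3 : ((c : G) * g * (c : G)⁻¹)⁻¹ * a * ((c : G) * g * (c : G)⁻¹) = g⁻¹ * a * g := by
        conv_lhs => rw [← hcD a ha]
        rw [← e2]; group
      have hconj : g⁻¹ * a * g ∈ D r := by rw [e1]; exact mul_mem (inv_mem hs) ha
      calc a * w = ((c : G) * g * (c : G)⁻¹) *
            (((c : G) * g * (c : G)⁻¹)⁻¹ * a * ((c : G) * g * (c : G)⁻¹)) * g⁻¹ := by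
            rw [hw]; group
        _ = w * a := by rw [e3, hw]; group
    have h2 := hiter hr2 hwQ (by
      have := hcD w hwD
      rwa [mul_inv_eq_iff_eq_mul] at this)
      (show (c : G) * g * (c : G)⁻¹ = w * g by rw [hw, inv_mul_cancel_right])
    rw [hw, mul_inv_eq_one, mul_inv_eq_iff_eq_mul] at h2
    exact h2.symm
  have hF : (c : G) ∈ pCore 2 G := by
    obtain ⟨i, -, hi⟩ := (Nat.dvd_prime_pow Nat.prime_two).1
      (orderOf_dvd_of_pow_eq_one (show (c : G) ^ 2 ^ 1 = 1 by rw [pow_one]; exact hc2G))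
    exact ConjAb.mem_pCore_of_mem_fitting Nat.prime_two
      (CfsgLib.Solvable.centralizer_fittingSubgroup_le hmem) hi
  rw [hO] at hF
  exact Subgroup.mem_bot.1 hF

end Component

/-- Two steps of the upper series lower the exponent of a Sylow `2`-subgroup of a solvable group. -/
theorem pow_mem_second {G : Type u} [Group G] [Finite G] (hsolv : Group.IsSolvable G)
    (hO : pPrimeCore 2 G = ⊥) {n : ℕ}
    (hexp : ∀ (P : Sylow 2 G), ∀ x ∈ (P : Subgroup G), x ^ 2 ^ (n + 1) = 1)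
    (P : Sylow 2 G) {x : G} (hx : x ∈ (P : Subgroup G)) :
    QuotientGroup.mk' (pPrimeCore 2 (G ⧸ pCore 2 G))
      (QuotientGroup.mk' (pCore 2 G) (x ^ 2 ^ n)) ∈
        pCore 2 ((G ⧸ pCore 2 G) ⧸ pPrimeCore 2 (G ⧸ pCore 2 G)) := by
  classical
  haveI := hsolv
  set R := pCore 2 G with hR
  have hsol := CfsgLib.Transfer.isPSolvable_of_isSolvable 2 (G := G) hsolv
  obtain ⟨d, F, hFinj, hFnorm, -⟩ := HH2e.exists_quotient_rep hsol hO
  have hRP : R ≤ (P : Subgroup G) := CfsgLib.Cores.pCore_le_sylow P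
  have hdef : (F (QuotientGroup.mk' R x) - 1) ^ (2 ^ (n + 1) - 1) = 0 := by
    have h1 := hFnorm x (2 ^ (n + 1)) fun r hr => by
      rw [hexp P _ (mul_mem (hRP hr) hx), hexp P x hx]
    have h2 := congrArg (Polynomial.aeval (F (QuotientGroup.mk' R x)))
      (geom_sum_prime_pow (AlgebraicClosure (ZMod 2)) (p := 2) (n + 1))
    simp only [map_sum, map_pow, map_sub, map_one, Polynomial.aeval_X] at h2
    exact h2.symm.trans h1
  rw [map_pow (QuotientGroup.mk' R)]
  exact pow_mem_two_two (Group.isSolvable_of_surjective (QuotientGroup.mk'_surjective R))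
    (CfsgLib.Cores.pCore_quotient_self (G := G) 2) F hFinj
    (by rw [← map_pow, hexp P x hx, map_one]) hdef

/-- The bound `2 n + 1` for Sylow `2`-subgroups of exponent `2 ^ (n + 1)`. -/
theorem pLengthLE_two_mul_add_one : ∀ (n : ℕ) {G : Type u} [Group G] [Finite G],
    Group.IsSolvable G → (∀ (P : Sylow 2 G), ∀ x ∈ (P : Subgroup G), x ^ 2 ^ (n + 1) = 1) →
    PLengthLE 2 (2 * n + 1) G := by
  intro n
  induction n with
  | zero =>
    intro G _ _ hsolv hexp
    haveI := hsolv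
    obtain ⟨P⟩ : Nonempty (Sylow 2 G) := inferInstance
    have hP : IsMulCommutative (P : Subgroup G) := ⟨⟨fun a b => by
      have h : ∀ g : (P : Subgroup G), g⁻¹ = g := fun g =>
        inv_eq_of_mul_eq_one_left (Subtype.ext (by
          have := hexp P g g.2
          rwa [zero_add, pow_one, pow_two] at this))
      calc a * b = (a * b)⁻¹ := (h _).symm
        _ = b * a := by rw [mul_inv_rev, h, h]⟩⟩
    haveI : (pPrimeCore 2 G).Normal := by
      haveI := CfsgLib.Cores.pPrimeCore_characteristic (G := G) 2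
      infer_instance
    haveI := Cfsg.Agent.S0018.result (G := G) 2 P hP
    refine pLengthLE_of_coprime_ker (QuotientGroup.mk' (pPrimeCore 2 G))
      (QuotientGroup.mk'_surjective _)
      (by rw [QuotientGroup.ker_mk']; exact CfsgLib.Cores.coprime_card_pPrimeCore 2) ?_
    set q₀ := QuotientGroup.mk' (pPrimeCore 2 G)
    set G₀ := G ⧸ pPrimeCore 2 G
    haveI hPn : ((P : Subgroup G).map q₀).Normal := by
      have h1 : ((P : Subgroup G) ⊔ pPrimeCore 2 G).map q₀ = (P : Subgroup G).map q₀ := by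
        rw [Subgroup.map_sup, QuotientGroup.map_mk'_self, sup_bot_eq]
      rw [← h1]
      exact Subgroup.Normal.map inferInstance q₀ (QuotientGroup.mk'_surjective _)
    have hO : pPrimeCore 2 G₀ = ⊥ := CfsgLib.Cores.pPrimeCore_quotient_self (G := G) 2
    refine pLengthLE_succ_of_ker_le (k := 0) (QuotientGroup.mk' (pCore 2 G₀))
      (QuotientGroup.mk'_surjective _)
      (by rw [QuotientGroup.ker_mk', useries_two_of_pPrimeCore_eq_bot 2 G₀ hO]) ?_
    show (upperPSeries 2 (G₀ ⧸ pCore 2 G₀) (2 * 0 + 1)).1 = ⊤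
    rw [show (upperPSeries 2 (G₀ ⧸ pCore 2 G₀) (2 * 0 + 1)).1 =
      useries 2 (G₀ ⧸ pCore 2 G₀) 1 from rfl, useries_one, eq_top_iff]
    refine CfsgLib.Cores.le_pPrimeCore ?_
    rw [Subgroup.card_top, Nat.coprime_comm, Nat.prime_two.coprime_iff_not_dvd,
      ← Subgroup.index_eq_card]
    intro hd
    have hle : (P : Subgroup G).map q₀ ≤ pCore 2 G₀ := CfsgLib.Cores.le_pCore (P.2.map _)
    exact ((P.mapSurjective (QuotientGroup.mk'_surjective (pPrimeCore 2 G))).not_dvd_index)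
      (hd.trans (by rw [Sylow.coe_mapSurjective]; exact Subgroup.index_dvd_of_le hle))
  | succ n ih =>
    intro G _ _ hsolv hexp
    haveI := hsolv
    haveI : (pPrimeCore 2 G).Normal := by
      haveI := CfsgLib.Cores.pPrimeCore_characteristic (G := G) 2
      infer_instance
    refine pLengthLE_of_coprime_ker (QuotientGroup.mk' (pPrimeCore 2 G))
      (QuotientGroup.mk'_surjective _)
      (by rw [QuotientGroup.ker_mk']; exact CfsgLib.Cores.coprime_card_pPrimeCore 2) ?_
    set G₀ := G ⧸ pPrimeCore 2 G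
    have hO : pPrimeCore 2 G₀ = ⊥ := CfsgLib.Cores.pPrimeCore_quotient_self (G := G) 2
    have hexp₀ : ∀ (P : Sylow 2 G₀), ∀ x ∈ (P : Subgroup G₀), x ^ 2 ^ (n + 1 + 1) = 1 := fun P =>
      exp_sylow_of_surjective (QuotientGroup.mk'_surjective (pPrimeCore 2 G)) hexp P
    haveI : Group.IsSolvable G₀ := Group.isSolvable_of_surjective (QuotientGroup.mk'_surjective _)
    set q₀ := QuotientGroup.mk' (pCore 2 G₀)
    have hq₀ : Function.Surjective q₀ := QuotientGroup.mk'_surjective _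
    rw [show 2 * (n + 1) + 1 = (2 * n + 1 + 1) + 1 by ring]
    refine pLengthLE_succ_of_ker_le q₀ hq₀
      (by rw [QuotientGroup.ker_mk', useries_two_of_pPrimeCore_eq_bot 2 G₀ hO]) ?_
    set G₁ := G₀ ⧸ pCore 2 G₀
    haveI : (pPrimeCore 2 G₁).Normal := by
      haveI := CfsgLib.Cores.pPrimeCore_characteristic (G := G₁) 2
      infer_instance
    set q₁ := QuotientGroup.mk' (pPrimeCore 2 G₁)
    have hq₁ : Function.Surjective q₁ := QuotientGroup.mk'_surjective _
    refine pLengthLE_of_coprime_ker q₁ hq₁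
      (by rw [QuotientGroup.ker_mk']; exact CfsgLib.Cores.coprime_card_pPrimeCore 2) ?_
    set G₂ := G₁ ⧸ pPrimeCore 2 G₁
    haveI : Group.IsSolvable G₁ := Group.isSolvable_of_surjective hq₀
    haveI : Group.IsSolvable G₂ := Group.isSolvable_of_surjective hq₁
    have hO₂ : pPrimeCore 2 G₂ = ⊥ := CfsgLib.Cores.pPrimeCore_quotient_self (G := G₁) 2
    set q₂ := QuotientGroup.mk' (pCore 2 G₂)
    have hq₂ : Function.Surjective q₂ := QuotientGroup.mk'_surjective _
    refine pLengthLE_succ_of_ker_le q₂ hq₂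
      (by rw [QuotientGroup.ker_mk', useries_two_of_pPrimeCore_eq_bot 2 G₂ hO₂]) ?_
    refine ih (Group.isSolvable_of_surjective hq₂) fun P => ?_
    have hπ : Function.Surjective (q₁.comp q₀) := hq₁.comp hq₀
    obtain ⟨P₂, rfl⟩ := Sylow.mapSurjective_surjective hq₂ 2 P
    obtain ⟨P₀, rfl⟩ := Sylow.mapSurjective_surjective hπ 2 P₂
    rw [Sylow.coe_mapSurjective, Sylow.coe_mapSurjective]
    rintro _ ⟨_, ⟨a, ha, rfl⟩, rfl⟩
    rw [← map_pow, QuotientGroup.mk'_apply, QuotientGroup.eq_one_iff, ← map_pow]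
    exact pow_mem_second inferInstance hO hexp₀ P₀ ha

end CfsgLib.PGroup.GrossTwo
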