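import Cfsg.Agent.Lib.OddLocal.RankTwo.PowerMap
import Cfsg.Agent.Lib.OddLocal.RankTwo.Coprime
import Cfsg.Agent.Lib.Transfer.CyclicMaximal
import Cfsg.Prelude.Def_Transfer
import Mathlib.GroupTheory.Frattini

/-!
`p`-groups, `p` odd, with at most `p ^ 2` elements killed by `p` in which equal `p`-th powers differ by
an element killed by `p` (automatic for `p ≥ 5`): the bound passes to quotients, and the group is
metacyclic.
-/

set_option autoImplicit false
set_option linter.unusedSectionVars false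
set_option linter.unusedVariables false

namespace CfsgLib.PGroup.HuppertMetacyclic

open Cfsg Subgroup
open scoped commutatorElement

universe u

variable {R : Type u} [Group R] [Finite R] {p : ℕ} [hp : Fact p.Prime]

/-- The hypothesis: at most `p ^ 2` elements killed by `p`. -/
def SmallOmega (p : ℕ) (R : Type u) [Group R] : Prop := Nat.card {x : R // x ^ p = 1} ≤ p ^ 2

/-- Equal `p`-th powers differ by an element killed by `p`. -/
def PowRigid (p : ℕ) (R : Type u) [Group R] : Prop := ∀ x y : R, x ^ p = y ^ p → (x⁻¹ * y) ^ p = 1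

theorem pRankLE_of_small (h : SmallOmega p R) : PRankLE p 2 R := fun A _ hA =>
  le_trans (Nat.card_le_card_of_injective (fun a : A => (⟨a, hA a a.2⟩ : {x : R // x ^ p = 1}))
    (fun a b e => Subtype.ext (congrArg Subtype.val e :))) h

omit [Finite R] hp in
theorem smallOmega_of_omegaOne [Finite R] (h : Nat.card (omegaOne p (⊤ : Subgroup R)) ≤ p ^ 2) :
    SmallOmega p R :=
  le_trans (Nat.card_le_card_of_injective (fun x : {x : R // x ^ p = 1} =>
    (⟨x, CfsgLib.PGroup.mem_omegaOne (mem_top _) x.2⟩ : omegaOne p (⊤ : Subgroup R)))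
    (fun a b e => Subtype.ext (congrArg Subtype.val e :))) h

theorem powRigid_of_five_le (hp5 : 5 ≤ p) (hR : IsPGroup p R) (h : SmallOmega p R) : PowRigid p R :=
  fun x y e => CfsgLib.OddLocal.RankTwo.eq_pow_imp hp5 _ R rfl hR (pRankLE_of_small h) x y e

theorem card_powers_mem_le (hdiff : PowRigid p R) (h : SmallOmega p R) (S : Set R) :
    Nat.card {x : R // x ^ p ∈ S} ≤ Nat.card S * p ^ 2 := by
  classical
  let r : R → R := fun t => if ht : ∃ x, x ^ p = t then ht.choose else 1
  have hr : ∀ x : R, (r (x ^ p)) ^ p = x ^ p := fun x => by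
    have ht : ∃ y, y ^ p = x ^ p := ⟨x, rfl⟩
    simp only [r, dif_pos ht]
    exact ht.choose_spec
  refine le_trans (Nat.card_le_card_of_injective (fun x : {x : R // x ^ p ∈ S} =>
    ((⟨(x : R) ^ p, x.2⟩ : S),
      (⟨(r ((x : R) ^ p))⁻¹ * x, hdiff _ _ (hr x)⟩ : {x : R // x ^ p = 1}))) ?_) ?_
  · intro x y e
    have e1 : (x : R) ^ p = (y : R) ^ p := congrArg Subtype.val (congrArg Prod.fst e)
    have e2 : (r ((x : R) ^ p))⁻¹ * x = (r ((y : R) ^ p))⁻¹ * y :=
      congrArg Subtype.val (congrArg Prod.snd e)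
    rw [e1] at e2
    exact Subtype.ext (mul_left_cancel e2)
  · rw [Nat.card_prod]
    exact Nat.mul_le_mul_left _ h

theorem smallOmega_quotient_rigid (hdiff : PowRigid p R) (h : SmallOmega p R) (T : Subgroup R)
    [T.Normal] : SmallOmega p (R ⧸ T) := by
  have h1 : Nat.card ({x : R // x ^ p ∈ (T : Set R)}) =
      Nat.card T * Nat.card {u : R ⧸ T // u ^ p = 1} := by
    let f : {x : R // x ^ p ∈ (T : Set R)} ≃ {g : R // (g : R ⧸ T) ∈ {u : R ⧸ T | u ^ p = 1}} :=
      Equiv.subtypeEquivRight fun x => by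
        show x ^ p ∈ T ↔ (x : R ⧸ T) ^ p = 1
        rw [← QuotientGroup.mk_pow, QuotientGroup.eq_one_iff]
    rw [Nat.card_congr f, ← Nat.card_prod]
    exact Nat.card_congr (QuotientGroup.preimageMkEquivSubgroupProdSet T {u : R ⧸ T | u ^ p = 1})
  have h2 := card_powers_mem_le hdiff h (T : Set R)
  rw [h1] at h2
  exact Nat.le_of_mul_le_mul_left h2 Nat.card_pos

theorem smallOmega_quotient (hp5 : 5 ≤ p) (hR : IsPGroup p R) (h : SmallOmega p R) (T : Subgroup R)
    [T.Normal] : SmallOmega p (R ⧸ T) :=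
  smallOmega_quotient_rigid (powRigid_of_five_le hp5 hR h) h T

theorem card_omegaOne_le (hp5 : 5 ≤ p) (hR : IsPGroup p R) (h : SmallOmega p R) :
    Nat.card (omegaOne p (⊤ : Subgroup R)) ≤ p ^ 2 := by
  refine le_trans (Nat.card_le_card_of_injective (fun x : omegaOne p (⊤ : Subgroup R) =>
    (⟨x, ?_⟩ : {x : R // x ^ p = 1})) (fun a b e => Subtype.ext (congrArg Subtype.val e :))) h
  exact (closure_le (K := CfsgLib.OddLocal.RankTwo.omegaSet p hp5 hR (pRankLE_of_small h))).2
    (fun y hy => hy.2) x.2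

theorem smallOmega_pow_eq_one {Q : Type u} [Group Q] [Finite Q] (h : SmallOmega p Q) (he : ∀ u : Q, u ^ p = 1) :
    Nat.card Q ≤ p ^ 2 :=
  le_trans (Nat.card_le_card_of_injective (fun u : Q => (⟨u, he u⟩ : {x : Q // x ^ p = 1}))
    (fun _ _ e => congrArg Subtype.val e)) h

theorem comm_of_card_le_sq {Q : Type u} [Group Q] [Finite Q] (hQ : IsPGroup p Q) (h : Nat.card Q ≤ p ^ 2)
    (a b : Q) : a * b = b * a := by
  obtain ⟨n, hn⟩ := hQ.exists_card_eq
  rw [hn] at h
  have h2 := (Nat.pow_le_pow_iff_right hp.out.one_lt).1 h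
  interval_cases n
  · have := (Nat.card_eq_one_iff_unique.1 (hn.trans (pow_zero p))).1
    exact Subsingleton.elim _ _
  · have := isCyclic_of_prime_card (p := p) (hn.trans (pow_one p))
    exact IsCyclic.commGroup.mul_comm a b
  · exact (IsPGroup.isMulCommutative_of_card_eq_prime_sq hn).is_comm.comm a b

/-- In a non-cyclic group of this kind every element of the Frattini subgroup is a `p`-th power. -/
theorem exists_pow_eq_of_mem_frattini (hp2 : p ≠ 2) (hdiff : PowRigid p R) (hR : IsPGroup p R)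
    (h : SmallOmega p R) (hcy : ¬ IsCyclic R) : ∀ y ∈ frattini R, ∃ x : R, x ^ p = y := by
  classical
  set Φ := frattini R with hΦ
  have hqe : ∀ u : R ⧸ Φ, u ^ p = 1 := fun u => by
    obtain ⟨x, rfl⟩ := QuotientGroup.mk_surjective u
    rw [← QuotientGroup.mk_pow, QuotientGroup.eq_one_iff]
    exact CfsgLib.PGroup.pow_mem_frattini hR x
  have hq2 : Nat.card (R ⧸ Φ) ≤ p ^ 2 := smallOmega_pow_eq_one (smallOmega_quotient_rigid hdiff h Φ) hqe
  let S : Set R := Set.range fun x : R => x ^ p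
  have hS : S ⊆ (Φ : Set R) := by rintro _ ⟨x, rfl⟩; exact CfsgLib.PGroup.pow_mem_frattini hR x
  have h1 : Nat.card R ≤ Nat.card S * p ^ 2 :=
    le_trans (Nat.card_le_card_of_injective (fun x : R => (⟨x, x, rfl⟩ : {x : R // x ^ p ∈ S}))
      (fun _ _ e => congrArg Subtype.val e)) (card_powers_mem_le hdiff h S)
  have h2 : Nat.card (R ⧸ Φ) = p ^ 2 := by
    obtain ⟨i, hi⟩ := (hR.to_quotient Φ).exists_card_eq
    refine le_antisymm hq2 ?_
    rw [hi]
    refine Nat.pow_le_pow_right hp.out.pos ?_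
    by_contra hcon
    have hcy' : IsCyclic (R ⧸ Φ) := by
      rcases Nat.le_one_iff_eq_zero_or_eq_one.1 (by omega : i ≤ 1) with rfl | rfl
      · have := (Nat.card_eq_one_iff_unique.1 (hi.trans (pow_zero p))).1
        infer_instance
      · exact isCyclic_of_prime_card (p := p) (hi.trans (pow_one p))
    obtain ⟨u, hu⟩ := hcy'.exists_generator
    obtain ⟨x, rfl⟩ := QuotientGroup.mk_surjective u
    refine hcy (isCyclic_iff_exists_zpowers_eq_top.2 ⟨x, frattini_nongenerating (eq_top_iff.2 fun y _ => ?_)⟩)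
    obtain ⟨j, hj⟩ := mem_zpowers_iff.1 (hu (y : R ⧸ Φ))
    rw [← QuotientGroup.mk_zpow, QuotientGroup.eq] at hj
    rw [show y = x ^ j * ((x ^ j)⁻¹ * y) by group]
    exact mul_mem (mem_sup_left (zpow_mem (mem_zpowers x) j)) (mem_sup_right hj)
  rw [← Φ.card_mul_index, Φ.index_eq_card, h2] at h1
  have h3 := Nat.le_of_mul_le_mul_right h1 (pow_pos hp.out.pos 2)
  have hSΦ : S = (Φ : Set R) := Set.eq_of_subset_of_ncard_le hS (by
    rw [← Nat.card_coe_set_eq, ← Nat.card_coe_set_eq]
    exact h3)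
  intro y hy
  exact hSΦ.ge hy

/-- In a two-generated group of this kind the derived group is cyclic. -/
theorem commutator_cyclic (hp2 : p ≠ 2) (hdiff : PowRigid p R) (hR : IsPGroup p R) (h : SmallOmega p R)
    (hcy : ¬ IsCyclic R) {a b : R}
    (hab : closure {a, b} = ⊤) : zpowers ⁅a, b⁆ = commutator R := by
  have hc0 : ⁅a, b⁆ ∈ commutator R := by
    rw [_root_.commutator_def]; exact commutator_mem_commutator (mem_top a) (mem_top b)
  set M : Subgroup R := (frattini (commutator R)).map (commutator R).subtype with hMdef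
  have hMn : M.Normal := by rw [hMdef]; infer_instance
  have hMD : M ≤ commutator R := map_subtype_le _
  set π := QuotientGroup.mk' M with hπdef
  have hπ : Function.Surjective π := QuotientGroup.mk'_surjective M
  have hsQ := smallOmega_quotient_rigid hdiff h M
  have hQ : IsPGroup p (R ⧸ M) := hR.to_quotient M
  have hD : commutator (R ⧸ M) = (commutator R).map π := by
    rw [_root_.commutator_def, _root_.commutator_def, map_commutator, map_top_of_surjective π hπ]
  have hexp : ∀ u ∈ commutator (R ⧸ M), u ^ p = 1 := by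
    rw [hD]
    rintro _ ⟨d, hd, rfl⟩
    rw [← map_pow, hπdef, QuotientGroup.mk'_apply, QuotientGroup.eq_one_iff]
    exact ⟨(⟨d, hd⟩ : commutator R) ^ p, CfsgLib.PGroup.pow_mem_frattini (hR.to_subgroup _) _, rfl⟩
  have hcomm : ∀ u ∈ commutator (R ⧸ M), ∀ v ∈ commutator (R ⧸ M), u * v = v * u := by
    rw [hD]
    rintro _ ⟨d, hd, rfl⟩ _ ⟨e, he, rfl⟩
    rw [← commutatorElement_eq_one_iff_mul_comm, ← map_commutatorElement, hπdef,
      QuotientGroup.mk'_apply, QuotientGroup.eq_one_iff]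
    refine ⟨⁅(⟨d, hd⟩ : commutator R), ⟨e, he⟩⁆, CfsgLib.PGroup.commutator_le_frattini (hR.to_subgroup _) ?_, rfl⟩
    exact Subgroup.commutator_mem_commutator (Subgroup.mem_top _) (Subgroup.mem_top _)
  have hDe : IsElementaryAbelian p (commutator (R ⧸ M)) :=
    CfsgLib.PGroup.isElementaryAbelian_mk hcomm hexp
  obtain ⟨hDc, -⟩ := CfsgLib.OddLocal.RankTwo.small_normal hQ (commutator (R ⧸ M))
    (CfsgLib.PGroup.pRankLE_iff.1 (pRankLE_of_small hsQ) _ hDe)
  have hmem : ∀ u v : R ⧸ M, ⁅u, v⁆ ∈ commutator (R ⧸ M) := fun u v => by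
    rw [_root_.commutator_def]; exact commutator_mem_commutator (mem_top u) (mem_top v)
  have hcen : ∀ v : R ⧸ M, v ^ p ∈ center (R ⧸ M) := fun v => mem_center_iff.2 fun g => by
    have hw : v⁻¹ * (g * v * g⁻¹) ∈ commutator (R ⧸ M) := by
      rw [show v⁻¹ * (g * v * g⁻¹) = ⁅v⁻¹, g⁆ by rw [commutatorElement_def]; group]
      exact hmem _ _
    set w := v⁻¹ * (g * v * g⁻¹) with hwdef
    have hu : ⁅w⁻¹, v⁻¹⁆ ∈ center (R ⧸ M) :=
      hDc (commutator_mem_commutator (inv_mem hw) (mem_top _))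
    have hup : ⁅w⁻¹, v⁻¹⁆ ^ p = 1 := hexp _ (hmem _ _)
    have key := CfsgLib.OddLocal.RankTwo.mul_pow_classThree (one_mem (center (R ⧸ M)))
      (one_mem (center (R ⧸ M))) (x := v) (w := w) (u := ⁅w⁻¹, v⁻¹⁆)
      (by rw [commutatorElement_def]; group)
      (by rw [mul_one]; exact (mem_center_iff.1 hu v).symm)
      (by rw [mul_one]; exact (mem_center_iff.1 hu w).symm) p
    obtain ⟨i, hi⟩ := CfsgLib.Transfer.dvd_choose_two (p := p) hp2
    rw [hexp w hw, hi, pow_mul, hup, one_pow, one_pow, one_pow, mul_one, mul_one, mul_one, mul_one,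
      hwdef, mul_inv_cancel_left, conj_pow] at key
    exact mul_inv_eq_iff_eq_mul.1 key
  have hDle : commutator (R ⧸ M) ≤ center (R ⧸ M) := by
    rw [hD]
    rintro _ ⟨d, hd, rfl⟩
    obtain ⟨z, rfl⟩ := exists_pow_eq_of_mem_frattini hp2 hdiff hR h hcy d
      (CfsgLib.PGroup.commutator_le_frattini hR hd)
    rw [map_pow]
    exact hcen _
  have hgen : closure {π a, π b} = ⊤ := by
    rw [← Set.image_pair, ← MonoidHom.map_closure, hab, map_top_of_surjective π hπ]
  have hZn : (zpowers ⁅π a, π b⁆).Normal := ⟨fun z hz g => by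
    rwa [mem_center_iff.1 (zpowers_le.2 (hDle (hmem _ _)) hz) g, mul_inv_cancel_right]⟩
  have hle := CfsgLib.OddLocal.RankTwo.commutator_le_of_generators hgen (mem_zpowers ⁅π a, π b⁆)
  set c : commutator R := ⟨⁅a, b⁆, hc0⟩ with hc
  have htop : zpowers c ⊔ frattini (commutator R) = ⊤ := by
    refine eq_top_iff.2 fun d _ => ?_
    obtain ⟨i, hi⟩ := mem_zpowers_iff.1 (hle (hD.ge ⟨d, d.2, rfl⟩))
    rw [← map_commutatorElement, ← map_zpow, hπdef, QuotientGroup.mk'_apply, QuotientGroup.mk'_apply,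
      QuotientGroup.eq] at hi
    obtain ⟨m, hm, hme⟩ := hi
    have : d = c ^ i * m := Subtype.ext (by
      show (d : R) = ((c ^ i * m : commutator R) : R)
      simp only [Subgroup.coe_mul, Subgroup.coe_zpow, hc]
      rw [show (m : R) = (⁅a, b⁆ ^ i)⁻¹ * d from hme, mul_inv_cancel_left])
    rw [this]
    exact mul_mem (mem_sup_left (zpow_mem (mem_zpowers c) i)) (mem_sup_right hm)
  have hz : zpowers c = ⊤ := frattini_nongenerating htop
  refine le_antisymm (zpowers_le.2 hc0) fun d hd => ?_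
  obtain ⟨i, hi⟩ := mem_zpowers_iff.1 (hz.ge (mem_top (⟨d, hd⟩ : commutator R)))
  exact mem_zpowers_iff.2 ⟨i, by simpa [hc] using congrArg Subtype.val hi⟩

/-- Huppert's criterion. -/
theorem isMetacyclic_rigid (hp2 : p ≠ 2) (hdiff : PowRigid p R) (hR : IsPGroup p R) (h : SmallOmega p R) :
    IsMetacyclic R := by
  classical
  by_cases hcy : IsCyclic R
  · refine ⟨⊤, inferInstance, ?_, ?_⟩
    · exact isCyclic_of_surjective Subgroup.topEquiv.symm Subgroup.topEquiv.symm.surjective
    · exact isCyclic_of_surjective (QuotientGroup.mk' (⊤ : Subgroup R)) (QuotientGroup.mk'_surjective _)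
  set Φ := frattini R with hΦ
  have hqe : ∀ u : R ⧸ Φ, u ^ p = 1 := fun u => by
    obtain ⟨x, rfl⟩ := QuotientGroup.mk_surjective u
    rw [← QuotientGroup.mk_pow, QuotientGroup.eq_one_iff]
    exact CfsgLib.PGroup.pow_mem_frattini hR x
  have hq2 : Nat.card (R ⧸ Φ) ≤ p ^ 2 := smallOmega_pow_eq_one (smallOmega_quotient_rigid hdiff h Φ) hqe
  have hpair : ∀ {w : R}, w ∉ Φ → ∃ v : R, closure {w, v} = ⊤ := by
    intro w hw
    have hgen : ∀ {S : Subgroup R}, S ⊔ Φ = ⊤ → S = ⊤ := fun hS => frattini_nongenerating hS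
    have hW : (zpowers w ⊔ Φ) ≠ ⊤ := fun e => hcy (isCyclic_iff_exists_zpowers_eq_top.2 ⟨w, hgen e⟩)
    obtain ⟨v, hv⟩ : ∃ v, v ∉ zpowers w ⊔ Φ := by
      by_contra hcon
      push Not at hcon
      exact hW (eq_top_iff.2 fun x _ => hcon x)
    refine ⟨v, hgen ?_⟩
    set V := closure {w, v} ⊔ Φ
    have hwV : zpowers w ⊔ Φ < V := by
      refine lt_of_le_of_ne (sup_le (zpowers_le.2 (mem_sup_left (subset_closure (Or.inl rfl)))) le_sup_right)
        fun e => hv (e.ge (mem_sup_left (subset_closure (Or.inr rfl))))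
    have hΦW : Φ < zpowers w ⊔ Φ :=
      lt_of_le_of_ne le_sup_right fun e => hw (e.ge (mem_sup_left (mem_zpowers w)))
    have h1 := CfsgLib.OddLocal.RankTwo.index_mul_le hR hΦW
    have h2 := CfsgLib.OddLocal.RankTwo.index_mul_le hR hwV
    have h3 : p * (p * V.index) ≤ p ^ 2 :=
      le_trans (Nat.mul_le_mul_left p h2) (h1.trans (Φ.index_eq_card ▸ hq2))
    have h4 : V.index ≤ 1 := by
      rw [pow_two, ← mul_assoc] at h3
      exact Nat.le_of_mul_le_mul_left (by rwa [mul_one]) (Nat.mul_pos hp.out.pos hp.out.pos)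
    exact index_eq_one.1 (le_antisymm h4 (Nat.one_le_iff_ne_zero.2 V.index_ne_zero_of_finite))
  have hΦtop : Φ ≠ ⊤ := fun e => hcy (by
    have : (⊥ : Subgroup R) = ⊤ := frattini_nongenerating (by rw [← hΦ, e, bot_sup_eq])
    have := Subgroup.subsingleton_iff.1 (subsingleton_of_bot_eq_top this)
    infer_instance)
  obtain ⟨g, hg⟩ : ∃ g, g ∉ Φ := by
    by_contra hcon
    push Not at hcon
    exact hΦtop (eq_top_iff.2 fun x _ => hcon x)
  obtain ⟨g', hgg'⟩ := hpair hg
  have hD := commutator_cyclic hp2 hdiff hR h hcy hgg'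
  have hpow := exists_pow_eq_of_mem_frattini hp2 hdiff hR h hcy
  set c := ⁅g, g'⁆
  obtain ⟨w, hwmem, hwmax⟩ := Finset.exists_max_image
    (Set.toFinite {x : R | c ∈ zpowers x}).toFinset orderOf ⟨c, by simp⟩
  rw [Set.Finite.mem_toFinset, Set.mem_ofPred_eq] at hwmem
  have hw1 : w ≠ 1 := by
    intro e
    subst e
    have hc1 : c = 1 := by simpa using hwmem
    have := hwmax g (by simp [hc1])
    rw [orderOf_one] at this
    exact hg (by
      rw [orderOf_eq_one_iff.1 (le_antisymm this (orderOf_pos g))]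
      exact one_mem _)
  have hw : w ∉ Φ := by
    intro hwΦ
    obtain ⟨x, rfl⟩ := hpow w hwΦ
    have hle := hwmax x (by
      rw [Set.Finite.mem_toFinset, Set.mem_ofPred_eq]
      exact zpowers_le.2 (pow_mem (mem_zpowers x) p) hwmem)
    obtain ⟨i, hi⟩ := IsPGroup.iff_orderOf.1 hR x
    rw [orderOf_pow' x hp.out.ne_zero, hi] at hle
    cases i with
    | zero =>
      rw [pow_zero, orderOf_eq_one_iff] at hi
      exact hw1 (by rw [hi, one_pow])
    | succ i =>
      rw [Nat.gcd_eq_right (dvd_pow_self p i.succ_ne_zero), pow_succ,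
        Nat.mul_div_cancel _ hp.out.pos] at hle
      have := hp.out.one_lt
      have := Nat.lt_mul_iff_one_lt_right (pow_pos hp.out.pos i) |>.2 this
      omega
  obtain ⟨v, hv⟩ := hpair hw
  have hN : commutator R ≤ zpowers w := hD.ge.trans (zpowers_le.2 hwmem)
  have hNn : (zpowers w).Normal := Subgroup.Normal.of_commutator_le _ hN
  refine ⟨zpowers w, hNn, inferInstance, isCyclic_iff_exists_zpowers_eq_top.2 ⟨(v : R ⧸ zpowers w), ?_⟩⟩
  rw [← map_top_of_surjective _ (QuotientGroup.mk'_surjective (zpowers w)), ← hv, MonoidHom.map_closure,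
    Set.image_pair, QuotientGroup.mk'_apply, QuotientGroup.mk'_apply,
    (QuotientGroup.eq_one_iff w).2 (mem_zpowers w), closure_insert_one]
  exact zpowers_eq_closure _

theorem isMetacyclic (hp5 : 5 ≤ p) (hR : IsPGroup p R) (h : SmallOmega p R) : IsMetacyclic R :=
  isMetacyclic_rigid (by omega) (powRigid_of_five_le hp5 hR h) hR h

end CfsgLib.PGroup.HuppertMetacyclic
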