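import Mathlib.Algebra.Group.Subgroup.Lattice
import Mathlib.Algebra.BigOperators.Intervals
import Mathlib.Algebra.BigOperators.Pi
import Mathlib.Data.ZMod.Basic
import Mathlib.Algebra.Field.ZMod
import Mathlib.Data.List.Perm.Subperm
import Mathlib.Algebra.BigOperators.Group.List.Basic
import Mathlib.Tactic.LinearCombination
import Mathlib.Tactic.Abel
import Mathlib.Tactic.Ring
import Mathlib.Algebra.BigOperators.Ring.Finset

/-!
Kreknin's theorem and Higman's lemma for Lie rings graded by `ZMod p` with zero component `0`.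
A graded subgroup is given as the family of its components.
-/

namespace CfsgLib.PGroup.Kreknin

/-- A Lie bracket: biadditive, skew and Jacobi. -/
structure Bracket (M : Type*) [AddCommGroup M] where
  B : M →+ M →+ M
  skew : ∀ x y, B x y = - B y x
  jac : ∀ x y z, B (B x y) z + B (B y z) x + B (B z x) y = 0

variable {M : Type*} [AddCommGroup M] {p : ℕ} (β : Bracket M)

theorem Bracket.right (x y z : M) : β.B x (β.B y z) = β.B (β.B x y) z - β.B (β.B x z) y := by
  have h1 := β.jac x y z
  have h2 : β.B (β.B z x) y = - β.B (β.B x z) y := by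
    rw [β.skew z x, map_neg, AddMonoidHom.neg_apply]
  rw [h2] at h1
  rw [β.skew x (β.B y z)]
  apply eq_of_sub_eq_zero
  rw [← neg_eq_zero, ← h1]
  abel

/-- Families of subgroups, one for each degree. -/
abbrev Fam (M : Type*) [AddCommGroup M] (p : ℕ) := ZMod p → AddSubgroup M

/-- Bracket of families. -/
def br (X Y : Fam M p) : Fam M p := fun k =>
  AddSubgroup.closure {m | ∃ i j, i + j = k ∧ ∃ a ∈ X i, ∃ c ∈ Y j, β.B a c = m}

theorem mem_br {X Y : Fam M p} {i j : ZMod p} {a c : M} (ha : a ∈ X i) (hc : c ∈ Y j) :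
    β.B a c ∈ br β X Y (i + j) :=
  AddSubgroup.subset_closure ⟨i, j, rfl, a, ha, c, hc, rfl⟩

theorem br_le {X Y Z : Fam M p} (h : ∀ i j, ∀ a ∈ X i, ∀ c ∈ Y j, β.B a c ∈ Z (i + j)) : br β X Y ≤ Z := by
  intro k
  refine (AddSubgroup.closure_le _).2 ?_
  rintro _ ⟨i, j, rfl, a, ha, c, hc, rfl⟩
  exact h i j a ha c hc

theorem br_mono {X X' Y Y' : Fam M p} (hX : X ≤ X') (hY : Y ≤ Y') : br β X Y ≤ br β X' Y' :=
  br_le β fun i j _ ha _ hc => mem_br β (hX i ha) (hY j hc)

theorem br_comm_le {X Y Z : Fam M p} (h : br β X Y ≤ Z) : br β Y X ≤ Z :=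
  br_le β fun i j a ha c hc => by
    rw [β.skew, add_comm]
    exact neg_mem (h _ (mem_br β hc ha))

theorem br_br_le {X Y Z W : Fam M p} (h1 : br β (br β X Z) Y ≤ W) (h2 : br β X (br β Y Z) ≤ W) :
    br β (br β X Y) Z ≤ W := by
  refine br_le β fun i j a ha c hc => ?_
  refine AddSubgroup.closure_induction (p := fun a _ => β.B a c ∈ W (i + j)) ?_ ?_ ?_ ?_ ha
  · rintro _ ⟨i1, i2, rfl, x, hx, y, hy, rfl⟩
    rw [show β.B (β.B x y) c = β.B x (β.B y c) + β.B (β.B x c) y from by rw [β.right x y c]; abel]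
    refine add_mem ?_ ?_
    · have := h2 _ (mem_br β hx (mem_br β hy hc)); rwa [← add_assoc] at this
    · have := h1 _ (mem_br β (mem_br β hx hc) hy); rwa [add_right_comm] at this
  · rw [map_zero]; exact zero_mem _
  · intro u v _ _ hu hv; rw [map_add, AddMonoidHom.add_apply]; exact add_mem hu hv
  · intro u _ hu; rw [map_neg, AddMonoidHom.neg_apply]; exact neg_mem hu

/-- Derived series. -/
def der (S : Fam M p) : ℕ → Fam M p
  | 0 => S
  | n + 1 => br β (der S n) (der S n)

theorem der_add (S : Fam M p) (m : ℕ) : ∀ n, der β (der β S m) n = der β S (m + n)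
  | 0 => rfl
  | n + 1 => by rw [der, der_add S m n]; rfl

theorem der_closed {S : Fam M p} (h : br β S S ≤ S) :
    ∀ n, br β (der β S n) (der β S n) ≤ der β S n
  | 0 => h
  | n + 1 => br_mono β (der_closed h n) (der_closed h n)

theorem der_le {S : Fam M p} (h : br β S S ≤ S) : ∀ n, der β S n ≤ S
  | 0 => le_rfl
  | n + 1 => (der_closed β h n).trans (der_le h n)

/-- Left-normed words in homogeneous elements of `S` of degree above `k`. -/
inductive Word (S : Fam M p) (k : ℕ) : ZMod p → M → Prop
  | leaf {a : ZMod p} {x : M} : k < a.val → x ∈ S a → Word S k a x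
  | step {a s : ZMod p} {y z : M} : Word S k a y → k < s.val → z ∈ S s → Word S k (a + s) (β.B y z)

/-- The subalgebra generated in degrees above `k`. -/
def gen (S : Fam M p) (k : ℕ) : Fam M p := fun a => AddSubgroup.closure {x | Word β S k a x}

theorem word_br {S : Fam M p} {k : ℕ} {b : ZMod p} {y : M} (hy : Word β S k b y) :
    ∀ {a : ZMod p} {x : M}, Word β S k a x → β.B x y ∈ gen β S k (a + b) := by
  induction hy with
  | leaf hb hy => exact fun hx => AddSubgroup.subset_closure (Word.step hx hb hy)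
  | @step c s w z hw hs hz ih =>
    intro a x hx
    rw [β.right]
    refine sub_mem ?_ ?_
    · refine AddSubgroup.closure_induction (p := fun u _ => β.B u z ∈ gen β S k (a + (c + s))) ?_ ?_ ?_ ?_ (ih hx)
      · intro u hu
        have := Word.step (β := β) hu hs hz
        rw [add_assoc] at this
        exact AddSubgroup.subset_closure this
      · rw [map_zero]; exact zero_mem _
      · intro u v _ _ hu hv; rw [map_add, AddMonoidHom.add_apply]; exact add_mem hu hv
      · intro u _ hu; rw [map_neg, AddMonoidHom.neg_apply]; exact neg_mem hu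
    · have := ih (Word.step (β := β) hx hs hz)
      rwa [add_assoc, add_comm s] at this

theorem gen_closed (S : Fam M p) (k : ℕ) : br β (gen β S k) (gen β S k) ≤ gen β S k := by
  refine br_le β fun i j a ha c hc => ?_
  refine AddSubgroup.closure_induction (p := fun a _ => β.B a c ∈ gen β S k (i + j)) ?_ ?_ ?_ ?_ ha
  · intro x hx
    refine AddSubgroup.closure_induction (p := fun c _ => β.B x c ∈ gen β S k (i + j)) ?_ ?_ ?_ ?_ hc
    · exact fun y hy => word_br β hy hx
    · rw [map_zero]; exact zero_mem _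
    · intro u v _ _ hu hv; rw [map_add]; exact add_mem hu hv
    · intro u _ hu; rw [map_neg]; exact neg_mem hu
  · rw [map_zero]; exact zero_mem _
  · intro u v _ _ hu hv; rw [map_add, AddMonoidHom.add_apply]; exact add_mem hu hv
  · intro u _ hu; rw [map_neg, AddMonoidHom.neg_apply]; exact neg_mem hu

theorem gen_le {S : Fam M p} {k : ℕ} {Z : Fam M p} (hZ : br β Z Z ≤ Z)
    (h : ∀ a, k < a.val → S a ≤ Z a) : gen β S k ≤ Z := by
  intro a
  refine (AddSubgroup.closure_le _).2 fun x hx => ?_
  induction hx with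
  | leaf ha hx => exact h _ ha hx
  | step _ hs hz ih => exact hZ _ (mem_br β ih (h _ hs hz))

theorem three_cases : ∀ i j k : ZMod 3,
    i = 0 ∨ j = 0 ∨ k = 0 ∨ i + j = 0 ∨ i + j + k = 0 ∨ (j + k = 0 ∧ k + i = 0) := by decide

theorem three_cases' : ∀ i j k : ZMod 3,
    i = 0 ∨ j = 0 ∨ k = 0 ∨ i + j = 0 ∨ k + (i + j) = 0 ∨ (k + i = 0 ∧ k + j = 0) := by decide

theorem two_cases : ∀ i j : ZMod 2, i = 0 ∨ j = 0 ∨ i + j = 0 := by decide

variable [hp : Fact p.Prime]

theorem wrap_val {k : ℕ} {s : ZMod p} (hk : k + 1 < s.val) :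
    k + 1 < (((k + 1 : ℕ) : ZMod p) - s).val := by
  have hs := ZMod.val_lt s
  have e : ((k + 1 : ℕ) : ZMod p) - s = ((k + 1 + (p - s.val) : ℕ) : ZMod p) := by
    rw [Nat.cast_add (k + 1) (p - s.val), Nat.cast_sub hs.le, ZMod.natCast_self, ZMod.natCast_zmod_val]
    ring
  rw [e, ZMod.val_natCast, Nat.mod_eq_of_lt (by omega)]
  omega

theorem word_complement {S : Fam M p} (h0 : S 0 = ⊥) (hS : br β S S ≤ S) {k : ℕ} {a : ZMod p} {y : M}
    (hy : Word β S k a y) :
    y ∈ S a ∧ ∀ {c : ZMod p} {b : M}, b ∈ S c → c + a = ((k + 1 : ℕ) : ZMod p) →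
      β.B b y ∈ gen β S (k + 1) ((k + 1 : ℕ) : ZMod p) := by
  have key : ∀ {c s : ZMod p} {b z : M}, b ∈ S c → z ∈ S s → k < s.val → c + s = ((k + 1 : ℕ) : ZMod p) →
      β.B b z ∈ gen β S (k + 1) ((k + 1 : ℕ) : ZMod p) := by
    intro c s b z hb hz hs hcs
    rcases Nat.lt_or_ge (k + 1) s.val with hlt | hge
    · have hc : c = ((k + 1 : ℕ) : ZMod p) - s := eq_sub_of_add_eq hcs
      have := Word.step (β := β) (Word.leaf (β := β) (hc ▸ wrap_val hlt) hb) hlt hz
      rw [hcs] at this
      exact AddSubgroup.subset_closure this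
    · have hse : s = ((k + 1 : ℕ) : ZMod p) := by
        rw [← ZMod.natCast_zmod_val s]; congr 1; omega
      have hc : c = 0 := by rw [hse] at hcs; exact (add_eq_right).1 hcs
      rw [hc, h0, AddSubgroup.mem_bot] at hb
      rw [hb, map_zero, AddMonoidHom.zero_apply]
      exact zero_mem _
  induction hy with
  | leaf ha hy => exact ⟨hy, fun hb hc => key hb hy ha hc⟩
  | @step d s w z hw hs hz ih =>
    refine ⟨hS _ (mem_br β ih.1 hz), fun {c b} hb hc => ?_⟩
    rw [β.right]
    refine sub_mem (key (hS _ (mem_br β hb ih.1)) hz hs (by rw [← hc, add_assoc])) ?_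
    exact ih.2 (hS _ (mem_br β hb hz)) (by rw [← hc, add_assoc, add_comm d])

theorem kreknin_aux : ∀ k, ∀ S : Fam M p, S 0 = ⊥ → br β S S ≤ S → der β S (2 ^ k - 1) ≤ gen β S k := by
  intro k
  induction k with
  | zero =>
    intro S h0 _ a x hx
    change x ∈ S a at hx
    by_cases ha : a = 0
    · rw [ha, h0, AddSubgroup.mem_bot] at hx
      rw [hx]; exact zero_mem _
    · exact AddSubgroup.subset_closure (Word.leaf (Nat.pos_of_ne_zero fun h => ha ((ZMod.val_eq_zero a).1 h)) hx)
  | succ k ih =>
    intro S h0 hS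
    set f := 2 ^ k - 1 with hf
    have hfk : 2 ^ (k + 1) - 1 = f + 1 + f := by
      have := Nat.one_le_two_pow (n := k); rw [pow_succ]; omega
    have hle : der β S (f + 1) ≤ S := der_le β hS _
    have hU0 : der β S (f + 1) 0 = ⊥ := le_bot_iff.1 (h0 ▸ hle 0)
    rw [hfk, ← der_add β S (f + 1) f]
    refine (ih _ hU0 (der_closed β hS _)).trans (gen_le β (gen_closed β S (k + 1)) fun a ha => ?_)
    rcases Nat.lt_or_ge (k + 1) a.val with hlt | hge
    · exact fun x hx => AddSubgroup.subset_closure (Word.leaf hlt (hle a hx))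
    have hae : a = ((k + 1 : ℕ) : ZMod p) := by rw [← ZMod.natCast_zmod_val a]; congr 1; omega
    refine (AddSubgroup.closure_le _).2 ?_
    rintro _ ⟨i, j, hij, d, hd, d', hd', rfl⟩
    refine AddSubgroup.closure_induction (p := fun u _ => β.B d u ∈ gen β S (k + 1) a) ?_ ?_ ?_ ?_ (ih S h0 hS j hd')
    · intro u hu
      rw [hae]
      exact (word_complement β h0 hS hu).2 (der_le β hS f i hd) (hij.trans hae)
    · rw [map_zero]; exact zero_mem _
    · intro u v _ _ hu hv; rw [map_add]; exact add_mem hu hv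
    · intro u _ hu; rw [map_neg]; exact neg_mem hu

/-- Kreknin. -/
theorem kreknin {S : Fam M p} (h0 : S 0 = ⊥) (hS : br β S S ≤ S) : der β S (2 ^ (p - 1) - 1) = ⊥ := by
  refine le_bot_iff.1 ((kreknin_aux β (p - 1) S h0 hS).trans fun a => (AddSubgroup.closure_le _).2 fun x hx => ?_)
  induction hx with
  | @leaf b y hb hy => exact absurd (ZMod.val_lt b) (by omega)
  | @step b s y z _ hs _ _ => exact absurd (ZMod.val_lt s) (by omega)

/-- Lower central series. -/
def lcs (S : Fam M p) : ℕ → Fam M p
  | 0 => S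
  | n + 1 => br β (lcs S n) S

omit hp in
theorem lcs_le {S : Fam M p} (hS : br β S S ≤ S) : ∀ n, lcs β S n ≤ S
  | 0 => le_rfl
  | n + 1 => (br_mono β (lcs_le hS n) le_rfl).trans hS

omit hp in
theorem lcs_ideal {S E : Fam M p} (hES : br β E S ≤ E) : ∀ n, br β (lcs β E n) S ≤ lcs β E n
  | 0 => hES
  | n + 1 => br_br_le β (br_mono β (lcs_ideal hES n) le_rfl) (br_mono β le_rfl hES)

/-- Iterated right bracket. -/
def ev (x : M) : List (ZMod p × M) → M
  | [] => x
  | s :: l => ev (β.B x s.2) l

omit hp in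
theorem ev_sub (l : List (ZMod p × M)) : ∀ x y : M, ev β (x - y) l = ev β x l - ev β y l := by
  induction l with
  | nil => intro x y; rfl
  | cons s l ih => intro x y; simp only [ev, map_sub, AddMonoidHom.sub_apply, ih]

omit hp in
theorem ev_zero (l : List (ZMod p × M)) : ev β 0 l = 0 := by
  induction l with
  | nil => rfl
  | cons s l ih => simp only [ev, map_zero, AddMonoidHom.zero_apply, ih]

omit hp in
theorem ev_append (l₁ : List (ZMod p × M)) : ∀ (x : M) (l₂ : List (ZMod p × M)),
    ev β x (l₁ ++ l₂) = ev β (ev β x l₁) l₂ := by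
  induction l₁ with
  | nil => intro x l₂; rfl
  | cons s l ih => intro x l₂; exact ih _ _

theorem ev_mem {S J : Fam M p} (hJ : br β J S ≤ J) : ∀ (l : List (ZMod p × M)), (∀ s ∈ l, s.2 ∈ S s.1) →
    ∀ {a : ZMod p} {x : M}, x ∈ J a → ev β x l ∈ J (a + (l.map Prod.fst).sum) := by
  intro l
  induction l with
  | nil => intro _ a x hx; simpa [ev] using hx
  | cons s l ih =>
    intro hl a x hx
    rw [ev, List.map_cons, List.sum_cons, ← add_assoc]
    exact ih (fun t ht => hl t (List.mem_cons_of_mem _ ht)) (hJ _ (mem_br β hx (hl s List.mem_cons_self)))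

theorem exists_sublist_sum : ∀ (l : List (ZMod p)), (∀ d ∈ l, d ≠ 0) →
    ∃ R : Finset (ZMod p), min (l.length + 1) p ≤ R.card ∧ ∀ r ∈ R, ∃ u : List (ZMod p), List.Sublist u l ∧ u.sum = r := by
  intro l
  induction l with
  | nil => intro _; exact ⟨{0}, by simp, fun r hr => ⟨[], List.Sublist.refl _, by simp_all⟩⟩
  | cons d l ih =>
    intro h
    classical
    obtain ⟨R, hR, hRl⟩ := ih fun e he => h e (List.mem_cons_of_mem _ he)
    refine ⟨R ∪ R.image (fun r => d + r), ?_, fun r hr => ?_⟩
    · rw [List.length_cons]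
      by_cases hsub : R.image (fun r => d + r) ⊆ R
      · have hne : R.Nonempty := Finset.card_pos.1 (by have := hp.out.pos; omega)
        obtain ⟨r₀, hr₀⟩ := hne
        have hall : ∀ n : ℕ, (n : ZMod p) * d + r₀ ∈ R := by
          intro n
          induction n with
          | zero => simpa using hr₀
          | succ n ihn =>
            have := hsub (Finset.mem_image_of_mem (fun r => d + r) ihn)
            convert this using 1
            push_cast; ring
        have huniv : R = Finset.univ := Finset.eq_univ_of_forall fun r => by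
          have := hall ((r - r₀) / d).val
          rwa [ZMod.natCast_zmod_val, div_mul_cancel₀ _ (h d List.mem_cons_self), sub_add_cancel] at this
        rw [Finset.union_eq_left.2 hsub, huniv, Finset.card_univ, ZMod.card]
        omega
      · have : R ⊂ R ∪ R.image (fun r => d + r) :=
          Finset.ssubset_iff_subset_ne.2 ⟨Finset.subset_union_left, fun e => hsub (Finset.subset_union_right.trans_eq e.symm)⟩
        have := Finset.card_lt_card this
        omega
    · rcases Finset.mem_union.1 hr with hr | hr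
      · obtain ⟨u, hu, hus⟩ := hRl r hr
        exact ⟨u, hu.cons _, hus⟩
      · obtain ⟨r', hr', rfl⟩ := Finset.mem_image.1 hr
        obtain ⟨u, hu, hus⟩ := hRl r' hr'
        exact ⟨d :: u, hu.cons_cons _, by rw [List.sum_cons, hus]⟩

theorem ev_perm {S J J' : Fam M p} (hJ : br β J S ≤ J) (hJ' : br β J' S ≤ J') (hJE : br β J (br β S S) ≤ J')
    {l l' : List (ZMod p × M)} (hll : l.Perm l') : (∀ s ∈ l, s.2 ∈ S s.1) →
    ∀ {a : ZMod p} {x : M}, x ∈ J a → ev β x l - ev β x l' ∈ J' (a + (l.map Prod.fst).sum) := by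
  induction hll with
  | nil => intro _ a x _; simp [ev]
  | @cons s l₁ l₂ _ ih =>
    intro hl a x hx
    rw [ev, ev, List.map_cons, List.sum_cons, ← add_assoc]
    exact ih (fun t ht => hl t (List.mem_cons_of_mem _ ht)) (hJ _ (mem_br β hx (hl s List.mem_cons_self)))
  | swap s t l₁ =>
    intro hl a x hx
    simp only [ev, List.map_cons, List.sum_cons]
    have e : β.B (β.B x t.2) s.2 - β.B (β.B x s.2) t.2 = β.B x (β.B t.2 s.2) := (β.right x t.2 s.2).symm
    rw [← ev_sub, e, ← add_assoc t.1 s.1, ← add_assoc a]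
    exact ev_mem β hJ' l₁ (fun u hu => hl u (List.mem_cons_of_mem _ (List.mem_cons_of_mem _ hu)))
      (hJE _ (mem_br β hx (mem_br β (hl t List.mem_cons_self) (hl s (List.mem_cons_of_mem _ List.mem_cons_self)))))
  | @trans l₁ l₂ l₃ h12 _ ih₁ ih₂ =>
    intro hl a x hx
    have h2 := ih₂ (fun s hs => hl s (h12.mem_iff.2 hs)) hx
    rw [← (h12.map Prod.fst).sum_eq] at h2
    have := add_mem (ih₁ hl hx) h2
    rwa [sub_add_sub_cancel] at this

theorem block {S J J' : Fam M p} (h0 : S 0 = ⊥) (hJS : J ≤ S) (hJ : br β J S ≤ J) (hJ' : br β J' S ≤ J')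
    (hJE : br β J (br β S S) ≤ J') (l : List (ZMod p × M)) (hlen : l.length = p - 1) (hl : ∀ s ∈ l, s.2 ∈ S s.1)
    {a : ZMod p} {x : M} (hx : x ∈ J a) : ev β x l ∈ J' (a + (l.map Prod.fst).sum) := by
  classical
  by_cases hz : ∃ s ∈ l, s.1 = 0
  · obtain ⟨s, hs, hs0⟩ := hz
    obtain ⟨l₁, l₂, rfl⟩ := List.append_of_mem hs
    have : s.2 = 0 := by have := hl s hs; rwa [hs0, h0, AddSubgroup.mem_bot] at this
    rw [ev_append, ev, this, map_zero, ev_zero]
    exact zero_mem _
  push Not at hz
  obtain ⟨R, hR, hRl⟩ := exists_sublist_sum (l.map Prod.fst) (by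
    intro d hd
    obtain ⟨s, hs, rfl⟩ := List.mem_map.1 hd
    exact hz s hs)
  have huniv : R = Finset.univ := by
    refine Finset.eq_univ_of_card R (le_antisymm (Finset.card_le_univ R) ?_)
    rw [ZMod.card]
    rw [List.length_map, hlen] at hR
    have := hp.out.pos
    omega
  obtain ⟨u, hu, hus⟩ := hRl (-a) (huniv ▸ Finset.mem_univ _)
  obtain ⟨u', hu', rfl⟩ := List.sublist_map_iff.1 hu
  obtain ⟨w, hw⟩ := hu'.exists_perm_append
  have hd := ev_perm β hJ hJ' hJE hw hl hx
  have hzero : ev β x (u' ++ w) = 0 := by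
    have hm := hJS _ (ev_mem β hJ u' (fun s hs => hl s (hu'.mem hs)) hx)
    rw [hus, add_neg_cancel, h0, AddSubgroup.mem_bot] at hm
    rw [ev_append, hm, ev_zero]
  rwa [hzero, sub_zero] at hd

/-- Higman's bound. -/
def bound (p n : ℕ) : ℕ := ∑ i ∈ Finset.range n, (p - 1) ^ i

theorem lcs_eq_bot_of_der : ∀ (n : ℕ) (S : Fam M p), S 0 = ⊥ → br β S S ≤ S → der β S n = ⊥ →
    lcs β S (bound p n) = ⊥ := by
  intro n
  induction n with
  | zero => intro S _ _ h; exact h
  | succ n ih =>
    intro S h0 hS hn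
    set E := br β S S with hE
    have hES : br β E S ≤ E := br_mono β hS le_rfl
    have hEn : der β E n = ⊥ := by
      have e : E = der β S 1 := rfl
      rw [e, der_add, add_comm]; exact hn
    have hE0 : E 0 = ⊥ := le_bot_iff.1 (h0 ▸ hS 0)
    have hbot := ih E hE0 (br_mono β hS hS) hEn
    have hstep : ∀ i, lcs β S (1 + (p - 1) * i) ≤ lcs β E i := by
      intro i
      induction i with
      | zero => exact le_rfl
      | succ i ihi =>
        have hJS : lcs β E i ≤ S := (lcs_le β (br_mono β hS hS) i).trans hS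
        have hmain : ∀ m, ∀ k, ∀ y ∈ lcs β S (1 + (p - 1) * i + m) k, ∀ l : List (ZMod p × M),
            l.length + m = p - 1 → (∀ s ∈ l, s.2 ∈ S s.1) →
            ev β y l ∈ lcs β E (i + 1) (k + (l.map Prod.fst).sum) := by
          intro m
          induction m with
          | zero =>
            intro k y hy l hlen hl
            exact block β h0 hJS (lcs_ideal β hES i) (lcs_ideal β hES (i + 1)) le_rfl l hlen hl (ihi k hy)
          | succ m ihm =>
            intro k y hy l hlen hl
            refine AddSubgroup.closure_induction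
              (p := fun y _ => ev β y l ∈ lcs β E (i + 1) (k + (l.map Prod.fst).sum)) ?_ ?_ ?_ ?_ hy
            · rintro _ ⟨i1, j1, rfl, a, ha, c, hc, rfl⟩
              have := ihm i1 a ha ((j1, c) :: l) (by simp only [List.length_cons]; omega) (by
                intro s hs
                rcases List.mem_cons.1 hs with rfl | hs
                · exact hc
                · exact hl s hs)
              rwa [List.map_cons, List.sum_cons, ← add_assoc] at this
            · rw [ev_zero]; exact zero_mem _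
            · intro u v _ _ hu hv
              have e : ev β (u + v) l = ev β u l - ev β (-v) l := by rw [← ev_sub, sub_neg_eq_add]
              have e' : ev β (-v) l = - ev β v l := by
                have := ev_sub β l 0 v; rwa [zero_sub, ev_zero, zero_sub] at this
              rw [e, e', sub_neg_eq_add]; exact add_mem hu hv
            · intro v _ hv
              have e' : ev β (-v) l = - ev β v l := by
                have := ev_sub β l 0 v; rwa [zero_sub, ev_zero, zero_sub] at this
              rw [e']; exact neg_mem hv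
        intro k y hy
        have := hmain (p - 1) k y (by rwa [Nat.mul_succ, ← add_assoc] at hy) [] (by simp) (by simp)
        simpa [ev] using this
    have hb : bound p (n + 1) = 1 + (p - 1) * bound p n := by
      rw [bound, bound, Finset.sum_range_succ', Finset.mul_sum, pow_zero, add_comm]
      simp only [pow_succ, mul_comm]
    rw [hb]
    exact le_bot_iff.1 ((hstep _).trans (le_of_eq hbot))

/-- Class at most two for three components. -/
theorem lcs_two {S : Fam M p} (h3 : p = 3) (h0 : S 0 = ⊥) (hS : br β S S ≤ S) : lcs β S 2 = ⊥ := by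
  subst h3
  refine le_bot_iff.1 (br_br_le β ?_ ?_)
  all_goals refine br_le β fun i j a ha c hc => ?_
  · refine AddSubgroup.closure_induction (p := fun a _ => β.B a c ∈ (⊥ : Fam M 3) (i + j)) ?_ ?_ ?_ ?_ ha
    · rintro _ ⟨i1, i2, rfl, x, hx, y, hy, rfl⟩
      show β.B (β.B x y) c = 0
      have z0 : ∀ {u : M} {d : ZMod 3}, u ∈ S d → d = 0 → u = 0 := fun hu hd => by
        rw [hd, h0] at hu; exact AddSubgroup.mem_bot.1 hu
      have hxy := hS _ (mem_br β hx hy)
      have hcase := three_cases i1 i2 j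
      rcases hcase with h | h | h | h | h | ⟨h, h'⟩
      · rw [z0 hx h]; simp
      · rw [z0 hy h]; simp
      · rw [z0 hc h]; simp
      · rw [z0 hxy h]; simp
      · exact z0 (hS _ (mem_br β hxy hc)) h
      · have h1 := β.jac x y c
        rw [z0 (hS _ (mem_br β hy hc)) h, z0 (hS _ (mem_br β hc hx)) h'] at h1
        simpa using h1
    · rw [map_zero]; exact zero_mem _
    · intro u v _ _ hu hv; rw [map_add, AddMonoidHom.add_apply]; exact add_mem hu hv
    · intro u _ hu; rw [map_neg, AddMonoidHom.neg_apply]; exact neg_mem hu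
  · refine AddSubgroup.closure_induction (p := fun c _ => β.B a c ∈ (⊥ : Fam M 3) (i + j)) ?_ ?_ ?_ ?_ hc
    · rintro _ ⟨i1, i2, rfl, x, hx, y, hy, rfl⟩
      show β.B a (β.B x y) = 0
      have z0 : ∀ {u : M} {d : ZMod 3}, u ∈ S d → d = 0 → u = 0 := fun hu hd => by
        rw [hd, h0] at hu; exact AddSubgroup.mem_bot.1 hu
      have hxy := hS _ (mem_br β hx hy)
      have hcase := three_cases' i1 i2 i
      rcases hcase with h | h | h | h | h | ⟨h, h'⟩
      · rw [z0 hx h]; simp
      · rw [z0 hy h]; simp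
      · rw [z0 ha h]; simp
      · rw [z0 hxy h]; simp
      · exact z0 (hS _ (mem_br β ha hxy)) h
      · rw [β.right, z0 (hS _ (mem_br β ha hx)) h, z0 (hS _ (mem_br β ha hy)) h']
        simp
    · rw [map_zero]; exact zero_mem _
    · intro u v _ _ hu hv; rw [map_add]; exact add_mem hu hv
    · intro u _ hu; rw [map_neg]; exact neg_mem hu

/-- Abelian for two components. -/
theorem lcs_one {S : Fam M p} (h2 : p = 2) (h0 : S 0 = ⊥) (hS : br β S S ≤ S) : lcs β S 1 = ⊥ := by
  subst h2
  refine le_bot_iff.1 (br_le β fun i j a ha c hc => ?_)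
  show β.B a c = 0
  have hcase := two_cases i j
  change a ∈ S i at ha
  rcases hcase with h | h | h
  · rw [h, h0, AddSubgroup.mem_bot] at ha; rw [ha]; simp
  · rw [h, h0, AddSubgroup.mem_bot] at hc; rw [hc]; simp
  · have := hS _ (mem_br β ha hc); rwa [h, h0, AddSubgroup.mem_bot] at this

end CfsgLib.PGroup.Kreknin
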