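import Cfsg.Agent.Lib.PGroup.UniformElement
import Cfsg.Agent.Lib.Fusion.SylowTools
import Cfsg.Agent.Lib.Solvable.Basic
import Cfsg.Agent.Lib.LocalEven.SubnormalSylow
import Cfsg.Prelude.Def_CaseTheorems

/-!
Groups with a Sylow subgroup of maximal class: either a centralizer with `p`-part `p ^ 2`, or the
group is quasisimple.
-/

set_option autoImplicit false

namespace CfsgLib.PGroup.MaxClassDichotomy

open Subgroup Cfsg.Agent.S3806 CfsgLib.PGroup.UniformElement
open scoped commutatorElement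

variable {G : Type*} [Group G] [Finite G] {p n : ℕ} [hp : Fact p.Prime]

theorem factorization_eq_of {C E : Subgroup G} (hE : IsPGroup p E) (hEC : E ≤ C)
    (hcE : Nat.card E = p ^ 2)
    (h : ∀ R : Subgroup G, R ≤ C → IsPGroup p R → E ≤ R → R ≤ E) :
    (Nat.card C).factorization p = 2 := by
  obtain ⟨S, hS⟩ := (hE.comap_subtype (K := C)).exists_le_sylow
  have h1 : ((S : Subgroup C).map C.subtype) ≤ E := by
    refine h _ (map_subtype_le _) (S.2.map _) fun x hx => ?_
    exact ⟨⟨x, hEC hx⟩, hS hx, rfl⟩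
  have h2 : Nat.card (S : Subgroup C) = p ^ 2 := by
    rw [← hcE, ← Subgroup.card_map_of_injective (K := (S : Subgroup C)) C.subtype_injective]
    refine congrArg (fun K : Subgroup G => Nat.card K) (le_antisymm h1 fun x hx => ?_)
    exact ⟨⟨x, hEC hx⟩, hS hx, rfl⟩
  rw [S.card_eq_multiplicity] at h2
  exact Nat.pow_right_injective hp.out.two_le h2

theorem commute_of_prime_card {Z : Subgroup G} (hZ : Nat.card Z = p) {g : G} {k : ℕ}
    (hg : g ∈ Subgroup.normalizer (Z : Set G)) (hgk : g ^ (p ^ k) = 1) :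
    ∀ z ∈ Z, g * z = z * g := by
  intro z hz
  rcases eq_or_ne z 1 with rfl | hz1
  · simp
  have hgen : Z = zpowers z := (eq_of_le_of_card_ge (zpowers_le.2 hz) (by
    rw [hZ, Nat.card_zpowers]
    rcases (Nat.dvd_prime hp.out).1 (hZ ▸ Subgroup.orderOf_dvd_natCard _ hz) with h | h
    · exact absurd (orderOf_eq_one_iff.1 h) hz1
    · exact h.ge)).symm
  obtain ⟨a, ha : z ^ a = g * z * g⁻¹⟩ :=
    (mem_powers_iff_mem_zpowers).2 (hgen.le ((mem_normalizer_iff.1 hg z).1 hz))
  have hiter : ∀ m : ℕ, z ^ (a ^ m) = g ^ m * z * (g ^ m)⁻¹ := by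
    intro m
    induction m with
    | zero => simp
    | succ m ih =>
      calc z ^ (a ^ (m + 1)) = (z ^ a) ^ (a ^ m) := by rw [← pow_mul, ← pow_succ']
        _ = g * (z ^ (a ^ m)) * g⁻¹ := by rw [ha, conj_pow]
        _ = g ^ (m + 1) * z * (g ^ (m + 1))⁻¹ := by rw [ih, pow_succ']; group
  have hord : orderOf z = p := by rw [← Nat.card_zpowers, ← hgen, hZ]
  have h1 : z ^ (a ^ (p ^ k)) = z ^ 1 := by rw [hiter, hgk]; simp
  rw [pow_eq_pow_iff_modEq, hord] at h1
  have h2 : (a : ZMod p) ^ (p ^ k) = 1 := by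
    have := (ZMod.natCast_eq_natCast_iff _ _ _).2 h1
    simpa using this
  rw [ZMod.pow_card_pow] at h2
  have h3 : z ^ a = z ^ 1 := by
    rw [pow_eq_pow_iff_modEq, hord]
    exact (ZMod.natCast_eq_natCast_iff _ _ _).1 (by simpa using h2)
  rw [pow_one, ha] at h3
  exact mul_inv_eq_iff_eq_mul.1 h3

variable (P : Sylow p G)

/-- The terms of the lower central series of the Sylow subgroup, inside `G`. -/
def L (i : ℕ) : Subgroup G := (lc (P : Subgroup G) i).map (P : Subgroup G).subtype

theorem L_le (i : ℕ) : L P i ≤ P := map_subtype_le _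

theorem L_one : L P 1 = P := by
  rw [L, lc_one, ← MonoidHom.range_eq_map, range_subtype]

theorem L_anti {i j : ℕ} (h : i ≤ j) : L P j ≤ L P i := map_mono (lc_anti h)

theorem mem_L {i : ℕ} {x : G} (hx : x ∈ P) :
    x ∈ L P i ↔ (⟨x, hx⟩ : (P : Subgroup G)) ∈ lc (P : Subgroup G) i := by
  constructor
  · rintro ⟨y, hy, rfl⟩; exact hy
  · exact fun h => ⟨_, h, rfl⟩

theorem L_comm {i j d : ℕ} (hi : 1 ≤ i) (hj : 1 ≤ j) (hd : d ≤ i + j) {a b : G}
    (ha : a ∈ L P i) (hb : b ∈ L P j) : ⁅a, b⁆ ∈ L P d := by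
  obtain ⟨x, hx, rfl⟩ := ha
  obtain ⟨y, hy, rfl⟩ := hb
  exact ⟨⁅x, y⁆, comm_mem hi hj hd hx hy, map_commutatorElement _ _ _⟩

variable {P}

theorem card_L (h : MaxCl (P : Subgroup G) p n) {i : ℕ} (h2 : 2 ≤ i) (hi : i ≤ n) :
    Nat.card (L P i) = p ^ (n - i) := by
  rw [L, Subgroup.card_map_of_injective (P : Subgroup G).subtype_injective, h.lc_card h2 hi]

variable (P) in
/-- `⟨s⟩` times a term of the series. -/
def Xs (s : G) (i : ℕ) : Subgroup G := zpowers s ⊔ L P i

section chain

variable {s : (P : Subgroup G)} (h : MaxCl (P : Subgroup G) p n)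
  (hs : IsUnif (P : Subgroup G) n s)

include h hs

theorem Xs_eq_map (i : ℕ) :
    Xs P (s : G) i = (zpowers s ⊔ lc (P : Subgroup G) i).map (P : Subgroup G).subtype := by
  rw [Subgroup.map_sup, MonoidHom.map_zpowers]; rfl

theorem Xs_le (i : ℕ) : Xs P (s : G) i ≤ P := by
  rw [Xs_eq_map h hs]; exact map_subtype_le _

theorem notMem_L {i : ℕ} (hi : 2 ≤ i) : (s : G) ∉ L P i := fun hc =>
  hs.1 (lc_anti hi ((mem_L P s.2).1 hc))

theorem pow_mem_L {i : ℕ} (hi : i ≤ n - 1) : (s : G) ^ p ∈ L P i :=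
  L_anti P hi ⟨s ^ p, h.unif_pow_mem hs, by simp⟩

/-- A subgroup containing `γ_i` but not `s` meets `⟨s⟩γ_i` in `γ_i`. -/
theorem Xs_inf_eq {i : ℕ} (hi : i ≤ n - 1) {K : Subgroup G} (hLK : L P i ≤ K)
    (hsK : (s : G) ∉ K) : Xs P (s : G) i ⊓ K = L P i := by
  refine le_antisymm ?_ (le_inf le_sup_right hLK)
  rintro x ⟨(hx : x ∈ Xs P (s : G) i), (hxK : x ∈ K)⟩
  rw [Xs_eq_map h hs] at hx
  obtain ⟨y, hy, rfl⟩ := hx
  rcases mem_sup_of_normal_right.1 hy with ⟨w, ⟨l, rfl⟩, c, hc, rfl⟩
  have hcL : (c : G) ∈ L P i := ⟨c, hc, rfl⟩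
  have hsl : (s : G) ^ l ∈ K := by
    have := mul_mem hxK (inv_mem (hLK hcL))
    simpa using this
  have hpl : (p : ℤ) ∣ l := by
    by_contra hl
    obtain ⟨u, v, huv⟩ := ((Prime.coprime_iff_not_dvd (Nat.prime_iff_prime_int.1 hp.out)).2 hl)
    refine hsK ?_
    have e : (s : G) = ((s : G) ^ p) ^ u * ((s : G) ^ l) ^ v := by
      rw [← zpow_natCast, ← zpow_mul, ← zpow_mul, ← zpow_add, mul_comm (p : ℤ) u, mul_comm l v,
        huv, zpow_one]
    rw [e]
    exact mul_mem (zpow_mem (hLK (pow_mem_L h hs hi)) u) (zpow_mem hsl v)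
  obtain ⟨q, rfl⟩ := hpl
  show (((s ^ ((p : ℤ) * q) * c : (P : Subgroup G))) : G) ∈ L P i
  push_cast
  rw [zpow_mul, zpow_natCast]
  exact mul_mem (zpow_mem (pow_mem_L h hs hi) q) hcL

theorem card_Xs {i : ℕ} (h2 : 2 ≤ i) (hi : i ≤ n - 1) :
    Nat.card (Xs P (s : G) i) = p ^ (n - i + 1) := by
  have h4 := h.four
  have hlt : L P i < Xs P (s : G) i := lt_of_le_of_ne le_sup_right fun e =>
    notMem_L h hs h2 (e ▸ mem_sup_left (mem_zpowers _))
  refine le_antisymm ?_ ?_
  · have hsup : zpowers s ⊔ lc (P : Subgroup G) i =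
        (zpowers (QuotientGroup.mk' (lc (P : Subgroup G) i) s)).comap (QuotientGroup.mk' _) := by
      rw [← MonoidHom.map_zpowers, comap_map_eq, QuotientGroup.ker_mk']
    have hdvd : Nat.card (zpowers (QuotientGroup.mk' (lc (P : Subgroup G) i) s)) ∣ p := by
      rw [Nat.card_zpowers, orderOf_dvd_iff_pow_eq_one, ← map_pow]
      exact (QuotientGroup.eq_one_iff _).2 (lc_anti hi (h.unif_pow_mem hs))
    rw [Xs_eq_map h hs, Subgroup.card_map_of_injective (P : Subgroup G).subtype_injective, hsup]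
    have h1 := (lc (P : Subgroup G) i).card_mul_index
    have h2' := ((zpowers (QuotientGroup.mk' (lc (P : Subgroup G) i) s)).comap
      (QuotientGroup.mk' (lc (P : Subgroup G) i))).card_mul_index
    rw [index_comap_of_surjective _ (QuotientGroup.mk'_surjective _)] at h2'
    have h3 := (zpowers (QuotientGroup.mk' (lc (P : Subgroup G) i) s)).card_mul_index
    rw [← index_eq_card] at h3
    rw [← h2', ← h3, ← mul_assoc] at h1
    have h5 := Nat.eq_of_mul_eq_mul_right
      (Nat.pos_of_ne_zero Subgroup.FiniteIndex.index_ne_zero) h1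
    rw [← h5, h.lc_card h2 (by omega), pow_succ]
    exact Nat.mul_le_mul_left _ (Nat.le_of_dvd hp.out.pos hdvd)
  · obtain ⟨k, hk⟩ := (P.2.to_le (Xs_le h hs i)).exists_card_eq
    have hl := Set.ncard_lt_ncard (SetLike.coe_ssubset_coe.2 hlt) (Set.toFinite _)
    rw [← Nat.card_coe_set_eq, ← Nat.card_coe_set_eq] at hl
    change Nat.card (L P i) < Nat.card (Xs P (s : G) i) at hl
    rw [hk, card_L h h2 (by omega)] at hl
    rw [hk]
    exact Nat.pow_le_pow_right hp.out.pos ((Nat.pow_lt_pow_iff_right hp.out.one_lt).1 hl)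

theorem Xs_comm_le {i : ℕ} (hi : 1 ≤ i) : ⁅Xs P (s : G) i, Xs P (s : G) i⁆ ≤ L P (i + 1) := by
  rw [Xs_eq_map h hs, ← map_commutator]
  refine map_mono (commutator_le_of_gen le_rfl le_rfl (by rw [commutatorElement_self]; exact one_mem _)
    (commutator_le.2 fun x hx y _ => comm_mem hi le_rfl le_rfl hx
      (lc_one (X := (P : Subgroup G)) ▸ mem_top y))
    (fun y hy => comm_mem le_rfl hi (by omega) (lc_one (X := (P : Subgroup G)) ▸ mem_top s) hy))

/-- `[γ_j, ⟨s⟩γ_i] = γ_{j+1}` for `j ≥ i`. -/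
theorem L_succ_le {i : ℕ} (hi : 2 ≤ i) : ∀ j, i ≤ j → L P (j + 1) ≤ ⁅L P j, Xs P (s : G) i⁆ := by
  have h4 := h.four
  have key : ∀ m j, n ≤ j + m → i ≤ j → L P (j + 1) ≤ ⁅L P j, Xs P (s : G) i⁆ := by
    intro m
    induction m with
    | zero =>
      intro j hj _
      rw [L, h.lc_bot (by omega), Subgroup.map_bot]; exact bot_le
    | succ m ih =>
      intro j hjm hij
      by_cases hjn : n ≤ j + 1
      · rw [L, h.lc_bot hjn, Subgroup.map_bot]; exact bot_le
      obtain ⟨a, ha, ha'⟩ := SetLike.not_le_iff_exists.1 (h.lc_lt (i := j) (by omega) (by omega))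
      rintro _ ⟨c, hc, rfl⟩
      rcases mem_sup_of_normal_right.1
        (h.lc_le_zpowers_comm hs (by omega) (by omega) ha ha' hc) with ⟨w, ⟨l, rfl⟩, d, hd, rfl⟩
      rw [map_mul, map_zpow]
      refine mul_mem (zpow_mem ?_ l) (commutator_mono (L_anti P (Nat.le_succ j)) le_rfl
        (ih (j + 1) (by omega) (by omega) ⟨d, hd, rfl⟩))
      rw [map_commutatorElement, ← commutatorElement_inv, inv_mem_iff]
      exact commutator_mem_commutator ⟨a, ha, rfl⟩ (mem_sup_left (mem_zpowers _))
  exact fun j hij => key n j (by omega) hij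

theorem L_comm_Xs {i j : ℕ} (hi : 2 ≤ i) (hij : i ≤ j) :
    ⁅L P j, Xs P (s : G) i⁆ = L P (j + 1) :=
  le_antisymm (commutator_le.2 fun a ha b hb => L_comm P (by omega) le_rfl le_rfl ha
    (by rw [L_one]; exact Xs_le h hs i hb)) (L_succ_le h hs hi j hij)

theorem Xs_comm_eq {i : ℕ} (hi : 2 ≤ i) : ⁅Xs P (s : G) i, Xs P (s : G) i⁆ = L P (i + 1) :=
  le_antisymm (Xs_comm_le h hs (by omega))
    ((L_succ_le h hs hi i le_rfl).trans (commutator_mono le_sup_right le_rfl))

omit [Finite G] hp h hs in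
theorem map_conj_comm {A B C : Subgroup G} (m : G) (hA : A.map (MulAut.conj m).toMonoidHom = A)
    (hB : B.map (MulAut.conj m).toMonoidHom = B) (hC : ⁅A, B⁆ = C) :
    C.map (MulAut.conj m).toMonoidHom = C := by
  rw [← hC, map_commutator, hA, hB]

/-- The chain of normalizers. -/
theorem sylow_normalizer (N : Subgroup G) [N.Normal] (hN : L P (n - 2) ≤ N) (hsN : (s : G) ∉ N) :
    ∀ i, 1 ≤ i → i ≤ n - 1 → ∀ S : Subgroup G, IsPGroup p S →
      S ≤ Subgroup.normalizer (Xs P (s : G) i : Set G) →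
      Nat.card S ≤ Nat.card (Xs P (s : G) (i - 1)) := by
  have h4 := h.four
  have hX1 : Xs P (s : G) 1 = (P : Subgroup G) := by
    rw [Xs, L_one]; exact sup_eq_right.2 (zpowers_le.2 s.2)
  have hX0 : Xs P (s : G) 0 = (P : Subgroup G) := hX1
  intro i hi
  induction i, hi using Nat.le_induction with
  | base =>
    intro _ S hS _
    rw [hX0]
    obtain ⟨T, hT⟩ := hS.exists_le_sylow
    calc Nat.card S ≤ Nat.card (T : Subgroup G) := Subgroup.card_le_of_le hT
      _ = Nat.card (P : Subgroup G) := by rw [T.card_eq_multiplicity, P.card_eq_multiplicity]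
  | succ i hi ih =>
    intro hin S₀ hS₀ hS₀N
    rw [show i + 1 - 1 = i by omega]
    by_contra hcon
    push Not at hcon
    set X := Xs P (s : G) i with hX
    set X' := Xs P (s : G) (i + 1) with hX'
    have hXP : X ≤ P := Xs_le h hs i
    have hX'X : X' ≤ X := sup_le_sup_left (L_anti P (Nat.le_succ i)) _
    have hLn : L P (i + 1) ≤ X' := le_sup_right
    have hXn : X ≤ Subgroup.normalizer (X' : Set G) := by
      intro x hx
      refine CfsgLib.Solvable.mem_normalizer_of_conj_mem fun y hy => ?_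
      rw [← show ⁅x, y⁆ * y = x * y * x⁻¹ by rw [commutatorElement_def, inv_mul_cancel_right]]
      exact mul_mem (hLn (Xs_comm_le h hs hi (commutator_mem_commutator hx (hX'X hy)))) hy
    -- a Sylow subgroup of the normalizer containing `X`
    obtain ⟨S₁, hS₁⟩ := ((P.2.to_le hXP).comap_subtype
      (K := Subgroup.normalizer (X' : Set G))).exists_le_sylow
    set S := (S₁ : Subgroup (Subgroup.normalizer (X' : Set G))).map
      (Subgroup.normalizer (X' : Set G)).subtype with hSdef
    have hXS : X ≤ S := fun x hx => ⟨⟨x, hXn hx⟩, hS₁ hx, rfl⟩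
    have hSN : S ≤ Subgroup.normalizer (X' : Set G) := map_subtype_le _
    have hSp : IsPGroup p S := S₁.2.map _
    have hScard : Nat.card X < Nat.card S := by
      refine hcon.trans_le ?_
      obtain ⟨S₂, hS₂⟩ := (hS₀.comap_subtype
        (K := Subgroup.normalizer (X' : Set G))).exists_le_sylow
      rw [hSdef, Subgroup.card_map_of_injective
        (Subgroup.normalizer (X' : Set G)).subtype_injective, S₁.card_eq_multiplicity,
        ← S₂.card_eq_multiplicity, ← Nat.card_congr (subgroupOfEquivOfLe hS₀N).toEquiv]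
      exact Subgroup.card_le_of_le hS₂
    have hXSlt : X < S := lt_of_le_of_ne hXS fun e => hScard.ne (by rw [e])
    -- a larger subgroup also normalizing `X`
    obtain ⟨t, htS, htX, htn⟩ : ∃ t ∈ S, t ∉ X ∧ t ∈ Subgroup.normalizer (X : Set G) := by
      haveI := hSp.isNilpotent
      have h1 : X.subgroupOf S < ⊤ := lt_top_iff_ne_top.2 fun e =>
        hXSlt.not_ge (subgroupOf_eq_top.1 e)
      obtain ⟨⟨t, htS⟩, ht, ht'⟩ := SetLike.exists_of_lt
        (Group.normalizerCondition_of_isNilpotent _ h1)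
      refine ⟨t, htS, fun e => ht' e, CfsgLib.Solvable.mem_normalizer_of_conj_mem fun y hy => ?_⟩
      exact (mem_normalizer_iff.1 ht ⟨y, hXS hy⟩).1 hy
    set T := zpowers t ⊔ X with hTdef
    have hTS : T ≤ S := sup_le (zpowers_le.2 htS) hXS
    have hTN : T ≤ Subgroup.normalizer (X : Set G) := sup_le (zpowers_le.2 htn) le_normalizer
    have hTp : IsPGroup p T := hSp.to_le hTS
    have hXT : X < T := lt_of_le_of_ne le_sup_right fun e => htX (e ▸ mem_sup_left (mem_zpowers t))
    have hTc := ih (by omega) T hTp hTN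
    have hXTc : Nat.card X < Nat.card T := by
      have := Set.ncard_lt_ncard (SetLike.coe_ssubset_coe.2 hXT) (Set.toFinite _)
      rwa [← Nat.card_coe_set_eq, ← Nat.card_coe_set_eq] at this
    by_cases hi1 : i = 1
    · subst hi1
      rw [show 1 - 1 = 0 from rfl, hX0] at hTc
      rw [hX, hX1] at hXTc
      omega
    have hi2 : 2 ≤ i := by omega
    -- conjugate into the previous term
    have hXW : X ≤ Xs P (s : G) (i - 1) := sup_le_sup_left (L_anti P (by omega)) _
    set W := Xs P (s : G) (i - 1) with hW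
    have hWn : W ≤ Subgroup.normalizer (X : Set G) := by
      intro x hx
      refine CfsgLib.Solvable.mem_normalizer_of_conj_mem fun y hy => ?_
      rw [← show ⁅x, y⁆ * y = x * y * x⁻¹ by rw [commutatorElement_def, inv_mul_cancel_right]]
      have h1 := Xs_comm_le h hs (i := i - 1) (by omega)
        (commutator_mem_commutator hx (hXW hy))
      rw [show i - 1 + 1 = i by omega] at h1
      exact mul_mem (mem_sup_right h1) hy
    have hWi : ¬ p ∣ W.relIndex (Subgroup.normalizer (X : Set G)) := by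
      obtain ⟨W₁, hW₁⟩ := ((P.2.to_le (Xs_le h hs (i - 1))).comap_subtype
        (K := Subgroup.normalizer (X : Set G))).exists_le_sylow
      have hle := ih (by omega) _ (W₁.2.map (Subgroup.normalizer (X : Set G)).subtype)
        (map_subtype_le _)
      rw [Subgroup.card_map_of_injective (Subgroup.normalizer (X : Set G)).subtype_injective,
        ← Nat.card_congr (subgroupOfEquivOfLe hWn).toEquiv] at hle
      have e := eq_of_le_of_card_ge hW₁ hle
      rw [relIndex, show W.subgroupOf (Subgroup.normalizer (X : Set G)) = W₁ from e]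
      exact W₁.not_dvd_index
    obtain ⟨m, hm, hmT⟩ := CfsgLib.Fusion.exists_conj_mem_of_le hTp
      (P.2.to_le (Xs_le h hs (i - 1))) hTN hWn hWi
    have hmX : X.map (MulAut.conj m).toMonoidHom = X := mem_normalizer_iff_map_conj_eq.1 hm
    have hTW : T.map (MulAut.conj m).toMonoidHom = W := by
      refine eq_of_le_of_card_ge ?_ ?_
      · rintro _ ⟨y, hy, rfl⟩; exact hmT y hy
      · rw [Subgroup.card_map_of_injective (MulAut.conj m).injective]
        have hWc : Nat.card W ≤ p * Nat.card X := by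
          by_cases hi3 : i = 2
          · subst hi3
            rw [hW, show 2 - 1 = 1 from rfl, hX1, hX, card_Xs h hs le_rfl (by omega),
              ← pow_succ', h.card]
            exact le_of_eq (congrArg _ (by omega))
          · rw [hW, hX, card_Xs h hs (by omega) (by omega), card_Xs h hs hi2 (by omega),
              ← pow_succ']
            exact le_of_eq (congrArg _ (by omega))
        refine hWc.trans ?_
        obtain ⟨a, ha⟩ := (hTp.to_le hXT.le).exists_card_eq
        obtain ⟨b, hb⟩ := hTp.exists_card_eq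
        rw [ha, hb] at hXTc
        rw [ha, hb, ← pow_succ']
        exact Nat.pow_le_pow_right hp.out.pos ((Nat.pow_lt_pow_iff_right hp.out.one_lt).1 hXTc)
    set Y := X'.map (MulAut.conj m).toMonoidHom with hY
    have hWY : W ≤ Subgroup.normalizer (Y : Set G) := by
      rw [← hTW, hY]
      exact (map_mono (hTS.trans hSN)).trans (le_normalizer_map _)
    have hYX : Y ≤ X := hmX ▸ map_mono hX'X
    have hmL1 : (L P (i + 1)).map (MulAut.conj m).toMonoidHom = L P (i + 1) :=
      map_conj_comm m hmX hmX (Xs_comm_eq h hs hi2)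
    have hLY : L P (i + 1) ≤ Y := hmL1 ▸ map_mono hLn
    -- the conjugating element fixes `γ_i`
    have hmL : (L P i).map (MulAut.conj m).toMonoidHom = L P i := by
      refine eq_of_le_of_card_ge ?_
        (by rw [Subgroup.card_map_of_injective (MulAut.conj m).injective])
      rintro _ ⟨y, hy, rfl⟩
      have hyX : m * y * m⁻¹ ∈ X := hmX ▸ mem_map_of_mem _ (mem_sup_right hy)
      show m * y * m⁻¹ ∈ L P i
      by_cases hi3 : i + 3 ≤ n
      · have hmL2 := map_conj_comm m hmL1 hmX (L_comm_Xs h hs hi2 (Nat.le_succ i))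
        have hmL3 := map_conj_comm m hmL2 hmX (L_comm_Xs h hs hi2 (show i ≤ i + 1 + 1 by omega))
        set K := (cent (P : Subgroup G) (i + 1)).map (P : Subgroup G).subtype with hK
        have hK' : Xs P (s : G) i ⊓ K = L P i := by
          refine Xs_inf_eq h hs (by omega) (map_mono fun w hw => mem_cent.2 fun a ha =>
            comm_mem (by omega) (by omega) (by omega) hw ha) ?_
          rintro ⟨w, hw, hws⟩
          exact hs.2 (i + 1) (by omega) (by omega)
            ((P : Subgroup G).subtype_injective hws ▸ hw)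
        rw [← hK']
        refine ⟨hyX, ⟨⟨_, hXP hyX⟩, mem_cent.2 fun a ha => ?_, rfl⟩⟩
        rw [← mem_L P (SetLike.coe_mem _)]
        obtain ⟨b, hb, hbe⟩ : ∃ b ∈ L P (i + 1), m * b * m⁻¹ = (a : G) := by
          have : (a : G) ∈ (L P (i + 1)).map (MulAut.conj m).toMonoidHom :=
            hmL1.symm ▸ ⟨a, ha, rfl⟩
          exact this
        have h2 : ⁅y, b⁆ ∈ L P (i + 3) := L_comm P (by omega) (by omega) (by omega) hy hb
        have h3 : ⁅m * y * m⁻¹, (a : G)⁆ ∈ L P (i + 3) := by
          rw [← hbe, ← show (MulAut.conj m).toMonoidHom ⁅y, b⁆ = ⁅m * y * m⁻¹, m * b * m⁻¹⁆ from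
            map_commutatorElement _ _ _]
          exact hmL3.le (mem_map_of_mem _ h2)
        exact h3
      · have hiN : L P i ≤ N := (L_anti P (show n - 2 ≤ i by omega)).trans hN
        rw [← Xs_inf_eq h hs (by omega) hiN hsN]
        exact ⟨hyX, Subgroup.Normal.conj_mem inferInstance y (hiN hy) m⟩
    have hYL : ¬ Y ≤ L P i := fun hle => by
      have h1 : (MulAut.conj m).toMonoidHom (s : G) ∈ (L P i).map (MulAut.conj m).toMonoidHom :=
        hmL.ge (hle (mem_map_of_mem _ (mem_sup_left (mem_zpowers _))))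
      rw [Subgroup.mem_map_iff_mem (MulAut.conj m).injective] at h1
      exact notMem_L h hs hi2 h1
    have hYLi : Y ⊓ L P i ≤ L P (i + 1) := by
      refine (eq_of_le_of_card_ge (le_inf hLY (L_anti P (Nat.le_succ i))) ?_).ge
      have hlt : Y ⊓ L P i < L P i := lt_of_le_of_ne inf_le_right fun e => by
        refine notMem_L h hs hi2 ?_
        have : L P i = Y := eq_of_le_of_card_ge (e ▸ inf_le_left) (by
          rw [hY, Subgroup.card_map_of_injective (MulAut.conj m).injective, hX',
            card_Xs h hs (by omega) (by omega), card_L h hi2 (by omega)]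
          exact le_of_eq (congrArg _ (by omega)))
        exact absurd this.ge hYL
      obtain ⟨a, ha⟩ := (P.2.to_le (inf_le_right.trans (L_le P i) : Y ⊓ L P i ≤ P)).exists_card_eq
      have hl := Set.ncard_lt_ncard (SetLike.coe_ssubset_coe.2 hlt) (Set.toFinite _)
      rw [← Nat.card_coe_set_eq, ← Nat.card_coe_set_eq] at hl
      change Nat.card (Y ⊓ L P i : Subgroup G) < Nat.card (L P i) at hl
      rw [ha, card_L h hi2 (by omega)] at hl
      rw [ha, card_L h (by omega) (by omega)]
      have := (Nat.pow_lt_pow_iff_right hp.out.one_lt).1 hl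
      exact Nat.pow_le_pow_right hp.out.pos (by omega)
    by_cases hi3 : i = 2
    · subst hi3
      -- `Y` would be normal of index `p ^ 2`
      rw [hW, show 2 - 1 = 1 from rfl, hX1] at hWY
      haveI : (Y.subgroupOf (P : Subgroup G)).Normal :=
        (normal_subgroupOf_iff_le_normalizer (hYX.trans hXP)).2 hWY
      have hidx : (Y.subgroupOf (P : Subgroup G)).index = p ^ 2 := by
        refine Nat.eq_of_mul_eq_mul_left
          (Nat.card_pos (α := Y.subgroupOf (P : Subgroup G))) ?_
        rw [card_mul_index, h.card, Nat.card_congr (subgroupOfEquivOfLe (hYX.trans hXP)).toEquiv,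
          hY, Subgroup.card_map_of_injective (MulAut.conj m).injective, hX',
          card_Xs h hs (by omega) (by omega), ← pow_add]
        congr 1; omega
      have := CfsgLib.Transfer.normal_eq_lowerCentralSeries h.card h.cls (by omega)
        (Y.subgroupOf (P : Subgroup G)) le_rfl hidx
      exact hYL fun y hy => ⟨⟨y, hXP (hYX hy)⟩, this.le hy, rfl⟩
    · -- a commutator with `γ_{i-1}`
      obtain ⟨r, hr, hr'⟩ := SetLike.not_le_iff_exists.1
        (h.lc_lt (i := i - 1) (by omega) (by omega))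
      have hrW : (r : G) ∈ W := mem_sup_right ⟨r, hr, rfl⟩
      have hrL : (r : G) ∈ L P (i - 1) := ⟨r, hr, rfl⟩
      have hsup : X ≤ Y ⊔ L P i := by
        refine (eq_of_le_of_card_ge (sup_le hYX le_sup_right : Y ⊔ L P i ≤ X) ?_).ge
        rw [hX, card_Xs h hs hi2 (by omega)]
        have hlt : L P i < Y ⊔ L P i := lt_of_le_of_ne le_sup_right fun e =>
          hYL (le_sup_left.trans e.ge)
        obtain ⟨a, ha⟩ := (P.2.to_le (sup_le (hYX.trans hXP) (L_le P i) :
          Y ⊔ L P i ≤ P)).exists_card_eq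
        have hl := Set.ncard_lt_ncard (SetLike.coe_ssubset_coe.2 hlt) (Set.toFinite _)
        rw [← Nat.card_coe_set_eq, ← Nat.card_coe_set_eq] at hl
        change Nat.card (L P i) < Nat.card (Y ⊔ L P i : Subgroup G) at hl
        rw [ha, card_L h hi2 (by omega)] at hl
        rw [ha]
        have := (Nat.pow_lt_pow_iff_right hp.out.one_lt).1 hl
        exact Nat.pow_le_pow_right hp.out.pos (by omega)
      -- `[x, r] ∈ γ_{i+1}` for all `x ∈ ⟨s⟩γ_i`
      let Kr : Subgroup (P : Subgroup G) :=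
        (centralizer ({QuotientGroup.mk' (lc (P : Subgroup G) (i + 1)) r} : Set _)).comap
          (QuotientGroup.mk' _)
      have hmemKr : ∀ x : (P : Subgroup G), ⁅x, r⁆ ∈ lc (P : Subgroup G) (i + 1) → x ∈ Kr :=
        fun x hx => mem_centralizer_singleton_iff.2 (mk_comm hx).eq
      have hY' : Y ≤ Kr.map (P : Subgroup G).subtype := by
        intro y hy
        refine ⟨⟨y, hXP (hYX hy)⟩, hmemKr _ ?_, rfl⟩
        rw [← mem_L P (SetLike.coe_mem _)]
        refine hYLi ⟨?_, ?_⟩
        · show y * (r : G) * y⁻¹ * (r : G)⁻¹ ∈ Y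
          rw [show y * (r : G) * y⁻¹ * (r : G)⁻¹ = y * ((r : G) * y⁻¹ * (r : G)⁻¹) by group]
          exact mul_mem hy ((mem_normalizer_iff.1 (hWY hrW) _).1 (inv_mem hy))
        · have h5 := L_comm P (d := i) (i := i - 1) (j := 1) (by omega) le_rfl (by omega) hrL
            (by rw [L_one]; exact hXP (hYX hy))
          rw [← commutatorElement_inv] at h5
          show ⁅y, (r : G)⁆ ∈ L P i
          exact inv_mem_iff.1 h5
      have hL' : L P i ≤ Kr.map (P : Subgroup G).subtype := by
        rintro _ ⟨w, hw, rfl⟩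
        exact ⟨w, hmemKr _ (comm_mem (by omega) (by omega) (by omega) hw hr), rfl⟩
      obtain ⟨w, hw, hws⟩ := (hsup.trans (sup_le hY' hL')) (mem_sup_left (mem_zpowers (s : G)))
      obtain rfl := (P : Subgroup G).subtype_injective hws
      have hc := mk_comm (N := lc (P : Subgroup G) (i + 1)) (a := w) (b := r)
      have h6 : ⁅w, r⁆ ∈ lc (P : Subgroup G) (i + 1) := by
        rw [← QuotientGroup.eq_one_iff, ← QuotientGroup.mk'_apply, map_commutatorElement]
        exact commutatorElement_eq_one_iff_mul_comm.2 (mem_centralizer_singleton_iff.1 hw)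
      refine h.notMem_of_unif hs (j := i - 1) (by omega) (by omega) hr hr' ?_
      rw [show i - 1 + 2 = i + 1 by omega, ← commutatorElement_inv]
      exact inv_mem h6

/-- A uniform element outside a strongly closed normal part has small centralizer. -/
theorem factorization_centralizer (N : Subgroup G) [N.Normal] (hN : L P (n - 2) ≤ N)
    (hsN : (s : G) ∉ N) :
    (Nat.card (centralizer ({(s : G)} : Set G))).factorization p = 2 := by
  have h4 := h.four
  set E := Xs P (s : G) (n - 1) with hE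
  have hEc : Nat.card E = p ^ 2 := by
    rw [hE, card_Xs h hs (by omega) le_rfl]; congr 1; omega
  have hEC : E ≤ centralizer ({(s : G)} : Set G) := by
    refine sup_le (zpowers_le.2 (mem_centralizer_singleton_iff.2 rfl)) fun z hz =>
      mem_centralizer_singleton_iff.2 (commutatorElement_eq_one_iff_mul_comm.1 ?_)
    have := L_comm P (d := n) (i := n - 1) (j := 1) (by omega) le_rfl (by omega) hz
      (by rw [L_one]; exact s.2 : (s : G) ∈ L P 1)
    rwa [L, h.lc_bot le_rfl, Subgroup.map_bot, mem_bot] at this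
  refine factorization_eq_of (P.2.to_le (Xs_le h hs _)) hEC hEc fun R hR hRp hER => ?_
  by_contra hRE
  have hlt : E < R := lt_of_le_of_ne hER fun e => hRE e.ge
  haveI := hRp.isNilpotent
  have h1 : E.subgroupOf R < ⊤ := lt_top_iff_ne_top.2 fun e => hlt.not_ge (subgroupOf_eq_top.1 e)
  obtain ⟨⟨t, htR⟩, ht, ht'⟩ := SetLike.exists_of_lt (Group.normalizerCondition_of_isNilpotent _ h1)
  have htE : t ∉ E := fun e => ht' e
  have htn : t ∈ Subgroup.normalizer (E : Set G) :=
    CfsgLib.Solvable.mem_normalizer_of_conj_mem fun y hy =>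
      (mem_normalizer_iff.1 ht ⟨y, hER hy⟩).1 hy
  obtain ⟨k, hk⟩ := hRp ⟨t, htR⟩
  have htk : t ^ (p ^ k) = 1 := congrArg Subtype.val hk
  have hinf : E ⊓ N = L P (n - 1) :=
    Xs_inf_eq h hs le_rfl ((L_anti P (by omega)).trans hN) hsN
  have hZ : Nat.card (L P (n - 1)) = p := by
    rw [card_L h (by omega) (by omega), show n - (n - 1) = 1 by omega, pow_one]
  have htZ := commute_of_prime_card hZ (g := t) (k := k) (by
    rw [← hinf]
    exact CfsgLib.Solvable.le_normalizer_inf (A := zpowers t) (zpowers_le.2 htn)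
      (by rw [Subgroup.normalizer_eq_top N]; exact le_top) (mem_zpowers t)) htk
  have htC : t ∈ centralizer (E : Set G) := by
    have hle : E ≤ centralizer ({t} : Set G) := sup_le
      (zpowers_le.2 (mem_centralizer_singleton_iff.2
        (mem_centralizer_singleton_iff.1 (hR htR)).symm))
      (fun z hz => mem_centralizer_singleton_iff.2 (htZ z hz).symm)
    exact fun y hy => mem_centralizer_singleton_iff.1 (hle hy)
  set T := zpowers t ⊔ E with hT
  have hTN : T ≤ Subgroup.normalizer (E : Set G) := sup_le (zpowers_le.2 htn) le_normalizer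
  have hTp : IsPGroup p T := hRp.to_le (sup_le (zpowers_le.2 htR) hER)
  have hTC : T ≤ centralizer (E : Set G) := by
    refine sup_le (zpowers_le.2 htC) fun y hy => ?_
    intro x hx
    obtain ⟨a, ha⟩ := (IsPGroup.of_card (p := p) (n := 2) hEc)
      ⟨x, hx⟩
    haveI : IsMulCommutative E := IsPGroup.isMulCommutative_of_card_eq_prime_sq hEc
    exact congrArg Subtype.val (mul_comm' (⟨x, hx⟩ : E) ⟨y, hy⟩)
  -- move `T` into `⟨s⟩γ_{n-2}`
  set W := Xs P (s : G) (n - 2) with hW
  have hWn : W ≤ Subgroup.normalizer (E : Set G) := by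
    intro x hx
    refine CfsgLib.Solvable.mem_normalizer_of_conj_mem fun y hy => ?_
    rw [← show ⁅x, y⁆ * y = x * y * x⁻¹ by rw [commutatorElement_def, inv_mul_cancel_right]]
    have h5 := Xs_comm_le h hs (i := n - 2) (by omega) (commutator_mem_commutator hx
      ((sup_le_sup_left (L_anti P (by omega)) _ : E ≤ W) hy))
    rw [show n - 2 + 1 = n - 1 by omega] at h5
    exact mul_mem (mem_sup_right h5) hy
  have hkey := sylow_normalizer h hs N hN hsN (n - 1) (by omega) le_rfl
  rw [show n - 1 - 1 = n - 2 by omega] at hkey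
  have hWi : ¬ p ∣ W.relIndex (Subgroup.normalizer (E : Set G)) := by
    obtain ⟨W₁, hW₁⟩ := ((P.2.to_le (Xs_le h hs (n - 2))).comap_subtype
      (K := Subgroup.normalizer (E : Set G))).exists_le_sylow
    have hle := hkey _ (W₁.2.map (Subgroup.normalizer (E : Set G)).subtype) (map_subtype_le _)
    rw [Subgroup.card_map_of_injective (Subgroup.normalizer (E : Set G)).subtype_injective,
      ← Nat.card_congr (subgroupOfEquivOfLe hWn).toEquiv] at hle
    rw [relIndex, show W.subgroupOf (Subgroup.normalizer (E : Set G)) = W₁ from eq_of_le_of_card_ge hW₁ hle]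
    exact W₁.not_dvd_index
  obtain ⟨m, hm, hmT⟩ := CfsgLib.Fusion.exists_conj_mem_of_le hTp
    (P.2.to_le (Xs_le h hs (n - 2))) hTN hWn hWi
  have hmE : E.map (MulAut.conj m).toMonoidHom = E := mem_normalizer_iff_map_conj_eq.1 hm
  have hsE : (s : G) ∈ E := mem_sup_left (mem_zpowers _)
  have hle : T.map (MulAut.conj m).toMonoidHom ≤
      (centralizer ({s} : Set (P : Subgroup G))).map (P : Subgroup G).subtype := by
    rintro _ ⟨y, hy, rfl⟩
    refine ⟨⟨m * y * m⁻¹, Xs_le h hs (n - 2) (hmT y hy)⟩, ?_, rfl⟩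
    refine mem_centralizer_singleton_iff.2 (Subtype.ext ?_)
    show m * y * m⁻¹ * (s : G) = (s : G) * (m * y * m⁻¹)
    obtain ⟨e, he, hes⟩ := hmE.ge hsE
    have hye : e * y = y * e := hTC hy e he
    rw [← hes, show (MulAut.conj m).toMonoidHom e = m * e * m⁻¹ from rfl]
    calc m * y * m⁻¹ * (m * e * m⁻¹) = m * (y * e) * m⁻¹ := by group
      _ = m * (e * y) * m⁻¹ := by rw [hye]
      _ = m * e * m⁻¹ * (m * y * m⁻¹) := by group
  have hc := Subgroup.card_le_of_le hle
  rw [Subgroup.card_map_of_injective (MulAut.conj m).injective,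
    Subgroup.card_map_of_injective (P : Subgroup G).subtype_injective, h.card_centralizer hs,
    ← hEc] at hc
  exact htE ((eq_of_le_of_card_ge (le_sup_right : E ≤ T) hc).ge (mem_sup_left (mem_zpowers t)))

end chain

/-- The case of a proper normal part of order at least `p ^ 2`. -/
theorem exists_small_of_normal (hP : Nat.card P = p ^ n) (hn : 3 ≤ n)
    (hc : Group.nilpotencyClass ↥(P : Subgroup G) = n - 1) (N : Subgroup G) [N.Normal]
    (h2 : p ^ 2 ≤ Nat.card ((P : Subgroup G) ⊓ N : Subgroup G)) (hPN : ¬ (P : Subgroup G) ≤ N) :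
    ∃ x ∈ (P : Subgroup G), (Nat.card (centralizer ({x} : Set G))).factorization p = 2 := by
  set Q := N.subgroupOf (P : Subgroup G) with hQ
  have hQne : Q ≠ ⊤ := fun e => hPN (subgroupOf_eq_top.1 e)
  have hQc : p ^ 2 ≤ Nat.card Q := by
    rw [hQ, show N.subgroupOf (P : Subgroup G) = ((P : Subgroup G) ⊓ N).subgroupOf P by
      rw [inf_subgroupOf_left], Nat.card_congr (subgroupOfEquivOfLe inf_le_left).toEquiv]
    exact h2
  obtain ⟨r, hrn, hr⟩ := (Nat.dvd_prime_pow hp.out).1 (hP ▸ Q.index_dvd_card)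
  have hrQ : Nat.card Q * p ^ r = p ^ n := by rw [← hr, card_mul_index, hP]
  have hr2 : r + 2 ≤ n := by
    have h1 : p ^ 2 * p ^ r ≤ p ^ n := hrQ ▸ Nat.mul_le_mul_right _ hQc
    rw [← pow_add] at h1
    have := (Nat.pow_le_pow_iff_right hp.out.one_lt).1 h1
    omega
  have hLQ : L P (n - 2) ≤ N ∨ n = 3 := by
    rcases Nat.lt_or_ge n 4 with h4 | h4
    · exact Or.inr (by omega)
    left
    suffices hs : lc (P : Subgroup G) (n - 2) ≤ Q by rintro _ ⟨y, hy, rfl⟩; exact hs hy
    rcases Nat.lt_or_ge r 2 with hr' | hr'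
    · haveI := (IsPGroup.of_card hP).isNilpotent
      have hidx : Q.index = p := by
        rw [hr, show r = 1 by
          rcases Nat.eq_zero_or_pos r with rfl | h0
          · rw [pow_zero, index_eq_one] at hr; exact absurd hr hQne
          · omega, pow_one]
      have hcom : commutator (P : Subgroup G) ≤ Q := by
        haveI : IsCyclic ((P : Subgroup G) ⧸ Q) :=
          isCyclic_of_prime_card (p := p) (by rw [← index_eq_card, hidx])
        rw [_root_.commutator_def, commutator_le]
        intro a _ b _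
        rw [← QuotientGroup.eq_one_iff, ← QuotientGroup.mk'_apply, map_commutatorElement]
        exact commutatorElement_eq_one_iff_mul_comm.2
          (IsCyclic.isMulCommutative.is_comm.comm _ _)
      exact le_trans (le_trans (lc_anti (show 2 ≤ n - 2 by omega)) lc_two_eq_commutator.le) hcom
    · rw [CfsgLib.Transfer.normal_eq_lowerCentralSeries hP hc (by omega) Q hr' hr]
      exact lc_anti (by omega)
  rcases hLQ with hLQ | rfl
  · rcases Nat.lt_or_ge n 4 with h4 | h4
    · exfalso
      have hn3 : n = 3 := by omega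
      subst hn3
      have : r = 0 ∨ r = 1 := by omega
      rw [L, show (3 : ℕ) - 2 = 1 from rfl, lc_one, ← MonoidHom.range_eq_map, range_subtype] at hLQ
      exact hPN hLQ
    have hM : MaxCl (P : Subgroup G) p n := ⟨hP, hc, h4⟩
    obtain ⟨s, hsQ, hs⟩ := hM.exists_unif hQne
    exact ⟨s, s.2, factorization_centralizer hM hs N hLQ fun e => hsQ e⟩
  · -- order `p ^ 3`
    obtain ⟨x, hx, hxN⟩ := SetLike.not_le_iff_exists.1 hPN
    set xP : (P : Subgroup G) := ⟨x, hx⟩ with hxP
    haveI := (IsPGroup.of_card hP).isNilpotent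
    have hQ2 : Nat.card Q = p ^ 2 := by
      have : r = 1 := by
        rcases Nat.eq_zero_or_pos r with rfl | h0
        · rw [pow_zero, index_eq_one] at hr; exact absurd hr hQne
        · omega
      subst this
      exact Nat.eq_of_mul_eq_mul_right hp.out.pos (by rw [← pow_succ]; simpa using hrQ)
    have hna : ¬ IsMulCommutative (P : Subgroup G) := fun hc' => by
      have := Group.IsNilpotent.nilpotencyClass_le_one_iff.2 hc'
      omega
    have hZle : Subgroup.center (P : Subgroup G) ≤ Q := by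
      by_contra hcon
      obtain ⟨z, hz, hzQ⟩ := SetLike.not_le_iff_exists.1 hcon
      haveI : IsMulCommutative Q := IsPGroup.isMulCommutative_of_card_eq_prime_sq hQ2
      have htop : Q ⊔ zpowers z = ⊤ := by
        refine eq_top_of_le_card _ ?_
        have := CfsgLib.Transfer.prime_mul_card_le (IsPGroup.of_card hP)
          (lt_of_le_of_ne le_sup_left fun e => hzQ (e ▸ mem_sup_right (mem_zpowers z)) :
            Q < Q ⊔ zpowers z)
        rw [hQ2] at this
        rw [hP]
        exact le_trans (le_of_eq (by ring)) this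
      refine hna ⟨⟨fun a b => ?_⟩⟩
      have hcomm : ∀ u ∈ Q ⊔ zpowers z, ∀ q ∈ Q, q * u = u * q := by
        intro u hu q hq
        have : Q ⊔ zpowers z ≤ centralizer ({q} : Set _) := sup_le
          (fun w hw => mem_centralizer_singleton_iff.2
            (congrArg Subtype.val (mul_comm' (⟨w, hw⟩ : Q) ⟨q, hq⟩)))
          (zpowers_le.2 (mem_centralizer_singleton_iff.2 (mem_center_iff.1 hz q).symm))
        exact (mem_centralizer_singleton_iff.1 (this hu)).symm
      have : Q ⊔ zpowers z ≤ centralizer ({a} : Set _) := sup_le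
        (fun w hw => mem_centralizer_singleton_iff.2 (hcomm a (htop ▸ mem_top a) w hw))
        (zpowers_le.2 (mem_centralizer_singleton_iff.2 (mem_center_iff.1 hz a).symm))
      exact (mem_centralizer_singleton_iff.1 (this (htop ▸ mem_top b))).symm
    set E := (centralizer ({xP} : Set (P : Subgroup G))).map (P : Subgroup G).subtype with hE
    have hCne : centralizer ({xP} : Set (P : Subgroup G)) ≠ ⊤ := fun e => hxN
      (show xP ∈ Q from hZle (mem_center_iff.2 fun g =>
        (mem_centralizer_singleton_iff.1 (e ▸ mem_top g))))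
    have hEc : Nat.card E = p ^ 2 := by
      rw [hE, Subgroup.card_map_of_injective (P : Subgroup G).subtype_injective]
      obtain ⟨a, ha⟩ := ((IsPGroup.of_card hP).to_subgroup
        (centralizer ({xP} : Set (P : Subgroup G)))).exists_card_eq
      have h1 : Nat.card (centralizer ({xP} : Set (P : Subgroup G))) < p ^ 3 := by
        rw [← hP]
        exact lt_of_le_of_ne (Subgroup.card_le_card_group _) fun e =>
          hCne ((Subgroup.card_eq_iff_eq_top _).1 e)
      haveI : Nontrivial (P : Subgroup G) := Finite.one_lt_card_iff_nontrivial.1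
        (by rw [hP]; exact Nat.one_lt_pow (by omega) hp.out.one_lt)
      have h2 : Subgroup.center (P : Subgroup G) < centralizer ({xP} : Set (P : Subgroup G)) := by
        refine lt_of_le_of_ne (fun z hz => mem_centralizer_singleton_iff.2
          (mem_center_iff.1 hz xP).symm) fun e => hxN (show xP ∈ Q from hZle ?_)
        rw [e]; exact mem_centralizer_singleton_iff.2 rfl
      have h3 := CfsgLib.Transfer.prime_mul_card_le (IsPGroup.of_card hP) h2
      obtain ⟨b, hb0, hb⟩ := IsPGroup.card_center_eq_prime_pow hP (by omega : 0 < 3)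
      rw [ha, hb, ← pow_succ'] at h3
      rw [ha] at h1 ⊢
      have := (Nat.pow_lt_pow_iff_right hp.out.one_lt).1 h1
      have := (Nat.pow_le_pow_iff_right hp.out.one_lt).1 h3
      congr 1; omega
    refine ⟨x, hx, factorization_eq_of (P.2.to_le (map_subtype_le _)) ?_ hEc fun R hR hRp hER => ?_⟩
    · rintro _ ⟨y, hy, rfl⟩
      exact mem_centralizer_singleton_iff.2
        (congrArg Subtype.val (mem_centralizer_singleton_iff.1 hy))
    · by_contra hRE
      have hlt : E < R := lt_of_le_of_ne hER fun e => hRE e.ge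
      obtain ⟨a, ha⟩ := hRp.exists_card_eq
      have hl := Set.ncard_lt_ncard (SetLike.coe_ssubset_coe.2 hlt) (Set.toFinite _)
      rw [← Nat.card_coe_set_eq, ← Nat.card_coe_set_eq] at hl
      change Nat.card E < Nat.card R at hl
      rw [hEc, ha] at hl
      have ha3 := (Nat.pow_lt_pow_iff_right hp.out.one_lt).1 hl
      obtain ⟨g, hg⟩ := CfsgLib.Fusion.exists_conj_mem hRp P.2 P.not_dvd_index
      have hRP : R.map (MulAut.conj g).toMonoidHom = (P : Subgroup G) := by
        refine eq_of_le_of_card_ge (by rintro _ ⟨y, hy, rfl⟩; exact hg y hy) ?_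
        rw [Subgroup.card_map_of_injective (MulAut.conj g).injective, hP, ha]
        exact Nat.pow_le_pow_right hp.out.pos ha3
      have hxR : x ∈ R := hER ⟨xP, mem_centralizer_singleton_iff.2 rfl, rfl⟩
      have hy : g * x * g⁻¹ ∈ (P : Subgroup G) := hg x hxR
      have hzc : (⟨g * x * g⁻¹, hy⟩ : (P : Subgroup G)) ∈ Subgroup.center (P : Subgroup G) := by
        refine mem_center_iff.2 fun w => Subtype.ext ?_
        obtain ⟨v, hv, hvw⟩ := hRP.ge w.2
        show (w : G) * (g * x * g⁻¹) = g * x * g⁻¹ * (w : G)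
        rw [← hvw, show (MulAut.conj g).toMonoidHom v = g * v * g⁻¹ from rfl]
        have hvx := mem_centralizer_singleton_iff.1 (hR hv)
        calc g * v * g⁻¹ * (g * x * g⁻¹) = g * (v * x) * g⁻¹ := by group
          _ = g * (x * v) * g⁻¹ := by rw [hvx]
          _ = g * x * g⁻¹ * (g * v * g⁻¹) := by group
      have h9 := Subgroup.Normal.conj_mem (inferInstance : N.Normal) _ (hZle hzc) g⁻¹
      exact hxN (by simpa [mul_assoc] using h9)

omit [Finite G] hp in
theorem cancel_comm {T : Type*} [Group T] [IsMulCommutative T] (u v w : T) :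
    u * v * w * u⁻¹ * v⁻¹ = w := by
  rw [show u * v * w = w * (u * v) from mul_comm' _ _,
    show w * (u * v) * u⁻¹ * v⁻¹ = w * (u * v * (u⁻¹ * v⁻¹)) by group,
    show u⁻¹ * v⁻¹ = v⁻¹ * u⁻¹ from mul_comm' _ _]
  group

omit [Finite G] hp in
theorem conj_commutator_expand (f a b : G) :
    f * (a * b * a⁻¹ * b⁻¹) * f⁻¹ =
      (f * a * f⁻¹ * a⁻¹) * (a * (f * b * f⁻¹ * b⁻¹) * a⁻¹) * (a * b * a⁻¹ * b⁻¹) *
        (b * (f * a * f⁻¹ * a⁻¹)⁻¹ * b⁻¹) * (f * b * f⁻¹ * b⁻¹)⁻¹ := by group

/-- A normal subgroup with a Sylow subgroup of order `p` inside the derived group of its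
centralizer has trivial automizer there. -/
theorem automizer_trivial {Z N : Subgroup G} [N.Normal] (hZN : Z ≤ N)
    (hi : ¬ p ∣ Z.relIndex N) (hZc : Nat.card Z = p) {a b z : G}
    (hz : z = a * b * a⁻¹ * b⁻¹) (hzZ : z ∈ Z) (ha : a ∈ centralizer (Z : Set G))
    (hb : b ∈ centralizer (Z : Set G)) {f : G} (hfN : f ∈ N)
    (hfZ : f ∈ Subgroup.normalizer (Z : Set G)) : f * z = z * f := by
  have hN : N.Normal := inferInstance
  haveI : IsCyclic Z := isCyclic_of_prime_card hZc
  have hZcom : ∀ u ∈ Z, ∀ v ∈ Z, u * v = v * u := fun u hu v hv =>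
    congrArg Subtype.val (IsCyclic.isMulCommutative.is_comm.comm (⟨u, hu⟩ : Z) ⟨v, hv⟩)
  set D := centralizer (Z : Set G) ⊓ N with hD
  have hZD : Z ≤ D := le_inf (fun u hu v hv => hZcom v hv u hu) hZN
  have hZpg : IsPGroup p Z := IsPGroup.of_card (n := 1) (by rw [hZc, pow_one])
  obtain ⟨SD, hSD⟩ : ∃ SD : Sylow p D, (SD : Subgroup D) = Z.subgroupOf D :=
    ⟨(hZpg.comap_subtype).toSylow fun hd => hi (hd.trans
        (Dvd.intro _ (relIndex_mul_relIndex Z D N hZD inf_le_right))),
      IsPGroup.toSylow_coe _ _⟩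
  have hNC : Subgroup.normalizer ((SD : Subgroup D) : Set D) ≤
      centralizer ((SD : Subgroup D) : Set D) := by
    intro d _ w hw
    rw [SetLike.mem_coe, hSD] at hw
    exact Subtype.ext ((mem_centralizer_iff.1 d.2.1) w hw)
  set φ := MonoidHom.transferSylow SD hNC
  have hcompl := MonoidHom.ker_transferSylow_isComplement' SD hNC
  have hkerc : ¬ p ∣ Nat.card φ.ker := MonoidHom.not_dvd_card_ker_transferSylow SD hNC
  have hker : ∀ d : D, φ d = 1 ↔ (orderOf (d : G)).Coprime p := fun d => by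
    rw [Subgroup.orderOf_coe]
    constructor
    · intro hd
      exact (hp.out.coprime_iff_not_dvd.2 fun hdvd => hkerc (hdvd.trans
        (Subgroup.orderOf_dvd_natCard φ.ker (MonoidHom.mem_ker.2 hd)))).symm
    · intro hd
      obtain ⟨k, hk⟩ := IsPGroup.iff_orderOf.1 SD.2 (φ d)
      have hdvd := orderOf_map_dvd φ d
      rw [hk] at hdvd
      rw [Nat.eq_one_of_dvd_coprimes (Nat.Coprime.pow_left k hd.symm) dvd_rfl hdvd] at hk
      exact orderOf_eq_one_iff.1 hk
  have hinj : ∀ w : D, (w : G) ∈ Z → φ w = 1 → w = 1 := by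
    intro w hwZ hφw
    obtain ⟨k, hk⟩ := IsPGroup.iff_orderOf.1 hZpg ⟨(w : G), hwZ⟩
    rw [orderOf_mk] at hk
    have h1 := (hker w).1 hφw
    rw [hk] at h1
    rcases Nat.eq_zero_or_pos k with rfl | hk'
    · exact Subtype.ext (orderOf_eq_one_iff.1 (by simpa using hk))
    · rw [Nat.coprime_pow_left_iff hk', Nat.coprime_self] at h1
      exact absurd h1 hp.out.one_lt.ne'
  have hcH : ∀ g ∈ Subgroup.normalizer (Z : Set G), ∀ d : G, d ∈ D → g * d * g⁻¹ ∈ D :=
    fun g hg d hd => ⟨(mem_normalizer_iff.1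
      (CfsgLib.Solvable.normalizer_le_normalizer_centralizer Z hg) d).1 hd.1,
      hN.conj_mem d hd.2 g⟩
  have hconj : ∀ g ∈ centralizer (Z : Set G), ∀ d d' : D, (d' : G) = g * (d : G) * g⁻¹ →
      φ d' = φ d := by
    intro g hg d d' hd'
    obtain ⟨⟨⟨k, hk⟩, ⟨w, hw⟩⟩, hkw : k * w = d⟩ := hcompl.2 d
    have hwZ : (w : G) ∈ Z := by
      have := hSD ▸ hw
      exact this
    have hwg : g * (w : G) * g⁻¹ = (w : G) := by
      rw [← mem_centralizer_iff.1 hg _ hwZ, mul_inv_cancel_right]
    have hkg : g * (k : G) * g⁻¹ ∈ D := hcH g (centralizer_le_normalizer _ hg) _ k.2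
    have e : d' = ⟨g * (k : G) * g⁻¹, hkg⟩ * w := by
      apply Subtype.ext
      show (d' : G) = g * (k : G) * g⁻¹ * (w : G)
      conv_rhs => rw [← hwg]
      rw [hd', ← hkw, Subgroup.coe_mul]
      group
    have hk1 : φ k = 1 := hk
    have hk2 : φ ⟨g * (k : G) * g⁻¹, hkg⟩ = 1 := by
      rw [hker] at hk1 ⊢
      show (orderOf (g * (k : G) * g⁻¹)).Coprime p
      rwa [show g * (k : G) * g⁻¹ = MulAut.conj g (k : G) from rfl, MulEquiv.orderOf_eq]
    rw [e, map_mul, hk2, one_mul, ← hkw, map_mul, hk1, one_mul]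
  have hfH : ∀ g ∈ centralizer (Z : Set G), f * g * f⁻¹ * g⁻¹ ∈ D := fun g hg =>
    Subgroup.mem_inf.2 ⟨mul_mem ((mem_normalizer_iff.1
      (CfsgLib.Solvable.normalizer_le_normalizer_centralizer Z hfZ) g).1 hg) (inv_mem hg), by
      show f * g * f⁻¹ * g⁻¹ ∈ N
      rw [show f * g * f⁻¹ * g⁻¹ = f * (g * f⁻¹ * g⁻¹) by group]
      exact mul_mem hfN (hN.conj_mem _ (inv_mem hfN) g)⟩
  let d₁ : D := ⟨_, hfH a ha⟩
  let d₂ : D := ⟨_, hfH b hb⟩
  have hz' : f * z * f⁻¹ ∈ Z := (mem_normalizer_iff.1 hfZ z).1 hzZ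
  let zD : D := ⟨z, hZD hzZ⟩
  let zD' : D := ⟨f * z * f⁻¹, hZD hz'⟩
  let d₂' : D := ⟨_, hcH a (centralizer_le_normalizer _ ha) _ d₂.2⟩
  let d₁' : D := ⟨_, hcH b (centralizer_le_normalizer _ hb) _ (d₁⁻¹).2⟩
  have e : zD' = d₁ * d₂' * zD * d₁' * d₂⁻¹ := by
    apply Subtype.ext
    show f * z * f⁻¹ = _
    rw [hz]
    rw [conj_commutator_expand f a b, Subgroup.coe_mul, Subgroup.coe_mul, Subgroup.coe_mul,
      Subgroup.coe_mul, Subgroup.coe_inv, show (zD : G) = a * b * a⁻¹ * b⁻¹ from hz]
    rfl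
  haveI : IsMulCommutative (SD : Subgroup D) :=
    ⟨⟨fun u v => Subtype.ext (hNC (Subgroup.le_normalizer v.2) u u.2)⟩⟩
  have hsimp : φ zD' = φ zD := by
    rw [e, map_mul, map_mul, map_mul, map_mul, hconj a ha d₂ d₂' rfl,
      hconj b hb d₁⁻¹ d₁' rfl, map_inv, map_inv]
    exact cancel_comm _ _ _
  have h7 := hinj (zD' * zD⁻¹) (mul_mem hz' (inv_mem hzZ))
    (by rw [map_mul, map_inv, hsimp, mul_inv_cancel])
  have h8 : f * z * f⁻¹ = z := congrArg Subtype.val (mul_inv_eq_one.1 h7)
  exact mul_inv_eq_iff_eq_mul.1 h8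

/-- A normal subgroup whose Sylow subgroup has order `p` has order `p`. -/
theorem card_eq_of_inf_prime (hP : Nat.card P = p ^ n) (hn : 3 ≤ n)
    (hc : Group.nilpotencyClass ↥(P : Subgroup G) = n - 1)
    (hcore' : ∀ M : Subgroup G, M.Normal → (Nat.card M).Coprime p → M = ⊥)
    (N : Subgroup G) [N.Normal] (hZc : Nat.card ((P : Subgroup G) ⊓ N : Subgroup G) = p) :
    Nat.card N = p ∧ (P : Subgroup G) ≤ centralizer (N : Set G) := by
  haveI := (IsPGroup.of_card hP).isNilpotent
  have hN : N.Normal := inferInstance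
  set Z := (P : Subgroup G) ⊓ N with hZ
  have hTi : ¬ p ∣ Z.relIndex N :=
    CfsgLib.LocalEven.not_dvd_relIndex_inf_of_isSubnormal P hN.isSubnormal
  set ZP := N.subgroupOf (P : Subgroup G) with hZP
  have hZPc : Nat.card ZP = p := by
    rw [hZP, show N.subgroupOf (P : Subgroup G) = ((P : Subgroup G) ⊓ N).subgroupOf P by
      rw [inf_subgroupOf_left], Nat.card_congr (subgroupOfEquivOfLe inf_le_left).toEquiv, hZc]
  have hZPeq : ZP = lc (P : Subgroup G) (n - 1) := by
    refine CfsgLib.Transfer.normal_eq_lowerCentralSeries hP hc (by omega) ZP (r := n - 1)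
      (by omega) ?_
    refine Nat.eq_of_mul_eq_mul_left (Nat.card_pos (α := ZP)) ?_
    rw [card_mul_index, hP, hZPc, ← pow_succ']
    congr 1; omega
  have hZcent : (P : Subgroup G) ≤ centralizer (Z : Set G) := by
    intro g hg z hz
    have hzP : (⟨z, hz.1⟩ : (P : Subgroup G)) ∈ lc (P : Subgroup G) (n - 1) := hZPeq ▸ hz.2
    have := comm_mem (d := n) (i := 1) (j := n - 1) le_rfl (by omega) (by omega)
      (lc_one (X := (P : Subgroup G)) ▸ mem_top (⟨g, hg⟩ : (P : Subgroup G))) hzP
    rw [show lc (P : Subgroup G) n = ⊥ from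
      CfsgLib.Transfer.lowerCentralSeries_eq_bot hP (by omega), mem_bot] at this
    exact (congrArg Subtype.val (commutatorElement_eq_one_iff_mul_comm.1 this)).symm
  obtain ⟨a₁, b₁, hab, hab1⟩ : ∃ a₁ b₁ : (P : Subgroup G),
      ((⁅a₁, b₁⁆ : (P : Subgroup G)) : G) ∈ Z ∧ ⁅a₁, b₁⁆ ≠ 1 := by
    by_contra hcon
    push Not at hcon
    have hbot : lc (P : Subgroup G) (n - 2 + 1) = ⊥ := by
      rw [lc_succ (by omega), commutator_eq_bot_iff_le_centralizer]
      intro u hu v _
      refine (commutatorElement_eq_one_iff_mul_comm.1 (hcon u v ⟨SetLike.coe_mem _, ?_⟩)).symm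
      have := comm_mem (d := n - 1) (i := n - 2) (j := 1) (by omega) le_rfl (by omega) hu
        (lc_one (X := (P : Subgroup G)) ▸ mem_top v)
      rw [← hZPeq] at this
      exact this
    rw [show n - 2 + 1 = n - 1 by omega, ← hZPeq] at hbot
    rw [hbot, Subgroup.card_bot] at hZPc
    exact hp.out.one_lt.ne hZPc
  set z : G := (a₁ : G) * (b₁ : G) * (a₁ : G)⁻¹ * (b₁ : G)⁻¹ with hzdef
  have hzZ : z ∈ Z := hab
  have hz1 : z ≠ 1 := fun e => hab1 (Subtype.ext e)
  have hZgen : Z = zpowers z := (eq_of_le_of_card_ge (zpowers_le.2 hzZ) (by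
    rw [hZc, Nat.card_zpowers]
    rcases (Nat.dvd_prime hp.out).1 (hZc ▸ Subgroup.orderOf_dvd_natCard _ hzZ) with h' | h'
    · exact absurd (orderOf_eq_one_iff.1 h') hz1
    · exact h'.ge)).symm
  have hZpg : IsPGroup p Z := IsPGroup.of_card (n := 1) (by rw [hZc, pow_one])
  obtain ⟨SN, hSN⟩ : ∃ SN : Sylow p N, (SN : Subgroup N) = Z.subgroupOf N :=
    ⟨(hZpg.comap_subtype).toSylow hTi, IsPGroup.toSylow_coe _ _⟩
  have hNC' : Subgroup.normalizer ((SN : Subgroup N) : Set N) ≤
      centralizer ((SN : Subgroup N) : Set N) := by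
    intro f hf w hw
    have hfZ : (f : G) ∈ Subgroup.normalizer (Z : Set G) := by
      refine CfsgLib.Solvable.mem_normalizer_of_conj_mem fun y hy => ?_
      have := (mem_normalizer_iff.1 hf ⟨y, hy.2⟩).1 (by rw [hSN]; exact hy)
      rw [hSN] at this
      exact this
    have haut : (f : G) * z = z * f := automizer_trivial inf_le_right hTi hZc rfl hzZ
      (hZcent a₁.2) (hZcent b₁.2) f.2 hfZ
    have hwz : (w : G) ∈ zpowers z := by
      rw [← hZgen]
      have := hSN ▸ hw
      exact this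
    obtain ⟨l, hl⟩ := hwz
    apply Subtype.ext
    show (w : G) * f = f * (w : G)
    rw [← show z ^ l = (w : G) from hl]
    exact ((show Commute (f : G) z from haut).zpow_right l).eq.symm
  set ψ := MonoidHom.transferSylow SN hNC' with hψ
  have hψc : ¬ p ∣ Nat.card ψ.ker := MonoidHom.not_dvd_card_ker_transferSylow SN hNC'
  have hψbot : ψ.ker = ⊥ := by
    have hK : (ψ.ker.map N.subtype).Normal := by
      refine ⟨fun x hx g => ?_⟩
      obtain ⟨y, hy, rfl⟩ := hx
      have hy' : g * (y : G) * g⁻¹ ∈ N := hN.conj_mem _ y.2 g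
      refine ⟨⟨_, hy'⟩, ?_, rfl⟩
      show ψ ⟨_, hy'⟩ = 1
      obtain ⟨k, hk⟩ := IsPGroup.iff_orderOf.1 SN.2 (ψ ⟨_, hy'⟩)
      have hdvd := orderOf_map_dvd ψ ⟨_, hy'⟩
      rw [hk, orderOf_mk, show g * (y : G) * g⁻¹ = MulAut.conj g (y : G) from rfl,
        MulEquiv.orderOf_eq, Subgroup.orderOf_coe] at hdvd
      have h8 : (orderOf y).Coprime p := (hp.out.coprime_iff_not_dvd.2 fun hd =>
        hψc (hd.trans (Subgroup.orderOf_dvd_natCard ψ.ker hy))).symm
      rw [Nat.eq_one_of_dvd_coprimes (Nat.Coprime.pow_left k h8.symm) dvd_rfl hdvd] at hk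
      exact orderOf_eq_one_iff.1 hk
    have := hcore' _ hK ((hp.out.coprime_iff_not_dvd.2 (by
      rwa [Subgroup.card_map_of_injective N.subtype_injective])).symm)
    exact (Subgroup.map_eq_bot_iff_of_injective _ N.subtype_injective).1 this
  have hcardN : Nat.card N = p := by
    have h1 := (MonoidHom.ker_transferSylow_isComplement' SN hNC').card_mul_card
    rw [show (MonoidHom.transferSylow SN hNC').ker = ⊥ from hψbot, Subgroup.card_bot, one_mul,
      hSN, Nat.card_congr (subgroupOfEquivOfLe (inf_le_right : Z ≤ N)).toEquiv, hZc] at h1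
    exact h1.symm
  refine ⟨hcardN, ?_⟩
  rw [← show Z = N from eq_of_le_of_card_ge inf_le_right (by rw [hcardN, hZc])]
  exact hZcent

/-- Without such a normal subgroup the group is quasisimple. -/
theorem isQuasisimple_of (hP : Nat.card P = p ^ n) (hn : 3 ≤ n)
    (hc : Group.nilpotencyClass ↥(P : Subgroup G) = n - 1)
    (hcore : Cfsg.pPrimeCore p G = ⊥)
    (hres : ∀ N : Subgroup G, N.Normal → (N.index).Coprime p → N = ⊤)
    (h : ∀ N : Subgroup G, N.Normal → p ^ 2 ≤ Nat.card ((P : Subgroup G) ⊓ N : Subgroup G) →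
      (P : Subgroup G) ≤ N) :
    Cfsg.IsQuasisimple G ∧ Nat.card (Subgroup.center G) ≤ p := by
  haveI := (IsPGroup.of_card hP).isNilpotent
  have hcop : ∀ M : Subgroup G, M.Normal → (P : Subgroup G) ≤ M → M = ⊤ := fun M hM hPM =>
    hres M hM (hp.out.coprime_iff_not_dvd.2 fun hd =>
      P.not_dvd_index (hd.trans (index_dvd_of_le hPM))).symm
  have hcore' : ∀ M : Subgroup G, M.Normal → (Nat.card M).Coprime p → M = ⊥ := fun M hM hMc =>
    eq_bot_iff.2 (hcore ▸ (le_sSup ⟨hM, hMc⟩ : M ≤ Cfsg.pPrimeCore p G))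
  have tri : ∀ N : Subgroup G, N.Normal → N = ⊥ ∨ N = ⊤ ∨ (Nat.card N = p ∧ N ≤ center G) := by
    intro N hN
    haveI := hN
    obtain ⟨a, ha⟩ :=
      (P.2.to_le (inf_le_left : (P : Subgroup G) ⊓ N ≤ P)).exists_card_eq
    rcases Nat.lt_or_ge a 2 with ha2 | ha2
    swap
    · exact Or.inr (Or.inl (hcop N hN (h N hN (ha ▸ Nat.pow_le_pow_right hp.out.pos ha2))))
    rcases Nat.eq_zero_or_pos a with rfl | hapos
    · left
      refine hcore' N hN (hp.out.coprime_iff_not_dvd.2 fun hd => ?_).symm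
      refine CfsgLib.LocalEven.not_dvd_relIndex_inf_of_isSubnormal P hN.isSubnormal ?_
      rw [show (P : Subgroup G) ⊓ N = ⊥ from Subgroup.eq_bot_of_card_eq _ (by rw [ha, pow_zero]),
        relIndex_bot_left]
      exact hd
    obtain ⟨h1, h2⟩ := card_eq_of_inf_prime hP hn hc hcore' N
      (by rw [ha, show a = 1 by omega, pow_one])
    refine Or.inr (Or.inr ⟨h1, fun x hx => mem_center_iff.2 fun g => ?_⟩)
    have hCN : centralizer (N : Set G) = ⊤ := hcop _ inferInstance h2
    exact (((eq_top_iff' _).1 hCN g) x hx).symm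
  have hPna : ¬ IsMulCommutative (P : Subgroup G) := fun hc' => by
    have := Group.IsNilpotent.nilpotencyClass_le_one_iff.2 hc'
    omega
  have hcenter : Subgroup.center G ≠ ⊤ := fun e => hPna ⟨⟨fun a b => Subtype.ext
    ((mem_center_iff.1 (e ▸ mem_top (b : G)) (a : G)))⟩⟩
  have hcentercard : Nat.card (Subgroup.center G) ≤ p := by
    rcases tri (Subgroup.center G) inferInstance with e | e | e
    · rw [e, Subgroup.card_bot]; exact hp.out.one_lt.le
    · exact absurd e hcenter
    · exact e.1.le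
  have hperf : commutator G = ⊤ := by
    rcases tri (commutator G) inferInstance with e | e | e
    · refine absurd ?_ hcenter
      rw [← Subgroup.centralizer_univ, eq_top_iff]
      intro g _ x _
      have : ⁅x, g⁆ ∈ commutator G :=
        commutator_def G ▸ commutator_mem_commutator (mem_top x) (mem_top g)
      rw [e, mem_bot] at this
      exact commutatorElement_eq_one_iff_mul_comm.1 this
    · exact e
    · exfalso
      -- the group is nilpotent
      haveI : Group.IsNilpotent G := by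
        refine ⟨2, ?_⟩
        rw [eq_top_iff]
        intro x _
        rw [show (2 : ℕ) = 1 + 1 from rfl, Subgroup.mem_upperCentralSeries_succ_iff]
        intro y
        rw [Subgroup.upperCentralSeries_one]
        exact e.2 (commutator_def G ▸ commutator_mem_commutator (mem_top x) (mem_top y))
      haveI := Subgroup.NormalizerCondition.normal_of_coatom (G := G)
      have hPn : (P : Subgroup G).Normal :=
        (inferInstance : (P : Subgroup G).Normal)
      have hPtop : (P : Subgroup G) = ⊤ := hcop _ hPn le_rfl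
      obtain ⟨M, hM, -⟩ := (eq_top_or_exists_le_coatom (⊥ : Subgroup G)).resolve_left fun hb =>
        hcenter (eq_top_iff.2 (hb ▸ bot_le))
      have hMn : M.Normal :=
        Subgroup.NormalizerCondition.normal_of_coatom M Group.normalizerCondition_of_isNilpotent hM
      have hGp : IsPGroup p G := by
        have := P.2
        rw [hPtop] at this
        exact this.of_equiv Subgroup.topEquiv
      have hidx := CfsgLib.PGroup.index_of_isCoatom hGp hM
      have hcard : Nat.card G = p ^ n := by rw [← hP, hPtop, Subgroup.card_top]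
      refine hM.1 (top_le_iff.1 (hPtop ▸ h M hMn ?_))
      rw [show (P : Subgroup G) ⊓ M = M by rw [hPtop, top_inf_eq]]
      refine Nat.le_of_mul_le_mul_right (c := p) ?_ hp.out.pos
      rw [← pow_succ]
      calc p ^ (2 + 1) ≤ p ^ n := Nat.pow_le_pow_right hp.out.pos (by omega)
        _ = Nat.card M * M.index := by rw [card_mul_index, hcard]
        _ = Nat.card M * p := by rw [hidx]
  refine ⟨⟨⟨hperf⟩, ?_⟩, hcentercard⟩
  haveI : Nontrivial (G ⧸ Subgroup.center G) :=
    QuotientGroup.nontrivial_iff.2 hcenter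
  refine ⟨fun M hM => ?_⟩
  haveI := hM
  have hmap : (M.comap (QuotientGroup.mk' (Subgroup.center G))).map (QuotientGroup.mk' _) = M :=
    map_comap_eq_self_of_surjective (QuotientGroup.mk'_surjective _) M
  rcases tri (M.comap (QuotientGroup.mk' (Subgroup.center G))) inferInstance with e | e | e
  · left; rw [← hmap, e, Subgroup.map_bot]
  · right; rw [← hmap, e, map_top_of_surjective _ (QuotientGroup.mk'_surjective _)]
  · left
    rw [← hmap, Subgroup.map_eq_bot_iff, QuotientGroup.ker_mk']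
    exact e.2

end CfsgLib.PGroup.MaxClassDichotomy
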