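import Cfsg.Agent.Lib.PGroup.PearlMaximalClass

/-!
# `3`-groups of maximal class with an element of order `3` with small centralizer

Every subgroup is generated by two elements, unless the group is isomorphic to a Sylow
`3`-subgroup of the symmetric group of degree `9`.
-/

set_option autoImplicit false

namespace CfsgLib.PGroup.SmallCent

open scoped commutatorElement

variable {G : Type*} [Group G] [Finite G]

section General

variable {p n : ℕ} [hp : Fact p.Prime] {x : G} {P : ℕ → Subgroup G}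

theorem Setting.pos (hS : Setting p n x P) : 1 ≤ n := by
  by_contra h
  have hc := hS.card_top
  rw [show n = 0 by omega, pow_zero] at hc
  have := (Nat.card_eq_one_iff_unique.1 hc).1
  exact hS.notMem (by rw [Subsingleton.elim x 1]; exact one_mem _)

theorem Setting.position_lt (hS : Setting p n x P) {i : ℕ} {a : G} (ha : a ∈ P i)
    (han : a ∉ P (i + 1)) : i < n := by
  by_contra h
  rw [hS.P_eq_bot hS.pos (not_lt.1 h), Subgroup.mem_bot] at ha
  exact han (by rw [ha]; exact one_mem _)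

/-- A step of the series is cyclic of order `p`. -/
theorem Setting.exists_zpow_mul (hS : Setting p n x P) {i : ℕ} (hi : 1 ≤ i) {a b : G}
    (ha : a ∈ P i) (han : a ∉ P (i + 1)) (hb : b ∈ P i) :
    ∃ k : ℤ, ∃ c ∈ P (i + 1), b = a ^ k * c := by
  have hin := hS.position_lt ha han
  have := hS.filt.normal (i + 1)
  set N := (P (i + 1)).subgroupOf (P i) with hN
  have hQ : Nat.card (P i ⧸ N) = p := by
    have h1 := N.card_mul_index
    rw [hN, Nat.card_congr (Subgroup.subgroupOfEquivOfLe (hS.filt.anti (Nat.le_succ i))).toEquiv,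
      hS.card_P i hi (by omega), hS.card_P (i + 1) (by omega) hin, Subgroup.index_eq_card,
      show n - i = n - (i + 1) + 1 by omega, pow_succ] at h1
    exact Nat.eq_of_mul_eq_mul_left (pow_pos hp.out.pos _) h1
  have ha1 : (QuotientGroup.mk' N) ⟨a, ha⟩ ≠ 1 :=
    fun h => han ((QuotientGroup.eq_one_iff (N := N) _).1 h :)
  obtain ⟨k, hk⟩ := Subgroup.mem_zpowers_iff.1
    (mem_zpowers_of_prime_card hQ (g' := (QuotientGroup.mk' N) ⟨b, hb⟩) ha1)
  rw [← map_zpow, QuotientGroup.mk'_apply, QuotientGroup.mk'_apply, QuotientGroup.eq] at hk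
  exact ⟨k, (a ^ k)⁻¹ * b, hk, by group⟩

theorem Setting.exists_notMem (hS : Setting p n x P) {i : ℕ} (hi : 1 ≤ i) (hin : i < n) :
    ∃ a ∈ P i, a ∉ P (i + 1) := by
  by_contra! h
  have h1 := Subgroup.card_le_of_le (show P i ≤ P (i + 1) from h)
  rw [hS.card_P i hi hin.le, hS.card_P (i + 1) (by omega) hin] at h1
  have := (Nat.pow_le_pow_iff_right hp.out.one_lt).1 h1
  omega

/-- A subgroup is contained in another as soon as the latter has an element in every position of
the former. -/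
theorem Setting.le_of_positions (hS : Setting p n x P) {K H : Subgroup G} {i₀ : ℕ} (hi₀ : 1 ≤ i₀)
    (hK : K ≤ P i₀) (hHK : H ≤ K)
    (hpos : ∀ i, i₀ ≤ i → ∀ a ∈ K, a ∈ P i → a ∉ P (i + 1) → ∃ b ∈ H, b ∈ P i ∧ b ∉ P (i + 1)) :
    K ≤ H := by
  have key : ∀ m i, n ≤ i + m → i₀ ≤ i → ∀ a ∈ K, a ∈ P i → a ∈ H := by
    intro m
    induction m with
    | zero =>
      intro i hni _ a _ ha
      rw [hS.P_eq_bot hS.pos (by omega), Subgroup.mem_bot] at ha
      rw [ha]; exact one_mem _
    | succ m ih =>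
      intro i hni hi a haK ha
      by_cases ha1 : a ∈ P (i + 1)
      · exact ih (i + 1) (by omega) (by omega) a haK ha1
      obtain ⟨b, hbH, hb, hbn⟩ := hpos i hi a haK ha ha1
      obtain ⟨k, c, hc, rfl⟩ := hS.exists_zpow_mul (by omega) hb hbn ha
      have hbk := H.zpow_mem hbH k
      refine mul_mem hbk (ih (i + 1) (by omega) (by omega) c ?_ hc)
      have := mul_mem (inv_mem (hHK hbk)) haK
      rwa [inv_mul_cancel_left] at this
  exact fun a ha => key n i₀ (by omega) le_rfl a ha (hK ha)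

omit hp in
theorem closure_pair_eq_of_card_le (hG : IsPGroup p G) [Fact p.Prime] {H : Subgroup G} {a b : G}
    (ha : a ∈ H) (hb : b ∈ H) (hba : b ∉ Subgroup.zpowers a)
    (hc : Nat.card H ≤ p * orderOf a) : Subgroup.closure ({a, b} : Set G) = H := by
  have hle : Subgroup.closure ({a, b} : Set G) ≤ H :=
    (Subgroup.closure_le _).2 (Set.insert_subset ha (Set.singleton_subset_iff.2 hb))
  refine Subgroup.eq_of_le_of_card_ge hle (hc.trans ?_)
  set C := Subgroup.closure ({a, b} : Set G) with hC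
  have hza : Subgroup.zpowers a ≤ C :=
    Subgroup.zpowers_le.2 (Subgroup.subset_closure (Set.mem_insert _ _))
  have hbC : b ∈ C := Subgroup.subset_closure (Set.mem_insert_of_mem _ rfl)
  have hlt : Nat.card (Subgroup.zpowers a) < Nat.card C :=
    lt_of_not_ge fun h => hba ((Subgroup.eq_of_le_of_card_ge hza h).ge hbC)
  obtain ⟨k, hk⟩ := (hG.to_subgroup C).exists_card_eq
  obtain ⟨l, hl⟩ := (hG.to_subgroup (Subgroup.zpowers a)).exists_card_eq
  rw [hk, hl] at hlt
  rw [hk, ← Nat.card_zpowers, hl, ← pow_succ']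
  exact Nat.pow_le_pow_right (Fact.out : p.Prime).pos
    ((Nat.pow_lt_pow_iff_right (Fact.out : p.Prime).one_lt).1 hlt)

end General

variable {n : ℕ} {x : G}

/-- The series below the centralizer of `P 2 / P 4`, on which `P 1` lowers positions by two. -/
theorem exists_setting_three (hG : Nat.card G = 3 ^ n) (hn : 4 ≤ n)
    (hc : Group.nilpotencyClass G = n - 1) (hx : x ^ 3 = 1)
    (hC : Nat.card (Subgroup.centralizer ({x} : Set G)) ≤ 3 ^ 2) :
    ∃ P : ℕ → Subgroup G, Setting 3 n x P ∧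
      (∀ j, 2 ≤ j → ∀ c ∈ P j, ∀ m ∈ P 1, ⁅c, m⁆ ∈ P (j + 2)) ∧
      ∀ a ∈ P 1, ∀ b ∈ P 1, ⁅a, b⁆ ∈ P 4 := by
  classical
  set L := (⊤ : Subgroup G).lowerCentralSeries with hL
  have hcardL : ∀ i, 1 ≤ i → i ≤ n - 1 → Nat.card (L i) = 3 ^ (n - 1 - i) := fun i hi hin =>
    CfsgLib.Transfer.card_lowerCentralSeries hG (by omega) hc hi hin
  obtain ⟨c0, hc0, hc0n⟩ : ∃ c ∈ L 1, c ∉ L 2 := by
    by_contra! h
    have h1 := Subgroup.card_le_of_le (show L 1 ≤ L 2 from h)
    rw [hcardL 1 le_rfl (by omega), hcardL 2 (by omega) (by omega)] at h1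
    have := (Nat.pow_le_pow_iff_right (show 1 < 3 by norm_num)).1 h1
    omega
  have hL3n : (L 3).Normal := by rw [hL]; infer_instance
  set π := QuotientGroup.mk' (L 3) with hπ
  have hstep : ∀ i, ∀ a ∈ L i, ∀ g : G, ⁅a, g⁆ ∈ L (i + 1) := fun i a ha g =>
    Subgroup.commutator_mem_commutator ha (Subgroup.mem_top g)
  have hc2 : ∀ a ∈ L 2, π a ∈ Subgroup.center (G ⧸ L 3) := fun a ha => by
    refine Subgroup.mem_center_iff.2 fun q => ?_
    obtain ⟨g, rfl⟩ := QuotientGroup.mk'_surjective _ q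
    symm
    rw [← commutatorElement_eq_one_iff_mul_comm, ← map_commutatorElement]
    exact (QuotientGroup.eq_one_iff _).2 (hstep 2 a ha g)
  have hg0 : ∀ g : G, ⁅g, c0⁆ ∈ L 2 := fun g => by
    rw [← commutatorElement_inv]; exact inv_mem (hstep 1 c0 hc0 g)
  let f : G →* G ⧸ L 3 := MonoidHom.mk' (fun g => π ⁅g, c0⁆) fun g h => by
    show π ⁅g * h, c0⁆ = π ⁅g, c0⁆ * π ⁅h, c0⁆
    have h1 := Subgroup.mem_center_iff.1 (hc2 _ (hg0 h))
    rw [show ⁅g * h, c0⁆ = g * ⁅h, c0⁆ * g⁻¹ * ⁅g, c0⁆ by simp [commutatorElement_def, mul_assoc],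
      map_mul, map_mul, map_mul, map_inv, h1 (π g), mul_inv_cancel_right, h1]
  set M := f.ker with hM
  have hfr : f.range ≤ (L 2).map π := by
    rintro _ ⟨g, rfl⟩; exact ⟨⁅g, c0⁆, hg0 g, rfl⟩
  have hidx : M.index ≤ 3 := by
    rw [hM, Subgroup.index_ker]
    refine (Subgroup.card_le_of_le hfr).trans (le_of_eq ?_)
    have hle : π.ker ≤ L 2 := by
      rw [QuotientGroup.ker_mk']; exact Subgroup.lowerCentralSeries_antitone _ (by omega)
    have h1 := ((L 2).map π).card_mul_index
    have h2 := (L 2).card_mul_index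
    have h3 := (L 3).card_mul_index
    rw [Subgroup.index_map_eq _ (QuotientGroup.mk'_surjective _) hle, ← Subgroup.index_eq_card]
      at h1
    rw [hcardL 2 (by omega) (by omega)] at h2
    rw [← h1, hcardL 3 (by omega) (by omega), ← h2, ← mul_assoc,
      show n - 1 - 2 = n - 1 - 3 + 1 by omega, pow_succ] at h3
    exact Nat.eq_of_mul_eq_mul_left (pow_pos (by norm_num) _)
      (Nat.eq_of_mul_eq_mul_right (Nat.pos_of_ne_zero Subgroup.index_ne_zero_of_finite) h3)
  have h11 : ∀ a ∈ L 1, ∀ b ∈ L 1, ⁅a, b⁆ ∈ L 3 := fun a ha b hb =>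
    CfsgLib.PGroup.PolySeq.commutator_gam_le 2 2
      (Subgroup.commutator_mem_commutator (show a ∈ CfsgLib.PGroup.PolySeq.gam G 2 from ha)
        (show b ∈ CfsgLib.PGroup.PolySeq.gam G 2 from hb))
  have hLM : L 1 ≤ M := fun a ha => (QuotientGroup.eq_one_iff _).2 (h11 a ha c0 hc0)
  obtain ⟨P0, hP0⟩ := exists_setting hG (by omega) hc hx hC
  obtain ⟨Q, -, hQ, hQS⟩ := exists_setting_of_maximal hG (by omega) hc hx hC (P0 1)
    (hP0.filt.normal 1)
    (by rw [Subgroup.top_lowerCentralSeries_one, ← hP0.two]; exact hP0.filt.anti one_le_two)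
    (hP0.card_P 1 le_rfl (by omega)) hP0.notMem
  -- `x` does not centralize `L 1 / L 3`
  have hxM : x ∉ M := by
    intro hxM
    have h0 : π ⁅x, c0⁆ = 1 := hxM
    have hcx : ⁅c0, x⁆ ∈ Q 4 := by
      rw [hQ 4 (by omega), ← commutatorElement_inv]
      exact inv_mem ((QuotientGroup.eq_one_iff _).1 h0)
    have h2 := hQS.notMem_step (i := 2) (by omega) (by omega) (a := c0)
      (by rw [hQ 2 le_rfl]; exact hc0) hcx
    rw [hQ 3 (by omega)] at h2
    exact hc0n h2
  have hMidx : M.index = 3 := by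
    have h1 : M.index ∣ 3 ^ n := hG ▸ M.index_dvd_card
    obtain ⟨k, -, hk⟩ := (Nat.dvd_prime_pow Nat.prime_three).1 h1
    rcases Nat.eq_zero_or_pos k with rfl | hk0
    · rw [pow_zero, Subgroup.index_eq_one] at hk
      exact absurd (hk ▸ Subgroup.mem_top x) hxM
    · refine le_antisymm hidx ?_
      rw [hk]
      exact Nat.le_self_pow hk0.ne' 3
  have hMc : Nat.card M = 3 ^ (n - 1) := by
    have h1 := M.card_mul_index
    rw [hMidx, hG, show 3 ^ n = 3 ^ (n - 1) * 3 by rw [← pow_succ]; congr 1; omega] at h1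
    exact Nat.eq_of_mul_eq_mul_right (by norm_num) h1
  obtain ⟨P, hP1, hPL, hP⟩ := exists_setting_of_maximal hG (by omega) hc hx hC M
    (MonoidHom.normal_ker f) hLM hMc hxM
  have hcomm2 : ∀ c ∈ P 2, ∀ d ∈ P 2, ⁅c, d⁆ ∈ P 5 := by
    intro c hc2' d hd2
    have := hP.filt.normal 5
    set q := QuotientGroup.mk' (P 5) with hq
    have hp4 : ∀ {u v : G}, ⁅u, v⁆ ∈ P 5 → Commute (q u) (q v) := fun {u v} h =>
      commutatorElement_eq_one_iff_mul_comm.1
        (by rw [← map_commutatorElement]; exact (QuotientGroup.eq_one_iff _).2 h)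
    have hc0P : c0 ∈ P 2 := by rw [hPL 2 le_rfl]; exact hc0
    have hc0Pn : c0 ∉ P 3 := by rw [hPL 3 (by omega)]; exact hc0n
    obtain ⟨i, c', hc', rfl⟩ := hP.exists_zpow_mul (by omega) hc0P hc0Pn hc2'
    obtain ⟨j, d', hd', rfl⟩ := hP.exists_zpow_mul (by omega) hc0P hc0Pn hd2
    have h23 : ∀ u ∈ P 3, Commute (q c0) (q u) := fun u hu => hp4 (hP.filt.comm 2 3 _ hc0P _ hu)
    refine (QuotientGroup.eq_one_iff _).1 ?_
    show q ⁅c0 ^ i * c', c0 ^ j * d'⁆ = 1
    rw [map_commutatorElement, commutatorElement_eq_one_iff_mul_comm]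
    simp only [map_mul, map_zpow]
    have h33 : Commute (q c') (q d') :=
      hp4 (hP.filt.anti (by omega) (hP.filt.comm 3 3 _ hc' _ hd'))
    exact (Commute.mul_left
      (Commute.mul_right ((Commute.refl _).zpow_zpow i j) ((h23 d' hd').zpow_left i))
      (Commute.mul_right ((h23 c' hc').symm.zpow_right j) h33)).eq
  -- `P 1` lowers the positions from `2` on by two
  have h24 : ∀ c ∈ P 2, ∀ m ∈ P 1, ⁅c, m⁆ ∈ P 4 := by
    intro c hc2' m hm
    rw [hP1] at hm
    rw [hPL 2 le_rfl] at hc2'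
    rw [hPL 4 (by omega)]
    have h0 : Commute (π c0) (π m) := by
      have h1 : π ⁅m, c0⁆ = 1 := hm
      rw [map_commutatorElement, commutatorElement_eq_one_iff_mul_comm] at h1
      exact h1.symm
    obtain ⟨k, c', hc', rfl⟩ : ∃ k : ℤ, ∃ c' ∈ L 2, c = c0 ^ k * c' := by
      obtain ⟨k, c', hc', h⟩ := hP.exists_zpow_mul (i := 2) (by omega)
        (by rw [hPL 2 le_rfl]; exact hc0) (by rw [hPL 3 (by omega)]; exact hc0n)
        (b := c) (by rw [hPL 2 le_rfl]; exact hc2')
      exact ⟨k, c', by rwa [hPL 3 (by omega)] at hc', h⟩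
    refine (QuotientGroup.eq_one_iff _).1 ?_
    show π ⁅c0 ^ k * c', m⁆ = 1
    rw [map_commutatorElement, commutatorElement_eq_one_iff_mul_comm, map_mul, map_zpow]
    exact (Commute.mul_left (h0.zpow_left k) ((Subgroup.mem_center_iff.1 (hc2 c' hc') (π m)).symm)).eq
  have h35 : ∀ e ∈ P 3, ∀ m ∈ P 1, ⁅e, m⁆ ∈ P 5 := by
    intro e he m hm
    obtain ⟨c, hcP, rfl⟩ := hP.exists_commutator (i := 2) (by omega) (by omega) he
    have := hP.filt.normal 5
    set q := QuotientGroup.mk' (P 5) with hq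
    have hp4 : ∀ {u v : G}, ⁅u, v⁆ ∈ P 5 → q u * q v = q v * q u := fun {u v} h =>
      commutatorElement_eq_one_iff_mul_comm.1
        (by rw [← map_commutatorElement]; exact (QuotientGroup.eq_one_iff _).2 h)
    -- the commutator of `c` and `m` is central modulo `P 5`
    have hz : ∀ g : G, q ⁅m, c⁆ * q g = q g * q ⁅m, c⁆ := fun g => by
      refine hp4 ?_
      have h1 : ⁅m, c⁆ ∈ P 4 := by rw [← commutatorElement_inv]; exact inv_mem (h24 c hcP m hm)
      rw [hPL 4 (by omega)] at h1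
      rw [hPL 5 (by omega)]
      exact hstep 3 _ h1 g
    have hu : ⁅x, m⁆ ∈ P 2 := by
      rw [← commutatorElement_inv]; exact inv_mem (hP.step 1 le_rfl m hm)
    have he' : ⁅x, c⁆ ∈ P 3 := by
      rw [← commutatorElement_inv]; exact inv_mem (hP.step 2 (by omega) c hcP)
    set u := q ⁅x, m⁆ with hud
    set v := q ⁅x, c⁆ with hvd
    set z := q ⁅m, c⁆ with hzd
    have huv : u * v = v * u := hp4 (hcomm2 _ hu _ (hP.filt.anti (by omega) he'))
    have huc : u * q c = q c * u := hp4 (hcomm2 _ hu _ hcP)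
    have hmc : q m * q c = z * q c * q m := by
      rw [hzd, map_commutatorElement, commutatorElement_def]; group
    have hxm : q x * q m * (q x)⁻¹ = u * q m := by
      rw [hud, map_commutatorElement, commutatorElement_def]; group
    have hxc : q x * q c * (q x)⁻¹ = v * q c := by
      rw [hvd, map_commutatorElement, commutatorElement_def]; group
    have hzu : z * u = u * z := hz _
    have hzv : z * v = v * z := hz _
    have h1 : u * q m * (v * q c) = z * (v * q c) * (u * q m) := by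
      rw [← hxm, ← hxc]
      calc q x * q m * (q x)⁻¹ * (q x * q c * (q x)⁻¹)
          = q x * (q m * q c) * (q x)⁻¹ := by group
        _ = q x * z * (q x)⁻¹ * (q x * q c * (q x)⁻¹) * (q x * q m * (q x)⁻¹) := by
          rw [hmc]; group
        _ = _ := by rw [← hz x, mul_inv_cancel_right]
    have h2 : u * (q m * v * q c) = u * (v * q m * q c) := by
      calc u * (q m * v * q c) = u * q m * (v * q c) := by group
        _ = z * v * (q c * u) * q m := by rw [h1]; group
        _ = z * (v * u) * q c * q m := by rw [← huc]; group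
        _ = z * u * v * q c * q m := by rw [← huv]; group
        _ = u * (z * v) * q c * q m := by rw [hzu]; group
        _ = u * v * (z * q c * q m) := by rw [hzv]; group
        _ = u * (v * q m * q c) := by rw [← hmc]; group
    have h3 : v * q m = q m * v := (mul_right_cancel (mul_left_cancel h2)).symm
    refine (QuotientGroup.eq_one_iff _).1 ?_
    show q ⁅⁅c, x⁆, m⁆ = 1
    rw [map_commutatorElement, commutatorElement_eq_one_iff_mul_comm, ← commutatorElement_inv,
      map_inv]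
    exact (Commute.inv_left (h3 : Commute v (q m))).eq
  have hall : ∀ j, 2 ≤ j → ∀ c ∈ P j, ∀ m ∈ P 1, ⁅c, m⁆ ∈ P (j + 2) := by
    intro j
    induction j using Nat.strong_induction_on with
    | _ j ih =>
    intro hj c hcj m hm
    rcases Nat.lt_or_ge j 4 with hj4 | hj4
    · rcases Nat.lt_or_ge j 3 with h | h
      · obtain rfl : j = 2 := by omega
        exact h24 c hcj m hm
      · obtain rfl : j = 3 := by omega
        exact h35 c hcj m hm
    by_cases hcn : c ∈ P (j + 1)
    · exact hP.filt.comm (j + 1) 1 c hcn m hm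
    have hjn := hP.position_lt hcj hcn
    obtain ⟨b, hb, hbn⟩ := hP.exists_notMem (i := j - 2) (by omega) (by omega)
    have hb3 : b ^ 3 ∈ P j := by
      have := hP.pow_mem (i := j - 2) (by omega) hb
      rwa [show j - 2 + 3 - 1 = j by omega] at this
    have hb3n : b ^ 3 ∉ P (j + 1) := by
      have := hP.pow_notMem (i := j - 2) (by omega) (by omega) hb hbn
      rwa [show j - 2 + 3 = j + 1 by omega] at this
    obtain ⟨k, c', hc', rfl⟩ := hP.exists_zpow_mul (by omega) hb3 hb3n hcj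
    have := hP.filt.normal (j + 2)
    set q := QuotientGroup.mk' (P (j + 2)) with hq
    have hd : ⁅b, m⁆ ∈ P j := by
      have := ih (j - 2) (by omega) (by omega) b hb m hm
      rwa [show j - 2 + 2 = j by omega] at this
    have hcm : ∀ {u v : G}, ⁅u, v⁆ ∈ P (j + 2) → Commute (q u) (q v) := fun {u v} h =>
      commutatorElement_eq_one_iff_mul_comm.1
        (by rw [← map_commutatorElement]; exact (QuotientGroup.eq_one_iff _).2 h)
    have h1 : Commute (q (b ^ 3)) (q m) := by
      have hbd : Commute (q b) (q ⁅b, m⁆) :=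
        hcm (hP.filt.anti (by omega) (hP.filt.comm (j - 2) j _ hb _ hd))
      have hd3 : q ⁅b, m⁆ ^ 3 = 1 := by
        rw [← map_pow]
        refine (QuotientGroup.eq_one_iff _).2 ?_
        have := hP.pow_mem (i := j) (by omega) hd
        rwa [show j + 3 - 1 = j + 2 by omega] at this
      set d := q ⁅b, m⁆ with hdd
      have hbm : q b * q m = d * q m * q b := by
        rw [hdd, map_commutatorElement, commutatorElement_def]; group
      have e : ∀ r : ℕ, q b ^ r * q m = d ^ r * q m * q b ^ r := by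
        intro r
        induction r with
        | zero => simp
        | succ r ihr =>
          calc q b ^ (r + 1) * q m = q b * (q b ^ r * q m) := by rw [pow_succ', mul_assoc]
            _ = (q b * d ^ r) * q m * q b ^ r := by rw [ihr]; group
            _ = d ^ r * (q b * q m) * q b ^ r := by rw [(hbd.pow_right r).eq]; group
            _ = d ^ (r + 1) * q m * q b ^ (r + 1) := by
              rw [hbm, pow_succ d, pow_succ' (q b)]; group
      show q (b ^ 3) * q m = q m * q (b ^ 3)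
      rw [map_pow, e 3, hd3, one_mul]
    refine (QuotientGroup.eq_one_iff _).1 ?_
    show q ⁅(b ^ 3) ^ k * c', m⁆ = 1
    rw [map_commutatorElement, commutatorElement_eq_one_iff_mul_comm, map_mul, map_zpow]
    exact (Commute.mul_left (h1.zpow_left k) (hcm (hP.filt.comm (j + 1) 1 c' hc' m hm))).eq
  refine ⟨P, hP, hall, fun a ha b hb => ?_⟩
  obtain ⟨a0, ha0, ha0n⟩ := hP.exists_notMem (i := 1) le_rfl (by omega)
  have := hP.filt.normal 4
  set q := QuotientGroup.mk' (P 4) with hq
  have h2 : ∀ u ∈ P 2, ∀ m ∈ P 1, Commute (q u) (q m) := fun u hu m hm =>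
    commutatorElement_eq_one_iff_mul_comm.1
      (by rw [← map_commutatorElement]; exact (QuotientGroup.eq_one_iff _).2 (h24 u hu m hm))
  obtain ⟨i, a', ha', rfl⟩ := hP.exists_zpow_mul le_rfl ha0 ha0n ha
  obtain ⟨j, b', hb', rfl⟩ := hP.exists_zpow_mul le_rfl ha0 ha0n hb
  refine (QuotientGroup.eq_one_iff _).1 ?_
  show q ⁅a0 ^ i * a', a0 ^ j * b'⁆ = 1
  rw [map_commutatorElement, commutatorElement_eq_one_iff_mul_comm]
  simp only [map_mul, map_zpow]
  exact (Commute.mul_left
    (Commute.mul_right ((Commute.refl _).zpow_zpow i j) ((h2 b' hb' a0 ha0).symm.zpow_left i))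
    (Commute.mul_right ((h2 a' ha' a0 ha0).zpow_right j) (h2 a' ha' b' (hP.filt.anti one_le_two hb')))).eq

/-- The cube of an element outside the second position is exactly in the third one. -/
theorem cube_position_one (hn : 5 ≤ n) {P : ℕ → Subgroup G} (hP : Setting 3 n x P)
    (hall : ∀ j, 2 ≤ j → ∀ c ∈ P j, ∀ m ∈ P 1, ⁅c, m⁆ ∈ P (j + 2))
    (hab : ∀ a ∈ P 1, ∀ b ∈ P 1, ⁅a, b⁆ ∈ P 4) {a : G} (ha : a ∈ P 1) (han : a ∉ P 2) :
    a ^ 3 ∈ P 3 ∧ a ^ 3 ∉ P 4 := by
  set y := a * x with hy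
  have hM : (P 1).index = 3 := by
    have h1 := (P 1).card_mul_index
    rw [hP.card_P 1 le_rfl (by omega), hP.card_top, show 3 ^ n = 3 ^ (n - 1) * 3 by rw [← pow_succ]; congr 1; omega] at h1
    exact Nat.eq_of_mul_eq_mul_left (pow_pos (by norm_num) _) h1
  have := hP.filt.normal 1
  have hy3 : y ^ 3 ∈ P 1 := hM ▸ Subgroup.pow_index_mem (P 1) y
  have hyx : ∀ j, 1 ≤ j → ∀ c ∈ P j, ⁅c, y⁆ ∈ P (j + 2) → ⁅c, x⁆ ∈ P (j + 2) := by
    intro j hj c hc h
    have hca : ⁅c, a⁆ ∈ P (j + 2) := by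
      rcases Nat.lt_or_ge j 2 with h2 | h2
      · exact hP.filt.anti (by omega) (hab c (hP.filt.anti hj hc) a ha)
      · exact hall j h2 c hc a ha
    have h1 : ⁅c, x⁆ = a⁻¹ * (⁅c, a⁆⁻¹ * ⁅c, y⁆) * a⁻¹⁻¹ := by
      simp only [hy, commutatorElement_def]; group
    rw [h1]
    exact (hP.filt.normal _).conj_mem _ (mul_mem (inv_mem hca) h) _
  have hy3n : y ^ 3 ∈ P (n - 1) := by
    have key : ∀ j, j + 1 ≤ n - 1 → y ^ 3 ∈ P (j + 1) := by
      intro j
      induction j with
      | zero => exact fun _ => hy3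
      | succ j ih =>
        intro hj
        refine hP.notMem_step (by omega) (by omega) (ih (by omega))
          (hyx _ (by omega) _ (ih (by omega)) ?_)
        rw [commutatorElement_eq_one_iff_mul_comm.2 (Commute.pow_self y 3).eq]
        exact one_mem _
    have := key (n - 2) (by omega)
    rwa [show n - 2 + 1 = n - 1 by omega] at this
  set D := dmap x a with hD
  set E := dmap x D with hE
  have hDmem : D ∈ P 2 := hP.dmap_mem le_rfl ha
  have hEmem : E ∈ P 3 := hP.dmap_mem (by omega) hDmem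
  have hEn : E ∉ P 4 := (hP.iterate_dmap 2 1 a le_rfl ha).2 (by omega) han
  have hN := hP.filt.normal 4
  set q := QuotientGroup.mk' (P 4) with hq
  have hc : Commute (q a) (q D) := commutatorElement_eq_one_iff_mul_comm.1
    (by rw [← map_commutatorElement]
        exact (QuotientGroup.eq_one_iff _).2 (hab a ha D (hP.filt.anti one_le_two hDmem)))
  have hpow : y ^ 3 = a * (a * D) * (a * D * (D * E)) * x ^ 3 := by
    simp only [hy, hE, hD, dmap, pow_succ, pow_zero, one_mul]; group
  have hx3 : q (x ^ 3) = 1 := (QuotientGroup.eq_one_iff _).2 (hP.filt.anti (by omega)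
    (hP.cent _ (hM ▸ Subgroup.pow_index_mem (P 1) x) (Commute.pow_self x 3).eq))
  have hD3 : q D ^ 3 = 1 := by
    rw [← map_pow]
    exact (QuotientGroup.eq_one_iff _).2 (hP.pow_mem (i := 2) le_rfl hDmem)
  have h0 : q (a ^ 3 * E) = 1 := by
    have h1 : q (y ^ 3) = 1 := (QuotientGroup.eq_one_iff _).2 (hP.filt.anti (by omega) hy3n)
    rw [hpow, map_mul _ _ (x ^ 3), hx3, mul_one] at h1
    simp only [map_mul] at h1
    rw [map_mul, map_pow, ← h1, show q a * (q a * q D) * (q a * q D * (q D * q E)) =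
      q a * q a * (q D * q a) * q D * q D * q E by group, ← hc.eq]
    calc q a ^ 3 * q E = q a ^ 3 * q D ^ 3 * q E := by rw [hD3, mul_one]
      _ = _ := by simp only [pow_succ, pow_zero, one_mul, mul_assoc]
  have h1 : a ^ 3 * E ∈ P 4 := (QuotientGroup.eq_one_iff _).1 h0
  refine ⟨?_, fun h => hEn ?_⟩
  · have := mul_mem (hP.filt.anti (by omega) h1 : a ^ 3 * E ∈ P 3) (inv_mem hEmem)
    rwa [mul_inv_cancel_right] at this
  · have := mul_mem (inv_mem h) h1
    rwa [inv_mul_cancel_left] at this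

/-- A subgroup outside `P 1` is generated by two elements. -/
theorem two_generated_outside {P : ℕ → Subgroup G} (hP : Setting 3 n x P)
    (hn : 4 ≤ n) (hall : ∀ j, 2 ≤ j → ∀ c ∈ P j, ∀ m ∈ P 1, ⁅c, m⁆ ∈ P (j + 2))
    (hab : ∀ a ∈ P 1, ∀ b ∈ P 1, ⁅a, b⁆ ∈ P 4) {H : Subgroup G} (hH : ¬ H ≤ P 1) :
    ∃ T : Finset G, T.card ≤ 2 ∧ Subgroup.closure (T : Set G) = H := by
  classical
  have := hP.filt.normal 1
  have hQc : Nat.card (G ⧸ P 1) = 3 := by
    have h1 := (P 1).card_mul_index
    rw [hP.card_P 1 le_rfl (by omega), hP.card_top, Subgroup.index_eq_card,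
      show 3 ^ n = 3 ^ (n - 1) * 3 by rw [← pow_succ]; congr 1; omega] at h1
    exact Nat.eq_of_mul_eq_mul_left (pow_pos (by norm_num) _) h1
  obtain ⟨y0, hy0, hy0M⟩ := SetLike.not_le_iff_exists.1 hH
  set q := QuotientGroup.mk' (P 1) with hq
  have hgen : ∀ {u : G}, u ∉ P 1 → ∀ g : G, ∃ k : ℤ, (u ^ k)⁻¹ * g ∈ P 1 := by
    intro u hu g
    obtain ⟨k, hk⟩ := Subgroup.mem_zpowers_iff.1 (mem_zpowers_of_prime_card hQc
      (g := q u) (g' := q g) fun h => hu ((QuotientGroup.eq_one_iff _).1 h))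
    rw [← map_zpow, hq, QuotientGroup.mk'_apply, QuotientGroup.mk'_apply, QuotientGroup.eq] at hk
    exact ⟨k, hk⟩
  obtain ⟨k0, hk0⟩ := hgen hy0M x
  set y := y0 ^ k0 with hy
  have hyH : y ∈ H := H.zpow_mem hy0 k0
  set a := y * x⁻¹ with ha
  have haM : a ∈ P 1 := by
    have h1 := (hP.filt.normal 1).conj_mem _ (inv_mem hk0) y
    rwa [show y * (y⁻¹ * x)⁻¹ * y⁻¹ = a by rw [ha]; group] at h1
  have hyM : y ∉ P 1 := fun h => hP.notMem (by
    have := mul_mem (inv_mem haM) h
    rwa [ha, show (y * x⁻¹)⁻¹ * y = x by group] at this)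
  -- all elements of `H` below `P 1` and `y` generate
  suffices hmain : ∃ c ∈ H ⊓ P 1, H ⊓ P 1 ≤ Subgroup.closure ({y, c} : Set G) by
    obtain ⟨c, hc, hle⟩ := hmain
    refine ⟨{y, c}, Finset.card_le_two, ?_⟩
    rw [Finset.coe_insert, Finset.coe_singleton]
    refine le_antisymm ((Subgroup.closure_le _).2
      (Set.insert_subset hyH (Set.singleton_subset_iff.2 hc.1))) fun g hg => ?_
    obtain ⟨k, hk⟩ := hgen hyM g
    have hyk := Subgroup.zpow_mem (Subgroup.closure ({y, c} : Set G))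
      (Subgroup.subset_closure (Set.mem_insert _ _)) k
    have := mul_mem hyk (hle ⟨H.mul_mem (H.inv_mem (H.zpow_mem hyH k)) hg, hk⟩)
    rwa [mul_inv_cancel_left] at this
  by_cases hbot : H ⊓ P 1 = ⊥
  · exact ⟨1, one_mem _, by rw [hbot]; exact bot_le⟩
  have hex : ∃ i, 1 ≤ i ∧ ∃ c ∈ H ⊓ P 1, c ∈ P i ∧ c ∉ P (i + 1) := by
    by_contra! h
    refine hbot (le_bot_iff.1 fun g hg => ?_)
    have key : ∀ i, g ∈ P (i + 1) := by
      intro i
      induction i with
      | zero => exact hg.2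
      | succ i ih => exact h (i + 1) (by omega) g hg ih
    exact (hP.P_eq_bot hP.pos (show n ≤ n + 1 by omega)).le (key n)
  obtain ⟨hi1, c, hc, hci, hcn⟩ := Nat.find_spec hex
  set i := Nat.find hex with hi
  refine ⟨c, hc, ?_⟩
  set K := Subgroup.closure ({y, c} : Set G) with hK
  have hyK : y ∈ K := Subgroup.subset_closure (Set.mem_insert _ _)
  have hcK : c ∈ K := Subgroup.subset_closure (Set.mem_insert_of_mem _ rfl)
  -- the positions from `i` on occur in `K`
  have hup : ∀ j, i ≤ j → j < n → ∃ b ∈ K, b ∈ P j ∧ b ∉ P (j + 1) := by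
    intro j hj
    induction j, hj using Nat.le_induction with
    | base => exact fun _ => ⟨c, hcK, hci, hcn⟩
    | succ j hj ih =>
      intro hjn
      obtain ⟨b, hbK, hb, hbn⟩ := ih (by omega)
      have hba : ⁅b, a⁆ ∈ P (j + 2) := by
        rcases Nat.lt_or_ge j 2 with h2 | h2
        · exact hP.filt.anti (by omega) (hab b (hP.filt.anti (by omega) hb) a haM)
        · exact hall j h2 b hb a haM
      have hbax : a * ⁅b, x⁆ * a⁻¹ = ⁅b, a⁆⁻¹ * ⁅b, y⁆ := by
        simp only [ha, commutatorElement_def]; group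
      have hbyK : ⁅b, y⁆ ∈ K := by
        rw [commutatorElement_def]
        exact mul_mem (mul_mem (mul_mem hbK hyK) (inv_mem hbK)) (inv_mem hyK)
      refine ⟨⁅b, y⁆, hbyK, ?_,
        fun h => hbn (hP.notMem_step (by omega) (by omega) hb ?_)⟩
      · have h1 := (hP.filt.normal _).conj_mem _ (hP.step j (by omega) b hb) a
        rw [hbax] at h1
        have := mul_mem (hP.filt.anti (show j + 1 ≤ j + 2 by omega) hba) h1
        rwa [mul_inv_cancel_left] at this
      · have h1 := (hP.filt.normal _).conj_mem _ (mul_mem (inv_mem hba) h) a⁻¹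
        rw [← hbax] at h1
        simpa [mul_assoc] using h1
  refine le_trans (hP.le_of_positions hi1 (K := H ⊓ P 1) (H := K ⊓ (H ⊓ P 1)) (fun g hg => ?_)
    inf_le_right fun j hj g hg hgj hgn => ?_) inf_le_left
  · -- `H ⊓ P 1` starts at position `i`
    have key : ∀ l, l ≤ i → g ∈ P l := by
      intro l
      induction l with
      | zero => exact fun _ => hP.filt.anti (by omega) hg.2
      | succ l ih =>
        intro hl
        rcases Nat.eq_zero_or_pos l with rfl | hl0
        · exact hg.2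
        by_contra h
        exact Nat.find_min hex (show l < i by omega) ⟨hl0, g, hg, ih (by omega), h⟩
    exact key i le_rfl
  · obtain ⟨b, hbK, hb, hbn⟩ := hup j hj (hP.position_lt hgj hgn)
    have hKH : K ≤ H := (Subgroup.closure_le _).2
      (Set.insert_subset hyH (Set.singleton_subset_iff.2 hc.1))
    exact ⟨b, ⟨hbK, hKH hbK, hP.filt.anti (by omega) hb⟩, hb, hbn⟩

/-- A subgroup of `P 1` is generated by two elements if the cube lowers positions by two. -/
theorem two_generated_inside {P : ℕ → Subgroup G} (hP : Setting 3 n x P) (hn : 5 ≤ n)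
    (hall : ∀ j, 2 ≤ j → ∀ c ∈ P j, ∀ m ∈ P 1, ⁅c, m⁆ ∈ P (j + 2))
    (hab : ∀ a ∈ P 1, ∀ b ∈ P 1, ⁅a, b⁆ ∈ P 4) {H : Subgroup G} (hH : H ≤ P 1) :
    ∃ T : Finset G, T.card ≤ 2 ∧ Subgroup.closure (T : Set G) = H := by
  classical
  have hcube : ∀ j, 1 ≤ j → j + 2 < n → ∀ b ∈ P j, b ∉ P (j + 1) →
      b ^ 3 ∈ P (j + 2) ∧ b ^ 3 ∉ P (j + 3) := by
    intro j hj hjn b hb hbn
    rcases Nat.lt_or_ge j 2 with h2 | h2
    · obtain rfl : j = 1 := by omega
      exact cube_position_one hn hP hall hab hb hbn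
    · exact ⟨by simpa using hP.pow_mem h2 hb, hP.pow_notMem h2 (by omega) hb hbn⟩
  have hiter : ∀ (t j : ℕ), 1 ≤ j → j + 2 * t < n → ∀ b ∈ P j, b ∉ P (j + 1) →
      b ^ 3 ^ t ∈ P (j + 2 * t) ∧ b ^ 3 ^ t ∉ P (j + 2 * t + 1) := by
    intro t
    induction t with
    | zero => intro j _ _ b hb hbn; simpa using ⟨hb, hbn⟩
    | succ t ih =>
      intro j hj hjn b hb hbn
      obtain ⟨h1, h2⟩ := ih j hj (by omega) b hb hbn
      rw [pow_succ, pow_mul, show j + 2 * (t + 1) = j + 2 * t + 2 by ring]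
      exact hcube _ (by omega) (by omega) _ h1 h2
  -- the first element in each parity
  let Occ : ℕ → ℕ → Prop := fun r i => 1 ≤ i ∧ i % 2 = r ∧ ∃ b ∈ H, b ∈ P i ∧ b ∉ P (i + 1)
  have hgen : ∀ r, ∃ b ∈ H, ∀ i, Occ r i →
      ∃ c ∈ Subgroup.closure ({b} : Set G), c ∈ P i ∧ c ∉ P (i + 1) := by
    intro r
    by_cases hr : ∃ i, Occ r i
    · obtain ⟨h1, h2, b, hbH, hb, hbn⟩ := Nat.find_spec hr
      refine ⟨b, hbH, fun i hi => ?_⟩
      have hle := Nat.find_min' hr hi
      obtain ⟨hi1, hi2, c, -, hc, hcn⟩ := hi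
      obtain ⟨t, ht⟩ : ∃ t, i = Nat.find hr + 2 * t := ⟨(i - Nat.find hr) / 2, by omega⟩
      obtain ⟨h3, h4⟩ := hiter t _ h1 (by rw [← ht]; exact hP.position_lt hc hcn) b hb hbn
      exact ⟨b ^ 3 ^ t, Subgroup.pow_mem _ (Subgroup.subset_closure (Set.mem_singleton b)) _,
        by rw [ht]; exact h3, by rw [ht]; exact h4⟩
    · exact ⟨1, one_mem _, fun i hi => (hr ⟨i, hi⟩).elim⟩
  obtain ⟨b0, hb0, h0⟩ := hgen 0
  obtain ⟨b1, hb1, h1⟩ := hgen 1
  refine ⟨{b0, b1}, Finset.card_le_two, ?_⟩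
  rw [Finset.coe_insert, Finset.coe_singleton]
  have hle : Subgroup.closure ({b0, b1} : Set G) ≤ H :=
    (Subgroup.closure_le _).2 (Set.insert_subset hb0 (Set.singleton_subset_iff.2 hb1))
  refine le_antisymm hle (hP.le_of_positions le_rfl hH hle fun i hi g hg hgi hgn => ?_)
  rcases Nat.mod_two_eq_zero_or_one i with h | h
  · obtain ⟨c, hc, hc'⟩ := h0 i ⟨hi, h, g, hg, hgi, hgn⟩
    exact ⟨c, Subgroup.closure_mono (Set.singleton_subset_iff.2 (Set.mem_insert b0 ({b1} : Set G))) hc,
      hc'⟩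
  · obtain ⟨c, hc, hc'⟩ := h1 i ⟨hi, h, g, hg, hgi, hgn⟩
    exact ⟨c, Subgroup.closure_mono
      (Set.singleton_subset_iff.2 (Set.mem_insert_of_mem b0 (Set.mem_singleton b1))) hc, hc'⟩

/-- A `3`-group of maximal class of order at least `81` with an element of order `3` with small
centralizer has all subgroups generated by two elements, or is a Sylow subgroup of `S₉`. -/
theorem two_generated_or_sylow_perm_nine (hG : Nat.card G = 3 ^ n) (hn : 4 ≤ n)
    (hc : Group.nilpotencyClass G = n - 1) (hx : x ^ 3 = 1)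
    (hC : Nat.card (Subgroup.centralizer ({x} : Set G)) ≤ 3 ^ 2) :
    (∀ H : Subgroup G, ∃ T : Finset G, T.card ≤ 2 ∧ Subgroup.closure (T : Set G) = H) ∨
      ∃ W : Sylow 3 (Equiv.Perm (Fin 9)), Nonempty (G ≃* (W : Subgroup (Equiv.Perm (Fin 9)))) := by
  classical
  obtain ⟨P, hP, hall, hab⟩ := exists_setting_three hG hn hc hx hC
  rcases Nat.lt_or_ge n 5 with hn5 | hn5
  swap
  · refine Or.inl fun H => ?_
    by_cases hH : H ≤ P 1
    · exact two_generated_inside hP hn5 hall hab hH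
    · exact two_generated_outside hP hn hall hab hH
  obtain rfl : n = 4 := by omega
  have hGp := hP.pgroup
  have hM27 : Nat.card (P 1) = 27 := by rw [hP.card_P 1 le_rfl (by omega)]; norm_num
  have hcm : ∀ a ∈ P 1, ∀ b ∈ P 1, a * b = b * a := fun a ha b hb => by
    have := hab a ha b hb
    rw [hP.P_eq_bot hP.pos le_rfl, Subgroup.mem_bot] at this
    exact commutatorElement_eq_one_iff_mul_comm.1 this
  by_cases hexp : ∀ a ∈ P 1, a ^ 3 = 1
  · right
    obtain ⟨a, ha, han⟩ := hP.exists_notMem (i := 1) le_rfl (by omega)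
    obtain ⟨c, hc', hcn⟩ := hP.exists_notMem (i := 2) (by omega) (by omega)
    have hc1 : c ∈ P 1 := hP.filt.anti one_le_two hc'
    have hac : Commute a c := hcm a ha c hc1
    -- a subgroup of index `9` without nontrivial normal subgroup
    let K : Subgroup G :=
      { carrier := {g | ∃ i j : ℤ, g = a ^ i * c ^ j}
        one_mem' := ⟨0, 0, by simp⟩
        mul_mem' := by
          rintro _ _ ⟨i, j, rfl⟩ ⟨i', j', rfl⟩
          refine ⟨i + i', j + j', ?_⟩
          rw [zpow_add, zpow_add]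
          exact (hac.zpow_zpow i' j).symm.mul_mul_mul_comm _ _
        inv_mem' := by
          rintro _ ⟨i, j, rfl⟩
          refine ⟨-i, -j, ?_⟩
          rw [mul_inv_rev, zpow_neg, zpow_neg]
          exact (hac.zpow_zpow i j).inv_inv.symm.eq }
    have hdvd : ∀ {u : G} {m : ℕ}, u ∈ P 1 → u ∉ P (m + 1) → ∀ i : ℤ, u ^ i ∈ P (m + 1) →
        u ^ i = 1 := by
      intro u m hu hun i hi
      by_cases h3 : (3 : ℤ) ∣ i
      · obtain ⟨k, rfl⟩ := h3
        rw [zpow_mul, zpow_ofNat, hexp u hu, one_zpow]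
      · obtain ⟨r, s, hrs⟩ := (Int.prime_three.coprime_iff_not_dvd.2 h3)
        refine absurd ?_ hun
        have h1 : u = (u ^ (3 : ℤ)) ^ r * (u ^ i) ^ s := by
          rw [← zpow_mul, ← zpow_mul, ← zpow_add, mul_comm _ r, mul_comm i s, hrs, zpow_one]
        rw [h1, zpow_ofNat, hexp u hu, one_zpow, one_mul]
        exact Subgroup.zpow_mem _ hi s
    have hK3 : ∀ g ∈ K, g ∈ P 3 → g = 1 := by
      rintro _ ⟨i, j, rfl⟩ h3
      have hai : a ^ i = 1 := hdvd ha han i (by
        have := mul_mem (hP.filt.anti (show 2 ≤ 3 by omega) h3)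
          (inv_mem (Subgroup.zpow_mem _ hc' j))
        rwa [mul_inv_cancel_right] at this)
      rw [hai, one_mul] at h3 ⊢
      exact hdvd hc1 hcn j h3
    have haK : a ∈ K := ⟨1, 0, by simp⟩
    have hcK : c ∈ K := ⟨0, 1, by simp⟩
    have hKc : Nat.card K = 9 := by
      have hle : K ≤ P 1 := by
        rintro _ ⟨i, j, rfl⟩
        exact mul_mem (Subgroup.zpow_mem _ ha i) (Subgroup.zpow_mem _ hc1 j)
      obtain ⟨z, hz, hzn⟩ := hP.exists_notMem (i := 3) (by omega) (by omega)
      have hlt : Nat.card K < Nat.card (P 1) := lt_of_not_ge fun h => hzn (by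
        have := hK3 z ((Subgroup.eq_of_le_of_card_ge hle h).ge (hP.filt.anti (by omega) hz)) hz
        rw [this]; exact one_mem _)
      have ha1 : Nat.card (Subgroup.zpowers a) = 3 := by
        rw [Nat.card_zpowers]
        exact orderOf_eq_prime (hexp a ha) fun h => han (by rw [h]; exact one_mem _)
      have hgt : 3 < Nat.card K := by
        rw [← ha1]
        refine lt_of_not_ge fun h => ?_
        have hcz := (Subgroup.eq_of_le_of_card_ge (Subgroup.zpowers_le.2 haK) h).ge hcK
        obtain ⟨i, hi⟩ := Subgroup.mem_zpowers_iff.1 hcz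
        have hai := hdvd ha han i (hi ▸ hc')
        exact hcn (by rw [← hi, hai]; exact one_mem _)
      obtain ⟨k, hk⟩ := (hGp.to_subgroup K).exists_card_eq
      rw [hk] at hlt hgt ⊢
      rw [hM27] at hlt
      have h1 : 1 < k := (Nat.pow_lt_pow_iff_right (show 1 < 3 by norm_num)).1
        (show 3 ^ 1 < 3 ^ k by simpa using hgt)
      have h2 : k < 3 := (Nat.pow_lt_pow_iff_right (show 1 < 3 by norm_num)).1
        (show 3 ^ k < 3 ^ 3 by simpa using hlt)
      obtain rfl : k = 2 := by omega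
      norm_num
    have hcore : K.normalCore = ⊥ := by
      by_contra hne
      have : Nontrivial K.normalCore := (Subgroup.nontrivial_iff_ne_bot _).2 hne
      have hsub := CfsgLib.PGroup.inf_center_ne_bot hGp K.normalCore hne
      obtain ⟨g, ⟨hgK, hgZ⟩, hg1⟩ := (Subgroup.bot_or_exists_ne_one _).resolve_left hsub
      refine hg1 (hK3 g (Subgroup.normalCore_le K hgK) ?_)
      have hg1' : g ∈ P 1 := by
        obtain ⟨i, j, rfl⟩ := Subgroup.normalCore_le K hgK
        exact mul_mem (Subgroup.zpow_mem _ ha i) (Subgroup.zpow_mem _ hc1 j)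
      exact hP.cent g hg1' (Subgroup.mem_center_iff.1 hgZ x).symm
    have hidx : Nat.card (G ⧸ K) = 9 := by
      have h1 := K.card_mul_index
      rw [hKc, hG, Subgroup.index_eq_card] at h1
      omega
    let e : G ⧸ K ≃ Fin 9 := Finite.equivFinOfCardEq hidx
    let ρ : G →* Equiv.Perm (Fin 9) :=
      e.permCongrHom.toMonoidHom.comp (MulAction.toPermHom G (G ⧸ K))
    have hρ : Function.Injective ρ := by
      refine e.permCongrHom.injective.comp ((MonoidHom.ker_eq_bot_iff _).1 ?_)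
      rw [← hcore, Subgroup.normalCore_eq_ker]
    have hr : Nat.card ρ.range = 3 ^ 4 := by
      rw [← hG, Nat.card_congr (MonoidHom.ofInjective hρ).toEquiv]
    obtain ⟨W, hW⟩ := (IsPGroup.of_card hr).exists_le_sylow
    refine ⟨W, ⟨(MonoidHom.ofInjective hρ).trans (MulEquiv.subgroupCongr
      (Subgroup.eq_of_le_of_card_ge hW ?_))⟩⟩
    obtain ⟨k, hk⟩ := W.2.exists_card_eq
    have h1 := (W : Subgroup (Equiv.Perm (Fin 9))).card_subgroup_dvd_card
    rw [hk, Nat.card_perm, Nat.card_fin] at h1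
    rw [hr, hk]
    refine Nat.pow_le_pow_right (by norm_num) ?_
    by_contra h4
    have h5 : (3 : ℕ) ^ 5 ∣ Nat.factorial 9 := (pow_dvd_pow 3 (by omega)).trans h1
    rw [Nat.factorial_succ, Nat.factorial_succ] at h5
    norm_num [Nat.factorial] at h5
  · push_neg at hexp
    obtain ⟨u, hu, hu3⟩ := hexp
    left
    intro H
    by_cases hH : H ≤ P 1
    swap
    · exact two_generated_outside hP hn hall hab hH
    obtain ⟨k, hk⟩ := (hGp.to_subgroup H).exists_card_eq
    have hk3 : k ≤ 3 := by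
      have := Subgroup.card_le_of_le hH
      rw [hM27, hk] at this
      exact (Nat.pow_le_pow_iff_right (show 1 < 3 by norm_num)).1 (show 3 ^ k ≤ 3 ^ 3 by simpa)
    rcases Nat.eq_zero_or_pos k with rfl | hk0
    · exact ⟨∅, by simp, by simp [Subgroup.eq_bot_of_card_eq H (by rw [hk, pow_zero])]⟩
    have hord : ∀ {w : G}, w ≠ 1 → ∃ m, 1 ≤ m ∧ orderOf w = 3 ^ m := by
      intro w hw
      obtain ⟨m, hm⟩ := (hGp.to_subgroup (Subgroup.zpowers w)).exists_card_eq
      rw [Nat.card_zpowers] at hm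
      refine ⟨m, Nat.pos_of_ne_zero fun h => hw ?_, hm⟩
      rw [h, pow_zero, orderOf_eq_one_iff] at hm
      exact hm
    obtain ⟨a, ha, hao⟩ : ∃ a ∈ H, Nat.card H ≤ 3 * orderOf a := by
      rw [hk]
      rcases Nat.lt_or_ge k 3 with hk2 | hk2
      · obtain ⟨a, ha, ha1⟩ := (Subgroup.bot_or_exists_ne_one H).resolve_left fun h => by
          have : (1 : ℕ) < 3 ^ k := Nat.one_lt_pow hk0.ne' (by norm_num)
          rw [← hk, h, Subgroup.card_bot] at this
          omega
        obtain ⟨m, hm, hma⟩ := hord ha1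
        refine ⟨a, ha, ?_⟩
        rw [hma, ← pow_succ']
        exact Nat.pow_le_pow_right (by norm_num) (by omega)
      · have hHM : H = P 1 := Subgroup.eq_of_le_of_card_ge hH (by
          rw [hM27, hk, show k = 3 by omega]; norm_num)
        obtain ⟨m, hm, hma⟩ := hord (w := u) fun h => hu3 (by rw [h, one_pow])
        refine ⟨u, hHM ▸ hu, ?_⟩
        rw [hma, ← pow_succ']
        refine Nat.pow_le_pow_right (by norm_num) ?_
        by_contra h
        refine hu3 ?_
        rw [show (3 : ℕ) = 3 ^ m by rw [show m = 1 by omega, pow_one], ← hma, pow_orderOf_eq_one]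
    by_cases hb : H ≤ Subgroup.zpowers a
    · refine ⟨{a}, by simp, ?_⟩
      rw [Finset.coe_singleton, ← Subgroup.zpowers_eq_closure]
      exact le_antisymm (Subgroup.zpowers_le.2 ha) hb
    · obtain ⟨b, hbH, hba⟩ := SetLike.not_le_iff_exists.1 hb
      refine ⟨{a, b}, Finset.card_le_two, ?_⟩
      rw [Finset.coe_insert, Finset.coe_singleton]
      exact closure_pair_eq_of_card_le hGp ha hbH hba hao

end CfsgLib.PGroup.SmallCent
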