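import Cfsg.Agent.Lib.PGroup.MixedPolySeq
import Cfsg.Agent.Lib.PGroup.PearlThreeGroups
import Mathlib.FieldTheory.Finite.Basic
import Mathlib.Algebra.Algebra.Operations

/-!
# No group of maximal class of order `p ^ (p + 1)` has exponent `p`

In exponent `p` the product of the conjugates of `a` by the powers of `x` is trivial.  Replacing `a`
by its powers `a ^ t` gives an identity between functions of `t`, in which the term
`[a, x, …, x]` is the only one linear in `t`.
-/

set_option autoImplicit false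

namespace CfsgLib.PGroup.SmallCent

open Subgroup
open scoped commutatorElement Pointwise

namespace ExpP

variable {p : ℕ} [hp : Fact p.Prime]

/-- The power with exponent in `ZMod p`. -/
def pw {Q : Type*} [Monoid Q] (g : Q) (t : ZMod p) : Q := g ^ t.val

theorem pw_add {Q : Type*} [Monoid Q] {g : Q} (hg : g ^ p = 1) (s t : ZMod p) :
    pw g (s + t) = pw g s * pw g t := by
  rw [pw, pw, pw, ← pow_add, ZMod.val_add, ← pow_eq_pow_mod _ hg]

theorem pw_natCast {Q : Type*} [Monoid Q] {g : Q} (hg : g ^ p = 1) (m : ℕ) :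
    pw g (m : ZMod p) = g ^ m := by
  rw [pw, ZMod.val_natCast, ← pow_eq_pow_mod _ hg]

theorem pw_mul {Q : Type*} [Monoid Q] {g : Q} (hg : g ^ p = 1) (s t : ZMod p) :
    pw g (s * t) = pw g s ^ t.val := by
  rw [pw, pw, ← pow_mul, ZMod.val_mul, ← pow_eq_pow_mod _ hg]

theorem pw_zero {Q : Type*} [Monoid Q] (g : Q) : pw g (0 : ZMod p) = 1 := by
  rw [pw, ZMod.val_zero, pow_zero]

theorem pw_neg {Q : Type*} [Group Q] {g : Q} (hg : g ^ p = 1) (s : ZMod p) :
    pw g (-s) = (pw g s)⁻¹ :=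
  eq_inv_of_mul_eq_one_left (by rw [← pw_add hg, neg_add_cancel, pw_zero])

theorem pw_inj {Q : Type*} [Group Q] {g : Q} (hg : g ^ p = 1) (hg1 : g ≠ 1) {s t : ZMod p}
    (h : pw g s = pw g t) : s = t := by
  rw [← sub_eq_zero, ← ZMod.val_eq_zero]
  have h0 : g ^ (s - t).val = 1 := by
    show pw g (s - t) = 1
    rw [sub_eq_add_neg, pw_add hg, pw_neg hg, h, mul_inv_cancel]
  have hdvd := orderOf_dvd_of_pow_eq_one h0
  rw [orderOf_eq_prime hg hg1] at hdvd
  exact Nat.eq_zero_of_dvd_of_lt hdvd (ZMod.val_lt _)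

theorem commutator_pow {Q : Type*} [Group Q] {a b : Q} (ha : Commute a ⁅a, b⁆)
    (hb : Commute b ⁅a, b⁆) (m l : ℕ) : ⁅a ^ m, b ^ l⁆ = ⁅a, b⁆ ^ (m * l) := by
  set c := ⁅a, b⁆ with hc
  have h1 : a * b * a⁻¹ = c * b := by rw [hc, commutatorElement_def]; group
  have h2 : a * b ^ l * a⁻¹ = c ^ l * b ^ l := by rw [← conj_pow, h1, hb.symm.mul_pow]
  have h3 : ∀ m, a ^ m * b ^ l * (a ^ m)⁻¹ = c ^ (m * l) * b ^ l := by
    intro m
    induction m with
    | zero => simp
    | succ m ih =>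
      calc a ^ (m + 1) * b ^ l * (a ^ (m + 1))⁻¹ = a * (a ^ m * b ^ l * (a ^ m)⁻¹) * a⁻¹ := by
            rw [pow_succ']; group
        _ = a * c ^ (m * l) * (b ^ l * a⁻¹) := by rw [ih]; group
        _ = c ^ (m * l) * (a * b ^ l * a⁻¹) := by rw [(ha.pow_right _).eq]; group
        _ = c ^ ((m + 1) * l) * b ^ l := by rw [h2, ← mul_assoc, ← pow_add, add_mul, one_mul]
  rw [commutatorElement_def, h3, mul_assoc, mul_inv_cancel, mul_one]

/-- Functions `ZMod p → ZMod p` allowed in the layer `u` for the larger filtration. -/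
def polyA (p u : ℕ) : Submodule (ZMod p) (ZMod p → ZMod p) :=
  Submodule.span (ZMod p) ((fun s t => t ^ s) '' Set.Icc 1 (max (u - 1) 1))

/-- Functions allowed in the layer `u` for the smaller filtration. -/
def polyB (p u : ℕ) : Submodule (ZMod p) (ZMod p → ZMod p) :=
  Submodule.span (ZMod p) ((fun s t => t ^ s) '' Set.Icc 2 (u - 1))

theorem id_mem_polyA (u : ℕ) : (fun t : ZMod p => t) ∈ polyA p u :=
  Submodule.subset_span ⟨1, ⟨le_rfl, le_max_right _ _⟩, funext fun t => pow_one t⟩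

theorem id_notMem_polyB : (fun t : ZMod p => t) ∉ polyB p p := by
  intro h
  have hp2 := hp.out.two_le
  let l : (ZMod p → ZMod p) →ₗ[ZMod p] ZMod p :=
    ∑ t : ZMod p, t ^ (p - 2) • LinearMap.proj t
  have hl : ∀ φ : ZMod p → ZMod p, l φ = ∑ t : ZMod p, t ^ (p - 2) * φ t := fun φ => by
    simp [l, LinearMap.sum_apply]
  have h0 : ∀ φ ∈ polyB p p, l φ = 0 := by
    intro φ hφ
    induction hφ using Submodule.span_induction with
    | mem ψ hψ =>
      obtain ⟨s, ⟨h2, hs⟩, rfl⟩ := hψ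
      rw [hl, show (∑ t : ZMod p, t ^ (p - 2) * t ^ s) = ∑ t : ZMod p, t ^ (s - 1) from
        Finset.sum_congr rfl fun t _ => ?_]
      · exact FiniteField.sum_pow_lt_card_sub_one _ (s - 1) (by rw [ZMod.card]; omega)
      · rw [← pow_add, show p - 2 + s = p + (s - 2) by omega, pow_add, ZMod.pow_card, ← pow_succ']
        congr 1
        omega
    | zero => exact map_zero l
    | add a b _ _ ha hb => rw [map_add, ha, hb, add_zero]
    | smul a b _ hb => rw [map_smul, hb, smul_zero]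
  have h1 := h0 _ h
  rw [hl] at h1
  have h2 : (∑ t : ZMod p, t ^ (p - 2) * t) = -1 := by
    have hsplit : ∀ t : ZMod p, t ^ (p - 2) * t = 1 - if t = 0 then 1 else 0 := by
      intro t
      rw [← pow_succ, show p - 2 + 1 = p - 1 by omega]
      split_ifs with ht
      · rw [ht, zero_pow (by omega), sub_self]
      · rw [sub_zero, ZMod.pow_card_sub_one_eq_one ht]
    simp [hsplit, Finset.sum_sub_distrib, ZMod.card]
  rw [h2] at h1
  exact one_ne_zero (neg_eq_zero.1 h1)

variable {G : Type*} [Group G] [Finite G] {x : G} {P : ℕ → Subgroup G} {a : G}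

/-- The element in position `u`. -/
def el (x a : G) (u : ℕ) : G := (dmap x)^[u - 1] a

theorem el_mem (hS : Setting p (p + 1) x P) (ha : a ∈ P 1) {u : ℕ} (hu : 1 ≤ u) :
    el x a u ∈ P u := by
  have := (hS.iterate_dmap (u - 1) 1 a le_rfl ha).1
  rwa [show 1 + (u - 1) = u by omega] at this

theorem el_succ (u : ℕ) (hu : 1 ≤ u) : el x a (u + 1) = dmap x (el x a u) := by
  rw [el, el, ← Function.iterate_succ_apply' (dmap x), Nat.succ_eq_add_one,
    show u - 1 + 1 = u + 1 - 1 by omega]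

theorem exists_rep (hS : Setting p (p + 1) x P) (ha : a ∈ P 1) (ha2 : a ∉ P 2) {u : ℕ} (hu : 1 ≤ u)
    (hexp : ∀ g : G, g ^ p = 1) {y : G} (hy : y ∈ P u) :
    ∃ m : ℕ, (el x a u ^ m)⁻¹ * y ∈ P (u + 1) := by
  by_cases hup : u ≤ p
  · have hn : el x a u ∉ P (u + 1) := by
      have := (hS.iterate_dmap (u - 1) 1 a le_rfl ha).2 (by omega) ha2
      rwa [show 1 + (u - 1) + 1 = u + 1 by omega] at this
    obtain ⟨k, c, hc, e⟩ := hS.exists_zpow_mul hu (el_mem hS ha hu) hn hy
    refine ⟨(k % p).toNat, ?_⟩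
    rw [← zpow_natCast, Int.toNat_of_nonneg (Int.emod_nonneg _ (by exact_mod_cast hp.out.ne_zero)),
      ← zpow_eq_zpow_emod' k (hexp _), e, inv_mul_cancel_left]
    exact hc
  · refine ⟨0, ?_⟩
    rw [hS.P_eq_bot (by omega) (show p + 1 ≤ u by omega), mem_bot] at hy
    rw [hy, pow_zero, inv_one, one_mul]
    exact one_mem _

theorem comm_top_mem (hS : Setting p (p + 1) x P) {u : ℕ} (hu : 1 ≤ u) {y : G} (hy : y ∈ P u)
    (g : G) : ⁅g, y⁆ ∈ P (u + 1) := by
  have := hS.filt.normal (u + 1)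
  set π := QuotientGroup.mk' (P (u + 1))
  set C := (centralizer ({π y} : Set (G ⧸ P (u + 1)))).comap π with hC
  have hx : x ∈ C := mem_centralizer_singleton_iff.2 (commutatorElement_eq_one_iff_mul_comm.1 (by
    rw [← map_commutatorElement, ← commutatorElement_inv, map_inv, inv_eq_one]
    exact (QuotientGroup.eq_one_iff _).2 (hS.step u hu y hy)))
  have h1 : P 1 ≤ C := fun m hm => mem_centralizer_singleton_iff.2
    (commutatorElement_eq_one_iff_mul_comm.1 (by
      rw [← map_commutatorElement]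
      refine (QuotientGroup.eq_one_iff _).2 ?_
      rw [add_comm]
      exact hS.filt.comm 1 u m hm y hy))
  have hidx : (P 1).index = p := by
    have h2 := (P 1).card_mul_index
    rw [hS.card_P 1 le_rfl (by omega), hS.card_top, show p + 1 - 1 = p by omega, pow_succ] at h2
    exact Nat.eq_of_mul_eq_mul_left (pow_pos hp.out.pos _) h2
  have htop : C = ⊤ := by
    rcases (Nat.dvd_prime hp.out).1 (hidx ▸ index_dvd_of_le h1) with h | h
    · exact index_eq_one.1 h
    · have h3 := C.card_mul_index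
      rw [h, ← (P 1).card_mul_index, hidx] at h3
      have h4 := eq_of_le_of_card_ge h1 (Nat.eq_of_mul_eq_mul_right hp.out.pos h3).le
      exact absurd (h4 ▸ hx) hS.notMem
  have hg : g ∈ C := htop ▸ mem_top g
  refine (QuotientGroup.eq_one_iff _).1 ?_
  show π ⁅g, y⁆ = 1
  rw [map_commutatorElement]
  exact commutatorElement_eq_one_iff_mul_comm.2 (mem_centralizer_singleton_iff.1 hg)

/-- The functions whose values lie in `P u` with the given coordinate there. -/
def Lay (P : ℕ → Subgroup G) [∀ i, (P i).Normal] (x a : G) (u : ℕ) (φ : ZMod p → ZMod p)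
    (F : ZMod p → G) : Prop :=
  (∀ t, F t ∈ P u) ∧ ∀ t, (F t : G ⧸ P (u + 1)) = pw ((el x a u : G) : G ⧸ P (u + 1)) (φ t)

/-- The filtration of the group of functions given by a family of coordinate spaces. -/
def lay (P : ℕ → Subgroup G) [∀ i, (P i).Normal] (x a : G) (hexp : ∀ g : G, g ^ p = 1)
    (D : ℕ → Submodule (ZMod p) (ZMod p → ZMod p)) (u : ℕ) : Subgroup (ZMod p → G) where
  carrier := {F | ∃ φ ∈ D (max u 1), Lay P x a (max u 1) φ F}
  one_mem' := ⟨0, zero_mem _, fun _ => one_mem _, fun t => by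
    rw [Pi.zero_apply, pw_zero]; rfl⟩
  mul_mem' := by
    rintro F H ⟨φ, hφ, h1, h2⟩ ⟨ψ, hψ, k1, k2⟩
    refine ⟨φ + ψ, add_mem hφ hψ, fun t => mul_mem (h1 t) (k1 t), fun t => ?_⟩
    rw [Pi.mul_apply, QuotientGroup.mk_mul, h2, k2, Pi.add_apply, pw_add]
    rw [← QuotientGroup.mk_pow, hexp, QuotientGroup.mk_one]
  inv_mem' := by
    rintro F ⟨φ, hφ, h1, h2⟩
    refine ⟨-φ, neg_mem hφ, fun t => inv_mem (h1 t), fun t => ?_⟩
    rw [Pi.inv_apply, QuotientGroup.mk_inv, h2, Pi.neg_apply, pw_neg]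
    rw [← QuotientGroup.mk_pow, hexp, QuotientGroup.mk_one]

variable [∀ i, (P i).Normal]

theorem mem_lay_of_deeper (hS : Setting p (p + 1) x P) {hexp : ∀ g : G, g ^ p = 1}
    {D : ℕ → Submodule (ZMod p) (ZMod p → ZMod p)} {u : ℕ} {F : ZMod p → G}
    (h : ∀ t, F t ∈ P (max u 1 + 1)) : F ∈ lay P x a hexp D u :=
  ⟨0, zero_mem _, fun t => hS.filt.anti (Nat.le_succ _) (h t), fun t => by
    rw [Pi.zero_apply, pw_zero, (QuotientGroup.eq_one_iff _).2 (h t)]⟩

theorem lay_le (hexp : ∀ g : G, g ^ p = 1) (u : ℕ) :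
    lay P x a hexp (polyB p) u ≤ lay P x a hexp (polyA p) u := by
  rintro F ⟨φ, hφ, h⟩
  exact ⟨φ, Submodule.span_mono (Set.image_mono (Set.Icc_subset_Icc (by norm_num) (le_max_left _ _))) hφ, h⟩

theorem lay_anti (hS : Setting p (p + 1) x P) (hexp : ∀ g : G, g ^ p = 1)
    (D : ℕ → Submodule (ZMod p) (ZMod p → ZMod p)) {i j : ℕ} (hij : i ≤ j) :
    lay P x a hexp D j ≤ lay P x a hexp D i := by
  intro F hF
  rcases Nat.lt_or_ge (max i 1) (max j 1) with h | h
  · obtain ⟨φ, -, h1, -⟩ := hF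
    exact mem_lay_of_deeper hS fun t => hS.filt.anti h (h1 t)
  · obtain ⟨φ, hφ, h12⟩ := hF
    have e : max i 1 = max j 1 := le_antisymm (max_le_max hij le_rfl) h
    exact ⟨φ, by rw [e]; exact hφ, by rw [e]; exact h12⟩

theorem lay_normal (hS : Setting p (p + 1) x P) (hexp : ∀ g : G, g ^ p = 1)
    (D : ℕ → Submodule (ZMod p) (ZMod p → ZMod p)) (u : ℕ) : (lay P x a hexp D u).Normal := by
  refine ⟨fun F ⟨φ, hφ, h1, h2⟩ g => ⟨φ, hφ, fun t => (inferInstance : (P _).Normal).conj_mem _ (h1 t) _,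
    fun t => ?_⟩⟩
  rw [← h2 t]
  show ((g t * F t * (g t)⁻¹ : G) : G ⧸ P (max u 1 + 1)) = _
  have hc := (QuotientGroup.eq_one_iff (N := P (max u 1 + 1)) _).2
    (comm_top_mem hS (le_max_right u 1) (h1 t) (g t))
  rw [commutatorElement_def, QuotientGroup.mk_mul] at hc
  exact mul_inv_eq_one.1 (by rwa [← QuotientGroup.mk_inv])

theorem poly_mul_mem {i j : ℕ} (hi : 1 ≤ i) (hj : 1 ≤ j) (h : 3 ≤ i + j) {φ ψ : ZMod p → ZMod p}
    (hφ : φ ∈ polyA p i) (hψ : ψ ∈ polyA p j) : φ * ψ ∈ polyB p (i + j) := by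
  have h1 := Submodule.mul_mem_mul hφ hψ
  rw [polyA, polyA, Submodule.span_mul_span] at h1
  refine Submodule.span_le.2 ?_ h1
  rintro _ ⟨_, ⟨s, ⟨hs1, hs⟩, rfl⟩, _, ⟨r, ⟨hr1, hr⟩, rfl⟩, rfl⟩
  exact Submodule.subset_span ⟨s + r, ⟨by omega, by omega⟩, funext fun t => pow_add t s r⟩

theorem lay_comm (hS : Setting p (p + 1) x P) (ha : a ∈ P 1) (ha2 : a ∉ P 2)
    (hexp : ∀ g : G, g ^ p = 1) (i j : ℕ) (F : ZMod p → G) (hF : F ∈ lay P x a hexp (polyA p) i)
    (H : ZMod p → G) (hH : H ∈ lay P x a hexp (polyA p) j) :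
    ⁅F, H⁆ ∈ lay P x a hexp (polyB p) (i + j) := by
  obtain ⟨φ, hφ, f1, f2⟩ := hF
  obtain ⟨ψ, hψ, k1, k2⟩ := hH
  have hval : ∀ t, ⁅F t, H t⁆ ∈ P (max i 1 + max j 1) := fun t =>
    hS.filt.comm _ _ _ (f1 t) _ (k1 t)
  by_cases hd : max (i + j) 1 + 1 ≤ max i 1 + max j 1
  · exact mem_lay_of_deeper hS fun t => hS.filt.anti hd (hval t)
  have hi : 1 ≤ i := by omega
  have hj : 1 ≤ j := by omega
  rw [max_eq_left hi] at hφ f1 f2
  rw [max_eq_left hj] at hψ k1 k2
  rw [max_eq_left hi, max_eq_left hj] at hval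
  have hmax : max (i + j) 1 = i + j := by omega
  have hij : 1 ≤ i + j := by omega
  set w : G ⧸ P (i + j + 1) := ((el x a (i + j) : G) : G ⧸ P (i + j + 1)) with hw
  have hwp : w ^ p = 1 := by rw [hw, ← QuotientGroup.mk_pow, hexp, QuotientGroup.mk_one]
  obtain ⟨c, hc⟩ := exists_rep hS ha ha2 hij hexp
    (hS.filt.comm i j _ (el_mem hS ha hi) _ (el_mem hS ha hj))
  have key : ∀ t, ((⁅F t, H t⁆ : G) : G ⧸ P (i + j + 1)) = pw w ((c : ZMod p) * (φ t * ψ t)) := by
    intro t
    set π := QuotientGroup.mk' (P (i + j + 1))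
    have hcen : ∀ z ∈ P (i + j), ∀ g, Commute (π g) (π z) := fun z hz g =>
      commutatorElement_eq_one_iff_mul_comm.1 (by
        rw [← map_commutatorElement]
        exact (QuotientGroup.eq_one_iff _).2 (comm_top_mem hS hij hz g))
    have hF' : ∃ y ∈ P (i + 1), F t = el x a i ^ (φ t).val * y := by
      have h := f2 t
      rw [pw, ← QuotientGroup.mk_pow] at h
      exact ⟨_, QuotientGroup.eq.1 h.symm, (mul_inv_cancel_left _ _).symm⟩
    have hH' : ∃ y ∈ P (j + 1), H t = el x a j ^ (ψ t).val * y := by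
      have h := k2 t
      rw [pw, ← QuotientGroup.mk_pow] at h
      exact ⟨_, QuotientGroup.eq.1 h.symm, (mul_inv_cancel_left _ _).symm⟩
    obtain ⟨y, hy, eF⟩ := hF'
    obtain ⟨z, hz, eH⟩ := hH'
    have hy' : Commute (π y) (π (H t)) := commutatorElement_eq_one_iff_mul_comm.1 (by
      rw [← map_commutatorElement]
      exact (QuotientGroup.eq_one_iff _).2
        (hS.filt.anti (by omega) (hS.filt.comm (i + 1) j _ hy _ (k1 t))))
    have hz' : Commute (π (el x a i ^ (φ t).val)) (π z) := commutatorElement_eq_one_iff_mul_comm.1 (by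
      rw [← map_commutatorElement]
      exact (QuotientGroup.eq_one_iff _).2
        (hS.filt.anti (by omega) (hS.filt.comm i (j + 1) _ (pow_mem (el_mem hS ha hi) _) _ hz)))
    have e1 : π ⁅F t, H t⁆ = ⁅π (el x a i) ^ (φ t).val, π (el x a j) ^ (ψ t).val⁆ := by
      rw [map_commutatorElement, eF, map_mul, ← map_pow, ← map_pow]
      calc ⁅π (el x a i ^ (φ t).val) * π y, π (H t)⁆
          = π (el x a i ^ (φ t).val) * ⁅π y, π (H t)⁆ * (π (el x a i ^ (φ t).val))⁻¹ *
              ⁅π (el x a i ^ (φ t).val), π (H t)⁆ := by simp only [commutatorElement_def]; group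
        _ = ⁅π (el x a i ^ (φ t).val), π (H t)⁆ := by
            rw [commutatorElement_eq_one_iff_mul_comm.2 hy'.eq, mul_one, mul_inv_cancel, one_mul]
        _ = ⁅π (el x a i ^ (φ t).val), π (el x a j ^ (ψ t).val)⁆ *
              (π (el x a j ^ (ψ t).val) * ⁅π (el x a i ^ (φ t).val), π z⁆ *
                (π (el x a j ^ (ψ t).val))⁻¹) := by
            rw [eH, map_mul]; simp only [commutatorElement_def]; group
        _ = _ := by
            rw [commutatorElement_eq_one_iff_mul_comm.2 hz'.eq, mul_one, mul_inv_cancel, mul_one]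
    have e2 : ⁅π (el x a i), π (el x a j)⁆ = w ^ c := by
      rw [← map_commutatorElement, hw, ← QuotientGroup.mk_pow]
      exact (QuotientGroup.eq.2 hc).symm
    have hcm := hS.filt.comm i j _ (el_mem hS ha hi) _ (el_mem hS ha hj)
    rw [show ((⁅F t, H t⁆ : G) : G ⧸ P (i + j + 1)) = π ⁅F t, H t⁆ from (map_commutatorElement π _ _).symm,
      e1, commutator_pow
        (by rw [← map_commutatorElement]; exact hcen _ hcm _)
        (by rw [← map_commutatorElement]; exact hcen _ hcm _), e2, ← pow_mul, ← pw_natCast hwp]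
    congr 1
    push_cast
    rw [ZMod.natCast_zmod_val, ZMod.natCast_zmod_val]
  refine ⟨(c : ZMod p) • (φ * ψ), ?_, ?_, ?_⟩
  · rw [hmax]
    by_cases h3 : 3 ≤ i + j
    · exact Submodule.smul_mem _ _ (poly_mul_mem hi hj h3 hφ hψ)
    · obtain rfl : i = 1 := by omega
      obtain rfl : j = 1 := by omega
      rw [commutatorElement_self, mul_one, inv_mem_iff] at hc
      by_cases hc0 : (c : ZMod p) = 0
      · rw [hc0, zero_smul]; exact zero_mem _
      exfalso
      have hn : el x a (1 + 1) ∉ P (1 + 1 + 1) := by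
        have := (hS.iterate_dmap 1 1 a le_rfl ha).2 (by have := hp.out.two_le; omega) ha2
        exact this
      have hw1 : w ≠ 1 := fun h => hn ((QuotientGroup.eq_one_iff _).1 h)
      have hwc : pw w (c : ZMod p) = pw w (0 : ZMod p) := by
        rw [pw_zero, pw_natCast hwp, hw, ← QuotientGroup.mk_pow]
        exact (QuotientGroup.eq_one_iff _).2 hc
      exact hc0 (pw_inj hwp hw1 hwc)
  · intro t; rw [hmax]; exact hval t
  · rw [hmax]
    intro t
    rw [Pi.smul_apply, Pi.mul_apply, smul_eq_mul]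
    exact key t

theorem lay_filtration (hS : Setting p (p + 1) x P) (ha : a ∈ P 1) (ha2 : a ∉ P 2)
    (hexp : ∀ g : G, g ^ p = 1) :
    IsFiltration (lay P x a hexp (polyA p)) ∧ IsFiltration (lay P x a hexp (polyB p)) :=
  ⟨⟨lay_anti hS hexp _, fun i j F hF H hH => lay_le hexp _ (lay_comm hS ha ha2 hexp i j F hF H hH),
    lay_normal hS hexp _⟩,
   ⟨lay_anti hS hexp _, fun i j F hF H hH =>
      lay_comm hS ha ha2 hexp i j F (lay_le hexp _ hF) H (lay_le hexp _ hH),
    lay_normal hS hexp _⟩⟩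

theorem Lay.dmap (hS : Setting p (p + 1) x P) (ha : a ∈ P 1) {l : ℕ} (hl : 1 ≤ l)
    {φ : ZMod p → ZMod p} {F : ZMod p → G} (h : Lay P x a l φ F) :
    Lay P x a (l + 1) φ (SmallCent.dmap (fun _ => x) F) := by
  obtain ⟨h1, h2⟩ := h
  refine ⟨fun t => hS.dmap_mem hl (h1 t), fun t => ?_⟩
  set π := QuotientGroup.mk' (P (l + 1 + 1))
  have hhom : ∀ y ∈ P l, ∀ z ∈ P l,
      π (SmallCent.dmap x (y * z)) = π (SmallCent.dmap x y) * π (SmallCent.dmap x z) := by
    intro y hy z _
    have hc : Commute (π z⁻¹) (π (SmallCent.dmap x y)) := commutatorElement_eq_one_iff_mul_comm.1 (by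
      rw [← map_commutatorElement]
      exact (QuotientGroup.eq_one_iff _).2 (comm_top_mem hS (by omega) (hS.dmap_mem hl hy) _))
    rw [show SmallCent.dmap x (y * z) = z⁻¹ * SmallCent.dmap x y * z * SmallCent.dmap x z by
      simp only [SmallCent.dmap]; group, map_mul, map_mul, map_mul, hc.eq, mul_assoc (π _) (π z⁻¹),
      ← map_mul π z⁻¹ z, inv_mul_cancel, map_one, mul_one]
  have hd1 : π (SmallCent.dmap x 1) = 1 := by simp [SmallCent.dmap]
  have hpow : ∀ y ∈ P l, ∀ m : ℕ,
      π (SmallCent.dmap x (y ^ m)) = π (SmallCent.dmap x y) ^ m := by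
    intro y hy m
    induction m with
    | zero => rw [pow_zero, pow_zero, hd1]
    | succ m ih => rw [pow_succ, hhom _ (pow_mem hy m) _ hy, ih, pow_succ]
  have h := h2 t
  rw [pw, ← QuotientGroup.mk_pow] at h
  have hy := QuotientGroup.eq.1 h.symm
  show π (SmallCent.dmap x (F t)) = _
  rw [show F t = el x a l ^ (φ t).val * ((el x a l ^ (φ t).val)⁻¹ * F t) from
      (mul_inv_cancel_left _ _).symm, hhom _ (pow_mem (el_mem hS ha hl) _) _
      (hS.filt.anti (Nat.le_succ l) hy), show π (SmallCent.dmap x ((el x a l ^ (φ t).val)⁻¹ * F t)) = 1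
      from (QuotientGroup.eq_one_iff _).2 (hS.dmap_mem (by omega) hy), mul_one, hpow _ (el_mem hS ha hl),
    ← el_succ l hl]
  rfl

theorem fpoly_conj (hS : Setting p (p + 1) x P) (ha : a ∈ P 1)
    (hexp : ∀ g : G, g ^ p = 1) : ∀ (d l : ℕ) (φ : ZMod p → ZMod p), 1 ≤ l → φ ∈ polyA p l →
    ∀ F : ZMod p → G, Lay P x a l φ F →
    let X : ZMod p → G := fun _ => x
    FPoly (lay P x a hexp (polyA p)) d l (fun k => X ^ k * F * (X ^ k)⁻¹) ∧
      sdiff^[d] (fun k => X ^ k * F * (X ^ k)⁻¹) =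
        fun k => X ^ k * (SmallCent.dmap X)^[d] F * (X ^ k)⁻¹ := by
  intro d
  induction d with
  | zero =>
    intro l φ hl hφ F hF X
    exact ⟨fun k => (lay_normal hS hexp _ l).conj_mem F
      ⟨φ, by rwa [max_eq_left hl], by rwa [max_eq_left hl]⟩ _, rfl⟩
  | succ d ih =>
    intro l φ hl hφ F hF X
    have he : sdiff (fun k => X ^ k * F * (X ^ k)⁻¹) =
        fun k => X ^ k * SmallCent.dmap X F * (X ^ k)⁻¹ := by
      funext k
      simp only [sdiff, SmallCent.dmap, pow_succ]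
      group
    obtain ⟨h1, h2⟩ := ih (l + 1) φ (by omega)
      (Submodule.span_mono (Set.image_mono (Set.Icc_subset_Icc le_rfl (max_le_max (by omega) le_rfl))) hφ)
      _ (hF.dmap hS ha hl)
    refine ⟨⟨fun k => (lay_normal hS hexp _ l).conj_mem F
      ⟨φ, by rwa [max_eq_left hl], by rwa [max_eq_left hl]⟩ _, by rw [he]; exact h1⟩, ?_⟩
    rw [Function.iterate_succ_apply, he, h2, Function.iterate_succ_apply]

end ExpP

open ExpP in
/-- A group of order `p ^ (p + 1)` with the series of a group of maximal class does not have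
exponent `p`. -/
theorem Setting.exponent_ne {G : Type*} [Group G] [Finite G] {p : ℕ} [hp : Fact p.Prime] {x : G}
    {P : ℕ → Subgroup G} (hS : Setting p (p + 1) x P) : ¬ ∀ g : G, g ^ p = 1 := by
  intro hexp
  have hp2 := hp.out.two_le
  have : ∀ i, (P i).Normal := hS.filt.normal
  obtain ⟨a, ha, ha2⟩ := hS.exists_notMem le_rfl (by omega : 1 < p + 1)
  obtain ⟨hA, hB⟩ := lay_filtration hS ha ha2 hexp
  set A := lay P x a hexp (polyA p)
  set B := lay P x a hexp (polyB p)
  set X : ZMod p → G := fun _ => x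
  set F : ZMod p → G := fun t => pw a t with hF
  have hLF : Lay P x a 1 (fun t => t) F := by
    refine ⟨fun t => _root_.pow_mem ha _, fun t => ?_⟩
    simp only [hF, pw, QuotientGroup.mk_pow]; rfl
  have hconj := fun d => ExpP.fpoly_conj hS ha hexp d 1 (fun t => t) le_rfl (id_mem_polyA 1) F hLF
  have hXp : ∀ g : ZMod p → G, g ^ p = 1 := fun g => funext fun t => hexp (g t)
  set f : ℕ → ZMod p → G := fun k => (F * X) ^ k * (X ^ k)⁻¹ with hf
  have hf' : sdiff f = fun k => X ^ k * F * (X ^ k)⁻¹ := by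
    funext k
    simp only [hf, sdiff, pow_succ]
    group
  have hfv : ∀ k, f k ∈ A 0 := by
    intro k
    induction k with
    | zero => simp [hf]
    | succ k ihk =>
      rw [eq_mul_sdiff f k]
      exact mul_mem ihk (by rw [hf']; exact hA.anti zero_le_one ((hconj 0).1 k))
  have hfq : ∀ q, FPoly A (q + 1) 0 f := fun q => ⟨hfv, by rw [hf']; exact (hconj q).1⟩
  have hfp : FPoly A p 0 f := by
    have h := hfq (p - 1)
    have e : p - 1 + 1 = p := by omega
    exact (congrArg (fun d => FPoly A d 0 f) e).mp h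
  have := hB.normal p
  set π := QuotientGroup.mk' (B p)
  have hfd : sdiff^[p] f 0 = (SmallCent.dmap X)^[p - 1] F := by
    have e : p - 1 + 1 = p := by omega
    calc sdiff^[p] f 0 = sdiff^[p - 1 + 1] f 0 := by
          exact (congrArg (fun d => sdiff^[d] f 0) e).symm
      _ = (SmallCent.dmap X)^[p - 1] F := by
          rw [Function.iterate_succ_apply, hf', (hconj _).2]; simp [X]
  have key : ∀ r, r < p → ∃ h : ℕ → ZMod p → G, FPoly A p 0 h ∧ (∀ m ≤ r, h m = 1) ∧ h p = 1 ∧
      π (sdiff^[p] h 0) = π (sdiff^[p] f 0) := by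
    intro r
    induction r with
    | zero =>
      refine fun _ => ⟨f, hfp, fun m hm => ?_, ?_, rfl⟩
      · rw [Nat.le_zero.1 hm]; simp [hf]
      · show (F * X) ^ p * (X ^ p)⁻¹ = 1
        rw [hXp, hXp, inv_one, mul_one]
    | succ r ih =>
      intro hrp
      obtain ⟨h, hh, h0, hpv, hdv⟩ := ih (by omega)
      obtain ⟨M, -, -⟩ := fpoly_closed hA p
      have hdown : ∀ d, FPoly A (r + 1 + d) 0 h → FPoly A (r + 1) 0 h := by
        intro d
        induction d with
        | zero => exact id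
        | succ d ihd => exact fun H => ihd H.of_succ
      have hc : h (r + 1) ∈ A (0 + (r + 1)) := fpoly_vanishing (r + 1) 0 h
        (hdown (p - (r + 1)) (by rwa [show r + 1 + (p - (r + 1)) = p by omega]))
        (fun m hm => h0 m (by omega)) (r + 1)
      set u : ℕ → ZMod p → G := fun k => (h (r + 1))⁻¹ ^ k.choose (r + 1)
      have hu : FPoly A p 0 u := fpoly_choose hA p (r + 1) 0 _ (inv_mem hc)
      refine ⟨fun k => u k * h k, M _ _ _ hu hh, fun m hm => ?_, ?_, ?_⟩
      · rcases Nat.lt_or_ge m (r + 1) with hlt | hge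
        · simp only [u, Nat.choose_eq_zero_of_lt hlt, pow_zero, one_mul, h0 m (by omega)]
        · rw [show m = r + 1 by omega]; simp [u]
      · obtain ⟨q, hq⟩ := hp.out.dvd_choose_self (Nat.succ_ne_zero r) hrp
        show (h (r + 1))⁻¹ ^ p.choose (r + 1) * h p = 1
        rw [hq, pow_mul, hXp, one_pow, one_mul, hpv]
      · rw [← hdv]
        have h1 := iterate_sdiff_mul_mixed hA hB (lay_le hexp) (lay_comm hS ha ha2 hexp) p 0 u h hu hh
        rw [iterate_sdiff_choose _ p (r + 1) hrp, one_mul, mul_zero, zero_add] at h1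
        exact (QuotientGroup.eq.2 h1).symm
  obtain ⟨h, -, h0, hpv, hdv⟩ := key (p - 1) (by omega)
  rw [← apply_eq_iterate_sdiff p h (fun m hm => h0 m (by omega)), hpv, map_one, hfd, eq_comm] at hdv
  obtain ⟨ψ, hψ, -, hψ2⟩ := (QuotientGroup.eq_one_iff _).1 hdv
  rw [max_eq_left hp.out.pos] at hψ hψ2
  have hlay : ∀ d, Lay P x a (1 + d) (fun t => t) ((SmallCent.dmap X)^[d] F) := by
    intro d
    induction d with
    | zero => exact hLF
    | succ d ihd => rw [Function.iterate_succ_apply']; exact ihd.dmap hS ha (by omega)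
  have h3 := (hlay (p - 1)).2
  rw [show 1 + (p - 1) = p by omega] at h3
  have hn : el x a p ∉ P (p + 1) := by
    have h := (hS.iterate_dmap (p - 1) 1 a le_rfl ha).2 (by omega) ha2
    rw [show 1 + (p - 1) + 1 = p + 1 by omega] at h
    exact h
  refine id_notMem_polyB (p := p) ?_
  convert hψ using 1
  funext t
  refine pw_inj (g := ((el x a p : G) : G ⧸ P (p + 1))) ?_ ?_ ((h3 t).symm.trans (hψ2 t))
  · rw [← QuotientGroup.mk_pow, hexp, QuotientGroup.mk_one]
  · exact fun h => hn ((QuotientGroup.eq_one_iff _).1 h)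

end CfsgLib.PGroup.SmallCent
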