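import Cfsg.Agent.Lib.PGroup.SymplecticPlane
import Cfsg.Agent.Lib.PGroup.Basic
import Cfsg.Prelude

/-!
Metacyclic `p`-groups for odd `p`.  With `G = ⟨a⟩⟨b⟩`, `b a b⁻¹ = a ^ r` and `|G'| = p ^ n` there is
a surjection `G → (ℤ/p^n)²` whose fibres are the cosets of the centre, under which two elements
commute exactly when the determinant of their images vanishes.
-/

set_option autoImplicit false

open scoped commutatorElement

namespace CfsgLib.PGroup.Metacyclic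

open Plane (det perp)

/-- `1 + R + ⋯ + R ^ (i - 1)`. -/
def gsum (R i : ℕ) : ℕ := ∑ k ∈ Finset.range i, R ^ k

theorem gsum_zero (R : ℕ) : gsum R 0 = 0 := by simp [gsum]

theorem gsum_one (R : ℕ) : gsum R 1 = 1 := by simp [gsum]

theorem gsum_add (R i k : ℕ) : gsum R (i + k) = gsum R i + R ^ i * gsum R k := by
  simp only [gsum, Finset.sum_range_add, Finset.mul_sum, pow_add]

theorem gsum_mul (R i k : ℕ) : gsum R (i * k) = gsum R i * gsum (R ^ i) k := by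
  induction k with
  | zero => simp [gsum_zero]
  | succ k ih =>
    rw [Nat.mul_succ, gsum_add, ih, gsum_add, gsum_one, ← pow_mul]
    ring

theorem pow_eq_gsum {R : ℕ} (hR : 1 ≤ R) (i : ℕ) : R ^ i = (R - 1) * gsum R i + 1 := by
  obtain ⟨x, rfl⟩ := Nat.exists_eq_add_of_le hR
  rw [Nat.add_sub_cancel_left, add_comm 1 x, mul_comm, gsum, geom_sum_mul_add]

variable {p : ℕ} [hp : Fact p.Prime]

theorem natCast_eq_one {R : ℕ} (hR : 1 ≤ R) (h : p ∣ R - 1) : (R : ZMod p) = 1 := by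
  obtain ⟨c, hc⟩ := h
  rw [show R = p * c + 1 by omega]
  simp

theorem gsum_cast_prime {R : ℕ} (hR : 1 ≤ R) (h : p ∣ R - 1) (i : ℕ) :
    (gsum R i : ZMod p) = i := by
  simp [gsum, natCast_eq_one hR h]

theorem dvd_pow_sub_one {R : ℕ} (hR : 1 ≤ R) {D : ℕ} (h : D ∣ R - 1) (i : ℕ) : D ∣ R ^ i - 1 := by
  rw [pow_eq_gsum hR i, Nat.add_sub_cancel]
  exact h.mul_right _

theorem one_le_pow' {R : ℕ} (hR : 1 ≤ R) (i : ℕ) : 1 ≤ R ^ i := Nat.one_le_pow _ _ hR

theorem gsum_prime (hodd : p ≠ 2) {R D : ℕ} (hR : 1 ≤ R) (hD : D ∣ R - 1) (hpD : p ∣ D) :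
    ∃ w, gsum R p = p + p * D * w := by
  have h1 : gsum R p = (R - 1) * (∑ k ∈ Finset.range p, gsum R k) + p := by
    conv_lhs => rw [gsum]
    rw [Finset.sum_congr rfl fun k _ => pow_eq_gsum hR k, Finset.sum_add_distrib, ← Finset.mul_sum]
    simp
  have h2 : p ∣ ∑ k ∈ Finset.range p, gsum R k := by
    rw [← ZMod.natCast_eq_zero_iff, Nat.cast_sum,
      Finset.sum_congr rfl fun k _ => gsum_cast_prime hR (hpD.trans hD) k, ← Nat.cast_sum,
      ZMod.natCast_eq_zero_iff, Finset.sum_range_id]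
    obtain ⟨c, hc⟩ := hp.out.odd_of_ne_two hodd
    rw [show p - 1 = 2 * c by omega, show p * (2 * c) = p * c * 2 by ring, Nat.mul_div_cancel _ (by norm_num)]
    exact Dvd.intro c rfl
  obtain ⟨d, hd⟩ := hD
  obtain ⟨u, hu⟩ := h2
  exact ⟨d * u, by rw [h1, hd, hu]; ring⟩

theorem dvd_gsum_iff (hodd : p ≠ 2) : ∀ (i : ℕ) {R : ℕ}, 1 ≤ R → p ∣ R - 1 →
    ∀ k, (p ^ k ∣ gsum R i ↔ p ^ k ∣ i) := by
  intro i
  induction i using Nat.strong_induction_on with
  | _ i ih =>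
    intro R hR h k
    rcases Nat.eq_zero_or_pos i with rfl | hi
    · simp [gsum_zero]
    rcases k with _ | k
    · simp
    by_cases hd : p ∣ i
    · obtain ⟨i', rfl⟩ := hd
      have hi' : i' < p * i' := by
        have : 0 < i' := Nat.pos_of_ne_zero (by rintro rfl; simp at hi)
        exact lt_mul_left this hp.out.one_lt
      obtain ⟨w, hw⟩ := gsum_prime hodd hR h dvd_rfl
      have hco : (p ^ k).Coprime (1 + p * w) :=
        Nat.Coprime.pow_left k (hp.out.coprime_iff_not_dvd.2 fun hc =>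
          hp.out.not_dvd_one ((Nat.dvd_add_left (Dvd.intro w rfl)).1 hc))
      rw [gsum_mul, hw, show (p + p * p * w) * gsum (R ^ p) i' = p * ((1 + p * w) * gsum (R ^ p) i') by ring,
        pow_succ', Nat.mul_dvd_mul_iff_left hp.out.pos, Nat.mul_dvd_mul_iff_left hp.out.pos,
        hco.dvd_mul_left, ih i' hi' (one_le_pow' hR p) (dvd_pow_sub_one hR h p) k]
    · have h1 : ¬ p ∣ gsum R i := by
        rw [← ZMod.natCast_eq_zero_iff, gsum_cast_prime hR h, ZMod.natCast_eq_zero_iff]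
        exact hd
      exact iff_of_false (fun h2 => h1 ((dvd_pow_self p k.succ_ne_zero).trans h2))
        (fun h2 => hd ((dvd_pow_self p k.succ_ne_zero).trans h2))

theorem gsum_prime_pow (hodd : p ≠ 2) {R σ : ℕ} (hR : 1 ≤ R) (hσ : p ^ σ ∣ R - 1) (hσ0 : σ ≠ 0)
    (k : ℕ) : ∃ w, gsum R (p ^ k) = p ^ k + p ^ (k + σ) * w := by
  induction k with
  | zero => exact ⟨0, by simp [gsum_one]⟩
  | succ k ih =>
    obtain ⟨w, hw⟩ := ih
    have hD : p ^ (k + σ) ∣ R ^ (p ^ k) - 1 := by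
      rw [pow_eq_gsum hR, Nat.add_sub_cancel, add_comm, pow_add]
      refine Nat.mul_dvd_mul hσ ?_
      rw [hw, pow_add]
      exact Nat.dvd_add dvd_rfl (Dvd.intro _ (mul_assoc _ _ _).symm)
    obtain ⟨u, hu⟩ := gsum_prime hodd (one_le_pow' hR _) hD (dvd_pow_self p (by omega))
    refine ⟨p ^ k * u + w + w * (p ^ (k + σ) * u), ?_⟩
    rw [pow_succ, gsum_mul, hw, hu]
    ring

theorem isUnit_natCast_pow {n R : ℕ} (hR : 1 ≤ R) (h : p ∣ R - 1) (i : ℕ) :
    IsUnit ((R ^ i : ℕ) : ZMod (p ^ n)) := by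
  rw [ZMod.isUnit_iff_coprime]
  refine ((hp.out.coprime_iff_not_dvd.2 fun hd => ?_).symm).pow i n
  rw [← ZMod.natCast_eq_zero_iff, natCast_eq_one hR h] at hd
  exact one_ne_zero hd

theorem gsum_cast_eq_zero_iff (hodd : p ≠ 2) {n R : ℕ} (hR : 1 ≤ R) (h : p ∣ R - 1) (i : ℕ) :
    (gsum R i : ZMod (p ^ n)) = 0 ↔ (i : ZMod (p ^ n)) = 0 := by
  rw [ZMod.natCast_eq_zero_iff, ZMod.natCast_eq_zero_iff, dvd_gsum_iff hodd i hR h n]

theorem gsum_cast_eq_iff (hodd : p ≠ 2) {n R : ℕ} (hR : 1 ≤ R) (h : p ∣ R - 1) (i k : ℕ) :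
    (gsum R i : ZMod (p ^ n)) = gsum R k ↔ (i : ZMod (p ^ n)) = k := by
  wlog hik : i ≤ k generalizing i k
  · rw [eq_comm, this k i (by omega), eq_comm]
  obtain ⟨d, rfl⟩ := Nat.exists_eq_add_of_le hik
  rw [gsum_add, Nat.cast_add, Nat.cast_mul, Nat.cast_add, left_eq_add, left_eq_add,
    (isUnit_natCast_pow hR h i).mul_right_eq_zero, gsum_cast_eq_zero_iff hodd hR h]

theorem gsum_surjective (hodd : p ≠ 2) {n R : ℕ} (hR : 1 ≤ R) (h : p ∣ R - 1) (c : ZMod (p ^ n)) :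
    ∃ k : ℕ, (gsum R k : ZMod (p ^ n)) = c := by
  haveI := Plane.neZero_pow (p := p) (n := n)
  have hinj : Function.Injective fun x : ZMod (p ^ n) => (gsum R x.val : ZMod (p ^ n)) := by
    intro x y hxy
    have := (gsum_cast_eq_iff hodd hR h _ _).1 hxy
    simpa using this
  obtain ⟨x, hx⟩ := Finite.surjective_of_injective hinj c
  exact ⟨x.val, hx⟩

/-- Presentation data of a metacyclic `p`-group. -/
structure MData (G : Type*) [Group G] (p : ℕ) where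
  a : G
  b : G
  m : ℕ
  t : ℕ
  n : ℕ
  r : ℕ
  orderA : orderOf a = p ^ m
  one_le : 1 ≤ r
  dvd_r : p ∣ r - 1
  conj : b * a * b⁻¹ = a ^ r
  gen : ∀ g : G, ∃ j i : ℕ, g = a ^ j * b ^ i
  mem_iff : ∀ i : ℕ, b ^ i ∈ Subgroup.zpowers a ↔ p ^ t ∣ i
  cardG : Nat.card G = p ^ m * p ^ t
  pow_eq_one_iff : ∀ x : ℕ, a ^ ((r - 1) * x) = 1 ↔ p ^ n ∣ x
  card_commutator : Nat.card (commutator G) = p ^ n

variable {G : Type*} [Group G]

theorem exists_mdata [Finite G] (hG : IsPGroup p G) (hmc : Cfsg.IsMetacyclic G) :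
    Nonempty (MData G p) := by
  obtain ⟨N, hN, hNc, hQc⟩ := hmc
  obtain ⟨a, ha⟩ := (Subgroup.isCyclic_iff_exists_zpowers_eq_top N).1 hNc
  obtain ⟨b', hb'⟩ := hQc.exists_generator
  obtain ⟨b, rfl⟩ := QuotientGroup.mk'_surjective N b'
  obtain ⟨m, hm⟩ := (hG.exists_orderOf_eq_pow a).imp fun _ => id
  obtain ⟨t, ht⟩ := ((hG.to_quotient N).exists_orderOf_eq_pow (QuotientGroup.mk' N b)).imp fun _ => id
  have hmemN : ∀ i : ℕ, b ^ i ∈ Subgroup.zpowers a ↔ p ^ t ∣ i := by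
    intro i
    rw [ha, ← ht, orderOf_dvd_iff_pow_eq_one, ← map_pow, QuotientGroup.mk'_apply,
      QuotientGroup.eq_one_iff]
  have hcard : Nat.card G = p ^ m * p ^ t := by
    rw [← N.card_mul_index, ← ha, Nat.card_zpowers, hm, ha, N.index_eq_card,
      ← orderOf_eq_card_of_forall_mem_zpowers hb', ht]
  have hpow : ∀ x ∈ N, ∃ j : ℕ, x = a ^ j := by
    intro x hx
    rw [← ha, ← mem_powers_iff_mem_zpowers] at hx
    obtain ⟨j, hj⟩ := hx
    exact ⟨j, hj.symm⟩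
  obtain ⟨r, hr1, hrp, hconj⟩ : ∃ r, 1 ≤ r ∧ p ∣ r - 1 ∧ b * a * b⁻¹ = a ^ r := by
    by_cases ha1 : a = 1
    · exact ⟨1, le_rfl, by simp, by simp [ha1]⟩
    have haN : a ∈ N := ha ▸ Subgroup.mem_zpowers a
    obtain ⟨r₀, hr₀⟩ := hpow _ (hN.conj_mem a haN b)
    set r := r₀ + p ^ m with hr
    have hr' : b * a * b⁻¹ = a ^ r := by rw [hr, pow_add, ← hm, pow_orderOf_eq_one, mul_one, hr₀]
    have hr1 : 1 ≤ r := le_add_left (Nat.one_le_pow _ _ hp.out.pos)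
    refine ⟨r, hr1, ?_, hr'⟩
    have hiter : ∀ i : ℕ, b ^ i * a * (b ^ i)⁻¹ = a ^ (r ^ i) := by
      intro i
      induction i with
      | zero => simp
      | succ i ih =>
        rw [pow_succ', mul_inv_rev, show b * b ^ i * a * ((b ^ i)⁻¹ * b⁻¹) = b * (b ^ i * a * (b ^ i)⁻¹) * b⁻¹ by group,
          ih, ← conj_pow, hr', ← pow_mul, pow_succ']
    have hbq : b ^ (p ^ t) * a = a * b ^ (p ^ t) := by
      obtain ⟨z, hz⟩ := (hmemN (p ^ t)).2 dvd_rfl
      rw [← hz]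
      exact (Commute.self_zpow a z).eq.symm
    have h1 := hiter (p ^ t)
    rw [hbq, mul_inv_cancel_right] at h1
    have h2 : r ^ (p ^ t) ≡ 1 [MOD orderOf a] := pow_eq_pow_iff_modEq.1 (by rw [pow_one]; exact h1.symm)
    have hm0 : m ≠ 0 := fun h => ha1 (orderOf_eq_one_iff.1 (by rw [hm, h, pow_zero]))
    have h3 : r ^ (p ^ t) ≡ 1 [MOD p] := h2.of_dvd (hm ▸ dvd_pow_self p hm0)
    rw [← ZMod.natCast_eq_natCast_iff, Nat.cast_pow, ZMod.pow_card_pow, Nat.cast_one] at h3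
    rw [← ZMod.natCast_eq_zero_iff, Nat.cast_sub hr1, h3, Nat.cast_one, sub_self]
  obtain ⟨n, hn⟩ := hG.exists_orderOf_eq_pow (a ^ (r - 1))
  have hgen : ∀ g : G, ∃ j i : ℕ, g = a ^ j * b ^ i := by
    intro g
    obtain ⟨i, hi⟩ := mem_powers_iff_mem_zpowers.2 (hb' (QuotientGroup.mk' N g))
    have hmem : g * (b ^ i)⁻¹ ∈ N := by
      rw [← QuotientGroup.eq_one_iff]
      show QuotientGroup.mk' N (g * (b ^ i)⁻¹) = 1
      rw [map_mul, map_inv, map_pow, ← hi, mul_inv_cancel]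
    obtain ⟨j, hj⟩ := hpow _ hmem
    exact ⟨j, i, by rw [← hj, inv_mul_cancel_right]⟩
  refine ⟨⟨a, b, m, t, n, r, hm, hr1, hrp, hconj, hgen, hmemN, hcard, fun x => ?_, ?_⟩⟩
  · rw [← hn, pow_mul, orderOf_dvd_iff_pow_eq_one]
  · rw [← hn, ← Nat.card_zpowers]
    set C := Subgroup.zpowers (a ^ (r - 1)) with hC
    suffices commutator G = C by rw [this]
    haveI : C.Normal := by
      refine ⟨fun x hx g => ?_⟩
      rw [hC, ← mem_powers_iff_mem_zpowers] at hx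
      obtain ⟨z, rfl⟩ := hx
      obtain ⟨w, hw⟩ := hpow _ (hN.conj_mem a (ha ▸ Subgroup.mem_zpowers a) g)
      refine Subgroup.mem_zpowers_iff.2 ⟨(w * z : ℕ), ?_⟩
      beta_reduce
      rw [zpow_natCast, ← pow_mul, show (r - 1) * (w * z) = w * ((r - 1) * z) by ring, pow_mul, ← hw,
        conj_pow, ← pow_mul]
    refine le_antisymm ?_ ?_
    · rw [commutator_def, Subgroup.commutator_le]
      intro x _ y _
      have hab : QuotientGroup.mk' C b * QuotientGroup.mk' C a = QuotientGroup.mk' C a * QuotientGroup.mk' C b := by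
        rw [← commutatorElement_eq_one_iff_mul_comm, ← map_commutatorElement, QuotientGroup.mk'_apply,
          QuotientGroup.eq_one_iff, commutatorElement_def, hconj]
        refine Subgroup.mem_zpowers_iff.2 ⟨1, ?_⟩
        rw [zpow_one, eq_mul_inv_iff_mul_eq, ← pow_succ, Nat.sub_add_cancel hr1]
      rw [← QuotientGroup.eq_one_iff]
      show QuotientGroup.mk' C ⁅x, y⁆ = 1
      rw [map_commutatorElement, commutatorElement_eq_one_iff_mul_comm]
      obtain ⟨j, i, rfl⟩ := hgen x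
      obtain ⟨l, k, rfl⟩ := hgen y
      simp only [map_mul, map_pow]
      have hab' : Commute (QuotientGroup.mk' C b) (QuotientGroup.mk' C a) := hab
      exact (((Commute.refl _).pow_pow j l).mul_right (hab'.symm.pow_pow j k)).mul_left
        ((hab'.pow_pow i l).mul_right ((Commute.refl _).pow_pow i k))
    · rw [hC, Subgroup.zpowers_le]
      have h : ⁅b, a⁆ ∈ commutator G :=
        Subgroup.commutator_mem_commutator (Subgroup.mem_top b) (Subgroup.mem_top a)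
      rw [commutatorElement_def, hconj] at h
      rwa [pow_sub a hr1, pow_one]

namespace MData

variable (D : MData G p)

theorem conj_pow_b (i j : ℕ) : D.b ^ i * D.a ^ j * (D.b ^ i)⁻¹ = D.a ^ (j * D.r ^ i) := by
  induction i with
  | zero => simp
  | succ i ih =>
    rw [pow_succ', mul_inv_rev, show D.b * D.b ^ i * D.a ^ j * ((D.b ^ i)⁻¹ * D.b⁻¹)
      = D.b * (D.b ^ i * D.a ^ j * (D.b ^ i)⁻¹) * D.b⁻¹ by group, ih, ← conj_pow, D.conj, ← pow_mul,
      pow_succ']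
    congr 1; ring

theorem mul_form (j i l k : ℕ) :
    D.a ^ j * D.b ^ i * (D.a ^ l * D.b ^ k) = D.a ^ (j + l * D.r ^ i) * D.b ^ (i + k) := by
  rw [pow_add, pow_add, ← D.conj_pow_b i l]
  group

theorem pow_eq_pow_iff (x y : ℕ) :
    D.a ^ ((D.r - 1) * x) = D.a ^ ((D.r - 1) * y) ↔ (x : ZMod (p ^ D.n)) = y := by
  wlog hxy : x ≤ y generalizing x y
  · rw [eq_comm, this y x (by omega), eq_comm]
  obtain ⟨d, rfl⟩ := Nat.exists_eq_add_of_le hxy
  rw [mul_add, pow_add, left_eq_mul, D.pow_eq_one_iff, Nat.cast_add, left_eq_add,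
    ZMod.natCast_eq_zero_iff]

theorem commute_form (j i l k : ℕ) :
    Commute (D.a ^ j * D.b ^ i) (D.a ^ l * D.b ^ k) ↔
      det ((j : ZMod (p ^ D.n)), (gsum D.r i : ZMod (p ^ D.n)))
        ((l : ZMod (p ^ D.n)), (gsum D.r k : ZMod (p ^ D.n))) = 0 := by
  rw [Commute, SemiconjBy, D.mul_form, D.mul_form, add_comm k i, mul_left_inj,
    pow_eq_gsum D.one_le i, pow_eq_gsum D.one_le k]
  rw [show j + l * ((D.r - 1) * gsum D.r i + 1) = (j + l) + (D.r - 1) * (l * gsum D.r i) by ring,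
    show l + j * ((D.r - 1) * gsum D.r k + 1) = (j + l) + (D.r - 1) * (j * gsum D.r k) by ring,
    pow_add D.a (j + l) ((D.r - 1) * (l * gsum D.r i)),
    pow_add D.a (j + l) ((D.r - 1) * (j * gsum D.r k)), mul_right_inj, D.pow_eq_pow_iff]
  simp only [det, Nat.cast_mul, sub_eq_zero]
  constructor <;> intro h <;> linear_combination -h

theorem conj_a_form (j i : ℕ) :
    D.a ^ j * D.b ^ i * D.a * (D.a ^ j * D.b ^ i)⁻¹ = D.a * D.a ^ ((D.r - 1) * gsum D.r i) := by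
  have h := D.conj_pow_b i 1
  rw [pow_one, one_mul, pow_eq_gsum D.one_le i] at h
  rw [mul_inv_rev, show D.a ^ j * D.b ^ i * D.a * ((D.b ^ i)⁻¹ * (D.a ^ j)⁻¹)
      = D.a ^ j * (D.b ^ i * D.a * (D.b ^ i)⁻¹) * (D.a ^ j)⁻¹ by group, h, pow_succ']
  rw [mul_inv_eq_iff_eq_mul, ← pow_succ', ← pow_add, ← pow_add, add_comm]

theorem conj_b_form (j i : ℕ) :
    D.a ^ ((D.r - 1) * j) * (D.a ^ j * D.b ^ i * D.b * (D.a ^ j * D.b ^ i)⁻¹ * D.b⁻¹) = 1 := by
  have h := D.conj_pow_b 1 j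
  rw [pow_one, pow_one] at h
  have e : D.a ^ j * D.b ^ i * D.b * (D.a ^ j * D.b ^ i)⁻¹ * D.b⁻¹
      = D.a ^ j * (D.a ^ (j * D.r))⁻¹ := by rw [← h]; group
  rw [e, ← mul_assoc, ← pow_add, show (D.r - 1) * j + j = j * D.r by
    conv_rhs => rw [← Nat.sub_add_cancel D.one_le]
    ring, mul_inv_cancel]

/-- The image of an element in `(ℤ/p^n)²`. -/
noncomputable def v (g : G) : ZMod (p ^ D.n) × ZMod (p ^ D.n) :=
  (((D.gen g).choose : ℕ), (gsum D.r (D.gen g).choose_spec.choose : ℕ))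

theorem v_form (j i : ℕ) :
    D.v (D.a ^ j * D.b ^ i) = ((j : ZMod (p ^ D.n)), (gsum D.r i : ZMod (p ^ D.n))) := by
  have h := (D.gen (D.a ^ j * D.b ^ i)).choose_spec.choose_spec
  set j' := (D.gen (D.a ^ j * D.b ^ i)).choose
  set i' := (D.gen (D.a ^ j * D.b ^ i)).choose_spec.choose
  refine Prod.ext ?_ ?_
  · show (j' : ZMod (p ^ D.n)) = j
    rw [← D.pow_eq_pow_iff]
    have h1 := D.conj_b_form j i
    have h2 := D.conj_b_form j' i'
    rw [← h] at h2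
    exact mul_right_cancel (h2.trans h1.symm)
  · show (gsum D.r i' : ZMod (p ^ D.n)) = gsum D.r i
    rw [← D.pow_eq_pow_iff]
    have h1 := D.conj_a_form j i
    have h2 := D.conj_a_form j' i'
    rw [← h] at h2
    exact mul_left_cancel (h2.symm.trans h1)

theorem v_a (j : ℕ) : D.v (D.a ^ j) = ((j : ZMod (p ^ D.n)), 0) := by
  have h := D.v_form j 0
  simpa [gsum_zero] using h

theorem v_b (i : ℕ) : D.v (D.b ^ i) = (0, (gsum D.r i : ZMod (p ^ D.n))) := by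
  have h := D.v_form 0 i
  simpa using h

theorem v_one : D.v 1 = 0 := by
  rw [← pow_zero D.a, D.v_a, Nat.cast_zero]
  rfl

theorem commute_iff (g h : G) : Commute g h ↔ det (D.v g) (D.v h) = 0 := by
  obtain ⟨j, i, rfl⟩ := D.gen g
  obtain ⟨l, k, rfl⟩ := D.gen h
  rw [D.v_form, D.v_form, D.commute_form]

theorem v_mul (g : G) : ∃ R : ℕ, 1 ≤ R ∧ p ∣ R - 1 ∧
    ∀ h, D.v (g * h) = D.v g + (R : ZMod (p ^ D.n)) • D.v h := by
  obtain ⟨j, i, rfl⟩ := D.gen g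
  refine ⟨D.r ^ i, one_le_pow' D.one_le i, dvd_pow_sub_one D.one_le D.dvd_r i, fun h => ?_⟩
  obtain ⟨l, k, rfl⟩ := D.gen h
  rw [D.mul_form, D.v_form, D.v_form, D.v_form, gsum_add]
  refine Prod.ext ?_ ?_
  · simp [mul_comm]
  · simp

theorem v_pow (g : G) : ∃ R : ℕ, 1 ≤ R ∧ p ∣ R - 1 ∧
    ∀ k, D.v (g ^ k) = (gsum R k : ZMod (p ^ D.n)) • D.v g := by
  obtain ⟨R, hR, hpR, hmul⟩ := D.v_mul g
  refine ⟨R, hR, hpR, fun k => ?_⟩
  induction k with
  | zero => simp [gsum_zero, D.v_one]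
  | succ k ih =>
    rw [pow_succ', hmul, ih, add_comm k 1, gsum_add, gsum_one, pow_one, Nat.cast_add, Nat.cast_mul,
      add_smul, Nat.cast_one, one_smul, smul_smul]

theorem exists_pow_v (hodd : p ≠ 2) (g : G) (c : ZMod (p ^ D.n)) :
    ∃ k : ℕ, D.v (g ^ k) = c • D.v g := by
  obtain ⟨R, hR, hpR, hpow⟩ := D.v_pow g
  obtain ⟨k, hk⟩ := gsum_surjective hodd hR hpR c
  exact ⟨k, by rw [hpow, hk]⟩

theorem v_eq_zero_iff (g : G) : D.v g = 0 ↔ g ∈ Subgroup.center G := by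
  rw [Subgroup.mem_center_iff]
  constructor
  · intro h x
    exact ((D.commute_iff x g).2 (by simp [h, det])).eq
  · intro h
    have ha : det (D.v D.a) (D.v g) = 0 := (D.commute_iff _ _).1 (h D.a)
    have hb : det (D.v D.b) (D.v g) = 0 := (D.commute_iff _ _).1 (h D.b)
    have e1 := D.v_a 1
    have e2 := D.v_b 1
    simp only [pow_one, gsum_one, Nat.cast_one] at e1 e2
    simp only [e1, e2, det, one_mul, zero_mul, sub_zero, zero_sub, neg_eq_zero] at ha hb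
    exact Prod.ext hb ha

theorem v_eq_iff (g h : G) : D.v g = D.v h ↔ g⁻¹ * h ∈ Subgroup.center G := by
  obtain ⟨R, hR, hpR, hmul⟩ := D.v_mul g
  have hu : IsUnit (R : ZMod (p ^ D.n)) := by
    simpa using isUnit_natCast_pow (n := D.n) hR hpR 1
  have e := hmul (g⁻¹ * h)
  rw [mul_inv_cancel_left] at e
  rw [← D.v_eq_zero_iff, e, left_eq_add]
  constructor
  · intro h'
    exact Prod.ext (hu.mul_right_eq_zero.1 (congrArg Prod.fst h'))
      (hu.mul_right_eq_zero.1 (congrArg Prod.snd h'))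
  · intro h'
    rw [h', smul_zero]

theorem v_surjective (hodd : p ≠ 2) : Function.Surjective D.v := by
  rintro ⟨x, y⟩
  haveI := Plane.neZero_pow (p := p) (n := D.n)
  obtain ⟨k, hk⟩ := gsum_surjective hodd D.one_le D.dvd_r y
  exact ⟨D.a ^ x.val * D.b ^ k, by rw [D.v_form, hk, ZMod.natCast_zmod_val]⟩

theorem smul_mem {U : AddSubgroup (ZMod (p ^ D.n) × ZMod (p ^ D.n))} (c : ZMod (p ^ D.n))
    {u : ZMod (p ^ D.n) × ZMod (p ^ D.n)} (hu : u ∈ U) : c • u ∈ U := by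
  haveI := Plane.neZero_pow (p := p) (n := D.n)
  rw [← ZMod.natCast_zmod_val c, Nat.cast_smul_eq_nsmul]
  exact U.nsmul_mem hu _

/-- The image of a subgroup. -/
noncomputable def img (hodd : p ≠ 2) (H : Subgroup G) :
    AddSubgroup (ZMod (p ^ D.n) × ZMod (p ^ D.n)) where
  carrier := D.v '' H
  zero_mem' := ⟨1, H.one_mem, D.v_one⟩
  add_mem' := by
    rintro _ _ ⟨g, hg, rfl⟩ ⟨h, hh, rfl⟩
    obtain ⟨R, hR, hpR, hmul⟩ := D.v_mul g
    have hu : IsUnit (R : ZMod (p ^ D.n)) := by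
      simpa using isUnit_natCast_pow (n := D.n) hR hpR 1
    obtain ⟨k, hk⟩ := D.exists_pow_v hodd h ((hu.unit⁻¹ : (ZMod (p ^ D.n))ˣ) : ZMod (p ^ D.n))
    refine ⟨g * h ^ k, H.mul_mem hg (H.pow_mem hh k), ?_⟩
    rw [hmul, hk, smul_smul, IsUnit.mul_val_inv, one_smul]
  neg_mem' := by
    rintro _ ⟨g, hg, rfl⟩
    obtain ⟨k, hk⟩ := D.exists_pow_v hodd g (-1)
    exact ⟨g ^ k, H.pow_mem hg k, by rw [hk, neg_smul, one_smul]⟩

theorem mem_img {hodd : p ≠ 2} {H : Subgroup G} {w : ZMod (p ^ D.n) × ZMod (p ^ D.n)} :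
    w ∈ D.img hodd H ↔ ∃ h ∈ H, D.v h = w := Iff.rfl

/-- The preimage of a subgroup of the plane. -/
noncomputable def pre (U : AddSubgroup (ZMod (p ^ D.n) × ZMod (p ^ D.n))) : Subgroup G where
  carrier := {g | D.v g ∈ U}
  one_mem' := by simp [D.v_one, U.zero_mem]
  mul_mem' := by
    intro g h hg hh
    obtain ⟨R, -, -, hmul⟩ := D.v_mul g
    show D.v (g * h) ∈ U
    rw [hmul]
    exact U.add_mem hg (D.smul_mem _ hh)
  inv_mem' := by
    intro g hg
    obtain ⟨R, -, -, hmul⟩ := D.v_mul g⁻¹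
    have e := hmul g
    rw [inv_mul_cancel, D.v_one, eq_comm, add_eq_zero_iff_eq_neg] at e
    show D.v g⁻¹ ∈ U
    rw [e]
    exact U.neg_mem (D.smul_mem _ hg)

theorem mem_pre {U : AddSubgroup (ZMod (p ^ D.n) × ZMod (p ^ D.n))} {g : G} :
    g ∈ D.pre U ↔ D.v g ∈ U := Iff.rfl

theorem center_le_pre (U : AddSubgroup (ZMod (p ^ D.n) × ZMod (p ^ D.n))) :
    Subgroup.center G ≤ D.pre U := fun g hg => by
  rw [mem_pre, (D.v_eq_zero_iff g).2 hg]
  exact U.zero_mem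

theorem le_pre_img (hodd : p ≠ 2) (H : Subgroup G) : H ≤ D.pre (D.img hodd H) :=
  fun g hg => ⟨g, hg, rfl⟩

theorem img_pre (hodd : p ≠ 2) (U : AddSubgroup (ZMod (p ^ D.n) × ZMod (p ^ D.n))) :
    D.img hodd (D.pre U) = U := by
  ext w
  refine ⟨?_, fun hw => ?_⟩
  · rintro ⟨g, hg, rfl⟩
    exact hg
  · obtain ⟨g, rfl⟩ := D.v_surjective hodd w
    exact ⟨g, hw, rfl⟩

theorem centralizer_eq (hodd : p ≠ 2) (H : Subgroup G) :
    Subgroup.centralizer (H : Set G) = D.pre (perp (D.img hodd H)) := by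
  ext g
  rw [Subgroup.mem_centralizer_iff, mem_pre]
  constructor
  · rintro h _ ⟨x, hx, rfl⟩
    exact (D.commute_iff x g).1 (h x hx)
  · intro h x hx
    exact ((D.commute_iff x g).2 (h _ ⟨x, hx, rfl⟩)).eq

theorem card_eq_mul (hodd : p ≠ 2) (H : Subgroup G) :
    Nat.card H = Nat.card (H ⊓ Subgroup.center G : Subgroup G) * Nat.card (D.img hodd H) := by
  classical
  have hsec : ∀ w : D.img hodd H, ∃ h : H, D.v h = w := fun w => by
    obtain ⟨h, hh, e⟩ := w.2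
    exact ⟨⟨h, hh⟩, e⟩
  choose s hs using hsec
  rw [← Nat.card_prod]
  refine Nat.card_congr
    { toFun := fun h => (⟨((s ⟨D.v h, h, h.2, rfl⟩ : H) : G)⁻¹ * h,
          H.mul_mem (H.inv_mem (SetLike.coe_mem _)) h.2, (D.v_eq_iff _ _).1 (hs _)⟩, ⟨D.v h, h, h.2, rfl⟩)
      invFun := fun x => s x.2 * ⟨x.1, x.1.2.1⟩
      left_inv := fun h => Subtype.ext (mul_inv_cancel_left _ _)
      right_inv := ?_ }
  rintro ⟨⟨z, hzH, hzc⟩, w⟩
  have e : D.v ((s w : G) * z) = w := by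
    rw [← hs w, eq_comm, D.v_eq_iff, inv_mul_cancel_left]
    exact hzc
  have e2 : (⟨D.v ((s w : G) * z), _, (s w * ⟨z, hzH⟩).2, rfl⟩ : D.img hodd H) = w := Subtype.ext e
  refine Prod.ext (Subtype.ext ?_) e2
  exact (congrArg (fun w' => ((s w' : H) : G)⁻¹ * ((s w : G) * z)) e2).trans (inv_mul_cancel_left _ _)

theorem card_pre (hodd : p ≠ 2) (U : AddSubgroup (ZMod (p ^ D.n) × ZMod (p ^ D.n))) :
    Nat.card (D.pre U) = Nat.card (Subgroup.center G) * Nat.card U := by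
  rw [D.card_eq_mul hodd, D.img_pre, inf_eq_right.2 (D.center_le_pre U)]

theorem card_eq (hodd : p ≠ 2) :
    Nat.card G = Nat.card (Subgroup.center G) * (p ^ D.n) ^ 2 := by
  have h := D.card_pre hodd ⊤
  have e : D.pre ⊤ = ⊤ := eq_top_iff.2 fun g _ => AddSubgroup.mem_top (D.v g)
  rw [e, Subgroup.card_top, AddSubgroup.card_top, Nat.card_prod, Nat.card_zmod, ← sq] at h
  exact h

theorem index_commutator [Finite G] (hodd : p ≠ 2) :
    (commutator G).index = Nat.card (Subgroup.center G) * p ^ D.n := by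
  refine Nat.eq_of_mul_eq_mul_left (Nat.card_pos (α := commutator G)) ?_
  rw [Subgroup.card_mul_index, D.card_eq hodd, D.card_commutator]
  ring

theorem isMulCommutative_iff (hodd : p ≠ 2) (H : Subgroup G) :
    IsMulCommutative H ↔ Nat.card (D.img hodd H) ≤ p ^ D.n := by
  rw [← Plane.isotropic_iff_card_le]
  constructor
  · rintro hH _ ⟨g, hg, rfl⟩ _ ⟨h, hh, rfl⟩
    exact (D.commute_iff g h).1 (congrArg Subtype.val (hH.is_comm.comm ⟨g, hg⟩ ⟨h, hh⟩))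
  · exact fun hH => ⟨⟨fun x y =>
      Subtype.ext ((D.commute_iff _ _).2 (hH _ ⟨x, x.2, rfl⟩ _ ⟨y, y.2, rfl⟩)).eq⟩⟩

theorem eq_pre_img [Finite G] (hodd : p ≠ 2) {H : Subgroup G} (hH : Subgroup.center G ≤ H) :
    H = D.pre (D.img hodd H) := by
  refine Subgroup.eq_of_le_of_card_ge (D.le_pre_img hodd H) ?_
  rw [D.card_pre hodd, D.card_eq_mul hodd H, inf_eq_right.2 hH]

theorem exists_form_of_v_eq_zero (hodd : p ≠ 2) {g : G} (hg : D.v g = 0) :
    ∃ j i : ℕ, g = (D.a ^ p ^ D.n) ^ j * (D.b ^ p ^ D.n) ^ i := by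
  obtain ⟨j, i, rfl⟩ := D.gen g
  rw [D.v_form, Prod.mk_eq_zero, gsum_cast_eq_zero_iff hodd D.one_le D.dvd_r,
    ZMod.natCast_eq_zero_iff, ZMod.natCast_eq_zero_iff] at hg
  obtain ⟨⟨j', rfl⟩, i', rfl⟩ := hg
  exact ⟨j', i', by rw [pow_mul, pow_mul]⟩

theorem index_centralizer [Finite G] (hodd : p ≠ 2) (g : G) :
    (Subgroup.centralizer ({g} : Set G)).index = addOrderOf (D.v g) := by
  haveI := Plane.neZero_pow (p := p) (n := D.n)
  have hC : Subgroup.centralizer ({g} : Set G) = D.pre (perp (AddSubgroup.zmultiples (D.v g))) := by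
    ext x
    rw [Subgroup.mem_centralizer_singleton_iff, mem_pre, Plane.mem_perp]
    constructor
    · intro h u hu
      obtain ⟨k, rfl⟩ := AddSubgroup.mem_zmultiples_iff.1 hu
      have h0 := (D.commute_iff g x).1 h.symm
      simp only [det, zsmul_eq_mul, Prod.fst_mul, Prod.snd_mul, Prod.fst_intCast, Prod.snd_intCast] at h0 ⊢
      linear_combination (k : ZMod (p ^ D.n)) * h0
    · intro h
      exact ((D.commute_iff g x).2 (h _ (AddSubgroup.mem_zmultiples _))).eq.symm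
  have h1 := (Subgroup.centralizer ({g} : Set G)).card_mul_index
  have h2 := Plane.card_perp (AddSubgroup.zmultiples (D.v g))
  rw [Nat.card_zmultiples] at h2
  conv_lhs at h1 => rw [hC]
  rw [D.card_pre hodd, D.card_eq hodd, ← h2, mul_assoc, ← hC] at h1
  exact Nat.eq_of_mul_eq_mul_left Nat.card_pos (Nat.eq_of_mul_eq_mul_left Nat.card_pos h1)

include D in
theorem center_le_of_not_comm [Finite G] (hodd : p ≠ 2) (L : Subgroup G)
    (hL : ¬ IsMulCommutative L) : Subgroup.center G ≤ L := by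
  haveI := Plane.neZero_pow (p := p) (n := D.n)
  have hn : D.n ≠ 0 := by
    intro h
    apply hL
    rw [D.isMulCommutative_iff hodd]
    haveI : Subsingleton (ZMod (p ^ D.n)) := by rw [h, pow_zero]; infer_instance
    rw [Nat.card_unique]
    exact Nat.one_le_pow _ _ hp.out.pos
  have hbig : p ^ D.n < Nat.card (D.img hodd L) :=
    not_le.1 fun h => hL ((D.isMulCommutative_iff hodd L).2 h)
  set Z := Subgroup.center G with hZ
  have hroot : ∀ x : G, D.v (x ^ p ^ (D.n - 1)) ∈ D.img hodd L →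
      ∃ s ∈ L ⊓ Z, ∃ w ∈ Z, x ^ p ^ D.n = s * w ^ p := by
    rintro x ⟨g, hg, e⟩
    have hz : g⁻¹ * x ^ p ^ (D.n - 1) ∈ Z := (D.v_eq_iff _ _).1 e
    have hxn : x ^ p ^ D.n ∈ Z := by
      rw [hZ, ← D.v_eq_zero_iff]
      obtain ⟨R, hR, hpR, hpow⟩ := D.v_pow x
      have h0 : (gsum R (p ^ D.n) : ZMod (p ^ D.n)) = 0 := by
        rw [gsum_cast_eq_zero_iff hodd hR hpR, ZMod.natCast_self]
      rw [hpow, h0, zero_smul]
    refine ⟨g ^ p, ⟨L.pow_mem hg p, ?_⟩, _, hz, ?_⟩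
    · have e1 : x ^ p ^ D.n = g ^ p * (g⁻¹ * x ^ p ^ (D.n - 1)) ^ p := by
        rw [← (show Commute g (g⁻¹ * x ^ p ^ (D.n - 1)) from Subgroup.mem_center_iff.1 hz g).mul_pow,
          mul_inv_cancel_left, ← pow_mul, ← pow_succ, Nat.sub_add_cancel (Nat.pos_of_ne_zero hn)]
      rw [eq_mul_inv_of_mul_eq e1.symm]
      exact Z.mul_mem hxn (Z.inv_mem (Z.pow_mem hz p))
    · rw [← (show Commute g (g⁻¹ * x ^ p ^ (D.n - 1)) from Subgroup.mem_center_iff.1 hz g).mul_pow,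
        mul_inv_cancel_left, ← pow_mul, ← pow_succ, Nat.sub_add_cancel (Nat.pos_of_ne_zero hn)]
  have hva : D.v (D.a ^ p ^ (D.n - 1)) ∈ D.img hodd L := by
    rw [D.v_a]
    convert Plane.mem_of_card_gt _ hbig ((1, 0) : ZMod (p ^ D.n) × ZMod (p ^ D.n)) using 1
    simp [nsmul_eq_mul]
  have hvb : D.v (D.b ^ p ^ (D.n - 1)) ∈ D.img hodd L := by
    obtain ⟨R, hR, hpR, hpow⟩ := D.v_pow D.b
    rw [hpow]
    obtain ⟨σ, hσ⟩ := gsum_prime_pow hodd hR (σ := 1) (by simpa using hpR) one_ne_zero (D.n - 1)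
    rw [hσ, Nat.sub_add_cancel (Nat.pos_of_ne_zero hn), Nat.cast_add, Nat.cast_mul, ZMod.natCast_self,
      zero_mul, add_zero]
    have e := D.v_b 1
    rw [pow_one, gsum_one, Nat.cast_one] at e
    rw [e]
    convert Plane.mem_of_card_gt _ hbig ((0, 1) : ZMod (p ^ D.n) × ZMod (p ^ D.n)) using 1
    simp [nsmul_eq_mul]
  obtain ⟨sa, hsa, wa, hwa, ea⟩ := hroot D.a hva
  obtain ⟨sb, hsb, wb, hwb, eb⟩ := hroot D.b hvb
  have step : ∀ z ∈ Z, ∃ s ∈ L ⊓ Z, ∃ w ∈ Z, z = s * w ^ p := by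
    intro z hz
    obtain ⟨j, i, rfl⟩ := D.exists_form_of_v_eq_zero hodd ((D.v_eq_zero_iff z).2 hz)
    refine ⟨sa ^ j * sb ^ i, Subgroup.mul_mem _ (Subgroup.pow_mem _ hsa j) (Subgroup.pow_mem _ hsb i),
      wa ^ j * wb ^ i, Z.mul_mem (Z.pow_mem hwa j) (Z.pow_mem hwb i), ?_⟩
    have cc : ∀ x ∈ Z, ∀ y : G, Commute y x := fun x hx y => Subgroup.mem_center_iff.1 hx y
    rw [ea, eb, (cc _ (Z.pow_mem hwa p) sa).mul_pow, (cc _ (Z.pow_mem hwb p) sb).mul_pow,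
      (cc _ (Z.pow_mem hwb i) (wa ^ j)).mul_pow, ← pow_mul, ← pow_mul, mul_comm p j, mul_comm p i,
      pow_mul, pow_mul]
    exact (cc _ (Z.pow_mem (Z.pow_mem hwa j) p) (sb ^ i)).symm.mul_mul_mul_comm (sa ^ j) ((wb ^ i) ^ p)
  have iter : ∀ k : ℕ, ∀ z ∈ Z, ∃ s ∈ L ⊓ Z, ∃ w ∈ Z, z = s * w ^ p ^ k := by
    intro k
    induction k with
    | zero => exact fun z hz => ⟨1, Subgroup.one_mem _, z, hz, by simp⟩
    | succ k ih =>
      intro z hz
      obtain ⟨s, hs, w, hw, rfl⟩ := ih z hz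
      obtain ⟨s', hs', w', hw', rfl⟩ := step w hw
      refine ⟨s * s' ^ p ^ k, Subgroup.mul_mem _ hs (Subgroup.pow_mem _ hs' _), w', hw', ?_⟩
      rw [(show Commute s' (w' ^ p) from Subgroup.mem_center_iff.1 (Z.pow_mem hw' p) s').mul_pow,
        ← pow_mul, pow_succ', mul_assoc]
  intro z hz
  obtain ⟨s, hs, w, -, rfl⟩ := iter (D.m + D.t) z hz
  rw [pow_add, ← D.cardG, pow_card_eq_one', mul_one]
  exact hs.1

end MData

end CfsgLib.PGroup.Metacyclic
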