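import Cfsg.Agent.Lib.Solvable.CoprimeAction
import Cfsg.Agent.Lib.PGroup.Basic

/-!
The minimal situation of a coprime action on a `p`-group: `A` acts nontrivially on `Q` and
trivially on all proper invariant subgroups.
-/

set_option autoImplicit false

open scoped commutatorElement

namespace CfsgLib.PGroup

theorem minimal_action_of_normalizing {G : Type*} [Group G] [Finite G] {p : ℕ} [Fact p.Prime] {Q A B : Subgroup G}
    (hQ : IsPGroup p Q) (hAB : A ≤ B) (hBQ : B ≤ Subgroup.normalizer (Q : Set G))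
    (hBA : B ≤ Subgroup.normalizer (A : Set G))
    (hcop : (Nat.card A).Coprime (Nat.card Q))
    (hsub : ∀ K : Subgroup G, K < Q → B ≤ Subgroup.normalizer (K : Set G) →
      K ≤ Subgroup.centralizer (A : Set G))
    (hnc : ¬ Q ≤ Subgroup.centralizer (A : Set G)) :
    ⁅Q, A⁆ = Q ∧ (∀ d ∈ ⁅Q, Q⁆, ∀ q ∈ Q, q * d = d * q) ∧
      (∀ c ∈ Q, c ∈ Subgroup.centralizer (A : Set G) → c ∈ ⁅Q, Q⁆) ∧
      (∀ x ∈ Q, x ^ p ∈ ⁅Q, Q⁆) ∧ (∀ d ∈ ⁅Q, Q⁆, d ^ p = 1) := by
  classical
  have hAQ : A ≤ Subgroup.normalizer (Q : Set G) := hAB.trans hBQ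
  have hs : Group.IsSolvable A ∨ Group.IsSolvable Q := Or.inr (by haveI := hQ.isNilpotent; infer_instance)
  have hgen : ⁅Q, A⁆ = Q := by
    by_contra hne
    have hle := CfsgLib.Solvable.commutator_le_of_le_normalizer hAQ
    have h1 := hsub _ (lt_of_le_of_ne hle hne)
      ((le_inf hBQ hBA).trans (CfsgLib.Solvable.normalizer_le_normalizer_commutator Q A))
    refine hnc (Subgroup.commutator_eq_bot_iff_le_centralizer.1 ?_)
    rw [← CfsgLib.Solvable.commutator_commutator_self hAQ hcop hs]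
    exact Subgroup.commutator_eq_bot_iff_le_centralizer.2 h1
  have hQbot : Q ≠ ⊥ := fun e => hnc (e ▸ bot_le)
  set D := ⁅Q, Q⁆ with hD
  have hDlt : D < Q := CfsgLib.Solvable.commutator_self_lt (by haveI := hQ.isNilpotent; infer_instance) hQbot
  have hBD : B ≤ Subgroup.normalizer (D : Set G) :=
    (le_inf hBQ hBQ).trans (CfsgLib.Solvable.normalizer_le_normalizer_commutator Q Q)
  have hDA := hsub D hDlt hBD
  have hDQ : ∀ d ∈ D, ∀ q ∈ Q, q * d = d * q := by
    have h1 : ⁅⁅A, D⁆, Q⁆ = ⊥ := by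
      rw [Subgroup.commutator_comm A D, Subgroup.commutator_eq_bot_iff_le_centralizer.2 hDA,
        Subgroup.commutator_bot_left]
    have h2 : ⁅⁅D, Q⁆, A⁆ = ⊥ := by
      refine Subgroup.commutator_eq_bot_iff_le_centralizer.2 (le_trans ?_ hDA)
      exact (Subgroup.commutator_mono hDlt.le le_rfl)
    have h3 := Subgroup.commutator_commutator_eq_bot_of_rotate h1 h2
    rw [hgen] at h3
    have h4 := Subgroup.commutator_eq_bot_iff_le_centralizer.1 h3
    exact fun d hd q hq => (Subgroup.mem_centralizer_iff.1 (h4 hq) d hd).symm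
  -- fixed points lie in `D`
  have hfix : ∀ c ∈ Q, c ∈ Subgroup.centralizer (A : Set G) → c ∈ D := by
    intro c hc hcA
    let conjQ : A → Q → Q := fun a q => ⟨a * q * a⁻¹, CfsgLib.Solvable.normalizer_conj_mem (hAQ a.2) q.2⟩
    haveI := Fintype.ofFinite A
    let τ : Q →* Abelianization Q := MonoidHom.mk' (fun q => ∏ a : A, Abelianization.of (conjQ a q)) fun x y => by
      rw [← Finset.prod_mul_distrib]
      refine Finset.prod_congr rfl fun a _ => ?_
      rw [← map_mul]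
      exact congrArg _ (Subtype.ext (by simp [conjQ, mul_assoc]))
    have hτA : ∀ (a : A) (q : Q), τ (conjQ a q) = τ q := by
      intro a q
      refine Fintype.prod_equiv (Equiv.mulRight a) _ _ fun b => congrArg _ (Subtype.ext ?_)
      simp only [conjQ, Equiv.coe_mulRight, Subgroup.coe_mul, mul_inv_rev]
      group
    have hker : ⁅Q, A⁆ ≤ τ.ker.map Q.subtype := by
      rw [Subgroup.commutator_le]
      intro q hq a ha
      refine ⟨⟨q, hq⟩ * conjQ ⟨a, ha⟩ (⟨q, hq⟩⁻¹), ?_, ?_⟩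
      · show τ _ = 1
        rw [map_mul, hτA, map_inv, mul_inv_cancel]
      · simp [conjQ, commutatorElement_def, mul_assoc]
    rw [hgen] at hker
    obtain ⟨c', hc', hcc⟩ := hker hc
    obtain rfl : c' = ⟨c, hc⟩ := Subtype.ext hcc
    have hpow : (Abelianization.of (⟨c, hc⟩ : Q)) ^ Nat.card A = 1 := by
      rw [← (show τ ⟨c, hc⟩ = 1 from hc'), Nat.card_eq_fintype_card, ← Finset.card_univ, ← Finset.prod_const]
      refine Finset.prod_congr rfl fun a _ => congrArg _ (Subtype.ext ?_)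
      show c = (a : G) * c * (a : G)⁻¹
      rw [Subgroup.mem_centralizer_iff.1 hcA a a.2, mul_inv_cancel_right]
    have h1 : Abelianization.of (⟨c, hc⟩ : Q) = 1 := by
      refine orderOf_eq_one_iff.1 (Nat.eq_one_of_dvd_coprimes hcop (orderOf_dvd_of_pow_eq_one hpow) ?_)
      exact (orderOf_map_dvd _ _).trans (orderOf_dvd_natCard _)
    have h2 : (⟨c, hc⟩ : Q) ∈ commutator Q := by
      rwa [← Abelianization.ker_of, MonoidHom.mem_ker]
    rw [hD, ← Subgroup.map_subtype_commutator]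
    exact ⟨_, h2, rfl⟩
  -- squares lie in `D`
  have hsq : ∀ x ∈ Q, x ^ p ∈ D := by
    intro x hx
    set S := (frattini Q).map Q.subtype with hS
    have hxS : x ^ p ∈ S := ⟨(⟨x, hx⟩ : Q) ^ p, CfsgLib.PGroup.pow_mem_frattini hQ _, rfl⟩
    have hSQ : S < Q := by
      refine lt_of_le_of_ne (Subgroup.map_subtype_le _) fun e => ?_
      haveI : Nontrivial Q := (Subgroup.nontrivial_iff_ne_bot Q).2 hQbot
      refine CfsgLib.PGroup.frattini_ne_top hQ (Subgroup.map_injective Q.subtype_injective ?_)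
      rw [← MonoidHom.range_eq_map, Subgroup.range_subtype]
      exact e
    have hAS : B ≤ Subgroup.normalizer (S : Set G) := by
      refine CfsgLib.Solvable.le_normalizer_of_conj_mem fun a ha y hy => ?_
      obtain ⟨z, hz, rfl⟩ := hy
      let φ : MulAut Q := (Q.normalizerMonoidHom) ⟨a, hBQ ha⟩
      have hφ : φ z ∈ frattini Q := by
        have := (Subgroup.characteristic_iff_map_le.1 (frattini_characteristic (G := Q))) φ
        exact this ⟨z, hz, rfl⟩
      exact ⟨φ z, hφ, rfl⟩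
    exact hfix _ (hSQ.le hxS) (hsub S hSQ hAS hxS)
  refine ⟨hgen, hDQ, hfix, hsq, fun d hd => ?_⟩
  let E : Subgroup G :=
    { carrier := {d | d ∈ D ∧ d ^ p = 1}
      one_mem' := ⟨D.one_mem, one_pow _⟩
      mul_mem' := by
        rintro a b ⟨ha, ha'⟩ ⟨hb, hb'⟩
        refine ⟨D.mul_mem ha hb, ?_⟩
        have hab : Commute a b := hDQ b hb a (hDlt.le ha)
        rw [hab.mul_pow, ha', hb', one_mul]
      inv_mem' := by
        rintro a ⟨ha, ha'⟩
        exact ⟨D.inv_mem ha, by rw [inv_pow, ha', inv_one]⟩ }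
  suffices D ≤ E from (this hd).2
  rw [hD, Subgroup.commutator_le]
  intro x hx y hy
  have hxy : ⁅x, y⁆ ∈ D := Subgroup.commutator_mem_commutator hx hy
  refine ⟨hxy, ?_⟩
  have e : ∀ j : ℕ, ⁅x ^ j, y⁆ = ⁅x, y⁆ ^ j := by
    intro j
    induction j with
    | zero => simp
    | succ j ih =>
      have h2 : ⁅x ^ (j + 1), y⁆ = x * ⁅x ^ j, y⁆ * x⁻¹ * ⁅x, y⁆ := by
        rw [pow_succ']; simp only [commutatorElement_def]; group
      rw [h2, ih, hDQ _ (D.pow_mem hxy j) x hx, mul_inv_cancel_right, pow_succ]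
  rw [← e p, commutatorElement_eq_one_iff_mul_comm]
  exact (hDQ _ (hsq x hx) y hy).symm

theorem minimal_action {G : Type*} [Group G] [Finite G] {p : ℕ} [Fact p.Prime] {Q A : Subgroup G}
    (hQ : IsPGroup p Q) (hAQ : A ≤ Subgroup.normalizer (Q : Set G))
    (hcop : (Nat.card A).Coprime (Nat.card Q))
    (hsub : ∀ K : Subgroup G, K < Q → A ≤ Subgroup.normalizer (K : Set G) →
      K ≤ Subgroup.centralizer (A : Set G))
    (hnc : ¬ Q ≤ Subgroup.centralizer (A : Set G)) :
    ⁅Q, A⁆ = Q ∧ (∀ d ∈ ⁅Q, Q⁆, ∀ q ∈ Q, q * d = d * q) ∧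
      (∀ c ∈ Q, c ∈ Subgroup.centralizer (A : Set G) → c ∈ ⁅Q, Q⁆) ∧
      (∀ x ∈ Q, x ^ p ∈ ⁅Q, Q⁆) ∧ (∀ d ∈ ⁅Q, Q⁆, d ^ p = 1) :=
  minimal_action_of_normalizing hQ le_rfl hAQ Subgroup.le_normalizer hcop hsub hnc

end CfsgLib.PGroup
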