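import Cfsg.Agent.Lib.PGroup.SmallCentralizerRank

/-!
# Polynomial sequences for a filtration whose commutators fall into a smaller one

If `B` is a subfiltration of the filtration `A` containing all commutators of `A`, then taking
differences is multiplicative modulo `B` rather than only modulo `A`.
-/

set_option autoImplicit false

namespace CfsgLib.PGroup.SmallCent

open scoped commutatorElement

variable {G : Type*} [Group G] {A B : ℕ → Subgroup G}

theorem FPoly.mono_filtration (hle : ∀ i, B i ≤ A i) : ∀ {k j : ℕ} {g : ℕ → G},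
    FPoly B k j g → FPoly A k j g
  | 0, _, _, h => fun n => hle _ (h n)
  | _ + 1, _, _, h => ⟨fun n => hle _ (h.1 n), h.2.mono_filtration hle⟩

theorem FPoly.iterate : ∀ {d l : ℕ} {w : ℕ → G}, FPoly A d l w →
    ∀ n, sdiff^[d] w n ∈ A (l + d)
  | 0, _, _, hw => hw
  | d + 1, l, w, hw => fun n => by
    rw [Function.iterate_succ_apply, show l + (d + 1) = l + 1 + d by omega]
    exact FPoly.iterate hw.2 n

/-- Commutators of polynomial sequences are polynomial for the smaller filtration. -/
theorem fpoly_commutator_mixed (hA : IsFiltration A) (hB : IsFiltration B) (hle : ∀ i, B i ≤ A i)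
    (hAB : ∀ (i j : ℕ), ∀ a ∈ A i, ∀ b ∈ A j, ⁅a, b⁆ ∈ B (i + j)) :
    ∀ (k i j : ℕ) (g h : ℕ → G), FPoly A k i g → FPoly A k j h →
      FPoly B k (i + j) (fun n => ⁅g n, h n⁆) := by
  intro k
  induction k with
  | zero => exact fun i j g h hg hh n => hAB i j _ (hg n) _ (hh n)
  | succ k ih =>
    intro i j g h hg hh
    obtain ⟨M, I, -⟩ := fpoly_closed hA k
    obtain ⟨MB, IB, -⟩ := fpoly_closed hB k
    have conjB : ∀ (i j : ℕ) (x u : ℕ → G), FPoly A k i x → FPoly B k j u →
        FPoly B k j (fun n => x n * u n * (x n)⁻¹) := by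
      intro i j x u hx hu
      have h := MB j _ u ((ih i j x u hx (hu.mono_filtration hle)).mono_level hB (Nat.le_add_left j i)) hu
      have he : (fun n => x n * u n * (x n)⁻¹) = fun n => ⁅x n, u n⁆ * u n := by
        funext n; rw [commutatorElement_def]; group
      rw [he]; exact h
    refine ⟨fun n => hAB i j _ (hg.1 n) _ (hh.1 n), ?_⟩
    set U : ℕ → G := fun n => ⁅g n, h n⁆ with hU
    set a := sdiff g with ha
    set b := sdiff h with hb
    have hUP : FPoly B k (i + j) U := ih i j g h hg.of_succ hh.of_succ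
    have he : sdiff U = fun n => (U n)⁻¹ *
        (g n * (⁅a n, h n⁆ * (h n * ⁅a n, b n⁆ * (h n)⁻¹)) * (g n)⁻¹) *
        ((U n)⁻¹)⁻¹ * (h n * ⁅g n, b n⁆ * (h n)⁻¹) := by
      funext n
      show (U n)⁻¹ * U (n + 1) = _
      simp only [hU, eq_mul_sdiff g n, eq_mul_sdiff h n, ← ha, ← hb, commutatorElement_def]
      group
    rw [he]
    refine MB (i + j + 1) _ _ (conjB (i + j) _ _ _ (I _ _ (hUP.mono_filtration hle))
      (conjB i _ _ _ hg.of_succ (MB (i + j + 1) _ _ ?_ ?_))) ?_
    · exact (ih (i + 1) j a h hg.2 hh.of_succ).mono_level hB (by omega)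
    · exact conjB j _ _ _ hh.of_succ ((ih (i + 1) (j + 1) a b hg.2 hh.2).mono_level hB (by omega))
    · exact conjB j _ _ _ hh.of_succ ((ih i (j + 1) g b hg.of_succ hh.2).mono_level hB (by omega))

/-- The `d`-th difference at `0` is multiplicative modulo the smaller filtration. -/
theorem iterate_sdiff_mul_mixed (hA : IsFiltration A) (hB : IsFiltration B) (hle : ∀ i, B i ≤ A i)
    (hAB : ∀ (i j : ℕ), ∀ a ∈ A i, ∀ b ∈ A j, ⁅a, b⁆ ∈ B (i + j)) :
    ∀ (d j : ℕ) (g h : ℕ → G), FPoly A d j g → FPoly A d j h →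
      (sdiff^[d] g 0 * sdiff^[d] h 0)⁻¹ * sdiff^[d] (fun n => g n * h n) 0 ∈ B (2 * j + d) := by
  intro d
  induction d with
  | zero => intro j g h _ _; simp
  | succ d ih =>
    intro j g h hg hh
    obtain ⟨M, I, -⟩ := fpoly_closed hA d
    set u : ℕ → G := fun n => ⁅(sdiff g n)⁻¹, (h n)⁻¹⁆ with hu
    have huB : FPoly B d (2 * j + 1) u :=
      (fpoly_commutator_mixed hA hB hle hAB d _ _ _ _ (I _ _ hg.2) (I _ _ hh.of_succ)).mono_level hB
        (by omega)
    have hu' : FPoly A d (j + 1) u := (huB.mono_filtration hle).mono_level hA (by omega)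
    have he : sdiff (fun n => g n * h n) = fun n => (sdiff g n * u n) * sdiff h n := by
      funext n
      simp only [hu, sdiff, commutatorElement_def]
      group
    simp only [Function.iterate_succ_apply, he]
    have h1 := ih (j + 1) (fun n => sdiff g n * u n) (sdiff h) (M _ _ _ hg.2 hu') hh.2
    have h2 := ih (j + 1) (sdiff g) u hg.2 hu'
    have h3 := huB.iterate 0
    have := hB.normal (2 * j + (d + 1))
    rw [← QuotientGroup.eq]
    have hle' : B (2 * (j + 1) + d) ≤ B (2 * j + (d + 1)) := hB.anti (by omega)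
    have e1 := QuotientGroup.eq.2 (hle' h1)
    have e2 := QuotientGroup.eq.2 (hle' h2)
    have e3 : ((sdiff^[d] u 0 : G) : G ⧸ B (2 * j + (d + 1))) = 1 :=
      (QuotientGroup.eq_one_iff _).2 (by rwa [show 2 * j + (d + 1) = 2 * j + 1 + d by omega])
    refine Eq.trans ?_ e1
    rw [QuotientGroup.mk_mul, QuotientGroup.mk_mul, ← e2, QuotientGroup.mk_mul, e3, mul_one]

end CfsgLib.PGroup.SmallCent
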