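import Mathlib
import Cfsg.Prelude.Def_Transfer

/-!
# Minimal coverings by nilpotent subgroups and abelian Sylow subgroups
-/

set_option autoImplicit false

namespace CfsgLib.PGroup

open Subgroup
open scoped Pointwise

variable {G : Type*} [Group G] [Finite G] {p : ℕ} [hp : Fact p.Prime]

omit hp in
/-- A subgroup containing a Sylow subgroup for every prime is the whole group. -/
theorem eq_top_of_forall_sylow_le {H : Subgroup G}
    (h : ∀ (q : ℕ) [Fact q.Prime], ∃ R : Sylow q G, (R : Subgroup G) ≤ H) : H = ⊤ := by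
  refine eq_top_of_card_eq _ (Nat.dvd_antisymm H.card_subgroup_dvd_card ?_)
  refine (Nat.dvd_iff_prime_pow_dvd_dvd _ _).2 fun q k hq hk => ?_
  haveI := Fact.mk hq
  obtain ⟨R, hR⟩ := h q
  exact (R.pow_dvd_card_of_pow_dvd_card hk).trans (card_dvd_of_le hR)

omit hp in
/-- Two members of a minimal covering lying in a common proper subgroup are equal. -/
theorem cover_eq_of_le {𝓐 : Finset (Subgroup G)} (hne : ∀ A ∈ 𝓐, A ≠ ⊤)
    (hcov : ∀ g : G, ∃ A ∈ 𝓐, g ∈ A)
    (hmin : ∀ 𝓑 : Finset (Subgroup G),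
      (∀ A ∈ 𝓑, A ≠ ⊤) ∧ (∀ g : G, ∃ A ∈ 𝓑, g ∈ A) → 𝓐.card ≤ 𝓑.card)
    {A A' : Subgroup G} (hA : A ∈ 𝓐) (hA' : A' ∈ 𝓐) {M : Subgroup G} (hM : M ≠ ⊤)
    (h : A ≤ M) (h' : A' ≤ M) : A = A' := by
  classical
  by_contra hAA
  have hle := hmin (insert M ((𝓐.erase A).erase A')) ⟨fun B hB => ?_, fun g => ?_⟩
  · have h1 := Finset.card_insert_le M ((𝓐.erase A).erase A')
    rw [Finset.card_erase_of_mem (Finset.mem_erase.2 ⟨fun e => hAA e.symm, hA'⟩),
      Finset.card_erase_of_mem hA] at h1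
    have h2 : 2 ≤ 𝓐.card :=
      (Finset.card_pair hAA).ge.trans (Finset.card_le_card (by simp [Finset.insert_subset_iff, hA, hA']))
    omega
  · rcases Finset.mem_insert.1 hB with rfl | hB
    · exact hM
    · exact hne B (Finset.mem_of_mem_erase (Finset.mem_of_mem_erase hB))
  · obtain ⟨B, hB, hgB⟩ := hcov g
    by_cases hB1 : B = A
    · exact ⟨M, Finset.mem_insert_self _ _, h (hB1 ▸ hgB)⟩
    by_cases hB2 : B = A'
    · exact ⟨M, Finset.mem_insert_self _ _, h' (hB2 ▸ hgB)⟩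
    exact ⟨B, Finset.mem_insert_of_mem (Finset.mem_erase.2 ⟨hB2, Finset.mem_erase.2 ⟨hB1, hB⟩⟩), hgB⟩

omit hp in
theorem centralizer_singleton_ne_top (hZ : center G = ⊥) {x : G} (hx : x ≠ 1) :
    centralizer ({x} : Set G) ≠ ⊤ := fun h => hx <| by
  rw [← mem_bot, ← hZ]
  exact mem_center_iff.2 fun g => mem_centralizer_singleton_iff.1 (h ▸ mem_top g)

/-- In a nilpotent subgroup, every element commutes with a p-element when Sylow p-subgroups of the
group are abelian. -/
theorem nilpotent_le_centralizer (P : Sylow p G) (hab : IsMulCommutative ↥(P : Subgroup G))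
    {A : Subgroup G} (hA : Group.IsNilpotent ↥A) {x : G} {k : ℕ} (hxk : x ^ p ^ k = 1) (hxA : x ∈ A) :
    A ≤ centralizer ({x} : Set G) := by
  classical
  have hnormal : ∀ (q : ℕ) [Fact q.Prime] (R : Sylow q A), (R : Subgroup A).Normal :=
    fun q _ R => ((Group.isNilpotent_of_finite_tfae (G := A)).out 0 3 rfl rfl).mp hA q inferInstance R
  suffices (centralizer ({⟨x, hxA⟩} : Set A)) = ⊤ by
    intro a ha
    have h := mem_centralizer_singleton_iff.1 (this.symm ▸ mem_top (⟨a, ha⟩ : A) : (⟨a, ha⟩ : A) ∈ _)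
    exact mem_centralizer_singleton_iff.2 (congrArg Subtype.val h)
  refine eq_top_of_forall_sylow_le fun q hq => ?_
  obtain ⟨Q⟩ := Sylow.nonempty (p := p) (G := A)
  have hQn := hnormal p Q
  have hxp : IsPGroup p (zpowers (⟨x, hxA⟩ : A)) := by
    rintro ⟨y, hy⟩
    obtain ⟨i, rfl⟩ := mem_zpowers_iff.1 hy
    refine ⟨k, Subtype.ext ?_⟩
    show ((⟨x, hxA⟩ : A) ^ i) ^ p ^ k = 1
    rw [← zpow_natCast, ← zpow_mul, mul_comm, zpow_mul, zpow_natCast,
      show (⟨x, hxA⟩ : A) ^ p ^ k = 1 from Subtype.ext (by simpa using hxk), one_zpow]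
  have hxQ : (⟨x, hxA⟩ : A) ∈ (Q : Subgroup A) := by
    obtain ⟨Q', hQ'⟩ := hxp.exists_le_sylow
    have := Sylow.unique_of_normal Q hQn
    have hQQ : Q' = Q := Subsingleton.elim Q' Q
    exact hQQ ▸ hQ' (mem_zpowers _)
  by_cases hqp : q = p
  · subst hqp
    refine ⟨Q, fun a ha => mem_centralizer_singleton_iff.2 ?_⟩
    have hQp : IsPGroup q ((Q : Subgroup A).map A.subtype) := Q.isPGroup'.map _
    obtain ⟨P', hP'⟩ := hQp.exists_le_sylow
    obtain ⟨g, hg⟩ := MulAction.exists_smul_eq G P P'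
    have hmem : ∀ b ∈ (Q : Subgroup A), g⁻¹ * (b : G) * g ∈ (P : Subgroup G) := by
      intro b hb
      have h := hP' ⟨b, hb, rfl⟩
      rw [← hg, Sylow.coe_subgroup_smul, Subgroup.mem_pointwise_smul_iff_inv_smul_mem] at h
      simpa using h
    have h := congrArg Subtype.val (hab.is_comm.comm
      (⟨_, hmem a ha⟩ : (P : Subgroup G)) ⟨_, hmem _ hxQ⟩)
    refine Subtype.ext ?_
    simp only [MulMemClass.coe_mul] at h ⊢
    have h' : g⁻¹ * ((a : G) * x) * g = g⁻¹ * (x * a) * g := by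
      simpa [mul_assoc] using h
    exact mul_left_cancel (mul_right_cancel h')
  · obtain ⟨R⟩ := Sylow.nonempty (p := q) (G := A)
    refine ⟨R, fun a ha => mem_centralizer_singleton_iff.2 ?_⟩
    exact Subgroup.commute_of_normal_of_disjoint (R : Subgroup A) (Q : Subgroup A) (hnormal q R) hQn
      (IsPGroup.disjoint_of_ne q p hqp _ _ R.isPGroup' Q.isPGroup') a _ ha hxQ

omit hp in
theorem mem_sylow_of_mem_normalizer (P : Sylow p G) {z : G} {k : ℕ} (hzk : z ^ p ^ k = 1)
    (hz : z ∈ normalizer ((P : Subgroup G) : Set G)) : z ∈ (P : Subgroup G) := by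
  have hzp : IsPGroup p (zpowers z) := by
    rintro ⟨y, hy⟩
    obtain ⟨i, rfl⟩ := mem_zpowers_iff.1 hy
    refine ⟨k, Subtype.ext ?_⟩
    show (z ^ i) ^ p ^ k = 1
    rw [← zpow_natCast, ← zpow_mul, mul_comm, zpow_mul, zpow_natCast, hzk, one_zpow]
  have := P.isPGroup'
  have h : zpowers z ⊓ normalizer ((P : Subgroup G) : Set G) = zpowers z ⊓ (P : Subgroup G) :=
    hzp.inf_normalizer_sylow P
  have hmem : z ∈ zpowers z ⊓ normalizer ((P : Subgroup G) : Set G) := ⟨mem_zpowers z, hz⟩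
  rw [h] at hmem
  exact hmem.2

variable {𝓐 : Finset (Subgroup G)}
  (h𝓐 : ((∀ A ∈ 𝓐, A ≠ ⊤) ∧ (∀ g : G, ∃ A ∈ 𝓐, g ∈ A)) ∧
    (∀ 𝓑 : Finset (Subgroup G),
      (∀ A ∈ 𝓑, A ≠ ⊤) ∧ (∀ g : G, ∃ A ∈ 𝓑, g ∈ A) → 𝓐.card ≤ 𝓑.card) ∧
    (∀ A ∈ 𝓐, Group.IsNilpotent ↥A))

include h𝓐

/-- A nontrivial p-element lies in only one member of the covering. -/
theorem cover_unique (hZ : center G = ⊥) (P : Sylow p G) (hab : IsMulCommutative ↥(P : Subgroup G))
    {A A' : Subgroup G} (hA : A ∈ 𝓐) (hA' : A' ∈ 𝓐) {x : G} {k : ℕ} (hxk : x ^ p ^ k = 1)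
    (hx : x ≠ 1) (hxA : x ∈ A) (hxA' : x ∈ A') : A = A' :=
  cover_eq_of_le h𝓐.1.1 h𝓐.1.2 h𝓐.2.1 hA hA' (centralizer_singleton_ne_top hZ hx)
    (nilpotent_le_centralizer P hab (h𝓐.2.2 A hA) hxk hxA)
    (nilpotent_le_centralizer P hab (h𝓐.2.2 A' hA') hxk hxA')

/-- A cyclic or non-elementary abelian Sylow subgroup lies in a member `A`, and then `A = C(P)`. -/
theorem centralizer_mem_cover (hZ : center G = ⊥) (P : Sylow p G)
    (hab : IsMulCommutative ↥(P : Subgroup G)) (hP1 : (P : Subgroup G) ≠ ⊥)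
    (hP : IsCyclic ↥(P : Subgroup G) ∨ ¬ Cfsg.IsElementaryAbelian p (P : Subgroup G)) :
    centralizer ((P : Subgroup G) : Set G) ∈ 𝓐 := by
  classical
  have hpk : ∀ x ∈ (P : Subgroup G), ∃ k : ℕ, x ^ p ^ k = 1 := fun x hx => by
    obtain ⟨k, hk⟩ := P.isPGroup' ⟨x, hx⟩
    exact ⟨k, congrArg Subtype.val hk⟩
  have hu : ∀ {A A' : Subgroup G}, A ∈ 𝓐 → A' ∈ 𝓐 → ∀ x ∈ (P : Subgroup G), x ≠ 1 → x ∈ A → x ∈ A' →
      A = A' := fun hA hA' x hx hx1 h h' => by
    obtain ⟨k, hk⟩ := hpk x hx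
    exact cover_unique h𝓐 hZ P hab hA hA' hk hx1 h h'
  obtain ⟨A, hA, hPA⟩ : ∃ A ∈ 𝓐, (P : Subgroup G) ≤ A := by
    rcases hP with hc | hne
    · obtain ⟨⟨g, hg⟩, hgen⟩ := hc.exists_generator
      obtain ⟨A, hA, hgA⟩ := h𝓐.1.2 g
      refine ⟨A, hA, fun x hx => ?_⟩
      obtain ⟨i, hi⟩ := mem_zpowers_iff.1 (hgen ⟨x, hx⟩)
      rw [← show g ^ i = x from congrArg Subtype.val hi]
      exact A.zpow_mem hgA i
    · have hcomm : ∀ a ∈ (P : Subgroup G), ∀ b ∈ (P : Subgroup G), a * b = b * a := fun a ha b hb =>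
        congrArg Subtype.val (hab.is_comm.comm (⟨a, ha⟩ : (P : Subgroup G)) ⟨b, hb⟩)
      obtain ⟨x, hxP, hxp⟩ : ∃ x ∈ (P : Subgroup G), x ^ p ≠ 1 := by
        by_contra! h
        exact hne ⟨hab, h⟩
      obtain ⟨A, hA, hxA⟩ := h𝓐.1.2 x
      refine ⟨A, hA, ?_⟩
      by_contra hPA
      obtain ⟨y, hyP, hyA⟩ := SetLike.not_le_iff_exists.1 hPA
      have key : ∀ u ∈ (P : Subgroup G), u ^ p ≠ 1 → ∀ B ∈ 𝓐, u ∈ B →
          ∀ v ∈ (P : Subgroup G), v ∉ B → v ^ p ≠ 1 := by
        intro u huP hup B hB huB v hvP hvB hvp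
        obtain ⟨C, hC, huvC⟩ := h𝓐.1.2 (u * v)
        have hpow : (u * v) ^ p = u ^ p := by
          rw [(show Commute u v from hcomm u huP v hvP).mul_pow, hvp, mul_one]
        have hBC := hu hB hC (u ^ p) (Subgroup.pow_mem _ huP p) hup (B.pow_mem huB p)
          (hpow ▸ C.pow_mem huvC p)
        refine hvB ?_
        have h := B.mul_mem (B.inv_mem huB) (hBC ▸ huvC : u * v ∈ B)
        rwa [inv_mul_cancel_left] at h
      obtain ⟨A', hA', hyA'⟩ := h𝓐.1.2 y
      have hyp := key x hxP hxp A hA hxA y hyP hyA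
      obtain ⟨m, hm⟩ := hpk (x ^ p) (Subgroup.pow_mem _ hxP p)
      -- an element of order p in `A`
      have hex : ∃ i, x ^ p ^ i = 1 := ⟨1 + m, by rw [pow_add, pow_mul, pow_one]; exact hm⟩
      have h0 : Nat.find hex ≠ 0 := fun h => hxp (by
        have := Nat.find_spec hex
        rw [h, pow_zero, pow_one] at this
        rw [this, one_pow])
      obtain ⟨i, hi⟩ := Nat.exists_eq_succ_of_ne_zero h0
      have hz1 : x ^ p ^ i ≠ 1 := Nat.find_min hex (by omega)
      have hzp : (x ^ p ^ i) ^ p = 1 := by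
        rw [← pow_mul, ← pow_succ]
        have := Nat.find_spec hex
        rwa [hi] at this
      refine key y hyP hyp A' hA' hyA' _ (Subgroup.pow_mem _ hxP (p ^ i)) (fun hz => hyA ?_) hzp
      rw [hu hA hA' _ (Subgroup.pow_mem _ hxP _) hz1 (A.pow_mem hxA _) hz]
      exact hyA'
  suffices centralizer ((P : Subgroup G) : Set G) = A by rwa [this]
  refine le_antisymm ?_ (fun a ha => mem_centralizer_iff.2 fun x hx => ?_)
  · obtain ⟨⟨x, hxP⟩, hx1'⟩ := (P : Subgroup G).ne_bot_iff_exists_ne_one.1 hP1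
    have hx1 : x ≠ 1 := fun h => hx1' (Subtype.ext h)
    set C := centralizer ((P : Subgroup G) : Set G)
    suffices A.subgroupOf C = ⊤ from subgroupOf_eq_top.1 this
    refine eq_top_of_forall_sylow_le fun q hq => ?_
    obtain ⟨R⟩ := Sylow.nonempty (p := q) (G := C)
    refine ⟨R, fun c hc => ?_⟩
    obtain ⟨k, hk⟩ := R.isPGroup' ⟨c, hc⟩
    have hk' : (c : G) ^ q ^ k = 1 := congrArg (fun u : (R : Subgroup C) => ((u : C) : G)) hk
    show (c : G) ∈ A
    by_cases hqp : q = p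
    · subst hqp
      refine hPA (mem_sylow_of_mem_normalizer P hk' ?_)
      exact centralizer_le_normalizer _ c.2
    · have hcomm : Commute x (c : G) := (mem_centralizer_iff.1 c.2 x hxP)
      obtain ⟨B, hB, hxcB⟩ := h𝓐.1.2 (x * c)
      obtain ⟨j, hj⟩ := hpk x hxP
      have hxB : x ∈ B := by
        have h1 : (x * c) ^ q ^ k = x ^ q ^ k := by rw [hcomm.mul_pow, hk', mul_one]
        have h2 : Nat.Coprime (q ^ k) (orderOf x) :=
          Nat.Coprime.coprime_dvd_right (orderOf_dvd_of_pow_eq_one hj)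
            (((Nat.coprime_primes hq.out hp.out).2 hqp).pow _ _)
        obtain ⟨i, hi⟩ := exists_pow_eq_self_of_coprime h2
        rw [← hi, ← h1]
        exact B.pow_mem (B.pow_mem hxcB _) _
      rw [hu hA hB x hxP hx1 (hPA hxP) hxB]
      have h := B.mul_mem (B.inv_mem hxB) hxcB
      rwa [inv_mul_cancel_left] at h
  · obtain ⟨k, hk⟩ := hpk x hx
    exact (mem_centralizer_singleton_iff.1
      (nilpotent_le_centralizer P hab (h𝓐.2.2 A hA) hk (hPA hx) ha)).symm

/-- `N(P)` is the only maximal subgroup over `C(P)`, and distinct conjugates of `N(P)` meet in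
`p'`-groups. -/
theorem normalizer_of_cover (hZ : center G = ⊥) (P : Sylow p G)
    (hab : IsMulCommutative ↥(P : Subgroup G)) (hnn : ¬ (P : Subgroup G).Normal)
    (hP : IsCyclic ↥(P : Subgroup G) ∨ ¬ Cfsg.IsElementaryAbelian p (P : Subgroup G)) :
    centralizer ((P : Subgroup G) : Set G) ∈ 𝓐 ∧
      IsCoatom (normalizer ((P : Subgroup G) : Set G)) ∧
      (∀ M : Subgroup G, M ≠ ⊤ → centralizer ((P : Subgroup G) : Set G) ≤ M →
        M ≤ normalizer ((P : Subgroup G) : Set G)) ∧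
      ∀ g : G, g ∉ normalizer ((P : Subgroup G) : Set G) →
        ¬ p ∣ Nat.card ↥(normalizer ((P : Subgroup G) : Set G) ⊓
          (normalizer ((P : Subgroup G) : Set G)).map (MulAut.conj g).toMonoidHom) := by
  classical
  have hP1 : (P : Subgroup G) ≠ ⊥ := fun h => hnn (by rw [h]; infer_instance)
  have hA := centralizer_mem_cover h𝓐 hZ P hab hP1 hP
  have hconjmem : ∀ (g x : G), x ∈ ((g • P : Sylow p G) : Subgroup G) ↔ g⁻¹ * x * g ∈ (P : Subgroup G) := by
    intro g x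
    rw [Sylow.coe_subgroup_smul, Subgroup.mem_pointwise_smul_iff_inv_smul_mem]
    simp
  -- conjugates satisfy the same hypotheses
  have hconj : ∀ g : G, centralizer (((g • P : Sylow p G) : Subgroup G) : Set G) ∈ 𝓐 := by
    intro g
    have e : (P : Subgroup G) ≃* ((g • P : Sylow p G) : Subgroup G) := Sylow.equiv P (g • P)
    refine centralizer_mem_cover h𝓐 hZ (g • P) ⟨⟨fun a b => ?_⟩⟩ (fun h => hP1 ?_) ?_
    · rw [← e.apply_symm_apply a, ← e.apply_symm_apply b, ← map_mul, hab.is_comm.comm, map_mul]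
    · haveI : Subsingleton ((g • P : Sylow p G) : Subgroup G) :=
        subsingleton_iff.2 fun a b => Subtype.ext (((mem_bot).1 (h ▸ a.2)).trans ((mem_bot).1 (h ▸ b.2)).symm)
      haveI : Subsingleton (P : Subgroup G) := e.toEquiv.subsingleton
      exact eq_bot_of_subsingleton _
    · rcases hP with hc | hne
      · exact Or.inl (isCyclic_of_surjective e e.surjective)
      · refine Or.inr fun h => hne ⟨hab, fun a ha => ?_⟩
        have := h.2 _ (e ⟨a, ha⟩).2
        have h2 : e ((⟨a, ha⟩ : (P : Subgroup G)) ^ p) = 1 := by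
          rw [map_pow]; exact Subtype.ext (by simpa using this)
        exact congrArg Subtype.val (e.map_eq_one_iff.1 h2)
  have hPC : (P : Subgroup G) ≤ centralizer ((P : Subgroup G) : Set G) := fun a ha =>
    mem_centralizer_iff.2 fun b hb =>
      congrArg Subtype.val (hab.is_comm.comm (⟨b, hb⟩ : (P : Subgroup G)) ⟨a, ha⟩)
  -- equal centralizers force equal Sylow subgroups
  have hinj : ∀ g : G, ((g • P : Sylow p G) : Subgroup G) ≤ centralizer ((P : Subgroup G) : Set G) →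
      g ∈ normalizer ((P : Subgroup G) : Set G) := by
    intro g hle
    refine Sylow.smul_eq_iff_mem_normalizer.1 ?_
    refine Sylow.ext (le_antisymm (fun x hx => ?_) fun x hx => ?_)
    · obtain ⟨k, hk⟩ := (g • P).isPGroup' ⟨x, hx⟩
      exact mem_sylow_of_mem_normalizer P (congrArg Subtype.val hk) (centralizer_le_normalizer _ (hle hx))
    · obtain ⟨k, hk⟩ := P.isPGroup' ⟨x, hx⟩
      refine mem_sylow_of_mem_normalizer (g • P) (congrArg Subtype.val hk) ?_
      refine centralizer_le_normalizer _ (mem_centralizer_iff.2 fun y hy => ?_)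
      exact (mem_centralizer_iff.1 (hle hy) x hx).symm
  have hmax : ∀ M : Subgroup G, M ≠ ⊤ → centralizer ((P : Subgroup G) : Set G) ≤ M →
      M ≤ normalizer ((P : Subgroup G) : Set G) := by
    intro M hM hCM m hm
    have hle : centralizer (((m • P : Sylow p G) : Subgroup G) : Set G) ≤ M := by
      intro y hy
      have : m⁻¹ * y * m ∈ centralizer ((P : Subgroup G) : Set G) := mem_centralizer_iff.2 fun x hx => by
        have h := mem_centralizer_iff.1 hy (m * x * m⁻¹) ((hconjmem m _).2 (by simpa [mul_assoc] using SetLike.mem_coe.1 hx))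
        calc x * (m⁻¹ * y * m) = m⁻¹ * ((m * x * m⁻¹) * y) * m := by group
          _ = m⁻¹ * (y * (m * x * m⁻¹)) * m := by rw [h]
          _ = _ := by group
      have h := M.mul_mem (M.mul_mem hm (hCM this)) (M.inv_mem hm)
      simpa [mul_assoc] using h
    have heq := cover_eq_of_le h𝓐.1.1 h𝓐.1.2 h𝓐.2.1 hA (hconj m) hM hCM hle
    refine hinj m ?_
    rw [heq]
    intro a ha
    refine mem_centralizer_iff.2 fun b hb => ?_
    have hc : ∀ u ∈ ((m • P : Sylow p G) : Subgroup G), m⁻¹ * u * m ∈ (P : Subgroup G) :=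
      fun u hu => (hconjmem m u).1 hu
    have h := congrArg Subtype.val
      (hab.is_comm.comm (⟨_, hc b hb⟩ : (P : Subgroup G)) ⟨_, hc a ha⟩)
    have h' : m⁻¹ * (b * a) * m = m⁻¹ * (a * b) * m := by simpa [mul_assoc] using h
    exact mul_left_cancel (mul_right_cancel h')
  refine ⟨hA, ⟨fun h => hnn (normalizer_eq_top_iff.1 h), fun M hM => ?_⟩, hmax, fun g hg hdvd => ?_⟩
  · by_contra hne
    exact hM.not_ge (hmax M hne ((centralizer_le_normalizer _).trans hM.le))
  · obtain ⟨⟨z, hz1, w, hw, hwz⟩, hz⟩ := exists_prime_orderOf_dvd_card' p hdvd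
    have hzp : z ^ p ^ 1 = 1 := by
      rw [pow_one, ← hz]
      exact congrArg Subtype.val (pow_orderOf_eq_one (⟨z, hz1, w, hw, hwz⟩ :
        ↥(normalizer ((P : Subgroup G) : Set G) ⊓ (normalizer ((P : Subgroup G) : Set G)).map (MulAut.conj g).toMonoidHom)))
    have hz0 : z ≠ 1 := by
      rintro rfl
      exact hp.out.ne_one (hz.symm.trans (orderOf_eq_one_iff.2 (Subtype.ext rfl)))
    have hwz' : g * w * g⁻¹ = z := hwz
    have hwp : w ^ p ^ 1 = 1 := by
      rw [← hwz', conj_pow] at hzp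
      simpa using hzp
    have hwP := mem_sylow_of_mem_normalizer P hwp hw
    have hzg : z ∈ ((g • P : Sylow p G) : Subgroup G) := (hconjmem g z).2 (by
      rw [← hwz']; simpa [mul_assoc] using hwP)
    have hzP := mem_sylow_of_mem_normalizer P hzp hz1
    have heq := cover_unique h𝓐 hZ P hab hA (hconj g) hzp hz0 (hPC hzP) (by
      refine mem_centralizer_iff.2 fun b hb => ?_
      have h := congrArg Subtype.val (hab.is_comm.comm
        (⟨_, (hconjmem g b).1 hb⟩ : (P : Subgroup G)) ⟨_, (hconjmem g z).1 hzg⟩)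
      have h' : g⁻¹ * (b * z) * g = g⁻¹ * (z * b) * g := by simpa [mul_assoc] using h
      exact mul_left_cancel (mul_right_cancel h'))
    refine hg (hinj g (heq ▸ fun a ha => mem_centralizer_iff.2 fun b hb => ?_))
    have h := congrArg Subtype.val (hab.is_comm.comm
      (⟨_, (hconjmem g b).1 hb⟩ : (P : Subgroup G)) ⟨_, (hconjmem g a).1 ha⟩)
    have h' : g⁻¹ * (b * a) * g = g⁻¹ * (a * b) * g := by simpa [mul_assoc] using h
    exact mul_left_cancel (mul_right_cancel h')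

end CfsgLib.PGroup
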