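import Cfsg.Agent.Lib.Solvable.UniqueSubgroup
import Cfsg.Agent.Lib.Classical.QuadBinary
import Cfsg.Prelude

/-!
2-groups of sectional rank at most two containing a dihedral or quaternion group of order eight.
-/

set_option autoImplicit false

namespace CfsgLib.PGroup.RankTwo

open Subgroup

variable {S : Type*} [Group S]

/-- `S` has a cyclic subgroup `⟨a⟩` of index two with an element acting on it as in a maximal class group. -/
def Good (S : Type*) [Group S] : Prop :=
  ∃ (a b : S) (m : ℕ) (r : ℤ), orderOf a = 2 ^ (m + 2) ∧ (zpowers a).index = 2 ∧ b ∉ zpowers a ∧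
    b * a * b⁻¹ = a ^ r ∧ (r = -1 ∨ (1 ≤ m ∧ r = 2 ^ (m + 1) - 1))

theorem zpow_eq_iff {a : S} {n : ℕ} (ha : orderOf a = n) (i j : ℤ) : a ^ i = a ^ j ↔ (n : ℤ) ∣ j - i := by
  rw [zpow_eq_zpow_iff_modEq, ha, Int.modEq_iff_dvd]

theorem zpow_eq_one_iff {a : S} {n : ℕ} (ha : orderOf a = n) (i : ℤ) : a ^ i = 1 ↔ (n : ℤ) ∣ i := by
  rw [← orderOf_dvd_iff_zpow_eq_one, ha]

theorem conj_zpow_of {a x : S} {t : ℤ} (h : x * a * x⁻¹ = a ^ t) (i : ℤ) :
    x * a ^ i * x⁻¹ = a ^ (t * i) := by
  rw [← conj_zpow, h, ← zpow_mul]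

/-- An exponent as in `Good` is minus one modulo four. -/
theorem four_dvd_of_good {m : ℕ} {r : ℤ} (h : r = -1 ∨ (1 ≤ m ∧ r = 2 ^ (m + 1) - 1)) : (4 : ℤ) ∣ r + 1 := by
  rcases h with rfl | ⟨hm, rfl⟩
  · simp
  · obtain ⟨m, rfl⟩ := Nat.exists_eq_add_of_le hm
    exact ⟨2 ^ m, by ring⟩

theorem mem_of_index_two {A : Subgroup S} (hA : A.index = 2) {b : S} (hb : b ∉ A) (x : S) :
    x ∈ A ∨ b⁻¹ * x ∈ A := by
  by_cases hx : x ∈ A
  · exact Or.inl hx
  · refine Or.inr ?_
    rw [mul_mem_iff_of_index_two hA, inv_mem_iff]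
    exact iff_of_false hb hx

/-- The square of the outer element lies in the subgroup of order two. -/
theorem sq_outer {a b : S} {m : ℕ} {r : ℤ} (ha : orderOf a = 2 ^ (m + 2)) (hbr : b * a * b⁻¹ = a ^ r)
    (hr : r = -1 ∨ (1 ≤ m ∧ r = 2 ^ (m + 1) - 1)) (hb2 : b * b ∈ zpowers a) :
    b * b = 1 ∨ b * b = a ^ (2 : ℤ) ^ (m + 1) := by
  obtain ⟨j, hj⟩ := mem_zpowers_iff.1 hb2
  have h1 : b * a ^ j * b⁻¹ = a ^ j := by rw [hj]; group
  rw [conj_zpow_of hbr, zpow_eq_iff ha] at h1
  have h2 : (2 : ℤ) ^ (m + 1) ∣ j := by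
    obtain ⟨c, hc⟩ := h1
    push_cast at hc
    obtain ⟨u, hu⟩ := four_dvd_of_good hr
    have hcop : IsCoprime ((2 : ℤ) ^ (m + 1)) (1 - 2 * u) := IsCoprime.pow_left ⟨u, 1, by ring⟩
    refine hcop.dvd_of_dvd_mul_left ⟨c, ?_⟩
    have : r = 4 * u - 1 := by linarith
    subst this
    refine mul_left_cancel₀ (show (2 : ℤ) ≠ 0 by norm_num) ?_
    linear_combination hc
  obtain ⟨e, rfl⟩ := h2
  rw [← hj]
  rcases Int.even_or_odd' e with ⟨f, rfl | rfl⟩
  · left
    rw [zpow_eq_one_iff ha]
    push_cast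
    exact ⟨f, by ring⟩
  · right
    rw [zpow_eq_iff ha]
    push_cast
    exact ⟨-f, by ring⟩

variable [Finite S]

/-- The three series. -/
theorem classify (hg : Good S) (h2 : IsPGroup 2 S) :
    ((∃ k : ℕ, Nonempty (S ≃* DihedralGroup (2 ^ (k + 2)))) ∨
      (∃ k : ℕ, Nat.card S = 2 ^ (k + 4) ∧ ∃ a b : S, orderOf a = 2 ^ (k + 3) ∧ orderOf b = 2 ∧
        b * a * b⁻¹ = a ^ (2 ^ (k + 2) - 1)) ∨
      (∃ k : ℕ, Nonempty (S ≃* QuaternionGroup (2 ^ (k + 1))))) := by
  haveI : Fact (Nat.Prime 2) := ⟨Nat.prime_two⟩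
  obtain ⟨a, b, m, r, ha, hidx, hb, hbr, hr⟩ := hg
  have hcard : Nat.card S = 2 ^ (m + 3) := by
    rw [← (zpowers a).card_mul_index, hidx, Nat.card_zpowers, ha, ← pow_succ]
  have hcov := mem_of_index_two hidx hb
  have hb2 : b * b ∈ zpowers a := mul_self_mem_of_index_two hidx b
  have haz : a ^ (2 : ℤ) ^ (m + 1) ≠ 1 := by
    rw [Ne, zpow_eq_one_iff ha]
    push_cast
    rintro ⟨c, hc⟩
    have h0 : (2 : ℤ) ^ (m + 1) * (2 * c - 1) = 0 := by linear_combination -hc
    rcases mul_eq_zero.1 h0 with h | h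
    · exact absurd h (by positivity)
    · omega
  rcases hr with rfl | ⟨hm, rfl⟩
  · rw [zpow_neg_one] at hbr
    rcases sq_outer ha (r := -1) (by rw [zpow_neg_one]; exact hbr) (Or.inl rfl) hb2 with h | h
    · left
      refine ⟨m, Classical.dihedral_of_rotation (by positivity) ha h ?_ hb (by rw [hcard]; ring)⟩
      rwa [inv_eq_of_mul_eq_one_left h] at hbr
    · right; right
      -- a unique involution
      have hinv : ∀ x : S, x ∉ zpowers a → x * x ≠ 1 := by
        intro x hx hxx
        obtain ⟨i, hi⟩ := mem_zpowers_iff.1 ((hcov x).resolve_left hx)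
        have e : x = b * a ^ i := by rw [hi]; group
        have h1 : b * a ^ i * b⁻¹ = a ^ (-1 * i) := conj_zpow_of (by rw [zpow_neg_one]; exact hbr) i
        rw [e, show b * a ^ i * (b * a ^ i) = (b * a ^ i * b⁻¹) * (b * b) * a ^ i by group, h1, h,
          ← zpow_add, ← zpow_add] at hxx
        exact haz (by rw [← hxx]; congr 1; ring)
      have huniq : ∀ x y : S, orderOf x = 2 → orderOf y = 2 → x ∈ zpowers y := by
        intro x y hx hy
        have hin : ∀ x : S, orderOf x = 2 → x = a ^ (2 : ℤ) ^ (m + 1) := by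
          intro x hx
          have hxx : x * x = 1 := by rw [← sq, ← hx, pow_orderOf_eq_one]
          by_cases hxa : x ∈ zpowers a
          · obtain ⟨i, rfl⟩ := mem_zpowers_iff.1 hxa
            rw [← zpow_add, zpow_eq_one_iff ha] at hxx
            obtain ⟨c, hc⟩ := hxx
            push_cast at hc
            have hi : i = 2 ^ (m + 1) * c := by
              refine mul_left_cancel₀ (show (2 : ℤ) ≠ 0 by norm_num) ?_
              linear_combination hc
            rcases Int.even_or_odd' c with ⟨f, rfl | rfl⟩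
            · exfalso
              rw [orderOf_eq_prime_iff] at hx
              refine hx.2 ?_
              rw [zpow_eq_one_iff ha, hi]
              push_cast
              exact ⟨f, by ring⟩
            · rw [zpow_eq_iff ha, hi]
              push_cast
              exact ⟨-f, by ring⟩
          · exact absurd hxx (hinv x hxa)
        rw [hin x hx, ← hin y hy]
        exact mem_zpowers y
      rcases Solvable.isCyclic_or_quaternion h2 huniq with hc | ⟨-, n, ⟨e⟩⟩
      · exfalso
        have hcomm : b * a = a * b := by letI := IsCyclic.commGroup (α := S); exact mul_comm b a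
        rw [hcomm, mul_inv_cancel_right] at hbr
        nth_rewrite 1 [← zpow_one a] at hbr
        rw [← zpow_neg_one, zpow_eq_iff ha] at hbr
        push_cast at hbr
        have : (2 : ℤ) ^ 2 ∣ -1 - 1 := (pow_dvd_pow 2 (by omega)).trans hbr
        norm_num at this
      · haveI : NeZero (2 ^ n) := ⟨by positivity⟩
        have hn : n = m + 1 := by
          have := Nat.card_congr e.toEquiv
          rw [hcard, Nat.card_eq_fintype_card, QuaternionGroup.card] at this
          have h' : 2 ^ (m + 3) = 2 ^ (n + 2) := by rw [this]; ring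
          have := Nat.pow_right_injective (le_refl 2) h'
          omega
        exact ⟨m, hn ▸ ⟨e⟩⟩
  · obtain ⟨k, rfl⟩ := Nat.exists_eq_add_of_le hm
    right; left
    refine ⟨k, by rw [hcard]; ring, ?_⟩
    have h1k : (2 : ℤ) ^ (1 + k + 1) - 1 = ((2 ^ (k + 2) - 1 : ℕ) : ℤ) := by
      rw [Nat.cast_sub Nat.one_le_two_pow]
      push_cast
      ring
    have ha' : orderOf a = 2 ^ (k + 3) := by rw [ha]; ring
    rcases sq_outer ha hbr (Or.inr ⟨hm, rfl⟩) hb2 with h | h
    · refine ⟨a, b, ha', ?_, ?_⟩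
      · refine orderOf_eq_prime (by rw [sq, h]) fun h1 => hb ?_
        rw [h1]; exact one_mem _
      · rw [hbr, h1k, zpow_natCast]
    · refine ⟨a, b * a, ha', ?_, ?_⟩
      · refine orderOf_eq_prime ?_ fun h1 => hb ?_
        · rw [sq, show b * a * (b * a) = (b * a * b⁻¹) * (b * b) * a by group, hbr, h, ← zpow_add,
            ← zpow_add_one, zpow_eq_one_iff ha]
          push_cast
          exact ⟨1, by ring⟩
        · rw [eq_inv_of_mul_eq_one_left h1]; exact inv_mem (mem_zpowers a)
      · rw [show b * a * a * (b * a)⁻¹ = b * a * b⁻¹ by group, hbr, h1k, zpow_natCast]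

/-- Three commuting involutions modulo a normal subgroup. -/
theorem false_of_section (hr : Cfsg.SectionalPRankLE 2 2 S) (N : Subgroup S) [N.Normal]
    (hN : 8 ≤ N.index) {u v w : S} (hgen : ∀ M : Subgroup S, N ≤ M → u ∈ M → v ∈ M → w ∈ M → M = ⊤)
    (hu : u * u ∈ N) (hv : v * v ∈ N) (hw : w * w ∈ N)
    (huv : u * v * u⁻¹ * v⁻¹ ∈ N) (huw : u * w * u⁻¹ * w⁻¹ ∈ N) (hvw : v * w * v⁻¹ * w⁻¹ ∈ N) : False := by
  set π := QuotientGroup.mk' N
  have hc : ∀ x y : S, x * y * x⁻¹ * y⁻¹ ∈ N → π x * π y = π y * π x := by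
    intro x y h
    have h1 : π (x * y * x⁻¹ * y⁻¹) = 1 := (QuotientGroup.eq_one_iff _).2 h
    rwa [map_mul, map_mul, map_mul, map_inv, map_inv, mul_inv_eq_one, mul_inv_eq_iff_eq_mul] at h1
  have hs : ∀ x : S, x * x ∈ N → π x * π x = 1 := fun x h => by
    rw [← map_mul]; exact (QuotientGroup.eq_one_iff _).2 h
  set T : Set (S ⧸ N) := {π u, π v, π w}
  have htop : closure T = ⊤ := by
    have hsub : T ⊆ closure T := subset_closure
    have h1 : (closure T).comap π = ⊤ := by
      refine hgen _ (fun x hx => ?_) (hsub (by simp [T])) (hsub (by simp [T])) (hsub (by simp [T]))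
      rw [mem_comap, show π x = 1 from (QuotientGroup.eq_one_iff x).2 hx]
      exact one_mem _
    rw [eq_top_iff]
    intro y _
    obtain ⟨x, rfl⟩ := QuotientGroup.mk'_surjective N y
    exact h1.ge (mem_top x)
  have hcomm : IsMulCommutative (closure T) := isMulCommutative_closure (by
    rintro x (rfl | rfl | rfl) y (rfl | rfl | rfl) <;>
      first
        | rfl
        | exact hc _ _ huv
        | exact (hc _ _ huv).symm
        | exact hc _ _ huw
        | exact (hc _ _ huw).symm
        | exact hc _ _ hvw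
        | exact (hc _ _ hvw).symm)
  rw [htop] at hcomm
  have hall : ∀ x y : S ⧸ N, x * y = y * x := fun x y =>
    congrArg Subtype.val (hcomm.is_comm.comm (⟨x, mem_top x⟩ : (⊤ : Subgroup (S ⧸ N))) ⟨y, mem_top y⟩)
  have hexp : ∀ x : S ⧸ N, x * x = 1 := by
    intro x
    have hx : x ∈ closure T := htop.ge (mem_top x)
    induction hx using closure_induction with
    | mem y hy => rcases hy with rfl | rfl | rfl; exacts [hs u hu, hs v hv, hs w hw]
    | one => exact one_mul 1
    | mul y z _ _ hy hz =>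
      rw [show y * z * (y * z) = y * (z * y) * z by group, hall z y,
        show y * (y * z) * z = y * y * (z * z) by group, hy, hz, one_mul]
    | inv y _ hy => rw [← mul_inv_rev, hy, inv_one]
  -- transfer to a section
  let ψ : S ⧸ N →* (⊤ : Subgroup S) ⧸ N.subgroupOf ⊤ :=
    QuotientGroup.lift N ((QuotientGroup.mk' (N.subgroupOf ⊤)).comp (Subgroup.topEquiv (G := S)).symm.toMonoidHom)
      fun x hx => (QuotientGroup.eq_one_iff _).2 hx
  have hψ : Function.Surjective ψ := by
    intro y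
    obtain ⟨x, rfl⟩ := QuotientGroup.mk'_surjective (N.subgroupOf ⊤) y
    exact ⟨QuotientGroup.mk' N x, rfl⟩
  have h := hr ⊤ (N.subgroupOf ⊤) ⊤ ⟨⟨fun x y => ?_⟩⟩ fun x _ => ?_
  · rw [card_top, ← index_eq_card] at h
    change N.relIndex ⊤ ≤ 2 ^ 2 at h
    rw [relIndex_top_right] at h
    omega
  · obtain ⟨x', hx'⟩ := hψ x.1
    obtain ⟨y', hy'⟩ := hψ y.1
    refine Subtype.ext ?_
    show x.1 * y.1 = y.1 * x.1
    rw [← hx', ← hy', ← map_mul, hall, map_mul]
  · obtain ⟨x', rfl⟩ := hψ x
    rw [sq, ← map_mul, hexp, map_one]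

/-- Units squaring to one modulo a power of two. -/
theorem sq_cases {m : ℕ} (hm : 1 ≤ m) {t : ℤ} (h : (2 : ℤ) ^ (m + 2) ∣ t * t - 1) :
    ((2 : ℤ) ^ (m + 2) ∣ t - 1 ∨ (2 : ℤ) ^ (m + 2) ∣ t - (1 + 2 ^ (m + 1))) ∨
      ((2 : ℤ) ^ (m + 2) ∣ t + 1 ∨ (2 : ℤ) ^ (m + 2) ∣ t - (2 ^ (m + 1) - 1)) := by
  rcases Solvable.two_cases (by omega) h with ⟨e, he⟩ | ⟨e, he⟩ <;>
    rw [show m + 2 - 1 = m + 1 by omega] at he <;> rcases Int.even_or_odd' e with ⟨f, rfl | rfl⟩
  · exact Or.inl (Or.inl ⟨f, by rw [he]; ring⟩)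
  · exact Or.inl (Or.inr ⟨f, by linear_combination he⟩)
  · exact Or.inr (Or.inl ⟨f, by rw [he]; ring⟩)
  · exact Or.inr (Or.inr ⟨f, by linear_combination he⟩)

/-- A cyclic subgroup of index two and a nonabelian subgroup of order eight. -/
theorem good_of_cyclic {c : S} {m : ℕ} (hc : orderOf c = 2 ^ (m + 3)) (hidx : (zpowers c).index = 2)
    {P : Subgroup S} (hP8 : Nat.card P = 8) (hP : ¬ IsMulCommutative P) : Good S := by
  obtain ⟨x, hxP, hx⟩ : ∃ x ∈ P, x ∉ zpowers c := by
    by_contra! h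
    exact hP ⟨⟨fun x y => Subtype.ext (by
      obtain ⟨i, hi⟩ := mem_zpowers_iff.1 (h x x.2)
      obtain ⟨j, hj⟩ := mem_zpowers_iff.1 (h y y.2)
      show (x : S) * y = y * x
      rw [← hi, ← hj, ← zpow_add, ← zpow_add, add_comm])⟩⟩
  haveI := normal_of_index_eq_two hidx
  obtain ⟨t, ht⟩ : ∃ t : ℤ, x * c * x⁻¹ = c ^ t := by
    obtain ⟨t, ht⟩ := mem_zpowers_iff.1 ((inferInstance : (zpowers c).Normal).conj_mem c (mem_zpowers c) x)
    exact ⟨t, ht.symm⟩
  -- the intersection contains an element of order four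
  set Q := P ⊓ zpowers c
  have hQ : 4 ≤ Nat.card Q := by
    have h1 : Q.relIndex P ≤ 2 := by
      rw [inf_relIndex_left, ← hidx, ← relIndex_top_right]
      exact relIndex_le_of_le_right le_top (by rw [relIndex_top_right, hidx]; norm_num)
    have h2 := relIndex_mul_relIndex ⊥ Q P bot_le inf_le_left
    rw [relIndex_bot_left, relIndex_bot_left, hP8] at h2
    nlinarith
  set u := c ^ (2 : ℤ) ^ (m + 1) with hu
  have huQ : u ∈ Q := by
    have hcyc : IsCyclic Q := isCyclic_of_injective (Subgroup.inclusion (inf_le_right : Q ≤ zpowers c))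
      (Subgroup.inclusion_injective _)
    obtain ⟨⟨g, hg⟩, hgen⟩ := hcyc.exists_generator
    obtain ⟨i, hi⟩ := mem_zpowers_iff.1 hg.2
    have hQd : Nat.card Q ∣ 8 := hP8 ▸ card_dvd_of_le inf_le_left
    have hgo : orderOf g = Nat.card Q := by
      rw [← orderOf_eq_card_of_forall_mem_zpowers hgen, orderOf_mk]
    have h8 : Nat.card Q ≠ 8 := fun h => hx (inf_le_right (a := P)
      ((eq_of_le_of_card_ge (inf_le_left : Q ≤ P) (by rw [h, hP8])).ge hxP))
    have h4 : orderOf g = 4 := by
      rw [hgo]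
      have := Nat.le_of_dvd (by norm_num) hQd
      interval_cases hk : Nat.card Q <;> omega
    have h4' : g ^ (4 : ℤ) = 1 := by
      rw [show (4 : ℤ) = ((4 : ℕ) : ℤ) from rfl, zpow_natCast, ← h4, pow_orderOf_eq_one]
    have h2' : g ^ (2 : ℤ) ≠ 1 := by
      rw [show (2 : ℤ) = ((2 : ℕ) : ℤ) from rfl, zpow_natCast]
      intro h
      have := orderOf_dvd_of_pow_eq_one h
      rw [h4] at this
      norm_num at this
    rw [← hi, ← zpow_mul, zpow_eq_one_iff hc] at h4'
    rw [← hi, ← zpow_mul, Ne, zpow_eq_one_iff hc] at h2'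
    obtain ⟨e, he⟩ := h4'
    push_cast at he h2'
    have hie : i = 2 ^ (m + 1) * e := by
      refine mul_left_cancel₀ (show (4 : ℤ) ≠ 0 by norm_num) ?_
      linear_combination he
    rcases Int.even_or_odd' e with ⟨f, rfl | rfl⟩
    · exact absurd ⟨f, by rw [hie]; ring⟩ h2'
    · rcases Int.even_or_odd' f with ⟨f', rfl | rfl⟩
      · have e1 : u = g := by
          rw [hu, ← hi, zpow_eq_iff hc, hie]
          push_cast
          exact ⟨f', by ring⟩
        rw [e1]; exact hg
      · have e1 : u = g⁻¹ := by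
          rw [hu, ← hi, ← zpow_neg, zpow_eq_iff hc, hie]
          push_cast
          exact ⟨-f' - 1, by ring⟩
        rw [e1]; exact inv_mem hg
  have hxu : x * u ≠ u * x := by
    intro he
    refine hP ?_
    have hgen : (closure {x, u} : Subgroup S) = P := by
      refine eq_of_le_of_card_ge ((closure_le P).2 (by rintro y (rfl | rfl); exacts [hxP, huQ.1])) ?_
      have h1 : zpowers u < closure {x, u} := by
        refine lt_of_le_of_ne (zpowers_le.2 (subset_closure (by simp))) fun e => hx ?_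
        have : x ∈ zpowers u := e.ge (subset_closure (by simp))
        exact zpowers_le.2 huQ.2 this
      have h4 : Nat.card (zpowers u) = 4 := by
        rw [Nat.card_zpowers, hu, show (2 : ℤ) ^ (m + 1) = ((2 ^ (m + 1) : ℕ) : ℤ) by push_cast; rfl,
          zpow_natCast, orderOf_pow_of_dvd (by positivity) (by rw [hc]; exact pow_dvd_pow 2 (by omega)), hc,
          Nat.pow_div (by omega) (by norm_num), show m + 3 - (m + 1) = 2 by omega]
      obtain ⟨c', hc'⟩ := card_dvd_of_le h1.le
      rw [h4] at hc'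
      rw [hP8, hc']
      have : c' ≠ 1 := fun e => h1.ne (eq_of_le_of_card_ge h1.le (by rw [h4, hc', e]))
      have : c' ≠ 0 := fun e => by rw [e, mul_zero] at hc'; exact Nat.card_pos.ne' hc'
      omega
    rw [← hgen]
    exact isMulCommutative_closure (by
      rintro y (rfl | rfl) z (rfl | rfl)
      exacts [rfl, he, he.symm, rfl])
  have htsq : (2 : ℤ) ^ (m + 1 + 2) ∣ t * t - 1 := by
    obtain ⟨j, hj⟩ := mem_zpowers_iff.1 (mul_self_mem_of_index_two hidx x)
    have h1 : x * x * c * (x * x)⁻¹ = c := by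
      rw [← hj]; group
    rw [show x * x * c * (x * x)⁻¹ = x * (x * c * x⁻¹) * x⁻¹ by group, ht, conj_zpow_of ht] at h1
    conv_rhs at h1 => rw [← zpow_one c]
    rw [zpow_eq_iff hc] at h1
    push_cast at h1
    have := dvd_neg.2 h1
    rwa [neg_sub] at this
  have hu' : ∀ d : ℤ, (2 : ℤ) ^ (m + 1 + 1) ∣ t - 1 → False := by
    rintro - ⟨e, he⟩
    refine hxu ?_
    rw [← mul_inv_eq_iff_eq_mul, hu, conj_zpow_of ht, zpow_eq_iff hc]
    push_cast
    exact ⟨-e * 2 ^ m, by linear_combination -(2 : ℤ) ^ (m + 1) * he⟩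
  rcases sq_cases (m := m + 1) (by omega) htsq with h | h
  · exfalso
    rcases h with ⟨e, he⟩ | ⟨e, he⟩
    · exact hu' 0 ⟨2 * e, by rw [he]; ring⟩
    · exact hu' 0 ⟨2 * e + 1, by linear_combination he⟩
  · rcases h with h | h
    · refine ⟨c, x, m + 1, -1, hc, hidx, hx, ?_, Or.inl rfl⟩
      rw [ht, zpow_eq_iff hc]
      push_cast
      exact (dvd_neg.2 h).trans (dvd_of_eq (by ring))
    · refine ⟨c, x, m + 1, 2 ^ (m + 1 + 1) - 1, hc, hidx, hx, ?_, Or.inr ⟨by omega, rfl⟩⟩
      rw [ht, zpow_eq_iff hc]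
      push_cast
      exact (dvd_neg.2 h).trans (dvd_of_eq (by ring))

/-- One step up from a subgroup of index two. -/
theorem step (h2 : IsPGroup 2 S) (hrk : Cfsg.SectionalPRankLE 2 2 S) {a y : S} {m : ℕ} {r : ℤ}
    (ha : orderOf a = 2 ^ (m + 2)) [hn : (zpowers a).Normal] (hidx : (zpowers a).index = 4)
    (hy : y ∉ zpowers a) (hy2 : y * y ∈ zpowers a) (hyr : y * a * y⁻¹ = a ^ r)
    (hr : r = -1 ∨ (1 ≤ m ∧ r = 2 ^ (m + 1) - 1)) {P : Subgroup S} (hP8 : Nat.card P = 8)
    (hP : ¬ IsMulCommutative P) : Good S := by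
  haveI : Fact (Nat.Prime 2) := ⟨Nat.prime_two⟩
  set A := zpowers a with hA
  set C := centralizer ({a} : Set S) with hC
  have hAC : A ≤ C := zpowers_le.2 (mem_centralizer_singleton_iff.2 rfl)
  obtain ⟨u4, hu4⟩ := four_dvd_of_good hr
  have hr1 : ¬ (2 : ℤ) ^ (m + 2) ∣ r - 1 := by
    intro hd
    have : (4 : ℤ) ∣ r - 1 := (show (4 : ℤ) ∣ 2 ^ (m + 2) from ⟨2 ^ m, by ring⟩).trans hd
    omega
  have hyC : y ∉ C := fun h => hr1 (by
    have h1 := mem_centralizer_singleton_iff.1 h
    rw [h1, mul_inv_cancel_right] at hyr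
    nth_rewrite 1 [← zpow_one a] at hyr
    rw [zpow_eq_iff ha] at hyr
    exact_mod_cast hyr)
  -- the quotient by the squares of `A`
  set N := zpowers (a ^ (2 : ℤ)) with hN
  have hNA : N ≤ A := zpowers_le.2 (zpow_mem (mem_zpowers a) 2)
  haveI hNn : N.Normal := ⟨fun n hn' g => by
    obtain ⟨i, rfl⟩ := mem_zpowers_iff.1 hn'
    obtain ⟨t, ht⟩ := mem_zpowers_iff.1 (hn.conj_mem a (mem_zpowers a) g)
    rw [← zpow_mul, conj_zpow_of ht.symm]
    exact ⟨t * i, by show (a ^ (2 : ℤ)) ^ (t * i) = _; rw [← zpow_mul]; congr 1; ring⟩⟩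
  have heven : ∀ e : ℤ, 2 ∣ e → a ^ e ∈ N := by
    rintro _ ⟨f, rfl⟩
    exact ⟨f, by show (a ^ (2 : ℤ)) ^ f = _; rw [← zpow_mul]⟩
  have haN : a ∉ N := fun h => by
    obtain ⟨f, hf⟩ := mem_zpowers_iff.1 h
    rw [← zpow_mul] at hf
    nth_rewrite 2 [← zpow_one a] at hf
    rw [zpow_eq_iff ha] at hf
    push_cast at hf
    have : (2 : ℤ) ∣ 1 - 2 * f := (dvd_pow_self 2 (by omega)).trans hf
    omega
  have hNidx : 8 ≤ N.index := by
    have h1 := relIndex_mul_index hNA
    rw [hidx] at h1
    have h3 : N.relIndex A ≠ 1 := fun h => haN (relIndex_eq_one.1 h (mem_zpowers a))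
    have h4 : N.relIndex A ≠ 0 := index_ne_zero_of_finite (H := N.subgroupOf A)
    omega
  have hyy : y * y ∈ N := by
    rcases sq_outer ha hyr hr hy2 with h | h <;> rw [h]
    · exact one_mem _
    · exact heven _ (dvd_pow_self 2 (by omega))
  have haa : a * a ∈ N := by rw [← sq, ← zpow_natCast]; exact heven _ dvd_rfl
  have hya : y * a * y⁻¹ * a⁻¹ ∈ N := by
    rw [hyr, ← zpow_sub_one]
    refine heven _ ⟨2 * u4 - 1, by linarith⟩
  -- generation
  have hgen : ∀ v : S, v ∉ A → v * y⁻¹ ∉ A → ∀ M : Subgroup S, N ≤ M → a ∈ M → y ∈ M → v ∈ M → M = ⊤ := by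
    intro v hv hvy M _ haM hyM hvM
    have hAM : A ≤ M := zpowers_le.2 haM
    rw [← index_eq_one]
    have h1 := relIndex_mul_index hAM
    rw [hidx] at h1
    -- `A`, `y A`, `v A` are distinct cosets in `M`
    by_contra hne
    have hle : A.relIndex M ≤ 2 := by
      rcases Nat.lt_or_ge (A.relIndex M) 3 with h | h
      · omega
      · have : 2 ≤ M.index := by
          rcases Nat.eq_zero_or_pos M.index with h0 | h0
          · exact absurd h0 index_ne_zero_of_finite
          · omega
        nlinarith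
    rcases Nat.lt_or_ge (A.relIndex M) 2 with h | h
    · have : A.relIndex M = 1 := by
        have h0 : A.relIndex M ≠ 0 := index_ne_zero_of_finite (H := A.subgroupOf M); omega
      exact hv (relIndex_eq_one.1 this hvM)
    · have h2 : (A.subgroupOf M).index = 2 := le_antisymm hle h
      have := (mul_mem_iff_of_index_two h2 (a := (⟨v, hvM⟩ : M)) (b := ⟨y⁻¹, inv_mem hyM⟩)).2
        (iff_of_false (by simpa [mem_subgroupOf] using hv) (by simpa [mem_subgroupOf, inv_mem_iff] using hy))
      exact hvy this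
  by_cases hcase : C = A
  · -- `S ⧸ A` acts faithfully
    have hm : 1 ≤ m ∧ True := by
      refine ⟨?_, trivial⟩
      by_contra hm
      obtain rfl : m = 0 := by omega
      -- only two automorphisms
      obtain ⟨s, hs, hsy⟩ : ∃ s : S, s ∉ A ∧ y⁻¹ * s ∉ A := by
        by_contra! hall
        have hle : A.index ≤ 2 := by
          rw [index_eq_card]
          have hsurj : Function.Surjective (fun i : Bool => if i then ((y : S) : S ⧸ A) else ((1 : S) : S ⧸ A)) := by
            intro q
            obtain ⟨x, rfl⟩ := QuotientGroup.mk_surjective q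
            by_cases hx : x ∈ A
            · exact ⟨false, ((QuotientGroup.eq_one_iff x).2 hx).symm⟩
            · exact ⟨true, by simpa using QuotientGroup.eq.2 (hall x hx)⟩
          exact (Nat.card_le_card_of_surjective _ hsurj).trans (by simp)
        omega
      obtain ⟨t, ht⟩ := mem_zpowers_iff.1 (hn.conj_mem a (mem_zpowers a) s)
      have htodd : (4 : ℤ) ∣ t - 1 ∨ (4 : ℤ) ∣ t + 1 := by
        rcases Int.even_or_odd' t with ⟨f, rfl | rfl⟩
        · exfalso
          have h1 : (s * a * s⁻¹) ^ (2 : ℤ) = 1 := by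
            rw [← ht, ← zpow_mul, zpow_eq_one_iff ha]
            exact ⟨f, by push_cast; ring⟩
          rw [conj_zpow, mul_inv_eq_one, mul_eq_left, zpow_eq_one_iff ha] at h1
          norm_num at h1
        · omega
      have hrm : r = -1 := hr.resolve_right (by omega)
      rcases htodd with h | h
      · refine hs (hcase ▸ mem_centralizer_singleton_iff.2 ?_)
        rw [← mul_inv_eq_iff_eq_mul, ← ht]
        conv_rhs => rw [← zpow_one a]
        rw [zpow_eq_iff ha]
        push_cast
        have := dvd_neg.2 h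
        simpa using this
      · refine hsy (hcase ▸ mem_centralizer_singleton_iff.2 ?_)
        have hyi : y⁻¹ * a * y⁻¹⁻¹ = a ^ (-1 : ℤ) := by
          have h1 : y * a ^ (-1 : ℤ) * y⁻¹ = a := by
            rw [conj_zpow_of hyr, hrm]; simp
          calc y⁻¹ * a * y⁻¹⁻¹ = y⁻¹ * (y * a ^ (-1 : ℤ) * y⁻¹) * y := by rw [h1, inv_inv]
            _ = _ := by group
        rw [← mul_inv_eq_iff_eq_mul, show y⁻¹ * s * a * (y⁻¹ * s)⁻¹ = y⁻¹ * (s * a * s⁻¹) * y⁻¹⁻¹ by group,
          ← ht, conj_zpow_of hyi]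
        conv_rhs => rw [← zpow_one a]
        rw [zpow_eq_iff ha]
        push_cast
        have h' : (4 : ℤ) ∣ 1 - -1 * t := by omega
        simpa using h'
    obtain ⟨hm, -⟩ := hm
    -- an element inducing `1 + 2 ^ (m + 1)`
    obtain ⟨s, hs, hsy⟩ : ∃ s : S, s ∉ A ∧ y⁻¹ * s ∉ A := by
      by_contra! hall
      have hle : A.index ≤ 2 := by
        rw [index_eq_card]
        have hsurj : Function.Surjective (fun i : Bool => if i then ((y : S) : S ⧸ A) else ((1 : S) : S ⧸ A)) := by
          intro q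
          obtain ⟨x, rfl⟩ := QuotientGroup.mk_surjective q
          by_cases hx : x ∈ A
          · exact ⟨false, ((QuotientGroup.eq_one_iff x).2 hx).symm⟩
          · exact ⟨true, by simpa using QuotientGroup.eq.2 (hall x hx)⟩
        exact (Nat.card_le_card_of_surjective _ hsurj).trans (by simp)
      omega
    have hconj : ∀ g : S, ∃ t : ℤ, g * a * g⁻¹ = a ^ t := fun g => by
      obtain ⟨t, ht⟩ := mem_zpowers_iff.1 (hn.conj_mem a (mem_zpowers a) g)
      exact ⟨t, ht.symm⟩
    have hin : ∀ g : S, ∀ t : ℤ, g * a * g⁻¹ = a ^ t → (2 : ℤ) ^ (m + 2) ∣ t - 1 → g ∈ A := by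
      intro g t hg hd
      refine hcase ▸ mem_centralizer_singleton_iff.2 ?_
      rw [← mul_inv_eq_iff_eq_mul, hg]
      conv_rhs => rw [← zpow_one a]
      rw [zpow_eq_iff ha]
      push_cast
      have := dvd_neg.2 hd
      rwa [neg_sub] at this
    obtain ⟨t, ht⟩ := hconj s
    have hyi : y⁻¹ * a * y⁻¹⁻¹ = a ^ r := by
      have h1 : y * a ^ r * y⁻¹ = a := by
        rw [conj_zpow_of hyr]
        conv_rhs => rw [← zpow_one a]
        rw [zpow_eq_iff ha]
        push_cast
        rcases hr with rfl | ⟨-, rfl⟩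
        · simp
        · exact ⟨1 - 2 ^ m, by ring⟩
      calc y⁻¹ * a * y⁻¹⁻¹ = y⁻¹ * (y * a ^ r * y⁻¹) * y := by rw [h1, inv_inv]
        _ = _ := by group
    have hys : y⁻¹ * s * a * (y⁻¹ * s)⁻¹ = a ^ (r * t) := by
      rw [show y⁻¹ * s * a * (y⁻¹ * s)⁻¹ = y⁻¹ * (s * a * s⁻¹) * y⁻¹⁻¹ by group, ht, conj_zpow_of hyi]
    have htsq : (2 : ℤ) ^ (m + 2) ∣ t * t - 1 := by
      -- a square is not minus one modulo four
      by_contra hne
      obtain ⟨q, hq⟩ : ∃ q : ℤ, s * s * a * (s * s)⁻¹ = a ^ q := hconj _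
      rw [show s * s * a * (s * s)⁻¹ = s * (s * a * s⁻¹) * s⁻¹ by group, ht, conj_zpow_of ht,
        zpow_eq_iff ha] at hq
      haveI : Fintype (S ⧸ A) := Fintype.ofFinite _
      set π := QuotientGroup.mk' A
      have hord : orderOf (π y) = 2 := orderOf_eq_prime
        (by rw [sq, ← map_mul]; exact (QuotientGroup.eq_one_iff _).2 hy2)
        (fun h => hy ((QuotientGroup.eq_one_iff _).1 h))
      -- `s * s` lies in `A` or in `y A`
      have h4 : (π s) ^ 4 = 1 := by
        rw [show 4 = Nat.card (S ⧸ A) by rw [← index_eq_card, hidx]]; exact pow_card_eq_one'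
      by_cases hss : s * s ∈ A
      · exact hne (by
          have h1 : s * s * a * (s * s)⁻¹ = a := by
            obtain ⟨j, hj⟩ := mem_zpowers_iff.1 hss
            rw [← hj]; group
          rw [show s * s * a * (s * s)⁻¹ = s * (s * a * s⁻¹) * s⁻¹ by group, ht, conj_zpow_of ht] at h1
          conv_rhs at h1 => rw [← zpow_one a]
          rw [zpow_eq_iff ha] at h1
          push_cast at h1
          have := dvd_neg.2 h1
          rwa [neg_sub] at this)
      · have hcyc : ∀ e : S ⧸ A, e ∈ zpowers (π s) := by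
          have ho : orderOf (π s) = Nat.card (S ⧸ A) := by
            rw [← index_eq_card, hidx]
            refine (Nat.dvd_prime_pow Nat.prime_two (m := 2)).1 (orderOf_dvd_of_pow_eq_one h4) |>.elim ?_
            rintro i ⟨hi, hi'⟩
            interval_cases i
            · exact absurd ((QuotientGroup.eq_one_iff _).1 (orderOf_eq_one_iff.1 hi')) hs
            · exfalso
              refine hss ((QuotientGroup.eq_one_iff _).1 ?_)
              show π (s * s) = 1
              rw [map_mul, ← sq, ← show orderOf (π s) = 2 from hi', pow_orderOf_eq_one]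
            · exact hi'
          exact fun e => (eq_top_of_card_eq (zpowers (π s)) (by rw [Nat.card_zpowers, ho])).ge (mem_top e)
        obtain ⟨j, hj⟩ := mem_zpowers_iff.1 (hcyc (π y))
        rcases Int.even_or_odd' j with ⟨f, rfl | rfl⟩
        · have hyss : y⁻¹ * (s * s) ∈ A := by
            rw [← QuotientGroup.eq_one_iff]
            show π (y⁻¹ * (s * s)) = 1
            rw [map_mul, map_inv, map_mul, ← hj, inv_mul_eq_one]
            rcases Int.even_or_odd' f with ⟨g, rfl | rfl⟩
            · exfalso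
              refine hy ((QuotientGroup.eq_one_iff _).1 ?_)
              show π y = 1
              rw [← hj, show 2 * (2 * g) = ((4 : ℕ) : ℤ) * g by push_cast; ring, zpow_mul, zpow_natCast, h4,
                one_zpow]
            · rw [show 2 * (2 * g + 1) = ((4 : ℕ) : ℤ) * g + 2 by push_cast; ring, zpow_add, zpow_mul,
                zpow_natCast, h4, one_zpow, one_mul, zpow_two]
          obtain ⟨i, hi⟩ := mem_zpowers_iff.1 hyss
          have h1 : s * s * a * (s * s)⁻¹ = a ^ r := by
            rw [show s * s = y * a ^ i by rw [hi]; group,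
              show y * a ^ i * a * (y * a ^ i)⁻¹ = y * a * y⁻¹ by group, hyr]
          rw [show s * s * a * (s * s)⁻¹ = s * (s * a * s⁻¹) * s⁻¹ by group, ht, conj_zpow_of ht,
            zpow_eq_iff ha] at h1
          push_cast at h1
          have h5 : (4 : ℤ) ∣ r - t * t := (show (4 : ℤ) ∣ 2 ^ (m + 2) from ⟨2 ^ m, by ring⟩).trans h1
          rcases Int.even_or_odd' t with ⟨w, rfl | rfl⟩
          · rw [show 2 * w * (2 * w) = 4 * (w * w) by ring] at h5; omega
          · rw [show (2 * w + 1) * (2 * w + 1) = 4 * (w * w + w) + 1 by ring] at h5; omega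
        · have : orderOf (π y) = 2 := hord
          rw [← hj, zpow_add, zpow_mul, zpow_one] at this
          have h2 : ((π s ^ (2 : ℤ)) ^ f * π s) ^ 2 = 1 := this ▸ pow_orderOf_eq_one _
          refine hss ((QuotientGroup.eq_one_iff _).1 ?_)
          show π (s * s) = 1
          rw [(Commute.zpow_left (Commute.zpow_left (Commute.refl (π s)) 2) f).mul_pow, ← zpow_natCast,
            ← zpow_mul, ← zpow_mul, mul_comm f, ← mul_assoc, zpow_mul] at h2
          rw [show π s ^ ((2 : ℤ) * ((2 : ℕ) : ℤ)) = 1 by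
            rw [show (2 : ℤ) * ((2 : ℕ) : ℤ) = ((4 : ℕ) : ℤ) by norm_num, zpow_natCast, h4], one_zpow, one_mul,
            sq] at h2
          rw [map_mul, h2]
    obtain ⟨v, hv, hvy, hva⟩ : ∃ v : S, v ∉ A ∧ v * y⁻¹ ∉ A ∧ v * a * v⁻¹ = a ^ ((1 : ℤ) + 2 ^ (m + 1)) := by
      have hmid : ∀ v : S, v ∉ A → v * a * v⁻¹ = a ^ ((1 : ℤ) + 2 ^ (m + 1)) → v * y⁻¹ ∉ A := by
        intro v hv hva hmem
        obtain ⟨i, hi⟩ := mem_zpowers_iff.1 hmem
        have e : v = a ^ i * y := by rw [hi]; group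
        rw [e, show a ^ i * y * a * (a ^ i * y)⁻¹ = a ^ i * (y * a * y⁻¹) * (a ^ i)⁻¹ by group, hyr,
          ← zpow_neg, ← zpow_add, ← zpow_add, show i + r + -i = r by ring, zpow_eq_iff ha] at hva
        push_cast at hva
        have h5 : (4 : ℤ) ∣ 1 + 2 ^ (m + 1) - r := (show (4 : ℤ) ∣ 2 ^ (m + 2) from ⟨2 ^ m, by ring⟩).trans hva
        obtain ⟨m', rfl⟩ := Nat.exists_eq_add_of_le hm
        rw [show (2 : ℤ) ^ (1 + m' + 1) = 4 * 2 ^ m' by ring] at h5
        omega
      suffices hex : ∃ v : S, v ∉ A ∧ v * a * v⁻¹ = a ^ ((1 : ℤ) + 2 ^ (m + 1)) by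
        obtain ⟨v, h1, h3⟩ := hex
        exact ⟨v, h1, hmid v h1 h3, h3⟩
      have hto : ∀ {v : S} {q : ℤ}, v * a * v⁻¹ = a ^ q → (2 : ℤ) ^ (m + 2) ∣ q - (1 + 2 ^ (m + 1)) →
          v * a * v⁻¹ = a ^ ((1 : ℤ) + 2 ^ (m + 1)) := fun {v q} h hd => by
        rw [h, zpow_eq_iff ha]
        push_cast
        exact (dvd_neg.2 hd).trans (dvd_of_eq (by ring))
      rcases sq_cases hm htsq with (h | h) | h
      · exact absurd (hin s t ht h) hs
      · exact ⟨s, hs, hto ht h⟩
      · -- `y⁻¹ * s`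
        refine ⟨y⁻¹ * s, hsy, hto hys ?_⟩
        rcases h with h | h <;> rcases hr with hr' | ⟨-, hr'⟩
        · exfalso
          refine hsy (hin _ _ hys ?_)
          rw [hr']
          exact (dvd_neg.2 h).trans (dvd_of_eq (by ring))
        · obtain ⟨e, he⟩ := h
          have ht' : t = 2 ^ (m + 2) * e - 1 := by linear_combination he
          rw [hr', ht']
          exact ⟨(2 ^ (m + 1) - 1) * e - 1, by ring⟩
        · obtain ⟨e, he⟩ := h
          have ht' : t = 2 ^ (m + 2) * e + 2 ^ (m + 1) - 1 := by linear_combination he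
          rw [hr', ht']
          exact ⟨-e - 1, by ring⟩
        · exfalso
          obtain ⟨e, he⟩ := h
          have ht' : t = 2 ^ (m + 2) * e + 2 ^ (m + 1) - 1 := by linear_combination he
          refine hsy (hin _ _ hys ?_)
          rw [hr', ht']
          exact ⟨(2 ^ (m + 1) - 1) * e + 2 ^ m - 1, by ring⟩
    -- adjust `v` to an involution
    have hv2 : v * v ∈ A := by
      refine hcase ▸ mem_centralizer_singleton_iff.2 ?_
      rw [← mul_inv_eq_iff_eq_mul, show v * v * a * (v * v)⁻¹ = v * (v * a * v⁻¹) * v⁻¹ by group, hva,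
        conj_zpow_of hva]
      conv_rhs => rw [← zpow_one a]
      rw [zpow_eq_iff ha]
      push_cast
      exact ⟨-(1 + 2 ^ m), by ring⟩
    obtain ⟨j, hj⟩ := mem_zpowers_iff.1 hv2
    have hj2 : 2 ∣ j := by
      have h1 : v * a ^ j * v⁻¹ = a ^ j := by rw [hj]; group
      rw [conj_zpow_of hva, zpow_eq_iff ha] at h1
      obtain ⟨c, hc⟩ := h1
      push_cast at hc
      have : j = -(2 * c) := by
        refine mul_left_cancel₀ (show (2 : ℤ) ^ (m + 1) ≠ 0 by positivity) ?_
        linear_combination -hc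
      omega
    obtain ⟨i, rfl⟩ := hj2
    obtain ⟨l, hl⟩ : ∃ l : ℤ, (2 : ℤ) ^ (m + 2) ∣ l * (2 + 2 ^ (m + 1)) + 2 * i := by
      have hcop : IsCoprime ((2 : ℤ) ^ (m + 1)) (1 + 2 ^ m) :=
        IsCoprime.pow_left ⟨-(2 ^ (m - 1)), 1, by
          obtain ⟨m', rfl⟩ := Nat.exists_eq_add_of_le hm
          rw [show 1 + m' - 1 = m' by omega]; ring⟩
      obtain ⟨α, β, hαβ⟩ := hcop
      exact ⟨-i * β, ⟨i * α, by linear_combination (-2 * i) * hαβ⟩⟩
    set w := a ^ l * v with hw
    have hww : w * w = 1 := by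
      rw [hw, show a ^ l * v * (a ^ l * v) = a ^ l * (v * a ^ l * v⁻¹) * (v * v) by group, conj_zpow_of hva,
        ← hj, ← zpow_add, ← zpow_add, zpow_eq_one_iff ha]
      push_cast
      exact hl.trans (dvd_of_eq (by ring))
    have hwA : w ∉ A := fun h => hv (by
      have := mul_mem (inv_mem (zpow_mem (mem_zpowers a) l)) h
      rwa [hw, inv_mul_cancel_left] at this)
    have hwy : w * y⁻¹ ∉ A := fun h => hvy (by
      have := mul_mem (inv_mem (zpow_mem (mem_zpowers a) l)) h
      rwa [hw, mul_assoc, inv_mul_cancel_left] at this)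
    have hwa : w * a * w⁻¹ = a ^ ((1 : ℤ) + 2 ^ (m + 1)) := by
      rw [hw, show a ^ l * v * a * (a ^ l * v)⁻¹ = a ^ l * (v * a * v⁻¹) * (a ^ l)⁻¹ by group, hva,
        ← zpow_neg, ← zpow_add, ← zpow_add]
      congr 1; ring
    have hwy' : w * y * w⁻¹ * y⁻¹ ∈ N := by
      have hmem : w * y * w⁻¹ * y⁻¹ ∈ A := by
        refine hcase ▸ mem_centralizer_singleton_iff.2 ?_
        have hwi : w⁻¹ * a * w⁻¹⁻¹ = a ^ ((1 : ℤ) + 2 ^ (m + 1)) := by
          rw [inv_eq_of_mul_eq_one_left hww]; exact hwa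
        rw [← mul_inv_eq_iff_eq_mul, show w * y * w⁻¹ * y⁻¹ * a * (w * y * w⁻¹ * y⁻¹)⁻¹ =
          w * (y * (w⁻¹ * (y⁻¹ * a * y⁻¹⁻¹) * w⁻¹⁻¹) * y⁻¹) * w⁻¹ by group, hyi, conj_zpow_of hwi,
          conj_zpow_of hyr, conj_zpow_of hwa]
        conv_rhs => rw [← zpow_one a]
        rw [zpow_eq_iff ha]
        push_cast
        rcases hr with rfl | ⟨-, rfl⟩
        · exact ⟨-(1 + 2 ^ m), by ring⟩
        · exact ⟨-(1 + 2 ^ m) + (2 ^ m - 1 + (1 + 2 ^ (m + 1)) ^ 2 * (1 - 2 ^ m)) - (2 ^ m - 1), by ring⟩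
      obtain ⟨e, he⟩ := mem_zpowers_iff.1 hmem
      rw [← he]
      refine heven _ ?_
      have hwyw : w * y * w⁻¹ = a ^ e * y := by rw [he]; group
      have hwi : w⁻¹ = w := inv_eq_of_mul_eq_one_left hww
      have h3 : a ^ (((1 : ℤ) + 2 ^ (m + 1)) * e) * a ^ e = 1 := by
        have h4 : w * (a ^ e * y) * w⁻¹ = y := by
          rw [← hwyw, hwi, show w * (w * y * w) * w = w * w * y * (w * w) by group, hww, one_mul, mul_one]
        rw [show w * (a ^ e * y) * w⁻¹ = (w * a ^ e * w⁻¹) * (w * y * w⁻¹) by group, conj_zpow_of hwa, hwyw,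
          ← mul_assoc, mul_eq_right] at h4
        exact h4
      rw [← zpow_add, zpow_eq_one_iff ha] at h3
      obtain ⟨c, hc⟩ := h3
      push_cast at hc
      have hcop : IsCoprime ((2 : ℤ) ^ (m + 1)) (1 + 2 ^ m) :=
        IsCoprime.pow_left ⟨-(2 ^ (m - 1)), 1, by
          obtain ⟨m', rfl⟩ := Nat.exists_eq_add_of_le hm
          rw [show 1 + m' - 1 = m' by omega]; ring⟩
      have h5 : (2 : ℤ) ^ (m + 1) ∣ e := hcop.dvd_of_dvd_mul_left ⟨c, by
        refine mul_left_cancel₀ (show (2 : ℤ) ≠ 0 by norm_num) ?_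
        linear_combination hc⟩
      exact (dvd_pow_self 2 (by omega)).trans h5
    have hwaN : w * a * w⁻¹ * a⁻¹ ∈ N := by
      rw [hwa, ← zpow_sub_one]
      exact heven _ ⟨2 ^ m, by ring⟩
    have hswap : ∀ p q : S, p * q * p⁻¹ * q⁻¹ ∈ N → q * p * q⁻¹ * p⁻¹ ∈ N := fun p q h => by
      have := inv_mem h
      rwa [show (p * q * p⁻¹ * q⁻¹)⁻¹ = q * p * q⁻¹ * p⁻¹ by group] at this
    exact (false_of_section hrk N hNidx (fun M hM h1 h2 h3 => hgen w hwA hwy M hM h1 h2 h3) haa hyy
      (by rw [hww]; exact one_mem _) (hswap _ _ hya) (hswap _ _ hwaN) (hswap _ _ hwy')).elim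
  · -- a centralizing element outside `A`
    obtain ⟨b, hbC, hbA⟩ := SetLike.exists_of_lt (lt_of_le_of_ne hAC (Ne.symm hcase))
    have hCrel : A.relIndex C = 2 := by
      have h1 := relIndex_mul_index hAC
      rw [hidx] at h1
      have h3 : A.relIndex C ≠ 1 := fun h => hbA (relIndex_eq_one.1 h hbC)
      have h4 : C.index ≠ 1 := fun h => hyC (by rw [index_eq_one.1 h]; exact mem_top y)
      obtain ⟨i, -, hi⟩ := (Nat.dvd_prime_pow Nat.prime_two (m := 2)).1 ⟨C.index, h1.symm⟩
      rcases i with _ | _ | i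
      · exact absurd hi h3
      · simpa using hi
      · exfalso
        rw [hi] at h1
        have : 2 ^ 2 ≤ 2 ^ (i + 1 + 1) := Nat.pow_le_pow_right (by norm_num) (by omega)
        have := Nat.pos_of_ne_zero (index_ne_zero_of_finite (H := C))
        have : 2 ≤ C.index := by omega
        nlinarith
    have hb2 : b * b ∈ A :=
      mul_self_mem_of_index_two (G := C) (H := A.subgroupOf C) hCrel ⟨b, hbC⟩
    have hba : Commute b a := mem_centralizer_singleton_iff.1 hbC
    obtain ⟨j, hj⟩ := mem_zpowers_iff.1 hb2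
    rcases Int.even_or_odd' j with ⟨i, rfl | rfl⟩
    · -- an involution
      set w := b * a ^ (-i) with hw
      have hww : w * w = 1 := by
        rw [hw, ← sq, (hba.zpow_right (-i)).mul_pow, sq, ← hj, sq, ← zpow_add, ← zpow_add,
          show 2 * i + (-i + -i) = 0 by ring, zpow_zero]
      have hwA : w ∉ A := fun h => hbA (by
        have := mul_mem h (zpow_mem (mem_zpowers a) i)
        rwa [hw, mul_assoc, ← zpow_add, neg_add_cancel, zpow_zero, mul_one] at this)
      have hwC : w ∈ C := mul_mem hbC (hAC (zpow_mem (mem_zpowers a) _))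
      have hwy : w * y⁻¹ ∉ A := fun h => hyC (by
        have := mul_mem (inv_mem (hAC h)) hwC
        rwa [mul_inv_rev, inv_inv, inv_mul_cancel_right] at this)
      have hwa : Commute w a := mem_centralizer_singleton_iff.1 hwC
      have hwyN : y * w * y⁻¹ * w⁻¹ ∈ N := by
        have hCn : y * w * y⁻¹ ∈ C := by
          rw [mem_centralizer_singleton_iff, ← mul_inv_eq_iff_eq_mul]
          obtain ⟨q, hq⟩ := mem_zpowers_iff.1 (hn.conj_mem a (mem_zpowers a) y⁻¹)
          have hq' : w * a ^ q * w⁻¹ = a ^ q := by rw [(hwa.zpow_right q).eq, mul_inv_cancel_right]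
          calc y * w * y⁻¹ * a * (y * w * y⁻¹)⁻¹ = y * (w * (y⁻¹ * a * y⁻¹⁻¹) * w⁻¹) * y⁻¹ := by group
            _ = y * (y⁻¹ * a * y⁻¹⁻¹) * y⁻¹ := by rw [← hq, hq']
            _ = a := by group
        have hyw : y * w * y⁻¹ * w⁻¹ ∈ A :=
          (mul_mem_iff_of_index_two (G := C) (H := A.subgroupOf C) hCrel
            (a := (⟨_, hCn⟩ : C)) (b := ⟨w⁻¹, inv_mem hwC⟩)).2
            (iff_of_false (by
              rw [mem_subgroupOf]
              intro h
              refine hwA ?_
              have := hn.conj_mem _ h y⁻¹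
              rwa [inv_inv, show y⁻¹ * (y * w * y⁻¹) * y = w by group] at this)
              (by rw [mem_subgroupOf, inv_mem_iff]; exact hwA))
        obtain ⟨e, he⟩ := mem_zpowers_iff.1 hyw
        have e1 : y * w * y⁻¹ = a ^ e * w := by rw [he]; group
        have h6 : (a ^ e * w) * (a ^ e * w) = 1 := by
          rw [← e1, show y * w * y⁻¹ * (y * w * y⁻¹) = y * (w * w) * y⁻¹ by group, hww]; group
        rw [← sq, ((hwa.zpow_right e).symm).mul_pow, sq, sq, hww, mul_one, ← zpow_add, zpow_eq_one_iff ha] at h6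
        rw [← he]
        refine heven _ ?_
        obtain ⟨c, hc⟩ := h6
        push_cast at hc
        exact ⟨2 ^ m * c, mul_left_cancel₀ (show (2 : ℤ) ≠ 0 by norm_num) (by linear_combination hc)⟩
      have hswap : ∀ p q : S, p * q * p⁻¹ * q⁻¹ ∈ N → q * p * q⁻¹ * p⁻¹ ∈ N := fun p q h => by
        have := inv_mem h
        rwa [show (p * q * p⁻¹ * q⁻¹)⁻¹ = q * p * q⁻¹ * p⁻¹ by group] at this
      exact (false_of_section hrk N hNidx (fun M hM h1 h2 h3 => hgen w hwA hwy M hM h1 h2 h3) haa hyy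
        (by rw [hww]; exact one_mem _) (hswap _ _ hya)
        (by rw [hwa.symm.eq, mul_inv_cancel_right, mul_inv_cancel]; exact one_mem _) hwyN).elim
    · -- a cyclic subgroup of index two
      set c := b * a ^ (-i) with hc
      have hcc : c * c = a := by
        rw [hc, ← sq, (hba.zpow_right (-i)).mul_pow, sq, ← hj, sq, ← zpow_add, ← zpow_add,
          show 2 * i + 1 + (-i + -i) = 1 by ring, zpow_one]
      have hco : orderOf c = 2 ^ (m + 3) := by
        obtain ⟨k, hk⟩ := IsPGroup.iff_orderOf.1 h2 c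
        have hak : orderOf (c ^ 2) = 2 ^ (m + 2) := by rw [sq, hcc, ha]
        rw [orderOf_pow' _ two_ne_zero, hk] at hak
        rcases k with _ | k
        · rw [pow_zero, Nat.gcd_one_left, Nat.div_one] at hak
          have : 1 < 2 ^ (m + 2) := Nat.one_lt_pow (by omega) (by norm_num)
          omega
        · rw [Nat.gcd_eq_right (dvd_pow_self 2 (by omega)), pow_succ, Nat.mul_div_cancel _ (by norm_num)] at hak
          rw [hk, show k = m + 2 from Nat.pow_right_injective (le_refl 2) hak]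
      refine good_of_cyclic (c := c) hco ?_ hP8 hP
      have h1 := (zpowers c).card_mul_index
      have h3 := A.card_mul_index
      rw [hidx, Nat.card_zpowers, ha] at h3
      rw [Nat.card_zpowers, hco, ← h3, show 2 ^ (m + 2) * 4 = 2 ^ (m + 3) * 2 by ring] at h1
      exact Nat.eq_of_mul_eq_mul_left (by positivity) h1

end CfsgLib.PGroup.RankTwo

namespace CfsgLib.PGroup.RankTwo

open Subgroup

variable {S : Type*} [Group S]

/-- Sectional rank bounds pass to subgroups. -/
theorem sectionalPRankLE_subgroup {p k : ℕ} (h : Cfsg.SectionalPRankLE p k S) (K : Subgroup S) :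
    Cfsg.SectionalPRankLE p k K := by
  intro H N _ A hAc hA
  set e := H.equivMapOfInjective K.subtype K.subtype_injective
  haveI hN' : (N.map e.toMonoidHom).Normal :=
    Subgroup.Normal.map inferInstance e.toMonoidHom e.surjective
  set f := QuotientGroup.congr N (N.map e.toMonoidHom) e rfl
  haveI := hAc
  refine (Nat.card_congr (A.equivMapOfInjective f.toMonoidHom f.injective).toEquiv).le.trans
    (h (H.map K.subtype) (N.map e.toMonoidHom) (A.map f.toMonoidHom) inferInstance ?_)
  rintro _ ⟨x, hx, rfl⟩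
  rw [← map_pow, hA x hx, map_one]

theorem good_of_equiv {T : Type*} [Group T] [Finite S] (e : S ≃* T) (hg : Good T) : Good S := by
  obtain ⟨a, b, m, r, ha, hidx, hb, hbr, hr⟩ := hg
  refine ⟨e.symm a, e.symm b, m, r, (MulEquiv.orderOf_eq e.symm a).trans ha, ?_, ?_, ?_, hr⟩
  · rw [show zpowers (e.symm a) = (zpowers a).map e.symm.toMonoidHom from (MonoidHom.map_zpowers e.symm.toMonoidHom a).symm,
      index_map_of_bijective (f := e.symm.toMonoidHom) e.symm.bijective, hidx]
  · intro h
    obtain ⟨i, hi⟩ := mem_zpowers_iff.1 h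
    refine hb (mem_zpowers_iff.2 ⟨i, e.symm.injective ?_⟩)
    rw [map_zpow, hi]
  · rw [← map_inv, ← map_mul, ← map_mul, hbr, map_zpow]

theorem good_dihedral : Good (DihedralGroup 4) := by
  refine ⟨.r 1, .sr 0, 0, -1, by rw [DihedralGroup.orderOf_r_one]; rfl, ?_, ?_, by rw [zpow_neg_one]; decide,
    Or.inl rfl⟩
  · have h := (zpowers (DihedralGroup.r 1 : DihedralGroup 4)).card_mul_index
    rw [Nat.card_zpowers, DihedralGroup.orderOf_r_one, DihedralGroup.nat_card] at h
    omega
  · intro h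
    obtain ⟨i, hi⟩ := mem_zpowers_iff.1 h
    rw [DihedralGroup.r_one_zpow] at hi
    cases hi

theorem good_quaternion : Good (QuaternionGroup 2) := by
  refine ⟨.a 1, .xa 0, 0, -1, by rw [QuaternionGroup.orderOf_a_one]; rfl, ?_, ?_, by rw [zpow_neg_one]; decide,
    Or.inl rfl⟩
  · have h := (zpowers (QuaternionGroup.a 1 : QuaternionGroup 2)).card_mul_index
    rw [Nat.card_zpowers, QuaternionGroup.orderOf_a_one, Nat.card_eq_fintype_card, QuaternionGroup.card] at h
    omega
  · intro h
    obtain ⟨i, hi⟩ := (mem_powers_iff_mem_zpowers.2 h)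
    simp only [QuaternionGroup.a_one_pow] at hi
    cases hi

/-- In a good group some generator of index two spans a subgroup invariant under an automorphism group. -/
theorem exists_invariant [Finite S] (hS : IsPGroup 2 S) {M : Subgroup S} (hM : M.index = 2) (hg : Good M) :
    ∃ (a y : S) (m : ℕ) (r : ℤ), a ∈ M ∧ y ∈ M ∧ orderOf a = 2 ^ (m + 2) ∧ (zpowers a).Normal ∧
      (zpowers a).index = 4 ∧ y ∉ zpowers a ∧ y * y ∈ zpowers a ∧ y * a * y⁻¹ = a ^ r ∧
      (r = -1 ∨ (1 ≤ m ∧ r = 2 ^ (m + 1) - 1)) := by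
  obtain ⟨a, b, m, r, ha, hidx, hb, hbr, hr⟩ := hg
  haveI hMn := normal_of_index_eq_two hM
  have hb2 := mul_self_mem_of_index_two hidx b
  have hcov := mem_of_index_two hidx hb
  have hval : ∀ x : M, x ∈ zpowers a ↔ (x : S) ∈ zpowers (a : S) := by
    intro x
    constructor
    · intro h
      obtain ⟨i, rfl⟩ := mem_zpowers_iff.1 h
      rw [SubgroupClass.coe_zpow]
      exact zpow_mem (mem_zpowers _) i
    · intro h
      obtain ⟨i, hi⟩ := mem_zpowers_iff.1 h
      exact mem_zpowers_iff.2 ⟨i, Subtype.ext (by rw [SubgroupClass.coe_zpow, hi])⟩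
  have hcard : Nat.card M = 2 ^ (m + 3) := by
    rw [← (zpowers a).card_mul_index, hidx, Nat.card_zpowers, ha, ← pow_succ]
  have hScard : Nat.card S = 2 ^ (m + 4) := by
    rw [← M.card_mul_index, hM, hcard]; ring
  have hindex : ∀ c : S, orderOf c = 2 ^ (m + 2) → (zpowers c).index = 4 := by
    intro c hc
    have h1 := (zpowers c).card_mul_index
    rw [Nat.card_zpowers, hc, hScard, show 2 ^ (m + 4) = 2 ^ (m + 2) * 4 by ring] at h1
    exact Nat.eq_of_mul_eq_mul_left (by positivity) h1
  have ha' : orderOf (a : S) = 2 ^ (m + 2) := by rw [orderOf_coe, ha]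
  by_cases hn : ∀ s : S, s * a * s⁻¹ ∈ zpowers (a : S)
  · refine ⟨a, b, m, r, a.2, b.2, ha', ⟨fun n hn' g => ?_⟩, hindex _ ha', fun h => hb ((hval b).2 h), ?_, ?_, hr⟩
    · obtain ⟨i, rfl⟩ := mem_zpowers_iff.1 hn'
      rw [← conj_zpow]
      exact zpow_mem (hn g) i
    · exact (hval (b * b)).1 hb2
    · exact (congrArg Subtype.val hbr).trans (SubgroupClass.coe_zpow a r)
  · -- only possible for groups of order eight
    push_neg at hn
    obtain ⟨s, hs⟩ := hn
    set a' : M := ⟨s * a * s⁻¹, hMn.conj_mem a a.2 s⟩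
    have ha'A : a' ∉ zpowers a := fun h => hs ((hval a').1 h)
    have hord : orderOf a' = 2 ^ (m + 2) := by
      rw [← orderOf_coe]
      show orderOf (s * a * s⁻¹) = _
      rw [show s * (a : S) * s⁻¹ = MulAut.conj s (a : S) from rfl, MulEquiv.orderOf_eq, ha']
    obtain ⟨i, hi⟩ := mem_zpowers_iff.1 ((hcov a').resolve_left ha'A)
    have e : a' = b * a ^ i := by rw [hi]; group
    have hsq4 : a' * a' * (a' * a') = 1 := by
      have h1 : a' * a' = (a ^ i) ^ r * (b * b) * a ^ i := by
        rw [e, show b * a ^ i * (b * a ^ i) = b * a ^ i * b⁻¹ * (b * b) * a ^ i by group, conj_zpow_of hbr,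
          ← zpow_mul, mul_comm i r]
      obtain ⟨u, hu⟩ := four_dvd_of_good hr
      rcases sq_outer ha hbr hr hb2 with hb' | hb' <;> rw [h1, hb'] <;>
        simp only [mul_one, ← zpow_mul, ← zpow_add] <;> rw [zpow_eq_one_iff ha] <;> push_cast
      all_goals rcases hr with rfl | ⟨-, rfl⟩
      · exact ⟨0, by ring⟩
      · exact ⟨i, by ring⟩
      · exact ⟨1, by ring⟩
      · exact ⟨i + 1, by ring⟩
    have hm0 : m = 0 := by
      by_contra hm
      have h1 : orderOf a' ∣ 4 := orderOf_dvd_of_pow_eq_one (by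
        rw [show a' ^ 4 = a' * a' * (a' * a') by rw [← sq, ← sq, ← pow_mul]]; exact hsq4)
      rw [hord] at h1
      have h2 := Nat.le_of_dvd (by norm_num) h1
      have : 2 ^ 3 ≤ 2 ^ (m + 2) := Nat.pow_le_pow_right (by norm_num) (by omega)
      omega
    subst hm0
    have hr' : r = -1 := hr.resolve_right (by omega)
    subst hr'
    have hinv : a' * a * a'⁻¹ = a⁻¹ := by
      rw [e, show b * a ^ i * a * (b * a ^ i)⁻¹ = b * a * b⁻¹ by group, hbr, zpow_neg_one]
    have hconjA : a * a' * a⁻¹ = a'⁻¹ := by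
      have h4 : ∀ c : M, orderOf c = 4 → c ^ 4 = 1 := fun c hc => by rw [← hc, pow_orderOf_eq_one]
      haveI hn' : (zpowers a').Normal := by
        refine normal_of_index_eq_two ?_
        have h1 := (zpowers a').card_mul_index
        rw [Nat.card_zpowers, hord, hcard] at h1
        omega
      obtain ⟨j, hj⟩ := mem_zpowers_iff.1 (hn'.conj_mem a' (mem_zpowers a') a)
      have hne : a * a' * a⁻¹ ≠ a' := fun h => by
        rw [mul_inv_eq_iff_eq_mul] at h
        rw [← h, mul_inv_cancel_right] at hinv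
        have : a ^ 2 = 1 := by rw [sq]; nth_rewrite 1 [hinv]; exact inv_mul_cancel a
        have := orderOf_dvd_of_pow_eq_one this
        rw [ha] at this
        norm_num at this
      have hjo : orderOf (a * a' * a⁻¹) = 4 := by
        rw [show a * a' * a⁻¹ = MulAut.conj a a' from rfl, MulEquiv.orderOf_eq, hord]; rfl
      rw [← hj] at hne hjo ⊢
      have ho : (orderOf a' : ℤ) = 4 := by rw [hord]; rfl
      rw [← zpow_mod_orderOf, ho] at hne hjo ⊢
      have h0 := Int.emod_nonneg j (show (4 : ℤ) ≠ 0 by norm_num)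
      have h1 := Int.emod_lt_of_pos j (show (0 : ℤ) < 4 by norm_num)
      have hA4 : a' ^ (4 : ℤ) = 1 := by
        rw [show (4 : ℤ) = ((4 : ℕ) : ℤ) from rfl, zpow_natCast]; exact h4 _ (by rw [hord]; rfl)
      interval_cases hk : j % 4
      · rw [zpow_zero, orderOf_one] at hjo; norm_num at hjo
      · exact absurd (zpow_one a') hne
      · exfalso
        have : (a' ^ (2 : ℤ)) ^ 2 = 1 := by rw [← zpow_natCast, ← zpow_mul]; exact hA4
        have := orderOf_dvd_of_pow_eq_one this
        rw [hjo] at this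
        norm_num at this
      · rw [eq_inv_iff_mul_eq_one, ← zpow_add_one]; exact hA4
    -- the invariant generator
    set c := a * a' with hc
    have hcS : s * (c : S) * s⁻¹ ∈ zpowers (c : S) := by
      have hs2 : ∃ j : ℤ, s * (s * a * s⁻¹) * s⁻¹ = (a : S) ^ j := by
        obtain ⟨q, hq⟩ : ∃ q : M, (q : S) = s * s := ⟨⟨_, mul_self_mem_of_index_two hM s⟩, rfl⟩
        haveI := normal_of_index_eq_two hidx
        obtain ⟨j, hj⟩ := mem_zpowers_iff.1 ((inferInstance : (zpowers a).Normal).conj_mem a (mem_zpowers a) q)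
        refine ⟨j, ?_⟩
        rw [← SubgroupClass.coe_zpow, hj, Subgroup.coe_mul, Subgroup.coe_mul, Subgroup.coe_inv, hq]
        group
      obtain ⟨j, hj⟩ := hs2
      have hc' : s * (c : S) * s⁻¹ = ((a' * a ^ j : M) : S) := by
        show s * ((a : S) * (s * a * s⁻¹)) * s⁻¹ = s * a * s⁻¹ * ((a ^ j : M) : S)
        rw [SubgroupClass.coe_zpow, ← hj]
        group
      have hjo : orderOf ((a : S) ^ j) = 4 := by
        rw [← hj, show s * (s * (a : S) * s⁻¹) * s⁻¹ = MulAut.conj (s * s) (a : S) by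
          simp [MulAut.conj_apply, mul_assoc], MulEquiv.orderOf_eq, ha']
        rfl
      rw [hc']
      suffices h : a' * a ^ j ∈ zpowers c by
        obtain ⟨l, hl⟩ := mem_zpowers_iff.1 h
        rw [← hl, SubgroupClass.coe_zpow]
        exact zpow_mem (mem_zpowers _) l
      have hj2 : a' * a ^ j = c⁻¹ ∨ a' * a ^ j = c := by
        have ho : (orderOf (a : S) : ℤ) = 4 := by rw [ha']; rfl
        have hoM : (orderOf a : ℤ) = 4 := by rw [ha]; rfl
        rw [← zpow_mod_orderOf, ho] at hjo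
        rw [← zpow_mod_orderOf a, hoM]
        have h0 := Int.emod_nonneg j (show (4 : ℤ) ≠ 0 by norm_num)
        have h1 := Int.emod_lt_of_pos j (show (0 : ℤ) < 4 by norm_num)
        have hA4 : (a : S) ^ (4 : ℤ) = 1 := by
          rw [show (4 : ℤ) = ((4 : ℕ) : ℤ) from rfl, zpow_natCast,
            show (4 : ℕ) = orderOf (a : S) by rw [ha']; rfl, pow_orderOf_eq_one]
        have hA4' : a ^ (4 : ℤ) = 1 := Subtype.ext (by rw [SubgroupClass.coe_zpow, hA4]; rfl)
        interval_cases hk : j % 4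
        · rw [zpow_zero, orderOf_one] at hjo; norm_num at hjo
        · left
          rw [zpow_one, eq_inv_iff_mul_eq_one, hc,
            show a' * a * (a * a') = (a' * (a * a) * a'⁻¹) * (a' * a') by group,
            show a' * (a * a) * a'⁻¹ = (a' * a * a'⁻¹) * (a' * a * a'⁻¹) by group, hinv]
          have h2 : a' * a' = a * a := by
            have hcm : a * (a' * a') * a⁻¹ = (a' * a')⁻¹ := by
              rw [show a * (a' * a') * a⁻¹ = (a * a' * a⁻¹) * (a * a' * a⁻¹) by group, hconjA, mul_inv_rev]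
            have hin : a' * a' ∈ zpowers a := mul_self_mem_of_index_two hidx a'
            obtain ⟨l, hl⟩ := mem_zpowers_iff.1 hin
            have hne : a' * a' ≠ 1 := fun h => by
              have := orderOf_dvd_of_pow_eq_one (show a' ^ 2 = 1 by rw [sq, h])
              rw [hord] at this
              norm_num at this
            rw [← hl, ← zpow_mod_orderOf, hoM] at hcm hne ⊢
            rw [← zpow_neg, show a * a ^ (l % 4) * a⁻¹ = a ^ (l % 4) by group] at hcm
            have g0 := Int.emod_nonneg l (show (4 : ℤ) ≠ 0 by norm_num)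
            have g1 := Int.emod_lt_of_pos l (show (0 : ℤ) < 4 by norm_num)
            interval_cases hk' : l % 4
            · exact absurd (zpow_zero a) hne
            · rw [zpow_eq_iff ha] at hcm; norm_num at hcm
            · exact zpow_two a
            · rw [zpow_eq_iff ha] at hcm; norm_num at hcm
          rw [h2]; group
        · exfalso
          have : ((a : S) ^ (2 : ℤ)) ^ 2 = 1 := by rw [← zpow_natCast, ← zpow_mul]; exact hA4
          have := orderOf_dvd_of_pow_eq_one this
          rw [hjo] at this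
          norm_num at this
        · right
          rw [hc, show a ^ (3 : ℤ) = a⁻¹ by rw [eq_inv_iff_mul_eq_one, ← zpow_add_one]; exact hA4', ← hinv]
          rw [show a' * (a' * a * a'⁻¹) = (a' * a') * a * a'⁻¹ by group]
          have hin : a' * a' ∈ zpowers a := mul_self_mem_of_index_two hidx a'
          obtain ⟨l, hl⟩ := mem_zpowers_iff.1 hin
          rw [show (a' * a') * a = a * (a' * a') by rw [← hl, ← zpow_add_one, ← zpow_one_add]; congr 1; ring]
          group
      rcases hj2 with h | h <;> rw [h]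
      exacts [inv_mem (mem_zpowers c), mem_zpowers c]
    have hco : orderOf c = 4 := by
      have h2 : c * c = a' * a' := by
        rw [hc, show a * a' * (a * a') = a * (a' * a * a'⁻¹) * (a' * a') by group, hinv, mul_inv_cancel, one_mul]
      have h4 : c ^ 4 = 1 := by rw [show c ^ 4 = c * c * (c * c) by rw [← sq, ← sq, ← pow_mul], h2, hsq4]
      obtain ⟨k, hk, hk'⟩ := (Nat.dvd_prime_pow Nat.prime_two (m := 2)).1 (orderOf_dvd_of_pow_eq_one h4)
      interval_cases k
      · exfalso
        rw [pow_zero, orderOf_eq_one_iff, hc, mul_eq_one_iff_eq_inv'] at hk'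
        exact ha'A (hk' ▸ inv_mem (mem_zpowers a))
      · exfalso
        have : c * c = 1 := by
          rw [← sq, show 2 = orderOf c from hk'.symm, pow_orderOf_eq_one]
        rw [h2] at this
        have := orderOf_dvd_of_pow_eq_one (show a' ^ 2 = 1 by rw [sq, this])
        rw [hord] at this
        norm_num at this
      · exact hk'
    have hac : a * c * a⁻¹ = c⁻¹ := by
      rw [eq_inv_iff_mul_eq_one, hc, show a * (a * a') * a⁻¹ * (a * a') = a * (a * (a' * a')) by group]
      have hin : a' * a' ∈ zpowers a := mul_self_mem_of_index_two hidx a'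
      obtain ⟨l, hl⟩ := mem_zpowers_iff.1 hin
      have hcm : a * (a' * a') * a⁻¹ = a' * a' := by rw [← hl]; group
      have h5 : a' * a' * (a * a) = 1 := by
        have hne : a' * a' ≠ 1 := fun h => by
          have := orderOf_dvd_of_pow_eq_one (show a' ^ 2 = 1 by rw [sq, h])
          rw [hord] at this
          norm_num at this
        have hoM : (orderOf a : ℤ) = 4 := by rw [ha]; rfl
        have h44 : a' * a' * (a' * a') = 1 := hsq4
        rw [← hl, ← zpow_add, zpow_eq_one_iff ha] at h44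
        rw [← hl, Ne, zpow_eq_one_iff ha] at hne
        rw [← hl, ← sq, ← zpow_natCast, ← zpow_add, zpow_eq_one_iff ha]
        push_cast at h44 hne ⊢
        norm_num at h44 hne ⊢
        omega
      calc a * (a * (a' * a')) = a * a * (a' * a') := by group
        _ = (a' * a' * (a * a)) := by rw [← hl, ← zpow_two, ← zpow_add, ← zpow_add, add_comm]
        _ = 1 := h5
    have hco' : orderOf (c : S) = 2 ^ (0 + 2) := by rw [orderOf_coe, hco]; rfl
    refine ⟨c, a, 0, -1, c.2, a.2, hco', ⟨fun n hn' g => ?_⟩, hindex _ hco', ?_, ?_, ?_, Or.inl rfl⟩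
    · have hall : ∀ g : S, g * (c : S) * g⁻¹ ∈ zpowers (c : S) := by
        intro g
        have hM' : ∀ q : M, (q : S) * c * (q : S)⁻¹ ∈ zpowers (c : S) := by
          haveI : (zpowers c).Normal := by
            refine normal_of_index_eq_two ?_
            have h1 := (zpowers c).card_mul_index
            rw [Nat.card_zpowers, hco, hcard] at h1
            omega
          intro q
          obtain ⟨l, hl⟩ := mem_zpowers_iff.1
            ((inferInstance : (zpowers c).Normal).conj_mem c (mem_zpowers c) q)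
          refine mem_zpowers_iff.2 ⟨l, ?_⟩
          rw [← SubgroupClass.coe_zpow, hl]; rfl
        by_cases hg : g ∈ M
        · exact hM' ⟨g, hg⟩
        · have hsM : s ∉ M := fun h => by
            haveI := normal_of_index_eq_two hidx
            exact ha'A ((inferInstance : (zpowers a).Normal).conj_mem a (mem_zpowers a) ⟨s, h⟩)
          have h1 : g * s⁻¹ ∈ M := (mul_mem_iff_of_index_two hM).2 (by rw [inv_mem_iff]; exact iff_of_false hg hsM)
          obtain ⟨l, hl⟩ := mem_zpowers_iff.1 hcS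
          rw [show g * (c : S) * g⁻¹ = (g * s⁻¹) * (s * c * s⁻¹) * (g * s⁻¹)⁻¹ by group, ← hl, ← conj_zpow]
          exact zpow_mem (hM' ⟨_, h1⟩) l
      obtain ⟨l, rfl⟩ := mem_zpowers_iff.1 hn'
      rw [← conj_zpow]
      exact zpow_mem (hall g) l
    · intro h
      obtain ⟨l, hl⟩ := mem_zpowers_iff.1 h
      have e2 : c ^ l = a := Subtype.ext (by rw [SubgroupClass.coe_zpow, hl])
      refine ha'A ?_
      have hac' : c ∈ zpowers a := by
        have : zpowers a ≤ zpowers c := zpowers_le.2 (e2 ▸ zpow_mem (mem_zpowers c) l)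
        exact (eq_of_le_of_card_ge this (by rw [Nat.card_zpowers, Nat.card_zpowers, hco, ha]; rfl)).ge (mem_zpowers c)
      have := mul_mem (inv_mem (mem_zpowers a)) hac'
      rwa [hc, inv_mul_cancel_left] at this
    · have : a * a ∈ zpowers c := mul_self_mem_of_index_two (by
        have h1 := (zpowers c).card_mul_index
        rw [Nat.card_zpowers, hco, hcard] at h1
        omega) a
      obtain ⟨l, hl⟩ := mem_zpowers_iff.1 this
      refine mem_zpowers_iff.2 ⟨l, ?_⟩
      rw [← SubgroupClass.coe_zpow, hl]; rfl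
    · rw [zpow_neg_one]; exact congrArg Subtype.val hac

/-- The main theorem on sectional rank two. -/
theorem good_of_order_eight [Finite S] (h2 : IsPGroup 2 S) (hr : Cfsg.SectionalPRankLE 2 2 S)
    {P : Subgroup S} (hP : Good P) (hP8 : Nat.card P = 8) (hPn : ¬ IsMulCommutative P) : Good S := by
  haveI : Fact (Nat.Prime 2) := ⟨Nat.prime_two⟩
  suffices key : ∀ (n : ℕ) (K : Subgroup S), Nat.card K = n → P ≤ K → Good K from
    good_of_equiv (Subgroup.topEquiv (G := S)).symm (key _ ⊤ rfl le_top)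
  intro n
  induction n using Nat.strong_induction_on with
  | _ n ih =>
  intro K hK hPK
  rcases eq_or_lt_of_le hPK with rfl | hlt
  · exact hP
  set P' := P.subgroupOf K with hP'
  have hPne : P' ≠ ⊤ := fun h => hlt.not_ge (subgroupOf_eq_top.1 h)
  obtain ⟨M, hM, hPM⟩ := (eq_top_or_exists_le_coatom P').resolve_left hPne
  have hKp : IsPGroup 2 K := h2.to_subgroup K
  have hM2 : M.index = 2 := PGroup.index_of_isCoatom hKp hM
  have hMg : Good M := by
    refine good_of_equiv (M.equivMapOfInjective K.subtype K.subtype_injective) (ih _ ?_ _ rfl ?_)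
    · rw [card_map_of_injective K.subtype_injective, ← hK]
      have := M.card_mul_index
      rw [hM2] at this
      have : 0 < Nat.card M := Nat.card_pos
      omega
    · intro x hx
      exact ⟨⟨x, hPK hx⟩, hPM hx, rfl⟩
  obtain ⟨a, y, m, r, -, -, ha, hn, hidx, hy, hy2, hyr, hrr⟩ := exists_invariant hKp hM2 hMg
  haveI := hn
  refine step hKp (sectionalPRankLE_subgroup hr K) ha hidx hy hy2 hyr hrr (P := P') ?_ ?_
  · rw [Nat.card_congr (subgroupOfEquivOfLe hPK).toEquiv, hP8]
  · intro hc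
    refine hPn ⟨⟨fun u v => Subtype.ext ?_⟩⟩
    have := hc.is_comm.comm (⟨⟨u, hPK u.2⟩, u.2⟩ : P') ⟨⟨v, hPK v.2⟩, v.2⟩
    exact congrArg (fun z : P' => ((z : K) : S)) this

end CfsgLib.PGroup.RankTwo
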