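import Cfsg.Agent.Lib.Solvable.UniqueSubgroup
import Cfsg.Agent.Lib.PGroup.TwoRankTwo

/-!
# `p`-groups in which every normal abelian subgroup is cyclic

* `NormalRankOne.mem_of_commute_pow`: only `A = ⟨a⟩` centralizes `a ^ p`;
* `NormalRankOne.good`: such a group with a noncyclic abelian subgroup has a good cyclic subgroup
  of index two and order at least sixteen.
-/

set_option autoImplicit false

namespace CfsgLib.PGroup.NormalRankOne

open Subgroup
open CfsgLib.Solvable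

variable {G : Type*} [Group G] [Finite G] {p : ℕ} [hp : Fact p.Prime] {a : G} {n : ℕ}

omit [Finite G] hp in
theorem eq_zpow_iff (hn : orderOf a = p ^ n) (i j : ℤ) :
    a ^ i = a ^ j ↔ (p : ℤ) ^ n ∣ i - j := by
  rw [← mul_inv_eq_one, ← zpow_neg, ← zpow_add, ← orderOf_dvd_iff_zpow_eq_one, hn,
    ← sub_eq_add_neg]
  push_cast
  rfl

omit [Finite G] hp in
theorem commute_of_mem_zpowers {b c x : G} (hx : Commute x c) (hb : b ∈ zpowers c) : Commute x b := by
  obtain ⟨i, rfl⟩ := mem_zpowers_iff.mp hb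
  exact hx.zpow_right i

/-- Only `⟨a⟩` centralizes `a ^ p`. -/
theorem mem_of_commute_pow
    (hcyc : ∀ A : Subgroup G, A.Normal → IsMulCommutative A → IsCyclic A)
    (hn : orderOf a = p ^ n) (hn2 : 2 ≤ n) (h23 : p = 2 → 3 ≤ n) [hAn : (zpowers a).Normal]
    (hcent : centralizer ((zpowers a : Subgroup G) : Set G) = zpowers a)
    (hG : IsPGroup p G) {g : G} (hg : Commute g (a ^ p)) : g ∈ zpowers a := by
  by_contra hgA
  have hnc : ∀ x : G, x ∉ zpowers a → ¬ Commute x a := fun x hx hc => hx (by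
    rw [← hcent]
    exact mem_centralizer_iff.mpr fun y hy => (commute_of_mem_zpowers hc hy).eq.symm)
  have hex : ∀ x : G, ∃ r : ℤ, x * a * x⁻¹ = a ^ r := fun x =>
    ⟨_, (hAn.conj_mem a (mem_zpowers a) x).choose_spec.symm⟩
  -- exponents of elements centralizing `a ^ p`
  have hexp : ∀ x : G, Commute x (a ^ p) → ∀ r : ℤ, x * a * x⁻¹ = a ^ r →
      ∃ w : ℤ, (p : ℤ) ^ (n - 1) ∣ r - 1 ∧ IsCoprime ((p : ℤ) ^ (n - 1)) w ∧
        ∑ t ∈ Finset.range p, r ^ t = p * w + 0 := by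
    intro x hx r hr
    have h1 : x * a ^ (p : ℤ) * x⁻¹ = a ^ (p : ℤ) := by
      rw [zpow_natCast, hx.eq, mul_inv_cancel_right]
    rw [conj_zpow_exp hr, eq_zpow_iff hn] at h1
    have h2 : (p : ℤ) ^ (n - 1) ∣ r - 1 := by
      refine (mul_dvd_mul_iff_right (show (p : ℤ) ≠ 0 by exact_mod_cast hp.out.ne_zero)).mp ?_
      rw [← pow_succ, Nat.sub_add_cancel (by omega : 1 ≤ n)]
      rw [show (r - 1) * (p : ℤ) = r * p - p by ring]
      exact h1
    obtain ⟨s, hs⟩ := h2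
    by_cases hp2 : p = 2
    · subst hp2
      obtain ⟨m, rfl⟩ : ∃ m, n = m + 3 := ⟨n - 3, by have := h23 rfl; omega⟩
      refine ⟨1 + 2 ^ (m + 1) * s, ⟨s, hs⟩, ?_, ?_⟩
      · exact IsCoprime.pow_left ⟨-(2 ^ m * s), 1, by push_cast; ring⟩
      · rw [show m + 3 - 1 = m + 2 by omega] at hs
        simp only [Finset.sum_range_succ, Finset.sum_range_zero]
        push_cast at hs ⊢
        linear_combination hs
    · obtain ⟨c, hc⟩ := geom_sum_modEq hn2 ⟨s, hs⟩ hp2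
      refine ⟨1 + (p : ℤ) ^ (n - 1) * c, ⟨s, hs⟩,
        ⟨-c, 1, by ring⟩, ?_⟩
      have e : (p : ℤ) ^ n = p * (p : ℤ) ^ (n - 1) := by
        rw [← pow_succ', Nat.sub_add_cancel (by omega : 1 ≤ n)]
      linear_combination hc + c * e
  -- a first element of `L ∖ A` with `p`-th power in `A`
  obtain ⟨j, hx, hxp⟩ := exists_notMem_pow_mem hG hgA
  set x := g ^ p ^ j with hxdef
  have hxc : Commute x (a ^ p) := hg.pow_left _
  obtain ⟨r, hr⟩ := hex x
  obtain ⟨w, hdvd, hw, hsum⟩ := hexp x hxc r hr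
  rw [add_zero] at hsum
  obtain ⟨k, hk⟩ := mem_zpowers_iff.mp hxp
  have hr1 : ¬ (p : ℤ) ^ n ∣ r - 1 := fun h => hnc x hx (by
    have h1 := (eq_zpow_iff hn r 1).2 h
    rw [zpow_one] at h1
    rw [h1] at hr
    exact mul_inv_eq_iff_eq_mul.1 hr)
  have hpk : (p : ℤ) ∣ k := by
    by_contra hpk
    have h1 : x * a ^ k * x⁻¹ = a ^ k := by
      rw [hk, ← pow_succ', pow_succ, mul_inv_cancel_right]
    rw [conj_zpow_exp hr, eq_zpow_iff hn] at h1
    have hcop : IsCoprime ((p : ℤ) ^ n) k :=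
      IsCoprime.pow_left ((Nat.prime_iff_prime_int.1 hp.out).coprime_iff_not_dvd.2 hpk)
    exact hr1 (hcop.dvd_of_dvd_mul_right (by
      rw [show (r - 1) * k = r * k - k by ring]
      exact h1))
  obtain ⟨j', rfl⟩ := hpk
  obtain ⟨α, β, hαβ⟩ := hw
  have hpn : (p : ℤ) ^ n = p * (p : ℤ) ^ (n - 1) := by
    rw [← pow_succ', Nat.sub_add_cancel (by omega : 1 ≤ n)]
  set y := a ^ (-(β * j')) * x with hy
  have hy1 : y ^ p = 1 := by
    rw [hy, zpow_mul_pow hr, ← hk, ← zpow_add, ← zpow_zero a, eq_zpow_iff hn, hsum, hpn]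
    exact ⟨α * j', by linear_combination (-(p * j' : ℤ)) * hαβ⟩
  have hyA : y ∉ zpowers a := fun h => hx (by
    have := mul_mem (inv_mem (zpow_mem (mem_zpowers a) (-(β * j')) : a ^ (-(β * j')) ∈ zpowers a)) h
    rwa [hy, inv_mul_cancel_left] at this)
  have hyc : Commute y (a ^ p) := ((Commute.self_zpow a _).symm.pow_right p).mul_left hxc
  -- the set of the elements of order dividing `p` centralizing `a ^ p`
  set T : Set G := {h | Commute h (a ^ p) ∧ h ^ p = 1}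
  have hTA : ∀ h ∈ T, h ∈ zpowers a → h ∈ zpowers (a ^ p) := by
    intro h hh hA
    obtain ⟨i, rfl⟩ := mem_zpowers_iff.mp hA
    have h1 := hh.2
    rw [← zpow_natCast, ← zpow_mul, ← zpow_zero a, eq_zpow_iff hn, sub_zero, hpn,
      mul_comm i] at h1
    have h2 := (mul_dvd_mul_iff_left (show (p : ℤ) ≠ 0 by exact_mod_cast hp.out.ne_zero)).mp h1
    obtain ⟨c, rfl⟩ := (dvd_pow_self (p : ℤ) (by omega : n - 1 ≠ 0)).trans h2
    exact mem_zpowers_iff.mpr ⟨c, by rw [← zpow_natCast a p, ← zpow_mul]⟩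
  have hTcomm : ∀ u ∈ T, ∀ v ∈ T, u * v = v * u := by
    intro u hu v hv
    by_cases huA : u ∈ zpowers a
    · exact (commute_of_mem_zpowers hv.1 (hTA u hu huA)).eq.symm
    by_cases hvA : v ∈ zpowers a
    · exact (commute_of_mem_zpowers hu.1 (hTA v hv hvA)).eq
    -- the exponents of `u` and `v` are congruent to one
    obtain ⟨ru, hru⟩ := hex u
    obtain ⟨rv, hrv⟩ := hex v
    obtain ⟨-, ⟨su, hsu⟩, -, -⟩ := hexp u hu.1 ru hru
    obtain ⟨-, ⟨sv, hsv⟩, -, -⟩ := hexp v hv.1 rv hrv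
    have hcv : ∀ l : ℕ, u ^ l * a * (u ^ l)⁻¹ = a ^ (1 + (l : ℤ) * ((p : ℤ) ^ (n - 1) * su)) := by
      intro l
      induction l with
      | zero => simp
      | succ l ih =>
        rw [show u ^ (l + 1) * a * (u ^ (l + 1))⁻¹ = u * (u ^ l * a * (u ^ l)⁻¹) * u⁻¹ by
          rw [pow_succ']; group, ih, conj_zpow_exp hru, eq_zpow_iff hn]
        obtain ⟨m, hm⟩ : (p : ℤ) ^ n ∣ (p : ℤ) ^ (n - 1) * (p : ℤ) ^ (n - 1) := by
          rw [← pow_add]; exact pow_dvd_pow _ (by omega)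
        refine ⟨(l : ℤ) * su * su * m, ?_⟩
        push_cast
        linear_combination (1 + (l : ℤ) * ((p : ℤ) ^ (n - 1) * su)) * hsu + (l : ℤ) * su * su * hm
    have hu1 : ¬ (p : ℤ) ∣ su := by
      rintro ⟨c, rfl⟩
      refine hnc u huA (mul_inv_eq_iff_eq_mul.1 ?_)
      rw [hru, ← zpow_one a, ← zpow_mul, one_mul, eq_zpow_iff hn, hpn]
      exact ⟨c, by linear_combination hsu⟩
    obtain ⟨α', β', he⟩ := ((Nat.prime_iff_prime_int.1 hp.out).coprime_iff_not_dvd.2 hu1)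
    obtain ⟨l, hl⟩ : ∃ l : ℕ, (p : ℤ) ∣ (l : ℤ) * su - sv := by
      refine ⟨((β' * sv) % p).toNat, ?_⟩
      rw [Int.toNat_of_nonneg (Int.emod_nonneg _ (by exact_mod_cast hp.out.ne_zero)),
        Int.emod_def]
      exact ⟨-(β' * sv / p) * su - α' * sv, by linear_combination sv * he⟩
    have hd : v * (u ^ l)⁻¹ ∈ zpowers a := by
      by_contra hd
      refine hnc _ hd ?_
      have h1 : v * a * v⁻¹ = u ^ l * a * (u ^ l)⁻¹ := by
        rw [hcv, hrv, eq_zpow_iff hn, hpn]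
        obtain ⟨c, hc⟩ := hl
        exact ⟨-c, by linear_combination hsv - (p : ℤ) ^ (n - 1) * hc⟩
      have h2 : (v * (u ^ l)⁻¹) * (u ^ l * a * (u ^ l)⁻¹) = (u ^ l * a * (u ^ l)⁻¹) * (v * (u ^ l)⁻¹) := by
        rw [show (v * (u ^ l)⁻¹) * (u ^ l * a * (u ^ l)⁻¹) = v * a * v⁻¹ * (v * (u ^ l)⁻¹) by group,
          h1]
      rw [hcv] at h2
      obtain ⟨γ, hγ⟩ : ∃ γ : ℤ, (p : ℤ) ^ n ∣
          (1 + (l : ℤ) * ((p : ℤ) ^ (n - 1) * su)) * γ - 1 := by
        refine ⟨1 - (l : ℤ) * ((p : ℤ) ^ (n - 1) * su), ?_⟩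
        obtain ⟨m, hm⟩ : (p : ℤ) ^ n ∣ (p : ℤ) ^ (n - 1) * (p : ℤ) ^ (n - 1) := by
          rw [← pow_add]; exact pow_dvd_pow _ (by omega)
        exact ⟨-((l : ℤ) * su) ^ 2 * m, by linear_combination -((l : ℤ) * su) ^ 2 * hm⟩
      have h3 : Commute (v * (u ^ l)⁻¹) (a ^ (1 + (l : ℤ) * ((p : ℤ) ^ (n - 1) * su))) := h2
      have h4 := h3.zpow_right γ
      rw [← zpow_mul, (eq_zpow_iff hn _ 1).2 hγ, zpow_one] at h4
      exact h4
    obtain ⟨i, hi⟩ := mem_zpowers_iff.mp hd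
    have hv' : v = a ^ i * u ^ l := by rw [hi, inv_mul_cancel_right]
    obtain ⟨w', -, ⟨α₂, β₂, hw'⟩, hsum'⟩ := hexp (u ^ l) (hu.1.pow_left l) _ (hcv l)
    rw [add_zero] at hsum'
    have hv2 := hv.2
    have hup : (u ^ l) ^ p = 1 := by rw [← pow_mul, mul_comm, pow_mul, hu.2, one_pow]
    rw [hv', zpow_mul_pow (hcv l), hup, mul_one, ← zpow_zero a, eq_zpow_iff hn, sub_zero, hsum',
      hpn] at hv2
    have hdi : (p : ℤ) ^ (n - 1) ∣ i := by
      refine (IsCoprime.dvd_of_dvd_mul_right ⟨α₂, β₂, hw'⟩ ?_)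
      refine (mul_dvd_mul_iff_left (show (p : ℤ) ≠ 0 by exact_mod_cast hp.out.ne_zero)).mp ?_
      rw [show (p : ℤ) * (i * w') = i * (p * w') by ring]
      exact hv2
    obtain ⟨c, rfl⟩ := (dvd_pow_self (p : ℤ) (by omega : n - 1 ≠ 0)).trans hdi
    have hc : Commute u (a ^ ((p : ℤ) * c)) := by
      rw [zpow_mul, zpow_natCast]
      exact hu.1.zpow_right c
    rw [hv']
    exact ((hc.mul_right ((Commute.refl u).pow_right l))).eq
  -- it generates a normal elementary abelian subgroup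
  set E := closure T
  have hTn : ∀ h ∈ T, ∀ c : G, c * h * c⁻¹ ∈ T := by
    intro h hh c
    refine ⟨?_, by rw [conj_pow, hh.2, mul_one, mul_inv_cancel]⟩
    obtain ⟨i, hi⟩ := hex c⁻¹
    have h1 : c⁻¹ * a ^ p * c = (a ^ p) ^ i := by
      have := conj_zpow_exp hi (p : ℤ)
      rw [inv_inv, zpow_natCast, zpow_mul] at this
      rw [this, ← zpow_natCast, ← zpow_mul, ← zpow_mul, mul_comm]
    have h2 : Commute h (c⁻¹ * a ^ p * c) := by rw [h1]; exact hh.1.zpow_right i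
    calc c * h * c⁻¹ * a ^ p = c * (h * (c⁻¹ * a ^ p * c)) * c⁻¹ := by group
      _ = c * ((c⁻¹ * a ^ p * c) * h) * c⁻¹ := by rw [h2.eq]
      _ = a ^ p * (c * h * c⁻¹) := by group
  haveI hEn : E.Normal := ⟨fun h hh c => by
    induction hh using closure_induction with
    | mem x hx => exact subset_closure (hTn x hx c)
    | one => simp
    | mul x y _ _ hx hy => simpa [mul_assoc] using mul_mem hx hy
    | inv x _ hx => simpa [mul_assoc] using inv_mem hx⟩
  have hEc : IsMulCommutative E := isMulCommutative_closure hTcomm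
  have := hcyc E hEn hEc
  set z := a ^ (p ^ (n - 1) : ℕ) with hz
  have hzo : orderOf z = p := by
    rw [hz, orderOf_pow_of_dvd (pow_pos hp.out.pos _).ne' (by rw [hn]; exact pow_dvd_pow p (n.sub_le 1)),
      hn, Nat.pow_div (n.sub_le 1) hp.out.pos, show n - (n - 1) = 1 by omega, pow_one]
  have hzE : z ∈ E := subset_closure
    ⟨((Commute.refl a).pow_pow _ _), by rw [← hzo, pow_orderOf_eq_one]⟩
  have hexpE : ∀ e ∈ E, e ^ p = 1 := by
    intro e he
    induction he using closure_induction with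
    | mem x hx => exact hx.2
    | one => simp
    | mul x y hx hy hx' hy' =>
      have hc : Commute x y := congrArg Subtype.val (hEc.is_comm.comm ⟨x, hx⟩ ⟨y, hy⟩)
      rw [hc.mul_pow, hx', hy', one_mul]
    | inv x _ hx' => rw [inv_pow, hx', inv_one]
  have hcard : Nat.card E ≤ p := by
    refine Nat.le_of_dvd hp.out.pos ?_
    rw [← IsCyclic.exponent_eq_card, Monoid.exponent_dvd_iff_forall_pow_eq_one]
    exact fun e => Subtype.ext (hexpE e e.2)
  have hE : zpowers z = E := eq_of_le_of_card_ge (zpowers_le.2 hzE) (by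
    rw [Nat.card_zpowers, hzo]; exact hcard)
  exact hyA (zpowers_le.2 (pow_mem (mem_zpowers a) _) (hE.ge (subset_closure ⟨hyc, hy1⟩)))

/-- A group of normal rank one with a noncyclic abelian subgroup. -/
theorem good (hG : IsPGroup p G)
    (hcyc : ∀ A : Subgroup G, A.Normal → IsMulCommutative A → IsCyclic A)
    (hB : ∃ B : Subgroup G, IsMulCommutative B ∧ ¬ IsCyclic B) :
    p = 2 ∧ RankTwo.Good G ∧ 16 ≤ Nat.card G := by
  obtain ⟨B, hBc, hBn⟩ := hB
  have hnab : ∀ C : Subgroup G, C.Normal → IsMulCommutative C → ¬ B ≤ C := fun C hC hCc hle => by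
    haveI := hcyc C hC hCc
    exact hBn (isCyclic_of_injective (inclusion hle) (inclusion_injective _))
  obtain ⟨A, -, hAn, hAc, hA⟩ := exists_normal_abelian_centralizer_eq hG (⊥ : Subgroup G)
    inferInstance (fun a ha b hb => by rw [mem_bot.1 ha, mem_bot.1 hb])
  obtain ⟨⟨a, ha⟩, hgen⟩ := (hcyc A hAn hAc).exists_generator
  obtain rfl : A = zpowers a := by
    refine le_antisymm (fun y hy => ?_) (zpowers_le.2 ha)
    obtain ⟨i, hi⟩ := hgen ⟨y, hy⟩
    exact ⟨i, by simpa using congrArg Subtype.val hi⟩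
  haveI := hAn
  obtain ⟨n, hn⟩ := (IsPGroup.iff_orderOf.1 hG) a
  obtain ⟨g₀, -, hg₀⟩ := SetLike.not_le_iff_exists.1 (hnab _ hAn hAc)
  have hnc : ∀ x : G, x ∉ zpowers a → ¬ Commute x a := fun x hx hc => hx (by
    rw [← hA]
    exact mem_centralizer_iff.mpr fun y hy => (commute_of_mem_zpowers hc hy).eq.symm)
  have hex : ∀ x : G, ∃ r : ℤ, x * a * x⁻¹ = a ^ r := fun x =>
    ⟨_, (hAn.conj_mem a (mem_zpowers a) x).choose_spec.symm⟩
  obtain ⟨j₀, hx₀, hx₀p⟩ := exists_notMem_pow_mem hG hg₀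
  set x₀ := g₀ ^ p ^ j₀
  obtain ⟨r₀, hr₀⟩ := hex x₀
  have hr₀1 : ¬ (p : ℤ) ^ n ∣ r₀ - 1 := fun h => hnc x₀ hx₀ (by
    have h1 := (eq_zpow_iff hn r₀ 1).2 h
    rw [zpow_one] at h1
    rw [h1] at hr₀
    exact mul_inv_eq_iff_eq_mul.1 hr₀)
  have hsqr : ∀ (x : G) (r : ℤ), x * a * x⁻¹ = a ^ r → x ^ p ∈ zpowers a →
      (p : ℤ) ^ n ∣ r ^ p - 1 := by
    intro x r hr hxp
    have key : ∀ l : ℕ, x ^ l * a * (x ^ l)⁻¹ = a ^ (r ^ l) := by
      intro l
      induction l with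
      | zero => simp
      | succ l ih =>
        calc x ^ (l + 1) * a * (x ^ (l + 1))⁻¹ = x * (x ^ l * a * (x ^ l)⁻¹) * x⁻¹ := by
              rw [pow_succ']; group
          _ = a ^ (r ^ (l + 1)) := by rw [ih, conj_zpow_exp hr, pow_succ']
    have h1 := key p
    obtain ⟨k, hk⟩ := mem_zpowers_iff.mp hxp
    rw [← hk, ((Commute.refl a).zpow_left k).eq, mul_inv_cancel_right] at h1
    exact (eq_zpow_iff hn (r ^ p) 1).1 (by rw [zpow_one, ← h1])
  -- the prime is two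
  have hp2 : p = 2 := by
    by_contra hp2
    obtain ⟨h1, h1'⟩ := dvd_sub_one_of_dvd_pow_sub_one hp2 (hsqr x₀ r₀ hr₀ hx₀p)
    have hn2 : 2 ≤ n := by
      by_contra hlt
      exact hr₀1 (h1' (by omega))
    refine hx₀ (mem_of_commute_pow hcyc hn hn2 (fun h => absurd h hp2) hA hG ?_)
    refine mul_inv_eq_iff_eq_mul.1 ?_
    have := conj_zpow_exp hr₀ (p : ℤ)
    rw [zpow_natCast] at this
    rw [this, ← zpow_natCast, eq_zpow_iff hn]
    obtain ⟨c, hc⟩ := h1
    refine ⟨c, ?_⟩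
    rw [show (p : ℤ) ^ n = p * (p : ℤ) ^ (n - 1) by
      rw [← pow_succ', Nat.sub_add_cancel (by omega : 1 ≤ n)]]
    linear_combination (p : ℤ) * hc
  subst hp2
  have hrodd : ∀ (x : G) (r : ℤ), x * a * x⁻¹ = a ^ r → x ^ 2 ∈ zpowers a →
      (2 : ℤ) ^ n ∣ r * r - 1 := fun x r hr hx => by
    simpa [pow_two] using hsqr x r hr hx
  have hn2 : 2 ≤ n := by
    by_contra hlt
    have h := hrodd x₀ r₀ hr₀ hx₀p
    refine hr₀1 ?_
    rcases (show n = 0 ∨ n = 1 by omega) with rfl | rfl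
    · simp
    · rw [pow_one] at h ⊢
      push_cast
      rcases Int.even_or_odd r₀ with ⟨s, rfl⟩ | ⟨s, rfl⟩
      · obtain ⟨c, hc⟩ := h
        have : 2 * (2 * (s * s) - c) = 1 := by linarith
        omega
      · exact ⟨s, by ring⟩
  -- order eight does not occur
  have hn3 : 3 ≤ n := by
    by_contra hlt
    obtain rfl : n = 2 := by omega
    have hinv : ∀ x : G, x ∉ zpowers a → x * a * x⁻¹ = a⁻¹ := by
      intro x hx
      obtain ⟨r, hr⟩ := hex x
      rw [hr, ← zpow_neg_one, eq_zpow_iff hn]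
      push_cast
      rcases Int.even_or_odd r with ⟨s, hs⟩ | ⟨s, hs⟩
      · exfalso
        have h1 : a ^ (2 : ℤ) = 1 := by
          have h2 : x * a ^ (2 : ℤ) * x⁻¹ = 1 := by
            rw [conj_zpow_exp hr, ← zpow_zero a, eq_zpow_iff hn]
            exact ⟨s, by rw [hs]; push_cast; ring⟩
          exact conj_eq_one_iff.mp h2
        rw [← zpow_zero a, eq_zpow_iff hn] at h1
        norm_num at h1
      · rcases Int.even_or_odd s with ⟨t, ht⟩ | ⟨t, ht⟩
        · exfalso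
          refine hnc x hx (mul_inv_eq_iff_eq_mul.1 ?_)
          rw [hr]
          conv_rhs => rw [← zpow_one a]
          rw [eq_zpow_iff hn]
          exact ⟨t, by rw [hs, ht]; push_cast; ring⟩
        · exact ⟨t + 1, by rw [hs, ht]; ring⟩
    have hidx : (zpowers a).index = 2 := by
      rw [index_eq_two_iff]
      refine ⟨x₀, fun b => ?_⟩
      by_cases hb : b ∈ zpowers a
      · exact Or.inr ⟨hb, fun h => hx₀ (by simpa using mul_mem (inv_mem hb) h)⟩
      · refine Or.inl ⟨?_, hb⟩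
        by_contra hbx
        have h1 := hinv _ hbx
        rw [show b * x₀ * a * (b * x₀)⁻¹ = b * (x₀ * a * x₀⁻¹) * b⁻¹ by group, hinv _ hx₀,
          show b * a⁻¹ * b⁻¹ = (b * a * b⁻¹)⁻¹ by group, hinv _ hb, inv_inv] at h1
        refine hnc x₀ hx₀ (mul_inv_eq_iff_eq_mul.1 ?_)
        rw [hinv _ hx₀, ← h1]
    have hG8 : Nat.card G = 8 := by
      rw [← (zpowers a).card_mul_index, hidx, Nat.card_zpowers, hn]
      norm_num
    have hBtop : B ≠ ⊤ := fun e => hnab ⊤ normal_top (e ▸ hBc) le_top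
    obtain ⟨k, hk⟩ := (hG.to_subgroup B).exists_card_eq
    have hd := B.card_subgroup_dvd_card
    rw [hk, hG8, show (8 : ℕ) = 2 ^ 3 by norm_num,
      Nat.pow_dvd_pow_iff_le_right (by norm_num)] at hd
    have hk2 : k = 2 := by
      rcases (show k = 0 ∨ k = 1 ∨ k = 2 ∨ k = 3 by omega) with rfl | rfl | rfl | rfl
      · haveI : Subsingleton B := (Nat.card_eq_one_iff_unique.1 (by simpa using hk)).1
        exact absurd isCyclic_of_subsingleton hBn
      · exact absurd (isCyclic_of_prime_card (p := 2) (by simpa using hk)) hBn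
      · rfl
      · exact absurd (eq_top_of_card_eq B (by rw [hk, hG8]; norm_num)) hBtop
    have hBidx : B.index = 2 := by
      have := B.card_mul_index
      rw [hk, hk2, hG8] at this
      omega
    exact hBn (hcyc B (normal_of_index_eq_two hBidx) hBc)
  -- the exponents
  have hmem : ∀ (x : G) (r : ℤ), x * a * x⁻¹ = a ^ r → (2 : ℤ) ^ (n - 1) ∣ r - 1 →
      x ∈ zpowers a := fun x r hr ⟨c, hc⟩ => by
    refine mem_of_commute_pow hcyc hn hn2 (fun _ => hn3) hA hG (mul_inv_eq_iff_eq_mul.1 ?_)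
    have := conj_zpow_exp hr ((2 : ℕ) : ℤ)
    rw [zpow_natCast] at this
    rw [this, ← zpow_natCast, eq_zpow_iff hn]
    refine ⟨c, ?_⟩
    rw [show ((2 : ℕ) : ℤ) ^ n = 2 * (2 : ℤ) ^ (n - 1) by
      rw [← pow_succ', Nat.sub_add_cancel (by omega : 1 ≤ n)]; norm_num]
    push_cast
    linear_combination 2 * hc
  have hminus : ∀ (x : G) (r : ℤ), x * a * x⁻¹ = a ^ r → x ∉ zpowers a → x ^ 2 ∈ zpowers a →
      (2 : ℤ) ^ (n - 1) ∣ r + 1 := fun x r hr hx hx2 =>
    (two_cases hn3 (hrodd x r hr hx2)).resolve_left fun h => hx (hmem x r hr h)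
  -- squares lie in `A`
  have h4 : (4 : ℤ) ∣ 2 ^ (n - 1) := by
    rw [show (4 : ℤ) = 2 ^ 2 by norm_num]
    exact pow_dvd_pow _ (by omega)
  have hsq : ∀ x : G, x ∉ zpowers a → x ^ 2 ∈ zpowers a := by
    intro x hx
    obtain ⟨j, hj, hj'⟩ := exists_notMem_pow_mem hG hx
    rcases Nat.eq_zero_or_pos j with rfl | hj0
    · simpa using hj'
    exfalso
    obtain ⟨i, rfl⟩ := Nat.exists_eq_succ_of_ne_zero hj0.ne'
    set h := x ^ 2 ^ i
    obtain ⟨s, hs⟩ := hex h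
    have he : x ^ 2 ^ (i + 1) = h ^ 2 := by rw [← pow_mul, ← pow_succ]
    rw [Nat.succ_eq_add_one, he] at hj hj'
    have h1 : h ^ 2 * a * (h ^ 2)⁻¹ = a ^ (s * s) := by
      rw [show h ^ 2 * a * (h ^ 2)⁻¹ = h * (h * a * h⁻¹) * h⁻¹ by rw [pow_two]; group, hs,
        conj_zpow_exp hs]
    obtain ⟨c, hc⟩ := h4.trans (hminus _ _ h1 hj hj')
    rcases Int.even_or_odd s with ⟨t, ht⟩ | ⟨t, ht⟩
    · subst ht
      have : 4 * (c - t * t) = 1 := by linarith
      omega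
    · subst ht
      have : 4 * (c - t * t - t) = 2 := by linarith
      omega
  obtain ⟨b, hb, hb2⟩ : ∃ b, b ∉ zpowers a ∧ b ^ 2 ∈ zpowers a := ⟨g₀, hg₀, hsq g₀ hg₀⟩
  obtain ⟨rb, hrb⟩ := hex b
  have hidx : (zpowers a).index = 2 := by
    rw [index_eq_two_iff]
    refine ⟨b, fun c => ?_⟩
    by_cases hc : c ∈ zpowers a
    · exact Or.inr ⟨hc, fun h => hb (by simpa using mul_mem (inv_mem hc) h)⟩
    · refine Or.inl ⟨?_, hc⟩
      by_contra hcb
      obtain ⟨rc, hrc⟩ := hex c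
      have h1 : c * b * a * (c * b)⁻¹ = a ^ (rc * rb) := by
        rw [show c * b * a * (c * b)⁻¹ = c * (b * a * b⁻¹) * c⁻¹ by group, hrb, conj_zpow_exp hrc]
      obtain ⟨u, hu⟩ := hminus b rb hrb hb hb2
      obtain ⟨v, hv⟩ := hminus c rc hrc hc (hsq c hc)
      refine hcb (hmem _ _ h1 ⟨(2 : ℤ) ^ (n - 1) * u * v - u - v, ?_⟩)
      linear_combination rc * hu + ((2 : ℤ) ^ (n - 1) * u - 1) * hv
  obtain ⟨m, rfl⟩ : ∃ m, n = m + 2 := ⟨n - 2, by omega⟩
  refine ⟨rfl, ?_, ?_⟩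
  · obtain ⟨u, hu⟩ := hminus b rb hrb hb hb2
    rw [show m + 2 - 1 = m + 1 by omega] at hu
    rcases Int.even_or_odd' u with ⟨f, rfl | rfl⟩
    · refine ⟨a, b, m, -1, hn, hidx, hb, ?_, Or.inl rfl⟩
      rw [hrb, eq_zpow_iff hn]
      exact ⟨f, by push_cast; linear_combination hu⟩
    · refine ⟨a, b, m, 2 ^ (m + 1) - 1, hn, hidx, hb, ?_, Or.inr ⟨by omega, rfl⟩⟩
      rw [hrb, eq_zpow_iff hn]
      exact ⟨f, by push_cast; linear_combination hu⟩
  · rw [← (zpowers a).card_mul_index, hidx, Nat.card_zpowers, hn]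
    have := Nat.pow_le_pow_right (show 0 < 2 by norm_num) (show 3 ≤ m + 2 by omega)
    omega

end CfsgLib.PGroup.NormalRankOne
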