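import Cfsg.Agent.Lib.PGroup.HallHigmanOdd
import Cfsg.Agent.Lib.Solvable.ShultGross
import Cfsg.Agent.Lib.Solvable.CoprimeAction

/-!
A group element `r` of odd prime order acting without fixed points on an elementary abelian group
`V` of coprime characteristic: modulo the centraliser of `V` it commutes with every `r`-invariant
subgroup of odd order prime to `|r|` and to the characteristic that normalises `V`.
-/

set_option autoImplicit false

open scoped commutatorElement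

namespace CfsgLib.PGroup

universe u

theorem commutator_mem_centralizer_of_qgroup {X : Type u} [Group X] [Finite X] {p q ℓ : ℕ}
    [hp : Fact p.Prime] [hq : Fact q.Prime] [hl : Fact ℓ.Prime] (hp2 : p ≠ 2) (hq2 : q ≠ 2)
    (hqp : q ≠ p) (hql : q ≠ ℓ) (hpl : p ≠ ℓ) (V : Subgroup X)
    (hVc : IsMulCommutative V) (hVe : ∀ v ∈ V, v ^ ℓ = 1) {r : X}
    (hrV : r ∈ Subgroup.normalizer (V : Set X)) (hrp : r ^ p = 1)
    (hfix : ∀ v ∈ V, r * v * r⁻¹ = v → v = 1) (Q : Subgroup X) (hQ : IsPGroup q Q)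
    (hQV : Q ≤ Subgroup.normalizer (V : Set X)) (hrQ : r ∈ Subgroup.normalizer (Q : Set X))
    {x : X} (hx : x ∈ Q) : ⁅r, x⁆ ∈ Subgroup.centralizer (V : Set X) := by
  classical
  letI : CommGroup ↥V :=
    { (inferInstance : Group ↥V) with mul_comm := fun a b => hVc.is_comm.comm a b }
  obtain ⟨d, f, hfinj, hffix⟩ := CfsgLib.Solvable.exists_scalar_rep ↥V ℓ
    (fun a => Subtype.ext (by rw [SubgroupClass.coe_pow]; exact hVe _ a.2))
  let act : ↥(Subgroup.normalizer (V : Set X)) →* MulAut ↥V := Subgroup.normalizerMonoidHom V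
  let ρ : ↥Q →* Module.End (AlgebraicClosure (ZMod ℓ)) (Fin d → AlgebraicClosure (ZMod ℓ)) :=
    f.comp (act.comp (Subgroup.inclusion hQV))
  let σ : MulAut ↥Q := Subgroup.normalizerMonoidHom Q ⟨r, hrQ⟩
  let S := f (act ⟨r, hrV⟩)
  have hσ : σ ^ (p ^ 1) = 1 := by
    rw [pow_one, ← map_pow,
      show (⟨r, hrQ⟩ : ↥(Subgroup.normalizer (Q : Set X))) ^ p = 1 from Subtype.ext hrp, map_one]
  have hS : S ^ (p ^ 1) = 1 := by
    rw [pow_one, ← map_pow, ← map_pow,
      show (⟨r, hrV⟩ : ↥(Subgroup.normalizer (V : Set X))) ^ p = 1 from Subtype.ext hrp, map_one,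
      map_one]
  have hint : ∀ y : ↥Q, S * ρ y = ρ (σ y) * S := fun y => by
    show f (act ⟨r, hrV⟩) * f (act _) = f (act _) * f (act ⟨r, hrV⟩)
    rw [← map_mul f, ← map_mul f, ← map_mul act, ← map_mul act]
    refine congrArg _ (congrArg _ (Subtype.ext ?_))
    show r * (y : X) = r * (y : X) * r⁻¹ * r
    group
  have hne : ∀ {n : ℕ}, n.Prime → n ≠ ℓ → (n : AlgebraicClosure (ZMod ℓ)) ≠ 0 := fun hn hnl h =>
    hnl (((Nat.prime_dvd_prime_iff_eq hl.out hn).1
      ((CharP.cast_eq_zero_iff (AlgebraicClosure (ZMod ℓ)) ℓ _).1 h)).symm)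
  have hmain := hall_higman_odd (n := 1) hp2 hq2 hqp (hne hq.out hql) (hne hp.out hpl) hQ σ hσ ρ S
    hint hS (hffix _ fun v hv => Subtype.ext (hfix v v.2 (congrArg Subtype.val hv))) ⟨x, hx⟩
  rw [Nat.sub_self, pow_zero, pow_one] at hmain
  have h1 : act (Subgroup.inclusion hQV (σ ⟨x, hx⟩)) = act (Subgroup.inclusion hQV ⟨x, hx⟩) :=
    hfinj hmain
  rw [Subgroup.mem_centralizer_iff]
  intro v hv
  have hxV := hQV hx
  obtain ⟨w, hw, rfl⟩ : ∃ w ∈ V, v = x * w * x⁻¹ :=
    ⟨x⁻¹ * v * x, by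
      have := (Subgroup.mem_normalizer_iff.1 (inv_mem hxV) v).1 hv
      rwa [inv_inv] at this, by group⟩
  have h2 : r * x * r⁻¹ * w * (r * x * r⁻¹)⁻¹ = x * w * x⁻¹ :=
    congrArg Subtype.val (DFunLike.congr_fun h1 (⟨w, hw⟩ : ↥V))
  symm
  calc ⁅r, x⁆ * (x * w * x⁻¹) = (r * x * r⁻¹ * w * (r * x * r⁻¹)⁻¹) * ⁅r, x⁆ := by
        rw [commutatorElement_def]; group
    _ = x * w * x⁻¹ * ⁅r, x⁆ := by rw [h2]

/-- An element of odd prime order without fixed points on `V` commutes modulo `C(V)` with a group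
of odd order prime to `p` and `ℓ` that it normalises. -/
theorem commutator_mem_centralizer_of_coprime {X : Type u} [Group X] [Finite X] {p ℓ : ℕ}
    [hp : Fact p.Prime] [hl : Fact ℓ.Prime] (hp2 : p ≠ 2) (hpl : p ≠ ℓ) (V : Subgroup X)
    (hVc : IsMulCommutative V) (hVe : ∀ v ∈ V, v ^ ℓ = 1) {r : X}
    (hrV : r ∈ Subgroup.normalizer (V : Set X)) (hrp : r ^ p = 1)
    (hfix : ∀ v ∈ V, r * v * r⁻¹ = v → v = 1) (K : Subgroup X) (hKodd : Odd (Nat.card K))
    (hpK : ¬ p ∣ Nat.card K) (hlK : ¬ ℓ ∣ Nat.card K)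
    (hKV : K ≤ Subgroup.normalizer (V : Set X)) (hrK : r ∈ Subgroup.normalizer (K : Set X))
    {x : X} (hx : x ∈ K) : ⁅r, x⁆ ∈ Subgroup.centralizer (V : Set X) := by
  classical
  let act : ↥(Subgroup.normalizer (V : Set X)) →* MulAut ↥V := Subgroup.normalizerMonoidHom V
  let M : Subgroup X :=
    ((Subgroup.centralizer {act ⟨r, hrV⟩}).comap act).map
      (Subgroup.normalizer (V : Set X)).subtype ⊓ K
  have hM : ∀ y ∈ K, y ∈ M ↔ ⁅r, y⁆ ∈ Subgroup.centralizer (V : Set X) := by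
    intro y hy
    have hk : ∀ g : ↥(Subgroup.normalizer (V : Set X)),
        act g = 1 ↔ (g : X) ∈ Subgroup.centralizer (V : Set X) := by
      intro g
      rw [Subgroup.mem_centralizer_iff]
      constructor
      · intro h v hv
        have h1 : (g : X) * v * (g : X)⁻¹ = v :=
          congrArg Subtype.val (DFunLike.congr_fun h (⟨v, hv⟩ : ↥V))
        rw [eq_comm, ← mul_inv_eq_iff_eq_mul]; exact h1
      · intro h
        refine MulEquiv.ext fun v => Subtype.ext ?_
        show (g : X) * v * (g : X)⁻¹ = v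
        rw [mul_inv_eq_iff_eq_mul, h v v.2]
    have h2 : ⁅r, y⁆ ∈ Subgroup.centralizer (V : Set X) ↔
        act ⁅(⟨r, hrV⟩ : ↥(Subgroup.normalizer (V : Set X))), ⟨y, hKV hy⟩⁆ = 1 :=
      (hk ⁅(⟨r, hrV⟩ : ↥(Subgroup.normalizer (V : Set X))), ⟨y, hKV hy⟩⁆).symm
    rw [h2, map_commutatorElement, commutatorElement_eq_one_iff_commute]
    constructor
    · rintro ⟨⟨g, hg, rfl⟩, -⟩
      exact (Subgroup.mem_centralizer_singleton_iff.1 hg).symm
    · intro h
      exact ⟨⟨⟨y, hKV hy⟩, Subgroup.mem_centralizer_singleton_iff.2 h.symm, rfl⟩, hy⟩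
  have hR : Subgroup.zpowers r ≤ Subgroup.normalizer (K : Set X) := by
    rwa [Subgroup.zpowers_le]
  have hcard : Nat.card K ∣ Nat.card M := by
    refine (Nat.dvd_iff_prime_pow_dvd_dvd _ _).2 fun q k hq hqk => ?_
    rcases Nat.eq_zero_or_pos k with rfl | hk
    · simp
    haveI := Fact.mk hq
    have hqK : q ∣ Nat.card K := (dvd_pow_self q hk.ne').trans hqk
    obtain ⟨P, hP⟩ := CfsgLib.Solvable.exists_invariant_sylow (Subgroup.zpowers r) K hR
      (by
        rw [Nat.card_zpowers]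
        exact Nat.Coprime.coprime_dvd_left (orderOf_dvd_of_pow_eq_one hrp)
          ((Nat.Prime.coprime_iff_not_dvd hp.out).2 hpK))
      (Or.inl inferInstance) q
    have hle : ((P : Subgroup K).map K.subtype) ≤ M := fun y hy => by
      have hyK : y ∈ K := Subgroup.map_subtype_le _ hy
      refine (hM y hyK).2 (commutator_mem_centralizer_of_qgroup (q := q) hp2 ?_ ?_ ?_ hpl V hVc hVe
        hrV hrp hfix _ (P.2.map K.subtype) ((Subgroup.map_subtype_le _).trans hKV)
        (hP (Subgroup.mem_zpowers r)) hy)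
      · rintro rfl
        exact Nat.not_even_iff_odd.2 hKodd (even_iff_two_dvd.2 hqK)
      · rintro rfl; exact hpK hqK
      · rintro rfl; exact hlK hqK
    refine dvd_trans ?_ (Subgroup.card_dvd_of_le hle)
    rw [CfsgLib.Solvable.card_sylow_map, P.card_eq_multiplicity]
    exact pow_dvd_pow _ ((Nat.Prime.pow_dvd_iff_le_factorization hq Nat.card_pos.ne').1 hqk)
  have hMK : M = K := Subgroup.eq_of_le_of_card_ge inf_le_right (Nat.le_of_dvd Nat.card_pos hcard)
  exact (hM x hx).1 (hMK.symm ▸ hx)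

end CfsgLib.PGroup
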