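import Cfsg.Agent.Lib.PGroup.QuadraticFix
import Cfsg.Agent.Lib.PGroup.MinimalAction
import Cfsg.Agent.Lib.Transfer.HallHigmanB

/-!
If the commutator subgroup of a `p`-group acts quadratically, it centralises every invariant
`q`-subgroup, `q ≠ p`, `p` odd.
-/

set_option autoImplicit false

namespace CfsgLib.PGroup.Quadratic

open Subgroup CfsgLib.Solvable
open scoped commutatorElement

universe u

variable {k : Type*} [Field k] [IsAlgClosed k] {V : Type*} [AddCommGroup V] [Module k V]

set_option maxHeartbeats 1000000 in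
/-- The exceptional case `p = 3`, `q = 2`. -/
theorem minimal_false {H : Type u} [Group H] [Finite H] [CharP k 3] [Nontrivial V]
    (ρ : H →* Module.End k V) (hρ : Function.Injective ρ) (B : Subgroup H) (hB : IsPGroup 3 B)
    (hA3 : ∀ a ∈ ⁅B, B⁆, a ^ 3 = 1) (hAc : ∀ a ∈ ⁅B, B⁆, ∀ a' ∈ ⁅B, B⁆, a * a' = a' * a)
    (hAB : ⁅B, B⁆ ≤ B) (hBA : B ≤ normalizer ((⁅B, B⁆ : Subgroup H) : Set H))
    (hq : ∀ a ∈ ⁅B, B⁆, (ρ a - 1) * (ρ a - 1) = 0)
    (hab : ∀ a ∈ ⁅B, B⁆, ∀ b ∈ B, (ρ a - 1) * ((ρ b - 1) * (ρ b - 1)) = 0)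
    {Q : Subgroup H} (hQ : IsPGroup 2 Q) (hBQ : B ≤ normalizer (Q : Set H))
    (hsub : ∀ K : Subgroup H, K < Q → B ≤ normalizer (K : Set H) → K ≤ centralizer ((⁅B, B⁆ : Subgroup H) : Set H)) :
    Q ≤ centralizer ((⁅B, B⁆ : Subgroup H) : Set H) := by
  classical
  by_contra hnc
  haveI : Fact (Nat.Prime 2) := ⟨Nat.prime_two⟩
  haveI : Fact (Nat.Prime 3) := ⟨Nat.prime_three⟩
  set A := ⁅B, B⁆ with hA
  have hcop : (Nat.card A).Coprime (Nat.card Q) := by
    obtain ⟨i, hi⟩ := (hB.to_le hAB).exists_card_eq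
    obtain ⟨j, hj⟩ := hQ.exists_card_eq
    rw [hi, hj]; exact (Nat.Coprime.pow _ _ (by norm_num))
  obtain ⟨hgen, hDc, -, -, hD2⟩ := minimal_action_of_normalizing hQ hAB hBQ hBA hcop hsub hnc
  set D := ⁅Q, Q⁆ with hD
  have hDQ : D ≤ Q := commutator_le_self Q
  have hBD : B ≤ normalizer (D : Set H) :=
    (le_inf hBQ hBQ).trans (normalizer_le_normalizer_commutator Q Q)
  -- conjugation
  have conjQ : ∀ b ∈ B, ∀ x ∈ Q, b * x * b⁻¹ ∈ Q := fun b hb x hx => normalizer_conj_mem (hBQ hb) hx
  have conjD : ∀ b ∈ B, ∀ x ∈ D, b * x * b⁻¹ ∈ D := fun b hb x hx => normalizer_conj_mem (hBD hb) hx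
  have hAD : D ≤ centralizer (A : Set H) := by
    refine hsub D (lt_of_le_of_ne hDQ fun h => hnc fun x hx => ?_) hBD
    have hQb : Q ≠ ⊥ := fun e => hnc (e ▸ bot_le)
    exact absurd h (commutator_self_lt (by haveI := hQ.isNilpotent; infer_instance) hQb).ne
  letI : CommGroup D := { (inferInstance : Group D) with
    mul_comm := fun a b => Subtype.ext (hDc b.1 b.2 a.1 (hDQ a.2)) }
  have hU : (Nat.card D : k) ≠ 0 := fun h => by
    obtain ⟨j, hj⟩ := (hQ.to_le hDQ).exists_card_eq
    rw [CharP.cast_eq_zero_iff k 3, hj] at h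
    exact absurd (Nat.le_of_dvd (by norm_num) (Nat.prime_three.dvd_of_dvd_pow h)) (by norm_num)
  set ρD : D →* Module.End k V := ρ.comp D.subtype with hρD
  have eQ : ∀ χ, ∀ x ∈ Q, ρ x * charProj ρD χ = charProj ρD χ * ρ x := fun χ x hx =>
    charProj_comm ρD χ fun z => by
      show ρ x * ρ z = ρ z * ρ x
      rw [← map_mul, ← map_mul, hDc z.1 z.2 x hx]
  have eA : ∀ χ, ∀ a ∈ A, ρ a * charProj ρD χ = charProj ρD χ * ρ a := fun χ a ha =>
    charProj_comm ρD χ fun z => by
      show ρ a * ρ z = ρ z * ρ a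
      rw [← map_mul, ← map_mul, mem_centralizer_iff.1 (hAD z.2) a ha]
  -- the stabiliser of a projection
  have stab : ∀ (e : Module.End k V), ∀ x, ρ x * e = e → ρ x⁻¹ * e = e := fun e x hx => by
    conv_lhs => rw [← hx, ← mul_assoc, ← map_mul, inv_mul_cancel, map_one, one_mul]
  -- `B` centralises `D`
  have hBfix : ∀ b ∈ B, ∀ z ∈ D, b * z * b⁻¹ = z := by
    intro b hb z hz
    let φ : MulAut D := normalizerMonoidHom D ⟨b, hBD hb⟩
    have hφ : ∀ (i : ℕ) (w : D), (((φ ^ i) w : D) : H) = b ^ i * w * (b ^ i)⁻¹ := fun i w => by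
      rw [← map_pow]; rfl
    have hS : ∀ w : D, ρ b * ρD w = ρD (φ w) * ρ b := fun w => by
      show ρ b * ρ w = ρ (φ w : D) * ρ b
      rw [← map_mul, ← map_mul]
      refine congrArg ρ ?_
      have := hφ 1 w
      rw [pow_one, pow_one] at this
      rw [this, inv_mul_cancel_right]
    have hkill : ∀ χ, χ.comp φ.toMonoidHom ≠ χ → charProj ρD χ = 0 := by
      intro χ hχ
      by_contra hne
      set e := charProj ρD χ with he
      have hee : e * e = e := charProj_idem ρD hU χ
      have hχ2 : χ.comp (φ ^ 2).toMonoidHom ≠ χ := by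
        intro h2
        apply hχ
        obtain ⟨i, hi⟩ := hB ⟨b, hb⟩
        have hb1 : φ ^ 3 ^ i = 1 := MulEquiv.ext fun w => Subtype.ext (by
          rw [hφ, show b ^ 3 ^ i = 1 from congrArg Subtype.val hi]; simp)
        obtain ⟨j, hj⟩ : Odd (3 ^ i) := Odd.pow (by decide)
        have hev : ∀ j : ℕ, χ.comp (φ ^ (2 * j)).toMonoidHom = χ := by
          intro j
          induction j with
          | zero => ext w; simp
          | succ j ihj =>
            have e1 : χ.comp (φ ^ (2 * (j + 1))).toMonoidHom =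
                (χ.comp (φ ^ (2 * j)).toMonoidHom).comp (φ ^ 2).toMonoidHom := by
              rw [mul_add, mul_one, pow_add]; rfl
            rw [e1, ihj, h2]
        calc χ.comp φ.toMonoidHom = (χ.comp (φ ^ (2 * j)).toMonoidHom).comp φ.toMonoidHom := by rw [hev]
          _ = χ.comp (φ ^ (2 * j + 1)).toMonoidHom := by rw [pow_succ]; rfl
          _ = χ := by rw [← hj, hb1]; ext w; rfl
      have h1 : e * ρ b * e = 0 := by
        rw [he, ← charProj_semiconj ρD φ hS χ, mul_assoc, charProj_mul_of_ne ρD hχ, mul_zero]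
      have h2 : e * (ρ b * ρ b) * e = 0 := by
        rw [← pow_two, he, ← charProj_semiconj ρD (φ ^ 2) (semiconj_pow ρD φ hS 2) χ, mul_assoc,
          charProj_mul_of_ne ρD hχ2, mul_zero]
      have hαe : ∀ a ∈ A, ρ a * e = e := by
        intro a ha
        have hcomm : (ρ a - 1) * e = e * (ρ a - 1) := by
          rw [sub_mul, mul_sub, one_mul, mul_one, he, eA χ a ha]
        have hz0 : e * ((ρ b - 1) * (ρ b - 1)) * e = e := by
          have : (ρ b - 1) * (ρ b - 1) = ρ b * ρ b - 2 • ρ b + 1 := by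
            rw [sub_mul, mul_sub, one_mul, mul_one, two_nsmul]; abel
          rw [this, mul_add, mul_sub, add_mul, sub_mul, h2, mul_smul_comm, smul_mul_assoc, h1,
            smul_zero, sub_zero, zero_add, mul_one, hee]
        have h3 : (ρ a - 1) * e = 0 := by
          calc (ρ a - 1) * e = (ρ a - 1) * (e * ((ρ b - 1) * (ρ b - 1)) * e) := by rw [hz0]
            _ = e * ((ρ a - 1) * ((ρ b - 1) * (ρ b - 1))) * e := by
                rw [← mul_assoc (ρ a - 1), ← mul_assoc (ρ a - 1), hcomm]
                simp only [mul_assoc]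
            _ = 0 := by rw [hab a ha b hb, mul_zero, zero_mul]
        rwa [sub_mul, one_mul, sub_eq_zero] at h3
      let T : Subgroup H :=
        { carrier := {x | ρ x * e = e}
          one_mem' := by show ρ 1 * e = e; rw [map_one, one_mul]
          mul_mem' := fun {x y} hx hy => by
            show ρ (x * y) * e = e; rw [map_mul, mul_assoc, (hy : ρ y * e = e)]; exact hx
          inv_mem' := fun {x} hx => stab e x hx }
      have hQT : Q ≤ T := hgen ▸ commutator_le.2 (fun x hx a ha => by
        show ρ ⁅x, a⁆ * e = e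
        have ea : ρ a * e = e := hαe a ha
        have eai : ρ a⁻¹ * e = e := stab e a ea
        rw [commutatorElement_def, map_mul, map_mul, map_mul, mul_assoc, eai, mul_assoc, he,
          eQ χ x⁻¹ (inv_mem hx), ← he, mul_assoc (ρ x) (ρ a), ← mul_assoc (ρ a), ea, he, ← eQ χ x⁻¹ (inv_mem hx), ← mul_assoc,
          ← map_mul, mul_inv_cancel, map_one, one_mul])
      refine hχ (MonoidHom.ext fun w => ?_)
      have hall : ∀ w : D, χ w = 1 := fun w => by
        have h3 : ρD w * e = e := hQT (hDQ w.2)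
        rw [he, apply_mul_charProj] at h3
        have h4 : ((χ w : kˣ) : k) • e = (1 : k) • e := by rw [one_smul]; exact h3
        exact Units.ext (smul_left_injective k hne h4)
      rw [MonoidHom.comp_apply, hall, hall]
    have hfix : φ ⟨z, hz⟩ = ⟨z, hz⟩ := by
      refine Subtype.ext (hρ ?_)
      show ρD (φ ⟨z, hz⟩) = ρD ⟨z, hz⟩
      refine ext_charProj ρD hU fun χ => ?_
      rw [charProj_mul_apply, charProj_mul_apply]
      by_cases hχ : χ.comp φ.toMonoidHom = χ
      · rw [← DFunLike.congr_fun hχ ⟨z, hz⟩]; rfl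
      · rw [hkill χ hχ, smul_zero, smul_zero]
    have := congrArg Subtype.val hfix
    have h5 := hφ 1 ⟨z, hz⟩
    rw [pow_one, pow_one] at h5
    exact h5.symm.trans this
  -- the commutator map and a character
  have hcmem : ∀ x y : Q, ⁅(x : H), (y : H)⁆ ∈ D := fun x y => commutator_mem_commutator x.2 y.2
  let cm : Q → Q → D := fun x y => ⟨⁅(x : H), (y : H)⁆, hcmem x y⟩
  have cm_right : ∀ x y z, cm x (y * z) = cm x y * cm x z := fun x y z => Subtype.ext (by
    show ⁅(x : H), (y : H) * z⁆ = ⁅(x : H), (y : H)⁆ * ⁅(x : H), (z : H)⁆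
    calc ⁅(x : H), (y : H) * z⁆ = ⁅(x : H), (y : H)⁆ * ((y : H) * ⁅(x : H), (z : H)⁆ * (y : H)⁻¹) := by
          simp only [commutatorElement_def]; group
      _ = _ := by rw [hDc _ (hcmem x z) _ y.2, mul_inv_cancel_right])
  have cm_left : ∀ x y z, cm (x * y) z = cm x z * cm y z := fun x y z => Subtype.ext (by
    show ⁅(x : H) * y, (z : H)⁆ = ⁅(x : H), (z : H)⁆ * ⁅(y : H), (z : H)⁆
    calc ⁅(x : H) * y, (z : H)⁆ = ((x : H) * ⁅(y : H), (z : H)⁆ * (x : H)⁻¹) * ⁅(x : H), (z : H)⁆ := by
          simp only [commutatorElement_def]; group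
      _ = ⁅(y : H), (z : H)⁆ * ⁅(x : H), (z : H)⁆ := by rw [hDc _ (hcmem y z) _ x.2, mul_inv_cancel_right]
      _ = _ := (hDc _ (hcmem x z) _ (hDQ (hcmem y z))))
  have cm_swap : ∀ x y, cm x y = cm y x := fun x y => Subtype.ext (by
    show ⁅(x : H), (y : H)⁆ = ⁅(y : H), (x : H)⁆
    have h := hD2 _ (hcmem y x)
    rw [pow_two] at h
    rw [← commutatorElement_inv]
    exact inv_eq_of_mul_eq_one_right h)
  have hsq : ∀ z : D, z * z = 1 := fun z => Subtype.ext (by
    have := hD2 z.1 z.2; rwa [pow_two] at this)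
  obtain ⟨χ, hχ1, hχe⟩ : ∃ χ : D →* kˣ, (∃ z, χ z ≠ 1) ∧ charProj ρD χ ≠ 0 := by
    by_contra hcon
    push Not at hcon
    have hab0 : ∀ z : D, z = 1 := fun z => Subtype.ext (hρ (by
      show ρD z = ρ (1 : H)
      rw [map_one]
      refine ext_charProj ρD hU fun χ => ?_
      rw [charProj_mul_apply, mul_one]
      by_cases hz : ∀ z, χ z = 1
      · rw [hz, Units.val_one, one_smul]
      · push Not at hz
        rw [hcon χ hz, smul_zero]))
    -- then `Q` is abelian, and the orbit lemma applies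
    refine hnc fun x hx => mem_centralizer_iff.2 fun a ha => ?_
    have hQc : ∀ y z : Q, y * z = z * y := fun y z => Subtype.ext (by
      have := congrArg Subtype.val (hab0 (cm y z))
      exact commutatorElement_eq_one_iff_mul_comm.1 this)
    have h := quad_fix (ρ.comp Q.subtype) (normalizerMonoidHom Q ⟨a, hBQ (hAB ha)⟩) (ρ a)
      (fun g => by
        show ρ a * ρ g = ρ (a * g * a⁻¹) * ρ a
        rw [← map_mul, ← map_mul, inv_mul_cancel_right]) (hq a ha) ?_ (N := Nat.card Q) ?_
      (fun g => by rw [← map_pow, pow_card_eq_one', map_one]) ⟨x, hx⟩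
      ((map_mul _ _ _).symm.trans ((congrArg _ (hQc _ _)).trans (map_mul _ _ _)))
      ((map_mul _ _ _).symm.trans ((congrArg _ (hQc _ _)).trans (map_mul _ _ _)))
      ((map_mul _ _ _).symm.trans ((congrArg _ (hQc _ _)).trans (map_mul _ _ _)))
      ((map_mul _ _ _).symm.trans ((congrArg _ (hQc _ _)).trans (map_mul _ _ _)))
      ((map_mul _ _ _).symm.trans ((congrArg _ (hQc _ _)).trans (map_mul _ _ _)))
      ((map_mul _ _ _).symm.trans ((congrArg _ (hQc _ _)).trans (map_mul _ _ _)))
    · have h1 : a * x * a⁻¹ = x := hρ h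
      exact mul_inv_eq_iff_eq_mul.1 h1
    · have h2k : (2 : k) ≠ 0 := fun h => by
        have : ((2 : ℕ) : k) = 0 := by exact_mod_cast h
        rw [CharP.cast_eq_zero_iff k 3] at this
        exact absurd (Nat.le_of_dvd (by norm_num) this) (by norm_num)
      simpa only [map_ofNat] using (isUnit_iff_ne_zero.2 h2k).map (algebraMap k (Module.End k V))
    · rw [← map_natCast (algebraMap k (Module.End k V))]
      refine (isUnit_iff_ne_zero.2 fun h => ?_).map _
      obtain ⟨j, hj⟩ := hQ.exists_card_eq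
      rw [CharP.cast_eq_zero_iff k 3, hj] at h
      exact absurd (Nat.le_of_dvd (by norm_num) (Nat.prime_three.dvd_of_dvd_pow h)) (by norm_num)
  set e := charProj ρD χ with he
  have hee : e * e = e := charProj_idem ρD hU χ
  let g : Q →* Q →* kˣ := MonoidHom.mk' (fun x => MonoidHom.mk' (fun y => χ (cm x y))
    fun y z => by rw [cm_right, map_mul]) fun x y => MonoidHom.ext fun z => by
      show χ (cm (x * y) z) = χ (cm x z) * χ (cm y z)
      rw [cm_left, map_mul]
  have hg : ∀ x y, g x y = χ (cm x y) := fun x y => rfl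
  have hpm : ∀ z, χ z ≠ 1 → χ z = -1 := fun z hz => by
    have h1 : χ z * χ z = 1 := by rw [← map_mul, hsq, map_one]
    refine Units.ext ?_
    rcases mul_self_eq_one_iff.1 (congrArg Units.val h1) with h | h
    · exact absurd (Units.ext h) hz
    · exact h
  have hginv : ∀ b (hb : b ∈ B) (x y : Q),
      χ (cm (normalizerMonoidHom Q ⟨b, hBQ hb⟩ x) (normalizerMonoidHom Q ⟨b, hBQ hb⟩ y)) = χ (cm x y) :=
    fun b hb x y => congrArg χ (Subtype.ext (by
      show ⁅b * (x : H) * b⁻¹, b * (y : H) * b⁻¹⁆ = ⁅(x : H), (y : H)⁆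
      rw [← conjugate_commutatorElement]
      exact hBfix b hb _ (hcmem x y)))
  letI : CommGroup (↥Q ⧸ g.ker) :=
    { (inferInstance : Group (↥Q ⧸ g.ker)) with
      mul_comm := fun a b => QuotientGroup.kerLift_injective g (by rw [map_mul, map_mul]; exact MonoidHom.ext fun _ => _root_.mul_comm _ _) }
  let f : (↥Q ⧸ g.ker) →* (↥Q ⧸ g.ker) →* kˣ :=
    MonoidHom.flip (QuotientGroup.lift g.ker (QuotientGroup.kerLift g).flip fun y hy => by
      refine MonoidHom.mem_ker.2 (MonoidHom.ext fun a => ?_)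
      induction a using QuotientGroup.induction_on with
      | H x =>
        show g x y = 1
        rw [hg, cm_swap, ← hg, MonoidHom.mem_ker.1 hy]; rfl)
  have hf : ∀ x y : Q, f (x : ↥Q ⧸ g.ker) (y : ↥Q ⧸ g.ker) = g x y := fun x y => rfl
  have hkerinv : ∀ b (hb : b ∈ B), g.ker.map (normalizerMonoidHom Q ⟨b, hBQ hb⟩).toMonoidHom = g.ker := by
    intro b hb
    refine eq_of_le_of_card_ge ?_ (le_of_eq (card_map_of_injective
      (normalizerMonoidHom Q ⟨b, hBQ hb⟩).injective).symm)
    rintro _ ⟨x, hx, rfl⟩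
    refine MonoidHom.mem_ker.2 (MonoidHom.ext fun y => ?_)
    obtain ⟨y, rfl⟩ := (normalizerMonoidHom Q ⟨b, hBQ hb⟩).surjective y
    show g (normalizerMonoidHom Q ⟨b, hBQ hb⟩ x) _ = 1
    rw [hg, hginv b hb, ← hg, MonoidHom.mem_ker.1 hx]; rfl
  let φ : B →* MulAut (↥Q ⧸ g.ker) := MonoidHom.mk'
    (fun b => QuotientGroup.congr g.ker g.ker (normalizerMonoidHom Q ⟨b.1, hBQ b.2⟩) (hkerinv b.1 b.2))
    fun b c => MulEquiv.ext fun a => by
      induction a using QuotientGroup.induction_on with
      | H x =>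
        show ((normalizerMonoidHom Q ⟨b.1 * c.1, _⟩ x : Q) : ↥Q ⧸ g.ker) =
          ((normalizerMonoidHom Q ⟨b.1, hBQ b.2⟩ (normalizerMonoidHom Q ⟨c.1, hBQ c.2⟩ x) : Q) : ↥Q ⧸ g.ker)
        rw [← MulAut.mul_apply, ← map_mul]; rfl
  haveI hAn : (A.subgroupOf B).Normal := (normal_subgroupOf_iff_le_normalizer hAB).2 hBA
  have haniso : ∀ a ∈ A.subgroupOf B, ∀ v, φ a v ≠ v → f v (φ a v) ≠ 1 := by
    intro a ha v
    induction v using QuotientGroup.induction_on with
    | H x =>
      intro hmove h1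
      have haA : a.1 ∈ A := ha
      set σ := normalizerMonoidHom Q ⟨a.1, hBQ a.2⟩ with hσ
      have h1 : g x (σ x) = 1 := h1
      have hσi : ∀ y z, g (σ y) (σ z) = g y z := fun y z => by rw [hg, hg]; exact hginv a.1 a.2 y z
      have hσ3 : σ (σ (σ x)) = x := Subtype.ext (by
        show a.1 * (a.1 * (a.1 * (x : H) * a.1⁻¹) * a.1⁻¹) * a.1⁻¹ = (x : H)
        calc a.1 * (a.1 * (a.1 * (x : H) * a.1⁻¹) * a.1⁻¹) * a.1⁻¹ = a.1 ^ 3 * x * (a.1 ^ 3)⁻¹ := by
              rw [pow_succ, pow_succ, pow_one]; group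
          _ = x := by rw [hA3 a.1 haA]; simp)
      have g01 := h1
      have g12 : g (σ x) (σ (σ x)) = 1 := by rw [hσi]; exact h1
      have g02 : g x (σ (σ x)) = 1 := by
        have : g (σ (σ x)) x = 1 := by
          conv_lhs => arg 2; rw [← hσ3]
          rw [hσi]; exact g12
        rwa [hg, cm_swap, ← hg]
      have g00 : ∀ y, g y y = 1 := fun y => by
        rw [hg, show cm y y = 1 from Subtype.ext (commutatorElement_self _), map_one]
      let ρe : Q →* Module.End k V :=
        { toFun := fun y => ρ y * e + (1 - e)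
          map_one' := by rw [Subgroup.coe_one, map_one, one_mul, add_sub_cancel]
          map_mul' := fun y z => by
            have ey := eQ χ y y.2
            rw [← he] at ey
            rw [Subgroup.coe_mul, map_mul]
            rw [mul_add, add_mul, add_mul, mul_sub, sub_mul, sub_mul, one_mul, one_mul,
              show ρ (y : H) * e * (ρ (z : H) * e) = ρ y * ρ z * e by
                have ez := eQ χ z z.2
                rw [← he] at ez
                rw [mul_assoc, ← mul_assoc e, ← ez, mul_assoc (ρ (z : H)), hee, ← mul_assoc]]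
            have ez := eQ χ z z.2
            rw [← he] at ez
            rw [show e * (ρ (z : H) * e) = ρ z * e by rw [← mul_assoc, ← ez, mul_assoc, hee],
              mul_one, mul_assoc (ρ (y : H)) e, mul_sub, mul_one, hee, sub_self]
            abel }
      have hρe : ∀ y, ρe y = ρ y * e + (1 - e) := fun y => rfl
      have hcomm : ∀ y z, g y z = 1 → Commute (ρe y) (ρe z) := fun y z hyz => by
        show ρe y * ρe z = ρe z * ρe y
        rw [← map_mul, ← map_mul, hρe, hρe]
        congr 1
        have h3 : ρD (cm y z) * e = e := by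
          rw [he, apply_mul_charProj, ← hg, hyz, Units.val_one, one_smul]
        have ezy := eQ χ (z * y : Q) (z * y).2
        rw [← he] at ezy
        calc ρ ((y * z : Q) : H) * e = ρD (cm y z) * ρ ((z * y : Q) : H) * e := by
              show _ = ρ ⁅(y : H), (z : H)⁆ * ρ ((z * y : Q) : H) * e
              rw [← map_mul, Subgroup.coe_mul, Subgroup.coe_mul, commutatorElement_def]
              congr 2; group
          _ = ρ ((z * y : Q) : H) * e := by
              rw [mul_assoc, ezy, ← mul_assoc, h3]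
      have ea := eA χ a.1 haA
      rw [← he] at ea
      have hfix := quad_fix ρe σ.toMonoidHom (ρ a.1) (fun y => by
          show ρ a.1 * ρe y = ρe (σ y) * ρ a.1
          rw [hρe, hρe, mul_add, add_mul, ← mul_assoc,
            show ρ a.1 * ρ (y : H) = ρ (σ y : Q) * ρ a.1 by
              rw [← map_mul, ← map_mul]
              show _ = ρ (a.1 * y * a.1⁻¹ * a.1)
              rw [inv_mul_cancel_right],
            mul_assoc, ea, ← mul_assoc, mul_sub, sub_mul, mul_one, one_mul, ea])
        (hq a.1 haA) ?_ (N := Nat.card Q) ?_ (fun y => by rw [← map_pow, pow_card_eq_one', map_one]) x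
        (hcomm _ _ g01) (hcomm _ _ g02) (by
          show Commute (ρe x) (ρe (σ (σ (σ x))))
          rw [hσ3])
        (hcomm _ _ g12) (by
          show Commute (ρe (σ x)) (ρe (σ (σ (σ x))))
          rw [hσ3]; exact (hcomm _ _ g01).symm)
        (by
          show Commute (ρe (σ (σ x))) (ρe (σ (σ (σ x))))
          rw [hσ3]; exact (hcomm _ _ g02).symm)
      · refine hmove (QuotientGroup.eq.2 (MonoidHom.mem_ker.2 (MonoidHom.ext fun y => ?_)))
        have h3 : ρ ((σ x : Q) : H) * e = ρ (x : H) * e := add_right_cancel hfix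
        set t := (σ x)⁻¹ * x with ht
        have h4 : ρ (t : H) * e = e := by
          rw [ht, Subgroup.coe_mul, map_mul, mul_assoc, ← h3, ← mul_assoc, ← map_mul,
            Subgroup.coe_inv, inv_mul_cancel, map_one, one_mul]
        have h5 : ρ (t : H)⁻¹ * e = e := stab e _ h4
        have h6 : ρD (cm t y) * e = e := by
          show ρ ⁅(t : H), (y : H)⁆ * e = e
          have ey := eQ χ (y : H)⁻¹ (inv_mem y.2)
          rw [← he] at ey
          rw [commutatorElement_def, map_mul, map_mul, map_mul, mul_assoc, ey, ← mul_assoc,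
            mul_assoc _ (ρ (t : H)⁻¹) e, h5, mul_assoc, ← ey, mul_assoc, ← mul_assoc (ρ (y : H)),
            ← map_mul, mul_inv_cancel, map_one, one_mul, h4]
        rw [he, apply_mul_charProj] at h6
        show g t y = 1
        rw [hg]
        exact Units.ext (smul_left_injective k hχe (h6.trans (one_smul k _).symm))
      · have h2k : (2 : k) ≠ 0 := fun h => by
          have : ((2 : ℕ) : k) = 0 := by exact_mod_cast h
          rw [CharP.cast_eq_zero_iff k 3] at this
          exact absurd (Nat.le_of_dvd (by norm_num) this) (by norm_num)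
        simpa only [map_ofNat] using (isUnit_iff_ne_zero.2 h2k).map (algebraMap k (Module.End k V))
      · rw [← map_natCast (algebraMap k (Module.End k V))]
        refine (isUnit_iff_ne_zero.2 fun h => ?_).map _
        obtain ⟨j, hj⟩ := hQ.exists_card_eq
        rw [CharP.cast_eq_zero_iff k 3, hj] at h
        exact absurd (Nat.le_of_dvd (by norm_num) (Nat.prime_three.dvd_of_dvd_pow h)) (by norm_num)
  have htriv : ∀ a : B, a.1 ∈ A → φ a = 1 := by
    have key : A ≤ φ.ker.map B.subtype := commutator_le.2 fun b1 h1 b2 h2 => by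
      refine ⟨⟨b1, h1⟩ * ⟨b2, h2⟩ * ⟨b1, h1⟩⁻¹ * ⟨b2, h2⟩⁻¹, ?_, rfl⟩
      refine MonoidHom.mem_ker.2 (commutator_fix (fun v => ?_) φ f (fun u v => ?_) (fun u => ?_)
        (fun u v => ?_) (fun u v u' v' => ?_) (fun b u v => ?_) (A.subgroupOf B) (fun a ha a' ha' => ?_)
        (fun a ha => ?_) (fun b => ?_) haniso
        (show ((⟨b1, h1⟩ * ⟨b2, h2⟩ * ⟨b1, h1⟩⁻¹ * ⟨b2, h2⟩⁻¹ : B) : H) ∈ A from
          commutator_mem_commutator h1 h2))
      · induction v using QuotientGroup.induction_on with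
        | H x =>
          refine (QuotientGroup.eq_one_iff (x * x)).2 (MonoidHom.mem_ker.2 (MonoidHom.ext fun y => ?_))
          show g (x * x) y = 1
          rw [hg, cm_left, hsq, map_one]
      · induction u using QuotientGroup.induction_on with
        | H x => induction v using QuotientGroup.induction_on with
          | H y => rw [hf, hf, hg, hg, cm_swap]
      · induction u using QuotientGroup.induction_on with
        | H x =>
          rw [hf, hg, show cm x x = 1 from Subtype.ext (commutatorElement_self _), map_one]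
      · induction u using QuotientGroup.induction_on with
        | H x => induction v using QuotientGroup.induction_on with
          | H y => rw [hf, hg, ← map_mul, hsq, map_one]
      · induction u using QuotientGroup.induction_on with
        | H x => induction v using QuotientGroup.induction_on with
          | H y => induction u' using QuotientGroup.induction_on with
            | H x' => induction v' using QuotientGroup.induction_on with
              | H y' => rw [hf, hf, hg, hg]; exact fun h h' => (hpm _ h).trans (hpm _ h').symm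
      · induction u using QuotientGroup.induction_on with
        | H x => induction v using QuotientGroup.induction_on with
          | H y => exact hginv b.1 b.2 x y
      · exact Subtype.ext (hAc a.1 ha a'.1 ha')
      · rw [← map_pow, show a ^ 3 = 1 from Subtype.ext (hA3 a.1 ha), map_one]
      · obtain ⟨i, hi⟩ := hB b
        exact ⟨i, by rw [← map_pow, hi, map_one]⟩
    intro a ha
    obtain ⟨a', ha', he'⟩ := key ha
    rw [← (Subtype.ext he' : a' = a)]
    exact ha'
  -- so `A` centralises `Q` modulo the radical, which it centralises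
  apply hnc
  have hX : g.ker.map Q.subtype < Q := by
    refine lt_of_le_of_ne (map_subtype_le _) fun h => ?_
    obtain ⟨z, hz⟩ := hχ1
    apply hz
    have hall : ∀ y ∈ D, ∀ hy : y ∈ D, χ ⟨y, hy⟩ = 1 := by
      have hle : D ≤ (χ.ker.map D.subtype) := commutator_le.2 fun x hx y hy => by
        refine ⟨⟨⁅x, y⁆, hcmem ⟨x, hx⟩ ⟨y, hy⟩⟩, ?_, rfl⟩
        obtain ⟨x', hx', rfl⟩ := h.ge hx
        show χ (cm x' ⟨y, hy⟩) = 1
        rw [← hg, MonoidHom.mem_ker.1 hx']; rfl
      intro y hy hy'
      obtain ⟨y', hy'', rfl⟩ := hle hy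
      exact hy''
    exact hall z.1 z.2 z.2
  have hXB : B ≤ normalizer (g.ker.map Q.subtype : Set H) := le_normalizer_iff.2 fun b hb y hy => by
    obtain ⟨x, hx, rfl⟩ := hy
    exact ⟨normalizerMonoidHom Q ⟨b, hBQ hb⟩ x, (hkerinv b hb).le ⟨x, hx, rfl⟩, rfl⟩
  have hXc := hsub _ hX hXB
  intro x hx
  refine mem_centralizer_iff.2 fun a ha => ?_
  -- `a x a⁻¹ = x w` with `w` fixed by `a`
  set w := x⁻¹ * (a * x * a⁻¹) with hw
  have hwX : w ∈ g.ker.map Q.subtype := by
    have h := DFunLike.congr_fun (htriv ⟨a, hAB ha⟩ ha) ((⟨x, hx⟩ : Q) : ↥Q ⧸ g.ker)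
    exact ⟨_, QuotientGroup.eq.1 h.symm, rfl⟩
  have hwfix : a * w * a⁻¹ = w := by
    rw [mem_centralizer_iff.1 (hXc hwX) a ha, mul_inv_cancel_right]
  have h3 : a ^ 3 * x * (a ^ 3)⁻¹ = x * w ^ 3 := by
    have e1 : a * x * a⁻¹ = x * w := by rw [hw, mul_inv_cancel_left]
    have hd : ∀ u v, a * (u * v) * a⁻¹ = (a * u * a⁻¹) * (a * v * a⁻¹) := fun u v => by group
    calc a ^ 3 * x * (a ^ 3)⁻¹ = a * (a * (a * x * a⁻¹) * a⁻¹) * a⁻¹ := by
          rw [pow_succ, pow_succ, pow_one]; group
      _ = x * w ^ 3 := by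
          rw [e1, show a * (x * w) * a⁻¹ = x * w * w by rw [hd, e1, hwfix],
            show a * (x * w * w) * a⁻¹ = x * w * w * w by rw [hd, hd, e1, hwfix],
            pow_succ, pow_succ, pow_one]
          group
  rw [hA3 a ha, one_mul, inv_one, mul_one, left_eq_mul] at h3
  have hw1 : w = 1 := by
    have hwQ : w ∈ Q := hX.le hwX
    obtain ⟨j, hj⟩ := hQ ⟨w, hwQ⟩
    have h4 : w ^ 2 ^ j = 1 := congrArg Subtype.val hj
    exact orderOf_eq_one_iff.1 (Nat.eq_one_of_dvd_coprimes (Nat.Coprime.pow_left j (by norm_num : Nat.Coprime 2 3))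
      (orderOf_dvd_of_pow_eq_one h4) (orderOf_dvd_of_pow_eq_one h3))
  rw [hw, inv_mul_eq_one] at hw1
  exact (mul_inv_eq_iff_eq_mul.1 hw1.symm)

end CfsgLib.PGroup.Quadratic
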