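import Cfsg.Agent.Lib.Solvable.CharProjection
import Mathlib.Tactic.LinearCombination

/-!
Quadratic operators: they fix commuting invertible operators of coprime order, and a `3`-group
generated in its commutator subgroup by anisotropic elements acts trivially on an `F₂`-form space.
-/

set_option autoImplicit false

namespace CfsgLib.PGroup.Quadratic

/-- The identity behind `(T - 1) ^ 3 = 0`. -/
theorem cubic_identity {R : Type*} [CommRing R] (T T1 T2 : R) :
    -2 * (T - 1) ^ 3 = (T ^ 2 + 2 * T - 2 * (T * T1 + (2 * T - 1))) * (T * T1 - 2 * T + 1)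
      - T ^ 2 * T1 * (T2 - 2 * T1 + T) + T ^ 2 * (T1 * T2 - 2 * T1 + 1) := by
  ring

open scoped IsMulCommutative in
/-- Three commuting operators satisfying the three second-difference relations on `X`. -/
theorem cubic_mul_eq_zero {E : Type*} [Ring E] {T T1 T2 X : E} (h01 : Commute T T1)
    (h02 : Commute T T2) (h12 : Commute T1 T2) (e1 : (T * T1 - 2 * T + 1) * X = 0)
    (e2 : (T1 * T2 - 2 * T1 + 1) * X = 0) (e3 : (T2 - 2 * T1 + T) * X = 0) :
    (2 : E) * ((T - 1) ^ 3 * X) = 0 := by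
  have hcomm : ∀ x ∈ ({T, T1, T2} : Set E), ∀ y ∈ ({T, T1, T2} : Set E), x * y = y * x := by
    rintro x (rfl | rfl | rfl) y (rfl | rfl | rfl) <;>
      first | rfl | exact h01 | exact h02 | exact h12 | exact h01.symm | exact h02.symm | exact h12.symm
  have := Subring.isMulCommutative_closure hcomm
  set C := Subring.closure ({T, T1, T2} : Set E) with hC
  have key : ∀ t t1 t2 : C, (t : E) = T → (t1 : E) = T1 → (t2 : E) = T2 →
      ((-2 * (t - 1) ^ 3 : C) : E) * X = 0 := by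
    intro t t1 t2 ht ht1 ht2
    rw [cubic_identity t t1 t2, Subring.coe_add, AddSubgroupClass.coe_sub, Subring.coe_mul, Subring.coe_mul,
      Subring.coe_mul C (t ^ 2) (t1 * t2 - 2 * t1 + 1), add_mul, sub_mul, mul_assoc, mul_assoc,
      mul_assoc]
    have f1 : ((t * t1 - 2 * t + 1 : C) : E) * X = 0 := by
      push_cast [ht, ht1, show ((2 : C) : E) = 2 from rfl]; exact e1
    have f2 : ((t1 * t2 - 2 * t1 + 1 : C) : E) * X = 0 := by
      push_cast [ht2, ht1, show ((2 : C) : E) = 2 from rfl]; exact e2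
    have f3 : ((t2 - 2 * t1 + t : C) : E) * X = 0 := by
      push_cast [ht, ht2, ht1, show ((2 : C) : E) = 2 from rfl]; exact e3
    rw [f1, f2, f3]; simp
  have h := key ⟨T, Subring.subset_closure (by simp)⟩ ⟨T1, Subring.subset_closure (by simp)⟩
    ⟨T2, Subring.subset_closure (by simp)⟩ rfl rfl rfl
  push_cast [show ((2 : C) : E) = 2 from rfl] at h
  rw [neg_mul, neg_mul, neg_eq_zero, mul_assoc] at h
  exact h

/-- Coprime torsion and unipotence. -/
theorem sub_one_mul_eq_zero {E : Type*} [Ring E] {N : ℕ} (hN : IsUnit (N : E)) {T : E}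
    (hT : T ^ N = 1) : ∀ (j : ℕ) {X : E}, (T - 1) ^ j * X = 0 → (T - 1) * X = 0 := by
  have step : ∀ {Y : E}, (T - 1) * ((T - 1) * Y) = 0 → (T - 1) * Y = 0 := by
    intro Y hY
    have hfix : ∀ i : ℕ, T ^ i * ((T - 1) * Y) = (T - 1) * Y := by
      intro i
      induction i with
      | zero => rw [pow_zero, one_mul]
      | succ i ih =>
        rw [pow_succ, mul_assoc]
        have : T * ((T - 1) * Y) = (T - 1) * Y := by
          rwa [sub_mul, one_mul, sub_eq_zero] at hY
        rw [this, ih]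
    have h0 : (∑ i ∈ Finset.range N, T ^ i) * ((T - 1) * Y) = 0 := by
      rw [← mul_assoc, geom_sum_mul, hT, sub_self, zero_mul]
    rw [Finset.sum_mul, Finset.sum_congr rfl fun i _ => hfix i, Finset.sum_const, Finset.card_range,
      nsmul_eq_mul] at h0
    exact (hN.mul_right_eq_zero).1 h0
  intro j
  induction j with
  | zero => intro X hX; rw [pow_zero, one_mul] at hX; rw [hX, mul_zero]
  | succ j ih =>
    intro X hX
    rw [pow_succ, mul_assoc] at hX
    exact step (ih hX)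

/-- A quadratic operator centralises every commuting orbit of invertible operators of coprime order. -/
theorem quad_fix {E : Type*} [Ring E] {G : Type*} [Group G] (ρ : G →* E) (σ : G →* G) (S : E)
    (hS : ∀ g, S * ρ g = ρ (σ g) * S) (hq : (S - 1) * (S - 1) = 0) (h2 : IsUnit (2 : E)) {N : ℕ}
    (hN : IsUnit (N : E)) (hN1 : ∀ g, ρ g ^ N = 1) (x : G)
    (hc01 : Commute (ρ x) (ρ (σ x))) (hc02 : Commute (ρ x) (ρ (σ (σ x))))
    (hc03 : Commute (ρ x) (ρ (σ (σ (σ x))))) (hc12 : Commute (ρ (σ x)) (ρ (σ (σ x))))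
    (hc13 : Commute (ρ (σ x)) (ρ (σ (σ (σ x))))) (hc23 : Commute (ρ (σ (σ x))) (ρ (σ (σ (σ x))))) :
    ρ (σ x) = ρ x := by
  obtain ⟨α, hα⟩ : ∃ α, α = S - 1 := ⟨_, rfl⟩
  rw [← hα] at hq
  have hαg : ∀ g, α * ρ g = ρ (σ g) * α + (ρ (σ g) - ρ g) := fun g => by
    rw [hα, sub_mul, one_mul, hS, mul_sub, mul_one]; abel
  have hD : ∀ g, α * ((ρ (σ g) - ρ g) * α) = 0 := fun g => by
    have h : α * ρ g * α = (ρ (σ g) - ρ g) * α := by
      rw [hαg, add_mul, mul_assoc, hq, mul_zero, zero_add]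
    rw [← h, mul_assoc, ← mul_assoc α α, hq, zero_mul]
  have h2nd : ∀ g, (ρ (σ (σ g)) - 2 * ρ (σ g) + ρ g) * α = 0 := fun g => by
    have h := hD g
    rw [← mul_assoc, mul_sub, sub_mul, hαg, hαg, add_mul, add_mul, mul_assoc, hq, mul_zero, zero_add,
      mul_assoc, hq, mul_zero, zero_add, ← sub_mul] at h
    rw [← h, two_mul]
    congr 1
    abel
  set t := x⁻¹ * σ x with ht
  have hunit : ∀ g, IsUnit (ρ g) := fun g => (Group.isUnit g).map ρ
  have hinv : ∀ g h, Commute (ρ g) (ρ h) → Commute (ρ g⁻¹) (ρ h) := fun g h hgh => by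
    have hl : ρ g⁻¹ * ρ g = 1 := by rw [← map_mul, inv_mul_cancel, map_one]
    have hr : ρ g * ρ g⁻¹ = 1 := by rw [← map_mul, mul_inv_cancel, map_one]
    calc ρ g⁻¹ * ρ h = ρ g⁻¹ * (ρ h * (ρ g * ρ g⁻¹)) := by rw [hr, mul_one]
      _ = ρ g⁻¹ * (ρ g * ρ h) * ρ g⁻¹ := by rw [← mul_assoc (ρ h), ← hgh.eq, ← mul_assoc, ← mul_assoc, mul_assoc]
      _ = ρ h * ρ g⁻¹ := by rw [← mul_assoc (ρ g⁻¹), hl, one_mul]
  have htc : ∀ u v, Commute (ρ u) (ρ v) → Commute (ρ (σ u)) (ρ v) → Commute (ρ (u⁻¹ * σ u)) (ρ v) :=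
    fun u v h1 h2 => by rw [map_mul]; exact (hinv u v h1).mul_left h2
  have hσt : ∀ u, σ (u⁻¹ * σ u) = (σ u)⁻¹ * σ (σ u) := fun u => by rw [map_mul, map_inv]
  have c01 : Commute (ρ t) (ρ (σ t)) := by
    rw [ht, hσt]
    exact (htc (σ x) (x⁻¹ * σ x) ((htc x (σ x) hc01 (Commute.refl _)).symm)
      ((htc x (σ (σ x)) hc02 hc12).symm)).symm
  have c02 : Commute (ρ t) (ρ (σ (σ t))) := by
    rw [ht, hσt, hσt]
    exact (htc (σ (σ x)) (x⁻¹ * σ x) ((htc x (σ (σ x)) hc02 hc12).symm)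
      ((htc x (σ (σ (σ x))) hc03 hc13).symm)).symm
  have c12 : Commute (ρ (σ t)) (ρ (σ (σ t))) := by
    rw [ht, hσt, hσt]
    exact (htc (σ (σ x)) ((σ x)⁻¹ * σ (σ x)) ((htc (σ x) (σ (σ x)) hc12 (Commute.refl _)).symm)
      ((htc (σ x) (σ (σ (σ x))) hc13 hc23).symm)).symm
  have main : ∀ X, (∀ g, (ρ (σ (σ g)) - 2 * ρ (σ g) + ρ g) * X = 0) → (ρ (σ x) - ρ x) * X = 0 := by
    intro X hX
    have hfac : ∀ u, (ρ (u⁻¹ * σ u) * ρ (σ (u⁻¹ * σ u)) - 2 * ρ (u⁻¹ * σ u) + 1) * X = 0 := fun u => by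
      refine (hunit u).mul_right_eq_zero.1 ?_
      rw [← mul_assoc]
      convert hX u using 2
      simp only [two_mul, mul_add, mul_sub, mul_one, ← map_mul, hσt, mul_inv_cancel_left, mul_assoc]
    have e1 := hfac x
    have e2 := hfac (σ x)
    rw [← hσt, ← ht] at e2
    rw [← ht] at e1
    have h3 := (h2.mul_right_eq_zero).1 (cubic_mul_eq_zero c01 c02 c12 e1 e2 (hX t))
    have h4 := sub_one_mul_eq_zero hN (hN1 t) 3 h3
    have : ρ (σ x) - ρ x = ρ x * (ρ t - 1) := by
      rw [mul_sub, mul_one, ← map_mul, ht, mul_inv_cancel_left]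
    rw [this, mul_assoc, h4, mul_zero]
  -- the restricted identity first, for every element of the orbit
  have hfirst : ∀ X, (∀ g, (ρ (σ (σ g)) - 2 * ρ (σ g) + ρ g) * X = 0) → ρ (σ x) * X = ρ x * X :=
    fun X hX => by
      have := main X hX
      rwa [sub_mul, sub_eq_zero] at this
  have hα0 : ρ (σ x) * α = ρ x * α := hfirst α h2nd
  set t1 := σ t
  have hstep : (ρ (σ (σ x)) - ρ (σ x)) * α = 0 := by
    have := h2nd x
    rw [show ρ (σ (σ x)) - 2 * ρ (σ x) + ρ x = (ρ (σ (σ x)) - ρ (σ x)) - (ρ (σ x) - ρ x) by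
      rw [two_mul]; abel, sub_mul (ρ (σ (σ x)) - ρ (σ x)), sub_mul (ρ (σ x)), hα0, sub_self,
      sub_zero] at this
    exact this
  have hD1 : α * (ρ (σ x) - ρ x) = ρ (σ (σ x)) - ρ (σ x) - (ρ (σ x) - ρ x) := by
    rw [mul_sub, hαg, hαg, hα0]
    rw [sub_mul, sub_eq_zero] at hstep
    rw [hstep, hα0]; abel
  have hD0 : α * ρ x = ρ x * α + (ρ (σ x) - ρ x) := by rw [hαg, hα0]
  have hzero : α * (ρ (σ x) - ρ x) = 0 := by
    have h := congrArg (fun z => α * z) hD0
    simp only [← mul_assoc, hq, zero_mul] at h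
    rw [mul_add, ← mul_assoc, hD0, add_mul, mul_assoc, hq, mul_zero, zero_add, sub_mul, hα0,
      sub_self, zero_add] at h
    exact h.symm
  have hsecond : ρ (σ (σ x)) - 2 * ρ (σ x) + ρ x = 0 := by
    rw [hzero] at hD1
    rw [hD1, two_mul]; abel
  -- so the quotient element is unipotent
  have hRt : ρ x * (ρ t - 1) = ρ (σ x) - ρ x := by
    rw [mul_sub, mul_one, ← map_mul, ht, mul_inv_cancel_left]
  have ht_fix : (ρ t - 1) * α = 0 := by
    refine (hunit x).mul_right_eq_zero.1 ?_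
    rw [← mul_assoc, hRt, sub_mul, hα0, sub_self]
  have h5 : α * (ρ t - 1) + (ρ t - 1) * (ρ t - 1) = 0 := by
    refine (hunit x).mul_right_eq_zero.1 ?_
    have h3 := hzero
    rw [← hRt, ← mul_assoc, hD0, add_mul, mul_assoc, ← hRt, mul_assoc, ← mul_add] at h3
    exact h3
  have h6 : (ρ t - 1) ^ 3 * 1 = 0 := by
    have h := congrArg (fun z => (ρ t - 1) * z) h5
    simp only [mul_add, ← mul_assoc, ht_fix, zero_mul, zero_add, mul_zero] at h
    rw [mul_one, pow_succ, pow_two]; exact h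
  have h7 := sub_one_mul_eq_zero hN (hN1 t) 3 h6
  rw [mul_one, sub_eq_zero] at h7
  have h8 : ρ (σ x) = ρ x * ρ t := by rw [← map_mul, ht, mul_inv_cancel_left]
  rw [h8, h7, mul_one]

/-- In a `3`-group acting on an `F₂`-space with a form that is anisotropic on the moved part of each
element of a normal abelian subgroup of exponent three, commutators in that subgroup act trivially. -/
theorem commutator_fix {M : Type*} [CommGroup M] (h2 : ∀ u : M, u * u = 1) {B : Type*} [Group B]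
    (φ : B →* MulAut M) {C : Type*} [CommGroup C] (f : M →* M →* C)
    (hsym : ∀ u v, f u v = f v u) (halt : ∀ u, f u u = 1) (hC2 : ∀ u v, f u v * f u v = 1)
    (hC : ∀ u v u' v', f u v ≠ 1 → f u' v' ≠ 1 → f u v = f u' v')
    (hinv : ∀ b u v, f (φ b u) (φ b v) = f u v) (A : Subgroup B) [A.Normal]
    (hAc : ∀ a ∈ A, ∀ a' ∈ A, a * a' = a' * a) (hA3 : ∀ a ∈ A, φ a ^ 3 = 1)
    (hB : ∀ b, ∃ k, φ b ^ 3 ^ k = 1)
    (haniso : ∀ a ∈ A, ∀ u, φ a u ≠ u → f u (φ a u) ≠ 1)
    {b1 b2 : B} (ha : b1 * b2 * b1⁻¹ * b2⁻¹ ∈ A) : φ (b1 * b2 * b1⁻¹ * b2⁻¹) = 1 := by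
  have inv2 : ∀ u : M, u⁻¹ = u := fun u => inv_eq_of_mul_eq_one_right (h2 u)
  -- the moved part
  let D : MulAut M → Subgroup M := fun s => (s.toMonoidHom * MonoidHom.id M).range
  have memD : ∀ s u, u ∈ D s ↔ ∃ v, s v * v = u := fun s u => Iff.rfl
  have cube : ∀ a ∈ A, ∀ u, φ a (φ a (φ a u)) = u := fun a ha u => by
    have := DFunLike.congr_fun (hA3 a ha) u
    rwa [pow_succ, pow_succ, pow_one] at this
  have trace : ∀ a ∈ A, ∀ u ∈ D (φ a), φ a (φ a u) = φ a u * u := fun a ha u hu => by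
    obtain ⟨v, rfl⟩ := (memD _ _).1 hu
    simp only [map_mul, cube a ha]
    rw [show φ a (φ a v) * φ a v * (φ a v * v) = φ a (φ a v) * v * (φ a v * φ a v) by ac_rfl,
      h2, mul_one, mul_comm]
  have fixD : ∀ a ∈ A, ∀ u ∈ D (φ a), φ a u = u → u = 1 := fun a ha u hu h => by
    have := trace a ha u hu
    rwa [h, h, h2] at this
  have stab : ∀ a ∈ A, ∀ u ∈ D (φ a), φ a u ∈ D (φ a) := fun a _ u hu => by
    obtain ⟨v, rfl⟩ := (memD _ _).1 hu
    exact (memD _ _).2 ⟨φ a v, by rw [map_mul]⟩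
  -- the moved part is a plane
  have plane : ∀ a ∈ A, ∀ u ∈ D (φ a), u ≠ 1 → ∀ v ∈ D (φ a),
      v = 1 ∨ v = u ∨ v = φ a u ∨ v = φ a (φ a u) := by
    intro a ha u hu hu1 v hv
    have hε := haniso a ha u fun h => hu1 (fixD a ha u hu h)
    have key : ∀ w ∈ D (φ a), f w u = 1 → f w ((φ a) u) = 1 → w = 1 := by
      intro w hw e1 e2
      by_contra hw1
      have hεw := haniso a ha w fun h => hw1 (fixD a ha w hw h)
      have huw : u * w ≠ 1 := fun h => hε (by
        rwa [show w = u from (inv_eq_of_mul_eq_one_right h).symm.trans (inv2 u)] at e2)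
      refine haniso a ha (u * w) (fun h => huw (fixD a ha _ ((D (φ a)).mul_mem hu hw) h)) ?_
      have e3 : f u ((φ a) w) = 1 := by
        rw [← hinv a u ((φ a) w), ← hinv a (φ a u) (φ a ((φ a) w))]
        show f ((φ a) ((φ a) u)) ((φ a) ((φ a) ((φ a) w))) = 1
        rw [cube a ha, trace a ha u hu, map_mul, MonoidHom.mul_apply, hsym ((φ a) u), hsym u, e1, e2,
          one_mul]
      simp only [map_mul, MonoidHom.mul_apply, e2, e3, mul_one, one_mul]
      rw [hC w ((φ a) w) u ((φ a) u) hεw hε, hC2]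
    have hn : ∀ w, f u w ≠ 1 → f u w = f u ((φ a) u) := fun w h => hC _ _ _ _ h hε
    have hε' : f ((φ a) u) u ≠ 1 := by rwa [hsym]
    by_cases d1 : f v u = 1 <;> by_cases d2 : f v ((φ a) u) = 1
    · exact Or.inl (key v hv d1 d2)
    · refine Or.inr (Or.inl ?_)
      have := key (v * u) ((D (φ a)).mul_mem hv hu) (by rw [map_mul, MonoidHom.mul_apply, d1, halt, one_mul])
        (by rw [map_mul, MonoidHom.mul_apply, hC _ _ _ _ d2 hε, hC2])
      exact (mul_eq_one_iff_eq_inv.1 this).trans (inv2 u)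
    · refine Or.inr (Or.inr (Or.inl ?_))
      have := key (v * (φ a) u) ((D (φ a)).mul_mem hv (stab a ha u hu))
        (by rw [map_mul, MonoidHom.mul_apply, hC _ _ _ _ d1 hε', hC2])
        (by rw [map_mul, MonoidHom.mul_apply, d2, halt, one_mul])
      exact (mul_eq_one_iff_eq_inv.1 this).trans (inv2 _)
    · refine Or.inr (Or.inr (Or.inr ?_))
      rw [trace a ha u hu]
      have := key (v * ((φ a) u * u)) ((D (φ a)).mul_mem hv ((D (φ a)).mul_mem (stab a ha u hu) hu))
        (by rw [map_mul, map_mul, MonoidHom.mul_apply, MonoidHom.mul_apply, halt, mul_one,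
          hC _ _ _ _ d1 hε', hC2])
        (by rw [map_mul, map_mul, MonoidHom.mul_apply, MonoidHom.mul_apply, halt, one_mul,
          hC _ _ _ _ d2 hε, hC2])
      exact (mul_eq_one_iff_eq_inv.1 this).trans (inv2 _)
  have comm : ∀ a ∈ A, ∀ a' ∈ A, ∀ u, φ a (φ a' u) = φ a' (φ a u) := fun a ha a' ha' u => by
    show (φ a * φ a') u = (φ a' * φ a) u
    rw [← map_mul, ← map_mul, hAc a ha a' ha']
  have pres : ∀ a ∈ A, ∀ a' ∈ A, ∀ u ∈ D (φ a), φ a' u ∈ D (φ a) := fun a ha a' ha' u hu => by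
    obtain ⟨v, rfl⟩ := (memD _ _).1 hu
    exact (memD _ _).2 ⟨φ a' v, by rw [comm a ha a' ha', map_mul]⟩
  have moveEq : ∀ a ∈ A, ∀ a' ∈ A, ∀ u ∈ D (φ a), φ a' u ≠ u → D (φ a) = D (φ a') := by
    intro a ha a' ha' u hu hne
    set d := φ a' u * u with hd
    have hdD : d ∈ D (φ a) := (D _).mul_mem (pres a ha a' ha' u hu) hu
    have hdD' : d ∈ D (φ a') := (memD _ _).2 ⟨u, rfl⟩
    have hd1 : d ≠ 1 := fun h => hne ((mul_eq_one_iff_eq_inv.1 h).trans (inv2 u))
    refine le_antisymm (fun v hv => ?_) fun v hv => ?_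
    · rcases plane a ha d hdD hd1 v hv with rfl | rfl | rfl | rfl
      · exact one_mem _
      · exact hdD'
      · exact pres a' ha' a ha d hdD'
      · exact pres a' ha' a ha _ (pres a' ha' a ha d hdD')
    · rcases plane a' ha' d hdD' hd1 v hv with rfl | rfl | rfl | rfl
      · exact one_mem _
      · exact hdD
      · exact pres a ha a' ha' d hdD
      · exact pres a ha a' ha' _ (pres a ha a' ha' d hdD)
  have same : ∀ a ∈ A, ∀ a' ∈ A, φ a ≠ 1 → φ a' ≠ 1 → D (φ a) = D (φ a') := by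
    intro a ha a' ha' h1 h1'
    by_contra hne
    have nb : ∀ a ∈ A, φ a ≠ 1 → ∃ d ∈ D (φ a), d ≠ 1 := fun a _ h => by
      by_contra hcon
      push Not at hcon
      refine h (MulEquiv.ext fun u => ?_)
      exact (mul_eq_one_iff_eq_inv.1 (hcon _ ((memD _ _).2 ⟨u, rfl⟩))).trans (inv2 u)
    have fix1 : ∀ u ∈ D (φ a), φ a' u = u := fun u hu => by
      by_contra h; exact hne (moveEq a ha a' ha' u hu h)
    have fix2 : ∀ u ∈ D (φ a'), φ a u = u := fun u hu => by
      by_contra h; exact hne (moveEq a' ha' a ha u hu h).symm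
    obtain ⟨d, hd, hd1⟩ := nb a ha h1
    obtain ⟨e, he, he1⟩ := nb a' ha' h1'
    have hm : a * a' ∈ A := mul_mem ha ha'
    have inD : ∀ b ∈ A, ∀ w ∈ D (φ b), φ (a * a') (φ b w) = φ b (φ b w) →
        w ∈ D (φ (a * a')) := fun b hb w hw h => (memD _ _).2 ⟨φ b w, by
      rw [h, trace b hb w hw, mul_right_comm, h2, one_mul]⟩
    have hdm : d ∈ D (φ (a * a')) := inD a ha d hd (by
      rw [map_mul, MulAut.mul_apply, fix1 _ (pres a ha a ha d hd)])
    have hem : e ∈ D (φ (a * a')) := inD a' ha' e he (by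
      rw [map_mul, MulAut.mul_apply, fix2 _ (pres a' ha' a' ha' _ (pres a' ha' a' ha' e he))])
    have hse : e ∈ D (φ a) := by
      rcases plane (a * a') hm d hdm hd1 e hem with rfl | rfl | rfl | rfl
      · exact absurd rfl he1
      · exact hd
      · exact pres a ha (a * a') hm d hd
      · exact pres a ha (a * a') hm _ (pres a ha (a * a') hm d hd)
    exact he1 (fixD a ha e hse (fix2 e he))
  obtain ⟨a, hadef⟩ : ∃ a, a = b1 * b2 * b1⁻¹ * b2⁻¹ := ⟨_, rfl⟩
  rw [← hadef] at ha ⊢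
  by_contra hne
  obtain ⟨v, hv⟩ : ∃ v, φ a v ≠ v := by
    by_contra hcon
    push Not at hcon
    exact hne (MulEquiv.ext hcon)
  obtain ⟨u, hudef⟩ : ∃ u, u = φ a v * v := ⟨_, rfl⟩
  have hu : u ∈ D (φ a) := (memD _ _).2 ⟨v, hudef.symm⟩
  have hu1 : u ≠ 1 := fun h => hv ((mul_eq_one_iff_eq_inv.1 (hudef ▸ h)).trans (inv2 v))
  -- every element commutes with `φ a` on the plane
  have hbD : ∀ b, ∀ w ∈ D (φ a), φ b w ∈ D (φ a) ∧ φ b (φ a w) = φ a (φ b w) := by
    intro b
    obtain ⟨a', ha'def⟩ : ∃ a', a' = b * a * b⁻¹ := ⟨_, rfl⟩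
    have ha' : a' ∈ A := ha'def ▸ Subgroup.Normal.conj_mem inferInstance a ha b
    have hconj : ∀ w, φ b (φ a w) = φ a' (φ b w) := fun w => by
      rw [← MulAut.mul_apply, ← MulAut.mul_apply, ← map_mul, ← map_mul, ha'def,
        show b * a * b⁻¹ * b = b * a by group]
    have ha'1 : φ a' ≠ 1 := fun h => hne (MulEquiv.ext fun w => (φ b).injective (by
      rw [hconj, h]; rfl))
    have hD' := same a ha a' ha' hne ha'1
    have hbmem : ∀ w ∈ D (φ a), φ b w ∈ D (φ a) := fun w hw => by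
      obtain ⟨z, rfl⟩ := (memD _ _).1 hw
      rw [hD']
      exact (memD _ _).2 ⟨φ b z, by rw [map_mul, hconj]⟩
    have hext : ∀ j : ℕ, (∀ w ∈ D (φ a), φ a' w = (φ a ^ j) w) ∨ φ a' u ≠ (φ a ^ j) u := by
      intro j
      by_cases h : φ a' u = (φ a ^ j) u
      · refine Or.inl fun w hw => ?_
        have hc : ∀ i : ℕ, ∀ z, φ a' ((φ a ^ i) z) = (φ a ^ i) (φ a' z) := by
          intro i z
          rw [← map_pow]
          exact comm a' ha' (a ^ i) (pow_mem ha i) z
        have hcj : ∀ i : ℕ, ∀ z, (φ a ^ j) ((φ a ^ i) z) = (φ a ^ i) ((φ a ^ j) z) := fun i z => by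
          rw [← MulAut.mul_apply, ← MulAut.mul_apply, ← pow_add, ← pow_add, add_comm]
        rcases plane a ha u hu hu1 w hw with rfl | rfl | rfl | rfl
        · rw [map_one, map_one]
        · exact h
        · have := hc 1 u; rw [h, ← hcj 1 u, pow_one] at this; exact this
        · have := hc 2 u; rw [h, ← hcj 2 u, pow_two] at this; exact this
      · exact Or.inr h
    have hua : φ a' u = (φ a ^ 1) u ∨ φ a' u = (φ a ^ 2) u := by
      have h1 : φ a' u ∈ D (φ a) := pres a ha a' ha' u hu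
      have h3 : φ a' u ≠ u := fun h => hu1 (fixD a' ha' u (hD' ▸ hu) h)
      rcases plane a ha u hu hu1 _ h1 with h | h | h | h
      · exact absurd (by rwa [MulEquiv.map_eq_one_iff] at h) hu1
      · exact absurd h h3
      · exact Or.inl (by rwa [pow_one])
      · exact Or.inr (by rwa [pow_two])
    have hgood : ∀ w ∈ D (φ a), φ a' w = φ a w := by
      rcases hua with h | h
      · intro w hw
        rw [(hext 1).resolve_right (not_not.2 h) w hw, pow_one]
      · exfalso
        have htwo : ∀ w ∈ D (φ a), φ a' w = φ a (φ a w) := fun w hw => by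
          rw [(hext 2).resolve_right (not_not.2 h) w hw, pow_two]; rfl
        have hodd : ∀ i : ℕ, ∀ w ∈ D (φ a), (φ b ^ i) w ∈ D (φ a) ∧
            (φ b ^ i) (φ a w) = if Even i then φ a ((φ b ^ i) w) else φ a (φ a ((φ b ^ i) w)) := by
          intro i
          induction i with
          | zero => intro w hw; exact ⟨hw, rfl⟩
          | succ i ih =>
            intro w hw
            obtain ⟨h1, h2'⟩ := ih w hw
            have hb1 : φ b (φ a ((φ b ^ i) w)) = φ a (φ a (φ b ((φ b ^ i) w))) :=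
              (hconj _).trans (htwo _ (hbmem _ h1))
            refine ⟨by rw [pow_succ', MulAut.mul_apply]; exact hbmem _ h1, ?_⟩
            rw [pow_succ', MulAut.mul_apply, MulAut.mul_apply, h2']
            by_cases he : Even i
            · rw [if_pos he, if_neg (by simp [Nat.even_add_one, he]), hb1]
            · rw [if_neg he, if_pos (by simp [Nat.even_add_one, he])]
              have hbw := hbmem _ h1
              rw [hconj, hconj, htwo _ hbw, htwo _ (stab a ha _ (stab a ha _ hbw)), cube a ha]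
        obtain ⟨k, hk⟩ := hB b
        obtain ⟨-, h5⟩ := hodd (3 ^ k) u hu
        rw [hk, if_neg (Nat.not_even_iff_odd.2 (Odd.pow (by decide))), MulAut.one_apply,
          MulAut.one_apply] at h5
        exact hu1 (fixD a ha u hu ((φ a).injective h5.symm))
    exact fun w hw => ⟨hbmem w hw, by rw [hconj, hgood _ (hbmem w hw)]⟩
  -- so any two elements commute on the plane
  have hcommD : ∀ b b' : B, φ b (φ b' u) = φ b' (φ b u) := by
    intro b b'
    have hform : ∀ c : B, φ c u = u ∨ φ c u = φ a u ∨ φ c u = φ a (φ a u) := fun c => by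
      rcases plane a ha u hu hu1 _ (hbD c u hu).1 with h | h | h | h
      · exact absurd (by rwa [MulEquiv.map_eq_one_iff] at h) hu1
      · exact Or.inl h
      · exact Or.inr (Or.inl h)
      · exact Or.inr (Or.inr h)
    have hb1 := (hbD b u hu).2
    have hb2 := (hbD b (φ a u) (stab a ha u hu)).2
    have hb1' := (hbD b' u hu).2
    have hb2' := (hbD b' (φ a u) (stab a ha u hu)).2
    rcases hform b with h | h | h <;> rcases hform b' with h' | h' | h' <;>
      simp only [h, h', hb1, hb2, hb1', hb2']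
  have hfix : φ a u = u := by
    have h := hcommD b1 b2
    have e1 : a * (b2 * b1) = b1 * b2 := by rw [hadef]; group
    have e2 : φ a (φ b2 (φ b1 u)) = φ b2 (φ b1 u) := by
      conv_rhs => rw [← h]
      rw [← MulAut.mul_apply, ← MulAut.mul_apply, ← map_mul, ← map_mul, mul_assoc, e1, map_mul,
        MulAut.mul_apply]
    have hw := (hbD b2 _ (hbD b1 u hu).1).1
    have := fixD a ha _ hw e2
    rw [MulEquiv.map_eq_one_iff, MulEquiv.map_eq_one_iff] at this
    exact absurd this hu1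
  exact hu1 (fixD a ha u hu hfix)

end CfsgLib.PGroup.Quadratic
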