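import Cfsg.Agent.Lib.PGroup.UniGenerators
import Cfsg.Agent.Lib.PGroup.ActionTriangular
import Cfsg.Agent.Lib.OddLocal.RankThree
import Cfsg.Agent.Lib.Techniques.RankTwoChief

/-!
If every normal abelian subgroup of a `p`-group, `p` odd, is `k`-generated, every subgroup is generated
by `k + k² / 4` elements.
-/

set_option autoImplicit false

namespace CfsgLib.PGroup.UniGen

open Cfsg

universe u

variable {p : ℕ} [hp : Fact p.Prime]

theorem exists_generators_of_omega_central {N : Type u} [Group N] [Finite N] (hp2 : p ≠ 2)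
    (hN : IsPGroup p N) {k : ℕ} (hΩ : ∀ x : N, x ^ p = 1 → ∀ y : N, x * y = y * x)
    (hcard : Nat.card {x : N // x ^ p = 1} ≤ p ^ k) :
    ∃ S : Finset N, S.card ≤ k ∧ Subgroup.closure (S : Set N) = ⊤ := by
  classical
  have := Fintype.ofFinite N
  have h1 : Nat.card N ≤ Nat.card (frattini N) * Nat.card {x : N // x ^ p = 1} :=
    CfsgLib.Techniques.RankTwoChief.card_le_mul_omega hp2 hN hΩ _ (fun x =>
      CfsgLib.PGroup.pow_mem_frattini hN x)
  obtain ⟨n, hn⟩ := hN.index (frattini N)
  obtain ⟨T, -, hT, hgen⟩ := (CfsgLib.Solvable.burnside_basis hN hn).1 Finset.univ (by simp)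
  refine ⟨T, hT.le.trans ?_, hgen⟩
  rw [← (frattini N).card_mul_index, hn] at h1
  exact (Nat.pow_le_pow_iff_right hp.out.one_lt).1
    ((Nat.le_of_mul_le_mul_left h1 Nat.card_pos).trans hcard)

theorem finrank_le_of_generators {E : Type u} [CommGroup E] [Finite E] [Module (ZMod p) (Additive E)]
    {k : ℕ} (hexp : ∀ x : E, x ^ p = 1) (S : Finset E) (hS : S.card ≤ k)
    (hgen : Subgroup.closure (S : Set E) = ⊤) : Module.finrank (ZMod p) (Additive E) ≤ k := by
  have hE : IsPGroup p E := fun x => ⟨1, by rw [pow_one]; exact hexp x⟩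
  have hΦ : frattini E = ⊥ := le_bot_iff.1 (CfsgLib.Solvable.frattini_le_of_elementary (p := p) ⊥
    (by rw [commutator_eq_closure, Subgroup.closure_le]; rintro _ ⟨a, b, rfl⟩; exact commutatorElement_eq_one_iff_commute.2 (Commute.all a b))
    (fun x => Subgroup.mem_bot.2 (hexp x)))
  obtain ⟨l, hl, hlS, -⟩ := CfsgLib.Solvable.index_closure_sup_frattini hE S
  rw [hgen, top_sup_eq, Subgroup.index_top, one_mul, hΦ, Subgroup.index_bot] at hl
  have h2 : Nat.card (Additive E) = p ^ Module.finrank (ZMod p) (Additive E) := by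
    rw [Module.natCard_eq_pow_finrank (K := ZMod p) (V := Additive E), Nat.card_zmod]
  rw [show Nat.card (Additive E) = Nat.card E from rfl, hl] at h2
  exact (Nat.pow_right_injective hp.out.two_le h2).ge.trans (hlS.trans hS)

theorem exists_generators_of_hom {H K : Type u} [Group H] [Group K] [Finite H] (φ : H →* K) {a b : ℕ}
    (hker : ∃ S : Finset φ.ker, S.card ≤ a ∧ Subgroup.closure (S : Set φ.ker) = ⊤)
    (him : ∃ S : Finset φ.range, S.card ≤ b ∧ Subgroup.closure (S : Set φ.range) = ⊤) :
    ∃ S : Finset H, S.card ≤ a + b ∧ Subgroup.closure (S : Set H) = ⊤ := by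
  classical
  obtain ⟨S, hS, hSg⟩ := hker
  obtain ⟨T, hT, hTg⟩ := him
  choose g hg using fun y : φ.range => MonoidHom.rangeRestrict_surjective φ y
  refine ⟨S.image Subtype.val ∪ T.image g, (Finset.card_union_le _ _).trans
    (Nat.add_le_add (Finset.card_image_le.trans hS) (Finset.card_image_le.trans hT)), ?_⟩
  set L := Subgroup.closure ((S.image Subtype.val ∪ T.image g : Finset H) : Set H)
  have h1 : φ.ker ≤ L := by
    intro x hx
    have : (⊤ : Subgroup φ.ker) ≤ L.comap φ.ker.subtype := by
      rw [← hSg, Subgroup.closure_le]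
      intro s hs
      exact Subgroup.subset_closure (Finset.mem_coe.2 (Finset.mem_union_left _
        (Finset.mem_image.2 ⟨s, hs, rfl⟩)))
    exact this (x := ⟨x, hx⟩) trivial
  have h2 : (⊤ : Subgroup φ.range) ≤ L.map φ.rangeRestrict := by
    rw [← hTg, Subgroup.closure_le]
    intro t ht
    exact ⟨g t, Subgroup.subset_closure (Finset.mem_coe.2 (Finset.mem_union_right _
      (Finset.mem_image.2 ⟨t, ht, rfl⟩))), hg t⟩
  refine eq_top_iff.2 fun x _ => ?_
  obtain ⟨y, hy, hxy⟩ := h2 (x := φ.rangeRestrict x) trivial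
  have : y⁻¹ * x ∈ L := h1 (by
    rw [← MonoidHom.ker_rangeRestrict, MonoidHom.mem_ker, map_mul, map_inv, hxy, inv_mul_cancel])
  simpa using mul_mem hy this

theorem rank_bound {P : Type u} [Group P] [Finite P] (hp2 : p ≠ 2) (hP : IsPGroup p P) (k : ℕ)
    (hab : ∀ A : Subgroup P, A.Normal → IsMulCommutative A →
      ∃ S : Finset P, S.card ≤ k ∧ Subgroup.closure (S : Set P) = A) (H : Subgroup P) :
    ∃ S : Finset P, S.card ≤ k * (k + 4) / 4 ∧ Subgroup.closure (S : Set P) = H := by
  classical
  obtain ⟨E, hE⟩ := (Set.toFinite {A : Subgroup P | A.Normal ∧ IsElementaryAbelian p A}).exists_maximal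
    ⟨⊥, inferInstance, CfsgLib.PGroup.elemAb_bot p⟩
  have : E.Normal := hE.prop.1
  have hEe := hE.prop.2
  have hmem := CfsgLib.OddLocal.mem_of_centralizes_omega hp2 hP hEe
    (fun W hW hWe hle => le_antisymm (hE.le_of_ge ⟨hW, hWe⟩ hle) hle)
  let : CommGroup E := { (inferInstance : Group E) with
    mul_comm := fun a b => Subtype.ext (CfsgLib.PGroup.elemAb_comm hEe a.2 b.2) }
  have : Module (ZMod p) (Additive E) :=
    AddCommGroup.zmodModule fun v => congrArg Additive.ofMul (Subtype.ext (hEe.2 _ v.toMul.2) : v.toMul ^ p = 1)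
  obtain ⟨S, hS, hSg⟩ := hab E inferInstance hEe.1
  have hSsub : ∀ s ∈ S, s ∈ E := fun s hs => hSg ▸ Subgroup.subset_closure hs
  have hm : Module.finrank (ZMod p) (Additive E) ≤ k := by
    refine finrank_le_of_generators (fun x => Subtype.ext (hEe.2 _ x.2)) (S.attach.image fun s =>
      (⟨s.1, hSsub s.1 s.2⟩ : E)) (Finset.card_image_le.trans (by rw [Finset.card_attach]; exact hS)) ?_
    refine Subgroup.map_injective E.subtype_injective ?_
    rw [MonoidHom.map_closure, ← MonoidHom.range_eq_map, Subgroup.range_subtype]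
    refine (congrArg Subgroup.closure ?_).trans hSg
    ext x
    simp only [Finset.coe_image, Set.mem_image, Finset.mem_coe, Finset.mem_attach, true_and,
      Subgroup.coe_subtype, Subtype.exists]
    constructor
    · rintro ⟨y, hy, ⟨a, ha, he⟩, rfl⟩
      rw [show y = a from (congrArg Subtype.val he).symm]; exact ha
    · exact fun hx => ⟨x, hSsub x hx, ⟨x, hx, rfl⟩, rfl⟩
  let φ : H →* MulAut E := (MulAut.conjNormal (H := E)).comp H.subtype
  have hker : ∀ x : φ.ker, ((x : H) : P) ∈ Subgroup.centralizer (E : Set P) := by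
    intro x
    rw [Subgroup.mem_centralizer_iff]
    intro e he
    have h1 := DFunLike.congr_fun (MonoidHom.mem_ker.1 x.2) (⟨e, he⟩ : E)
    have h2 : ((x : H) : P) * e * ((x : H) : P)⁻¹ = e := by
      simpa [φ, MulAut.conjNormal_apply] using congrArg Subtype.val h1
    calc e * ((x : H) : P) = ((x : H) : P) * e * ((x : H) : P)⁻¹ * ((x : H) : P) := by rw [h2]
      _ = _ := inv_mul_cancel_right _ _
  have hkerΩ : ∀ x : φ.ker, x ^ p = 1 → ((x : H) : P) ∈ E := fun x hx =>
    hmem _ (hker x) (by simpa using congrArg (fun z : φ.ker => ((z : H) : P)) hx)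
  have hcardE : Nat.card E ≤ p ^ k := by
    have h1 : Nat.card (Additive E) = p ^ Module.finrank (ZMod p) (Additive E) := by
      rw [Module.natCard_eq_pow_finrank (K := ZMod p) (V := Additive E), Nat.card_zmod]
    rw [show Nat.card E = Nat.card (Additive E) from rfl, h1]
    exact Nat.pow_le_pow_right hp.out.pos hm
  have hk' : ∃ S : Finset φ.ker, S.card ≤ k ∧ Subgroup.closure (S : Set φ.ker) = ⊤ := by
    refine exists_generators_of_omega_central hp2 ((hP.to_subgroup H).to_subgroup _) ?_ ?_
    · intro x hx y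
      exact Subtype.ext (Subtype.ext
        (Subgroup.mem_centralizer_iff.1 (hker y) _ (hkerΩ x hx)))
    · refine le_trans (Nat.card_le_card_of_injective
        (fun x : {x : φ.ker // x ^ p = 1} => (⟨((x.1 : H) : P), hkerΩ x.1 x.2⟩ : E)) ?_) hcardE
      intro x y h
      exact Subtype.ext (Subtype.ext (Subtype.ext (congrArg (fun z : E => (z : P)) h)))
  -- the image
  let ι : φ.range →* Module.End (ZMod p) (Additive E) :=
    { toFun := fun g => (MonoidHom.toAdditive (g : MulAut E).toMonoidHom).toZModLinearMap p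
      map_one' := LinearMap.ext fun v => by simp
      map_mul' := fun g h => LinearMap.ext fun v => by simp }
  have hι : Function.Injective ι := by
    intro g h e
    refine Subtype.ext (MulEquiv.ext fun x => ?_)
    exact congrArg (fun f : Module.End (ZMod p) (Additive E) => (f (Additive.ofMul x)).toMul) e
  have hrange : IsPGroup p φ.range :=
    (hP.to_subgroup H).of_surjective φ.rangeRestrict φ.rangeRestrict_surjective
  obtain ⟨f, hf, huni⟩ := exists_uni_rep hrange ι hι
  obtain ⟨T, hT, hTg⟩ := exists_generators hrange f hf huni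
  have him : ∃ S : Finset φ.range, S.card ≤ k ^ 2 / 4 ∧ Subgroup.closure (S : Set φ.range) = ⊤ :=
    ⟨T, hT.trans (Nat.div_le_div_right (Nat.pow_le_pow_left hm 2)), hTg⟩
  obtain ⟨U, hU, hUg⟩ := exists_generators_of_hom φ hk' him
  refine ⟨U.image H.subtype, Finset.card_image_le.trans (hU.trans ?_), ?_⟩
  · have : k * (k + 4) = k ^ 2 + 4 * k := by ring
    rw [this]; omega
  · rw [Finset.coe_image, ← MonoidHom.map_closure, hUg, ← MonoidHom.range_eq_map, Subgroup.range_subtype]

end CfsgLib.PGroup.UniGen
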