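import Cfsg.Agent.Lib.Solvable.UniqueSubgroup
import Cfsg.Agent.Lib.PGroup.Basic
import Cfsg.Prelude

/-!
Pairs of normal subgroups with centres of order two in 2-groups of sectional rank at most four.
-/

set_option autoImplicit false

namespace CfsgLib.PGroup.RankFour

open Subgroup
open scoped Pointwise commutatorElement

variable {S : Type*} [Group S]

/-- A sectional rank bound controls elementary abelian images of embedded groups. -/
theorem card_le_of_hom {p k : ℕ} (h : Cfsg.SectionalPRankLE p k S) {X Y : Type*} [Group X] [Group Y]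
    (ι : X →* S) (hι : Function.Injective ι) (f : X →* Y) (A : Subgroup Y) (hA : A ≤ f.range)
    (hAc : IsMulCommutative A) (hAe : ∀ a ∈ A, a ^ p = 1) : Nat.card A ≤ p ^ k := by
  let e : X ≃* ι.range := MonoidHom.ofInjective hι
  let g : ι.range →* f.range := f.rangeRestrict.comp e.symm.toMonoidHom
  have hg : Function.Surjective g := f.rangeRestrict_surjective.comp e.symm.surjective
  let q : ι.range ⧸ g.ker ≃* f.range := QuotientGroup.quotientKerEquivOfSurjective g hg
  haveI := hAc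
  haveI : IsMulCommutative (A.subgroupOf f.range) :=
    ⟨⟨fun a b => Subtype.ext (Subtype.ext (show a.1.1 * b.1.1 = b.1.1 * a.1.1 from
      congrArg Subtype.val (mul_comm' (⟨a.1.1, a.2⟩ : A) ⟨b.1.1, b.2⟩)))⟩⟩
  refine le_of_eq_of_le ?_ (h ι.range g.ker ((A.subgroupOf f.range).map q.symm.toMonoidHom) inferInstance ?_)
  · rw [card_map_of_injective (f := q.symm.toMonoidHom) q.symm.injective,
      Nat.card_congr (subgroupOfEquivOfLe hA).toEquiv]
  · rintro _ ⟨a, ha, rfl⟩
    rw [← map_pow, show a ^ p = 1 from Subtype.ext (by rw [SubmonoidClass.coe_pow]; exact hAe _ ha), map_one]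

variable [Finite S]

/-- A generator of a centre of order two. -/
theorem exists_center_gen {P : Subgroup S} (hZ : Nat.card (center P) = 2) :
    ∃ z : S, z ∈ P ∧ z ≠ 1 ∧ z * z = 1 ∧ (∀ x ∈ P, x * z = z * x) ∧
      (∀ x ∈ P, (∀ y ∈ P, y * x = x * y) → x = 1 ∨ x = z) ∧
      (center P).map P.subtype = zpowers z := by
  obtain ⟨c, hc, huniq⟩ := (Nat.card_eq_two_iff' (1 : center P)).1 hZ
  have hcc : c * c = 1 := by
    have := pow_card_eq_one' (x := c)
    rwa [hZ, sq] at this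
  refine ⟨((c : P) : S), (c : P).2, fun h => hc (Subtype.ext (Subtype.ext h)),
    congrArg (fun t : center P => ((t : P) : S)) hcc,
    fun x hx => congrArg Subtype.val (mem_center_iff.1 c.2 ⟨x, hx⟩), fun x hx hall => ?_, ?_⟩
  · by_cases h1 : x = 1
    · exact Or.inl h1
    · refine Or.inr ?_
      have hm : (⟨x, hx⟩ : P) ∈ center P := mem_center_iff.2 fun y => Subtype.ext (hall y y.2)
      have := huniq ⟨_, hm⟩ fun h => h1 (congrArg (fun t : center P => ((t : P) : S)) h)
      exact congrArg (fun t : center P => ((t : P) : S)) this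
  · refine le_antisymm ?_ (zpowers_le.2 ⟨c, c.2, rfl⟩)
    rintro _ ⟨x, hx, rfl⟩
    by_cases h1 : x = 1
    · subst h1; simp [one_mem]
    · rw [show x = (c : P) from congrArg Subtype.val (huniq ⟨x, hx⟩ fun h => h1 (congrArg Subtype.val h))]
      exact mem_zpowers _

/-- A nontrivial subgroup of `P` normalized by `P` contains the centre generator. -/
theorem mem_of_invariant (h2 : IsPGroup 2 S) {P : Subgroup S} {z : S}
    (hcen : ∀ x ∈ P, (∀ y ∈ P, y * x = x * y) → x = 1 ∨ x = z) {W : Subgroup S} (hWP : W ≤ P)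
    (hW : W ≠ ⊥) (hn : ∀ g ∈ P, ∀ w ∈ W, g * w * g⁻¹ ∈ W) : z ∈ W := by
  haveI : Fact (Nat.Prime 2) := ⟨Nat.prime_two⟩
  haveI : (W.subgroupOf P).Normal := ⟨fun n hn' g => hn g g.2 n hn'⟩
  have hne : W.subgroupOf P ≠ ⊥ := fun h => hW (by
    rw [subgroupOf_eq_bot] at h
    exact disjoint_self.1 (h.mono_right hWP))
  obtain ⟨x, ⟨hxW, hxc⟩, hx1⟩ := (bot_or_exists_ne_one _).resolve_left
    (PGroup.inf_center_ne_bot (h2.to_subgroup P) (W.subgroupOf P) hne)
  rcases hcen x x.2 fun y hy => congrArg Subtype.val (mem_center_iff.1 hxc ⟨y, hy⟩) with e | e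
  · exact absurd (Subtype.ext e) hx1
  · exact e ▸ hxW

/-- The derived group of a nonabelian subgroup contains the centre generator. -/
theorem mem_commutator_self (h2 : IsPGroup 2 S) {P : Subgroup S} (hP : ¬ IsMulCommutative P) {z : S}
    (hcen : ∀ x ∈ P, (∀ y ∈ P, y * x = x * y) → x = 1 ∨ x = z) : z ∈ ⁅P, P⁆ := by
  refine mem_of_invariant h2 hcen (commutator_le.2 fun a ha b hb => ?_) (fun h => hP ?_) fun g hg w hw => ?_
  · rw [commutatorElement_def]
    exact mul_mem (mul_mem (mul_mem ha hb) (inv_mem ha)) (inv_mem hb)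
  · refine ⟨⟨fun a b => Subtype.ext (commutatorElement_eq_one_iff_mul_comm.1 ?_)⟩⟩
    exact h.le (commutator_mem_commutator a.2 b.2)
  · refine (?_ : ⁅P, P⁆.map (MulAut.conj g).toMonoidHom ≤ ⁅P, P⁆) ⟨w, hw, rfl⟩
    have hle : P.map (MulAut.conj g).toMonoidHom ≤ P := by
      rintro _ ⟨x, hx, rfl⟩
      show g * x * g⁻¹ ∈ P
      exact mul_mem (mul_mem hg hx) (inv_mem hg)
    rw [map_commutator]
    exact commutator_mono hle hle

/-- Two normal subgroups with different central involutions are independent. -/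
theorem inf_eq_bot (h2 : IsPGroup 2 S) {P Q K : Subgroup S} (hPK : P ≤ K) (hQK : Q ≤ K)
    (hnP : ∀ g ∈ K, ∀ x ∈ P, g * x * g⁻¹ ∈ P) (hnQ : ∀ g ∈ K, ∀ x ∈ Q, g * x * g⁻¹ ∈ Q) {z w : S}
    (hzP : z ∈ P) (hz1 : z ≠ 1) (hzc : ∀ x ∈ P, x * z = z * x)
    (hcenP : ∀ x ∈ P, (∀ y ∈ P, y * x = x * y) → x = 1 ∨ x = z)
    (hcenQ : ∀ x ∈ Q, (∀ y ∈ Q, y * x = x * y) → x = 1 ∨ x = w) (hne : z ≠ w) :
    P ⊓ Q = ⊥ ∧ (∀ x ∈ P, ∀ y ∈ Q, x * y = y * x) := by
  have hbot : P ⊓ Q = ⊥ := by
    by_contra hh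
    have hzQ : z ∈ Q := (mem_of_invariant h2 hcenP inf_le_left hh fun g hg x hx =>
      ⟨hnP g (hPK hg) x hx.1, hnQ g (hPK hg) x hx.2⟩).2
    have hall : ∀ y ∈ Q, y * z = z * y := by
      intro y hy
      have hfix : ∀ x ∈ P, x * (y * z * y⁻¹) = y * z * y⁻¹ * x := by
        intro x hx
        have h := hnP y⁻¹ (inv_mem (hQK hy)) x hx
        rw [inv_inv] at h
        calc x * (y * z * y⁻¹) = y * (y⁻¹ * x * y * z) * y⁻¹ := by group
          _ = y * (z * (y⁻¹ * x * y)) * y⁻¹ := by rw [hzc _ h]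
          _ = _ := by group
      rcases hcenP _ (hnP y (hQK hy) z hzP) hfix with e | e
      · exact absurd (conj_eq_one_iff.1 e) hz1
      · exact mul_inv_eq_iff_eq_mul.1 e
    rcases hcenQ z hzQ hall with e | e
    · exact hz1 e
    · exact hne e
  refine ⟨hbot, fun x hx y hy => commutatorElement_eq_one_iff_mul_comm.1 ?_⟩
  have hm : ⁅x, y⁆ ∈ P ⊓ Q := by
    rw [commutatorElement_def]
    refine ⟨show _ ∈ P from ?_, show _ ∈ Q from ?_⟩
    · rw [show x * y * x⁻¹ * y⁻¹ = x * (y * x⁻¹ * y⁻¹) by group]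
      exact mul_mem hx (hnP y (hQK hy) _ (inv_mem hx))
    · exact mul_mem (hnQ x (hPK hx) y hy) (inv_mem hy)
  rwa [hbot, mem_bot] at hm

omit [Finite S] in
/-- Membership in a product with a normalizing subgroup. -/
theorem exists_mul_of_mem_sup {H K : Subgroup S} (hLE : K ≤ normalizer (H : Set S)) {r : S} (hr : r ∈ H ⊔ K) :
    ∃ a ∈ H, ∃ b ∈ K, a * b = r := by
  rw [← SetLike.mem_coe, sup_comm, coe_mul_of_left_le_normalizer_right K H hLE,
    set_mul_normalizer_comm (K : Set S) H hLE] at hr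
  exact Set.mem_mul.1 hr

/-- The product contains its centralizer. -/
theorem centralizer_le (h2 : IsPGroup 2 S) (hr : Cfsg.SectionalPRankLE 2 4 S) {P Q K : Subgroup S}
    (hPna : ¬ IsMulCommutative P) (hQna : ¬ IsMulCommutative Q) {z w : S} (hzP : z ∈ P) (hwQ : w ∈ Q)
    (hcenP : ∀ x ∈ P, (∀ y ∈ P, y * x = x * y) → x = 1 ∨ x = z)
    (hcenQ : ∀ x ∈ Q, (∀ y ∈ Q, y * x = x * y) → x = 1 ∨ x = w)
    (hbot : P ⊓ Q = ⊥) (hcomm : ∀ x ∈ P, ∀ y ∈ Q, x * y = y * x) :
    centralizer ((P ⊔ Q : Subgroup S) : Set S) ⊓ K ≤ P ⊔ Q := by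
  haveI : Fact (Nat.Prime 2) := ⟨Nat.prime_two⟩
  intro g hg
  by_contra hgR
  obtain ⟨j, hj, hj'⟩ := Solvable.exists_notMem_pow_mem h2 hgR
  set x := g ^ 2 ^ j with hx
  have hxc : ∀ a ∈ P ⊔ Q, x * a = a * x := fun a ha =>
    (mem_centralizer_iff.1 (pow_mem hg.1 (2 ^ j)) a ha).symm
  have hxP : ∀ a ∈ P, x * a = a * x := fun a ha => hxc a (mem_sup_left ha)
  have hxQ : ∀ a ∈ Q, x * a = a * x := fun a ha => hxc a (mem_sup_right ha)
  -- the map from `P × Q × ⟨x⟩`
  have hPQ : ∀ r, r ∈ P ⊔ Q → ∃ a ∈ P, ∃ b ∈ Q, a * b = r := by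
    intro r hr'
    exact exists_mul_of_mem_sup (fun q hq => centralizer_le_normalizer _ fun a ha => hcomm a ha q hq) hr'
  set T := P ⊔ Q ⊔ zpowers x
  have hT : ∀ r, r ∈ T → ∃ a ∈ P, ∃ b ∈ Q, ∃ i : ℤ, a * b * x ^ i = r := by
    intro r hr'
    obtain ⟨u, hu, v, hv, rfl⟩ := exists_mul_of_mem_sup (H := P ⊔ Q) (K := zpowers x)
      (fun q hq => centralizer_le_normalizer _ fun a ha => by
        obtain ⟨i, rfl⟩ := mem_zpowers_iff.1 hq
        exact ((show Commute x a from hxc a ha).zpow_left i).symm.eq) hr'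
    obtain ⟨a, ha, b, hb, rfl⟩ := hPQ u hu
    obtain ⟨i, rfl⟩ := mem_zpowers_iff.1 hv
    exact ⟨a, ha, b, hb, i, rfl⟩
  set F1 := (frattini P).map P.subtype
  set F2 := (frattini Q).map Q.subtype
  set N := F1 ⊔ F2
  have hPp := h2.to_subgroup P
  have hQp := h2.to_subgroup Q
  have hF1c : ∀ a ∈ P, ∀ b ∈ P, a * b * a⁻¹ * b⁻¹ ∈ F1 := fun a ha b hb =>
    ⟨⁅(⟨a, ha⟩ : P), ⟨b, hb⟩⁆, PGroup.commutator_le_frattini hPp
      (commutator_mem_commutator (mem_top _) (mem_top _)), rfl⟩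
  have hF2c : ∀ a ∈ Q, ∀ b ∈ Q, a * b * a⁻¹ * b⁻¹ ∈ F2 := fun a ha b hb =>
    ⟨⁅(⟨a, ha⟩ : Q), ⟨b, hb⟩⁆, PGroup.commutator_le_frattini hQp
      (commutator_mem_commutator (mem_top _) (mem_top _)), rfl⟩
  have hF1s : ∀ a ∈ P, a * a ∈ F1 := fun a ha =>
    ⟨⟨a, ha⟩ ^ 2, PGroup.pow_mem_frattini hPp _, by simp [sq]⟩
  have hF2s : ∀ a ∈ Q, a * a ∈ F2 := fun a ha =>
    ⟨⟨a, ha⟩ ^ 2, PGroup.pow_mem_frattini hQp _, by simp [sq]⟩
  have hzF : z ∈ F1 := by
    refine (commutator_le.2 fun a ha b hb => ?_ : ⁅P, P⁆ ≤ F1) (mem_commutator_self h2 hPna hcenP)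
    rw [commutatorElement_def]; exact hF1c a ha b hb
  have hwF : w ∈ F2 := by
    refine (commutator_le.2 fun a ha b hb => ?_ : ⁅Q, Q⁆ ≤ F2) (mem_commutator_self h2 hQna hcenQ)
    rw [commutatorElement_def]; exact hF2c a ha b hb
  have hN1 : F1 ≤ N := le_sup_left
  have hN2 : F2 ≤ N := le_sup_right
  -- the square of `x`
  have hxx : x * x ∈ N := by
    rw [← sq, hx]
    obtain ⟨a, ha, b, hb, hab⟩ := hPQ _ (by exact hj')
    rw [← hab]
    have hxx' : a * b = x * x := by rw [hab, hx, sq]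
    refine mul_mem ?_ ?_
    · have hall : ∀ y ∈ P, y * a = a * y := by
        intro y hy
        have e : a = x * x * b⁻¹ := by rw [← hxx']; group
        have c2 : Commute y b⁻¹ := (show Commute y b from hcomm y hy b hb).inv_right
        have c1 : Commute y x := (hxP y hy).symm
        rw [e]
        exact ((c1.mul_right c1).mul_right c2).eq
      rcases hcenP a ha hall with e | e <;> rw [e]
      · exact one_mem _
      · exact hN1 hzF
    · have hall : ∀ y ∈ Q, y * b = b * y := by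
        intro y hy
        have e : b = a⁻¹ * (x * x) := by rw [← hxx']; group
        have c2 : Commute y a⁻¹ := (show Commute y a from (hcomm a ha y hy).symm).inv_right
        have c1 : Commute y x := (hxQ y hy).symm
        rw [e]
        exact (c2.mul_right (c1.mul_right c1)).eq
      rcases hcenQ b hb hall with e | e <;> rw [e]
      · exact one_mem _
      · exact hN2 hwF
  have hNT : N ≤ T := sup_le ((map_subtype_le _).trans (le_sup_left.trans le_sup_left))
    ((map_subtype_le _).trans (le_sup_right.trans le_sup_left))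
  have hcomT : ∀ r ∈ T, ∀ r' ∈ T, r * r' * r⁻¹ * r'⁻¹ ∈ N := by
    intro r hr' r' hr''
    obtain ⟨a, ha, b, hb, i, rfl⟩ := hT r hr'
    obtain ⟨a', ha', b', hb', i', rfl⟩ := hT r' hr''
    have k1 : Commute (x ^ i) (a' * b') := ((show Commute x (a' * b') from
      hxc _ (mul_mem (mem_sup_left ha') (mem_sup_right hb'))).zpow_left i)
    have k2 : Commute (x ^ i') (a * b) := ((show Commute x (a * b) from
      hxc _ (mul_mem (mem_sup_left ha) (mem_sup_right hb))).zpow_left i')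
    have k3 : Commute (x ^ i) (x ^ i') := (Commute.refl x).zpow_zpow i i'
    have e1 : a * b * x ^ i * (a' * b' * x ^ i') * (a * b * x ^ i)⁻¹ * (a' * b' * x ^ i')⁻¹ =
        a * b * (a' * b') * (a * b)⁻¹ * (a' * b')⁻¹ := by
      calc _ = a * b * (x ^ i * (a' * b')) * x ^ i' * (x ^ i)⁻¹ * (a * b)⁻¹ * (x ^ i')⁻¹ * (a' * b')⁻¹ := by group
        _ = a * b * (a' * b') * (x ^ i * x ^ i') * (x ^ i)⁻¹ * (a * b)⁻¹ * (x ^ i')⁻¹ * (a' * b')⁻¹ := by
            rw [k1.eq]; group
        _ = a * b * (a' * b') * (x ^ i' * (a * b)⁻¹) * (x ^ i')⁻¹ * (a' * b')⁻¹ := by rw [k3.eq]; group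
        _ = _ := by rw [(k2.inv_right).eq]; group
    have e2 : a * b * (a' * b') * (a * b)⁻¹ * (a' * b')⁻¹ =
        (a * a' * a⁻¹ * a'⁻¹) * (b * b' * b⁻¹ * b'⁻¹) := by
      have c1 : Commute a' b := hcomm a' ha' b hb
      have c3 : Commute a⁻¹ (b * b' * b⁻¹) :=
        ((show Commute a b from hcomm a ha b hb).mul_right (hcomm a ha b' hb')).mul_right
          (show Commute a b from hcomm a ha b hb).inv_right |>.inv_left
      have c4 : Commute a'⁻¹ (b * b' * b⁻¹ * b'⁻¹) :=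
        (((show Commute a' b from hcomm a' ha' b hb).mul_right (hcomm a' ha' b' hb')).mul_right
          (show Commute a' b from hcomm a' ha' b hb).inv_right |>.mul_right
          (show Commute a' b' from hcomm a' ha' b' hb').inv_right).inv_left
      calc _ = a * (b * a') * b' * b⁻¹ * a⁻¹ * b'⁻¹ * a'⁻¹ := by group
        _ = a * a' * ((b * b' * b⁻¹) * a⁻¹) * b'⁻¹ * a'⁻¹ := by rw [← c1.eq]; group
        _ = a * a' * a⁻¹ * ((b * b' * b⁻¹ * b'⁻¹) * a'⁻¹) := by rw [← c3.eq]; group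
        _ = _ := by rw [← c4.eq]; group
    rw [e1, e2]
    exact mul_mem (hN1 (hF1c a ha a' ha')) (hN2 (hF2c b hb b' hb'))
  haveI hNn : (N.subgroupOf T).Normal := ⟨fun n hn t => by
    rw [mem_subgroupOf] at hn ⊢
    push_cast
    rw [show (t : S) * n * (t : S)⁻¹ = ((t : S) * n * (t : S)⁻¹ * (n : S)⁻¹) * n by group]
    exact mul_mem (hcomT t t.2 n n.2) hn⟩
  set π := QuotientGroup.mk' (N.subgroupOf T)
  have hcard := card_le_of_hom hr T.subtype T.subtype_injective π ⊤
    (by rw [MonoidHom.range_eq_top.2 (QuotientGroup.mk'_surjective _)]) ⟨⟨fun u v => Subtype.ext ?_⟩⟩ fun u _ => ?_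
  rotate_left
  · show u.1 * v.1 = v.1 * u.1
    obtain ⟨r, hr'⟩ := QuotientGroup.mk'_surjective (N.subgroupOf T) u.1
    obtain ⟨r', hr''⟩ := QuotientGroup.mk'_surjective (N.subgroupOf T) v.1
    rw [← hr', ← hr'', ← commutatorElement_eq_one_iff_mul_comm, ← map_commutatorElement]
    exact (QuotientGroup.eq_one_iff _).2 (hcomT r r.2 r' r'.2)
  · obtain ⟨r, rfl⟩ := QuotientGroup.mk'_surjective (N.subgroupOf T) u
    rw [← map_pow, sq]
    refine (QuotientGroup.eq_one_iff _).2 ?_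
    show (r : S) * r ∈ N
    obtain ⟨a, ha, b, hb, i, e⟩ := hT r r.2
    rw [← e]
    have k1 : Commute (x ^ i) (a * b) := ((show Commute x (a * b) from
      hxc _ (mul_mem (mem_sup_left ha) (mem_sup_right hb))).zpow_left i)
    have k2 : Commute b a := (hcomm a ha b hb).symm
    rw [show a * b * x ^ i * (a * b * x ^ i) = a * b * (x ^ i * (a * b)) * x ^ i by group, k1.eq,
      show a * b * (a * b * x ^ i) * x ^ i = a * (b * a) * b * (x ^ i * x ^ i) by group, k2.eq,
      show a * (a * b) * b = a * a * (b * b) by group, ← zpow_add, ← two_mul, zpow_mul,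
      show x ^ (2 : ℤ) = x * x from zpow_two x]
    exact mul_mem (mul_mem (hN1 (hF1s a ha)) (hN2 (hF2s b hb))) (zpow_mem hxx i)
  -- count
  rw [card_top, ← index_eq_card] at hcard
  have hRT : 2 * Nat.card (P ⊔ Q : Subgroup S) ≤ Nat.card T := by
    have hlt : P ⊔ Q ≠ T := fun h => hj (h.ge (mem_sup_right (mem_zpowers x)))
    obtain ⟨c, hc⟩ := card_dvd_of_le (le_sup_left : P ⊔ Q ≤ T)
    have h0 : c ≠ 0 := fun e => by rw [e, mul_zero] at hc; exact Nat.card_pos.ne' hc
    have h1 : c ≠ 1 := fun e => hlt (eq_of_le_of_card_ge le_sup_left (by rw [hc, e, mul_one]))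
    rw [hc, mul_comm]
    exact Nat.mul_le_mul_left _ (by omega)
  have hR : Nat.card P * Nat.card Q ≤ Nat.card (P ⊔ Q : Subgroup S) := by
    rw [← Nat.card_prod]
    refine Nat.card_le_card_of_injective
      (fun z : P × Q => (⟨(z.1 : S) * z.2, mul_mem (mem_sup_left z.1.2) (mem_sup_right z.2.2)⟩ :
        (P ⊔ Q : Subgroup S))) fun u v h => ?_
    have h' : (u.1 : S) * u.2 = v.1 * v.2 := congrArg Subtype.val h
    have h3 : (v.1 : S)⁻¹ * u.1 = v.2 * (u.2 : S)⁻¹ := by
      rw [inv_mul_eq_iff_eq_mul, ← mul_assoc, ← h']; group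
    have h4 : (v.1 : S)⁻¹ * u.1 ∈ P ⊓ Q :=
      ⟨show _ ∈ P from mul_mem (inv_mem v.1.2) u.1.2, show _ ∈ Q by rw [h3]; exact mul_mem v.2.2 (inv_mem u.2.2)⟩
    rw [hbot, mem_bot, inv_mul_eq_one] at h4
    rw [h4] at h'
    exact Prod.ext (Subtype.ext h4.symm) (Subtype.ext (mul_left_cancel h'))
  have hNc : Nat.card N ≤ Nat.card (frattini P) * Nat.card (frattini Q) := by
    rw [← Nat.card_prod]
    have hc : ∀ a : frattini P, ∀ b : frattini Q, Commute ((a : P) : S) ((b : Q) : S) := fun a b =>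
      hcomm _ a.1.2 _ b.1.2
    let φ : frattini P × frattini Q →* S := MonoidHom.noncommCoprod (P.subtype.comp (frattini P).subtype)
      (Q.subtype.comp (frattini Q).subtype) hc
    have hle : N ≤ φ.range := by
      refine sup_le ?_ ?_
      · rintro _ ⟨a, ha, rfl⟩
        exact ⟨(⟨a, ha⟩, 1), show (a : S) * ((1 : Q) : S) = (a : S) by rw [Subgroup.coe_one, mul_one]⟩
      · rintro _ ⟨a, ha, rfl⟩
        exact ⟨(1, ⟨a, ha⟩), show ((1 : P) : S) * (a : S) = (a : S) by rw [Subgroup.coe_one, one_mul]⟩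
    refine (Nat.le_of_dvd Nat.card_pos (card_dvd_of_le hle)).trans ?_
    exact Nat.card_le_card_of_surjective φ.rangeRestrict φ.rangeRestrict_surjective
  have h4 : ∀ (X : Subgroup S), ¬ IsMulCommutative X → 4 * Nat.card (frattini X) ≤ Nat.card X := by
    intro X hX
    have hXp := h2.to_subgroup X
    obtain ⟨i, hi⟩ := hXp.index (frattini X)
    have h2' : 2 ≤ i := by
      by_contra hi'
      refine hX ?_
      have hcyc : IsCyclic X := by
        rcases subsingleton_or_nontrivial X with h | h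
        · exact isCyclic_of_subsingleton
        obtain ⟨y, hy⟩ := SetLike.exists_not_mem_of_ne_top _ (PGroup.frattini_ne_top hXp)
        have htop : zpowers y ⊔ frattini X = ⊤ := by
          by_contra hne
          have hlt : frattini X < zpowers y ⊔ frattini X :=
            lt_of_le_of_ne le_sup_right fun e => hy (e.ge (mem_sup_left (mem_zpowers y)))
          have h1 := relIndex_mul_index hlt.le
          have ha : (frattini X).relIndex (zpowers y ⊔ frattini X) ≠ 1 := fun e => hlt.not_ge (relIndex_eq_one.1 e)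
          have hb : (zpowers y ⊔ frattini X).index ≠ 1 := fun e => hne (index_eq_one.1 e)
          have hle : (frattini X).index ≤ 2 := by
            rw [hi]
            exact (Nat.pow_le_pow_right (by norm_num) (show i ≤ 1 by omega)).trans (by norm_num)
          have := (index_ne_zero_of_finite (H := zpowers y ⊔ frattini X))
          have hc0 : (frattini X).relIndex (zpowers y ⊔ frattini X) ≠ 0 :=
            index_ne_zero_of_finite (H := (frattini X).subgroupOf _)
          nlinarith [Nat.two_le_iff _ |>.2 ⟨this, hb⟩, Nat.two_le_iff _ |>.2 ⟨hc0, ha⟩]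
        exact ⟨⟨y, fun v => (PGroup.eq_top_of_sup_frattini htop).ge (mem_top v)⟩⟩
      exact ⟨⟨fun a b => by letI := IsCyclic.commGroup (α := X); exact mul_comm a b⟩⟩
    rw [← (frattini X).card_mul_index, hi, mul_comm]
    refine Nat.mul_le_mul_left _ ?_
    calc 4 = 2 ^ 2 := rfl
      _ ≤ 2 ^ i := Nat.pow_le_pow_right (by norm_num) h2'
  have hidx := (N.subgroupOf T).card_mul_index
  rw [Nat.card_congr (subgroupOfEquivOfLe hNT).toEquiv] at hidx
  have h5 := Nat.mul_le_mul (h4 P hPna) (h4 Q hQna)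
  have hpos : 0 < Nat.card N := Nat.card_pos
  have h6 : 32 * Nat.card N ≤ Nat.card T := by
    calc 32 * Nat.card N ≤ 2 * (16 * (Nat.card (frattini P) * Nat.card (frattini Q))) := by linarith [hNc]
      _ ≤ 2 * (Nat.card P * Nat.card Q) := by linarith [h5]
      _ ≤ _ := by linarith [hR, hRT]
  rw [← hidx] at h6
  nlinarith

end CfsgLib.PGroup.RankFour
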