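import Mathlib
import Cfsg.Prelude.Def_Transfer
import Cfsg.Prelude.Def_CaseTheorems
import Cfsg.Agent.Lib.PGroup.MinimalAction

/-!
An element of order `3 ^ n` acting faithfully and without fixed points on a 2-group all of whose abelian
subgroups have rank at most two has order 3.
-/

set_option autoImplicit false

open scoped commutatorElement

namespace CfsgLib.PGroup.RankTwo

/-- A group of class two with a four-group `D` covering squares and of order at least `2 ^ 8`
has an involution outside `D`. -/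
theorem exists_involution {R : Type*} [Group R] [Finite R] (D : Subgroup R) (hcen : D ≤ Subgroup.center R)
    (hD : Nat.card D = 4) (hsq : ∀ x : R, x ^ 2 ∈ D) (hDe : ∀ d ∈ D, d ^ 2 = 1) (hR : 2 ^ 8 ≤ Nat.card R) :
    ∃ x, x ∉ D ∧ x ^ 2 = 1 := by
  classical
  by_contra hno
  push Not at hno
  have hcm : ∀ d ∈ D, ∀ x : R, x * d = d * x := fun d hd x => Subgroup.mem_center_iff.1 (hcen hd) x
  haveI hDn : D.Normal := ⟨fun d hd g => by rwa [hcm d hd g, mul_inv_cancel_right]⟩
  have hcomm : ∀ x y : R, x * y * x⁻¹ * y⁻¹ ∈ D := fun x y => by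
    have hA : ∀ u : R ⧸ D, u * u = 1 := fun u => by
      obtain ⟨u, rfl⟩ := QuotientGroup.mk'_surjective D u
      rw [← map_mul, QuotientGroup.mk'_apply, QuotientGroup.eq_one_iff, ← pow_two]; exact hsq u
    have hinv : ∀ u : R ⧸ D, u⁻¹ = u := fun u => inv_eq_of_mul_eq_one_left (hA u)
    rw [← QuotientGroup.eq_one_iff, ← QuotientGroup.mk'_apply, map_mul, map_mul, map_mul, map_inv, map_inv,
      hinv, hinv, mul_assoc _ _ (QuotientGroup.mk' D y)]
    exact hA _
  let hom : R → (R →* D) := fun x => MonoidHom.mk' (fun q => ⟨x * q * x⁻¹ * q⁻¹, hcomm x q⟩) fun q r => by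
    refine Subtype.ext ?_
    show x * (q * r) * x⁻¹ * (q * r)⁻¹ = x * q * x⁻¹ * q⁻¹ * (x * r * x⁻¹ * r⁻¹)
    have h := hcm _ (hcomm x r) q
    calc x * (q * r) * x⁻¹ * (q * r)⁻¹ = x * q * x⁻¹ * ((x * r * x⁻¹ * r⁻¹) * q⁻¹) := by group
      _ = x * q * x⁻¹ * (q⁻¹ * (x * r * x⁻¹ * r⁻¹)) := by rw [hcm _ (hcomm x r) q⁻¹]
      _ = _ := by group
  -- pairs of commuting elements outside `D`
  have hfin : ∀ T : Set R, T.Finite := fun T => T.toFinite
  obtain ⟨x, hx⟩ : ∃ x, x ∉ D := by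
    by_contra h
    push Not at h
    rw [(Subgroup.eq_top_iff' D).2 h, Subgroup.card_top] at hD; omega
  set C := (hom x).ker with hC
  have hmemC : ∀ y, y ∈ C ↔ x * y = y * x := fun y => by
    rw [hC, MonoidHom.mem_ker, Subtype.ext_iff]
    show x * y * x⁻¹ * y⁻¹ = 1 ↔ _
    rw [mul_inv_eq_one, mul_inv_eq_iff_eq_mul]
  have hCcard : 64 ≤ Nat.card C := by
    have h1 := C.card_mul_index
    have h2 : C.index ≤ 4 := by
      rw [hC, Subgroup.index_ker, ← hD]
      exact Nat.card_le_card_of_injective Subtype.val Subtype.val_injective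
    nlinarith
  set B := Subgroup.zpowers (x ^ 2) with hB
  have hBD : B ≤ D := Subgroup.zpowers_le.2 (hsq x)
  have hB2 : Nat.card B = 2 := by
    rw [hB, Nat.card_zpowers]
    exact orderOf_eq_prime (hDe _ (hsq x)) (hno x hx)
  set S1 : Set R := (D : Set R) ∪ (x * ·) '' (D : Set R) with hS1
  have hDn4 : (D : Set R).ncard = 4 := by rw [← Nat.card_coe_set_eq, SetLike.coe_sort_coe, hD]
  have hS1c : S1.ncard ≤ 8 := by
    have h1 := Set.ncard_union_le (D : Set R) ((x * ·) '' (D : Set R))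
    have h2 := Set.ncard_image_le (f := (x * ·)) (s := (D : Set R))
    rw [hS1]; omega
  -- a commuting element outside `S1` squares outside `B`
  have hsqB : ∀ y ∈ C, y ∉ S1 → y ^ 2 ∉ B := by
    intro y hy hyS hyB
    have hyD : y ∉ D := fun h => hyS (Or.inl h)
    have hxyD : x * y ∉ D := fun h => hyS (Or.inr ⟨(x ^ 2)⁻¹ * (x * y), mul_mem (inv_mem (hsq x)) h, by
      show x * ((x ^ 2)⁻¹ * (x * y)) = y
      rw [pow_two]; group⟩)
    have hz2 : x ^ 2 * x ^ 2 = 1 := by rw [← pow_two]; exact hDe _ (hsq x)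
    obtain ⟨i, hi⟩ := Subgroup.mem_zpowers_iff.1 hyB
    rcases Int.even_or_odd i with ⟨c, rfl⟩ | ⟨c, rfl⟩
    · refine hno y hyD ?_
      rw [← hi, ← two_mul, zpow_mul, zpow_two, hz2, one_zpow]
    · refine hno (x * y) hxyD ?_
      rw [zpow_add_one, zpow_mul, zpow_two, hz2, one_zpow, one_mul] at hi
      rw [(show Commute x y from (hmemC y).1 hy).mul_pow, ← hi, hz2]
  obtain ⟨y1, hy1, hy1S⟩ : ∃ y ∈ C, y ∉ S1 := by
    by_contra h
    push Not at h
    have := Set.ncard_le_ncard (show (C : Set R) ⊆ S1 from h) (hfin _)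
    rw [← Nat.card_coe_set_eq, SetLike.coe_sort_coe] at this
    omega
  set BD := B.subgroupOf D with hBD'
  haveI : BD.Normal := ⟨fun b hb g => by
    have h : (g * b * g⁻¹ : D) = b := Subtype.ext (by
      push_cast
      rw [hcm _ b.2 (g : R), mul_inv_cancel_right])
    rw [h]; exact hb⟩
  set K := C ⊓ ((QuotientGroup.mk' BD).comp (hom y1)).ker with hK
  have hKcard : 32 ≤ Nat.card K := by
    have hrel : K.relIndex C ≤ 2 := by
      rw [hK, Subgroup.inf_relIndex_left, Subgroup.relIndex]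
      refine le_trans (Nat.le_of_eq (show (((QuotientGroup.mk' BD).comp (hom y1)).ker.subgroupOf C).index =
        (((QuotientGroup.mk' BD).comp (hom y1)).comp C.subtype).ker.index from rfl)) ?_
      rw [Subgroup.index_ker]
      refine le_trans (Nat.card_le_card_of_injective Subtype.val Subtype.val_injective) ?_
      have h1 := BD.card_mul_index
      rw [hBD', Nat.card_congr (Subgroup.subgroupOfEquivOfLe hBD).toEquiv, hB2, hD] at h1
      rw [← Subgroup.index_eq_card, hBD']; omega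
    have h1 : Nat.card K * K.relIndex C = Nat.card C := by
      have h := (K.subgroupOf C).card_mul_index
      rwa [Nat.card_congr (Subgroup.subgroupOfEquivOfLe (inf_le_left : K ≤ C)).toEquiv] at h
    nlinarith
  obtain ⟨y2, hy2, hy2S⟩ : ∃ y ∈ K, y ∉ S1 ∪ (y1 * ·) '' S1 := by
    by_contra h
    push Not at h
    have := Set.ncard_le_ncard (show (K : Set R) ⊆ S1 ∪ (y1 * ·) '' S1 from h) (hfin _)
    rw [← Nat.card_coe_set_eq, SetLike.coe_sort_coe] at this
    have h1 := Set.ncard_union_le S1 ((y1 * ·) '' S1)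
    have h2 := Set.ncard_image_le (f := (y1 * ·)) (s := S1)
    omega
  rw [Set.mem_union, not_or] at hy2S
  -- the product has square in `B`
  have hprod : y1 * y2 ∉ S1 := by
    intro h
    refine hy2S.2 ⟨(y1 ^ 2)⁻¹ * (y1 * y2), ?_, ?_⟩
    · rcases h with h | ⟨d, hd, he⟩
      · exact Or.inl (mul_mem (inv_mem (hsq y1)) h)
      · refine Or.inr ⟨(y1 ^ 2)⁻¹ * d, mul_mem (inv_mem (hsq y1)) hd, ?_⟩
        show x * ((y1 ^ 2)⁻¹ * d) = _
        rw [← mul_assoc, hcm _ (inv_mem (hsq y1)) x, mul_assoc]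
        exact congrArg _ he
    · show y1 * ((y1 ^ 2)⁻¹ * (y1 * y2)) = y2
      rw [pow_two]; group
  have hbd : y1 * y2 * y1⁻¹ * y2⁻¹ ∈ B := by
    have h2 : QuotientGroup.mk' BD (hom y1 y2) = 1 := hy2.2
    rw [QuotientGroup.mk'_apply, QuotientGroup.eq_one_iff, hBD', Subgroup.mem_subgroupOf] at h2
    exact h2
  refine hsqB _ (mul_mem hy1 hy2.1) hprod ?_
  have h1 := hsqB y1 hy1 hy1S
  have h2 := hsqB y2 hy2.1 hy2S.1
  -- two elements of `D` outside `B` have product in `B`
  have hidx : (B.subgroupOf D).index = 2 := by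
    have h := (B.subgroupOf D).card_mul_index
    rw [Nat.card_congr (Subgroup.subgroupOfEquivOfLe hBD).toEquiv, hB2, hD] at h
    omega
  have h12 : y1 ^ 2 * y2 ^ 2 ∈ B :=
    (Subgroup.mul_mem_iff_of_index_two hidx (a := (⟨y1 ^ 2, hsq y1⟩ : D)) (b := ⟨y2 ^ 2, hsq y2⟩)).2
      (iff_of_false h1 h2)
  have e : (y1 * y2) ^ 2 = (y1 * y2 * y1⁻¹ * y2⁻¹)⁻¹ * (y1 ^ 2 * y2 ^ 2) := by
    have hc := hcm _ (inv_mem (hcomm y1 y2)) y1
    calc (y1 * y2) ^ 2 = y1 * ((y1 * y2 * y1⁻¹ * y2⁻¹)⁻¹ * y1) * y2 * y2 := by rw [pow_two]; group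
      _ = (y1 * ((y1 * y2 * y1⁻¹ * y2⁻¹)⁻¹)) * y1 * y2 * y2 := by group
      _ = (y1 * y2 * y1⁻¹ * y2⁻¹)⁻¹ * (y1 ^ 2 * y2 ^ 2) := by rw [hc, pow_two, pow_two]; group
  rw [e]
  exact mul_mem (inv_mem hbd) h12

theorem main {X : Type*} [Group X] [Finite X] (d : X) (n : ℕ) (hn : 2 ≤ n) (hd : orderOf d = 3 ^ n)
    (P : Subgroup X) (hP : IsPGroup 2 P) (hdP : d ∈ Subgroup.normalizer (P : Set X))
    (hfaith : Subgroup.zpowers d ⊓ Subgroup.centralizer (P : Set X) = ⊥)
    (hfpf : P ⊓ Subgroup.centralizer {d} = ⊥)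
    (hrank : ∀ V : Subgroup X, V ≤ P → (∀ a ∈ V, a ^ 2 = 1) → Nat.card V ≤ 4) : False := by
  classical
  obtain ⟨k, rfl⟩ : ∃ k, n = k + 2 := ⟨n - 2, by omega⟩
  set e := d ^ 3 ^ k with he
  have heo : orderOf e = 9 := by
    rw [he, orderOf_pow_of_dvd (pow_ne_zero _ (by norm_num)) (hd ▸ pow_dvd_pow 3 (by omega)), hd, pow_add,
      Nat.mul_div_cancel_left _ (pow_pos (by norm_num) k)]
    rfl
  set w := e ^ 3 with hw
  have hwo : orderOf w = 3 := by
    rw [hw, orderOf_pow_of_dvd (by norm_num) (by rw [heo]; norm_num), heo]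
  set A := Subgroup.zpowers w with hA
  set B := Subgroup.zpowers d with hB
  have hAB : A ≤ B := Subgroup.zpowers_le.2 (pow_mem (pow_mem (Subgroup.mem_zpowers d) _) _)
  have hBA : B ≤ Subgroup.normalizer (A : Set X) := by
    refine le_trans ?_ (Subgroup.centralizer_le_normalizer _)
    rw [hA, Subgroup.zpowers_eq_closure, Subgroup.centralizer_closure, hB, Subgroup.zpowers_le, Subgroup.mem_centralizer_singleton_iff]
    exact (Commute.pow_right (Commute.pow_right (Commute.refl d) _) _).eq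
  -- a minimal subgroup
  let Pr : Subgroup X → Prop := fun Q => Q ≤ P ∧ B ≤ Subgroup.normalizer (Q : Set X) ∧
    ¬ Q ≤ Subgroup.centralizer (A : Set X)
  obtain ⟨Q, hQ⟩ := Set.Finite.exists_minimal (Set.toFinite {Q : Subgroup X | Pr Q}) ⟨P, le_rfl, Subgroup.zpowers_le.2 hdP,
    fun h => by
      have h1 : w ∈ Subgroup.centralizer (P : Set X) :=
        (Subgroup.le_centralizer_iff.1 h) (Subgroup.mem_zpowers w)
      have h2 : w ∈ (⊥ : Subgroup X) := hfaith ▸ ⟨hAB (Subgroup.mem_zpowers w), h1⟩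
      rw [Subgroup.mem_bot] at h2
      rw [h2, orderOf_one] at hwo; omega⟩
  obtain ⟨⟨hQP, hBQ, hQA⟩, hmin⟩ := hQ
  have hQ2 : IsPGroup 2 Q := hP.to_le hQP
  have hcop : (Nat.card A).Coprime (Nat.card Q) := by
    haveI : Fact (Nat.Prime 2) := ⟨Nat.prime_two⟩
    obtain ⟨a, ha⟩ := IsPGroup.iff_card.1 hQ2
    rw [hA, Nat.card_zpowers, hwo, ha]
    exact Nat.Coprime.pow_right a (by decide)
  haveI : Fact (Nat.Prime 2) := ⟨Nat.prime_two⟩
  obtain ⟨-, hDQ, hfix, hsq, hDe⟩ := CfsgLib.PGroup.minimal_action_of_normalizing hQ2 hAB hBQ hBA hcop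
    (fun K hK hBK => by
      by_contra h
      exact hK.not_ge (hmin ⟨hK.le.trans hQP, hBK, h⟩ hK.le)) hQA
  set D := ⁅Q, Q⁆ with hD
  have hDle : D ≤ Q := Subgroup.commutator_le.2 fun a ha b hb =>
    mul_mem (mul_mem (mul_mem ha hb) (inv_mem ha)) (inv_mem hb)
  have hBD : B ≤ Subgroup.normalizer (D : Set X) :=
    (le_inf hBQ hBQ).trans (CfsgLib.Solvable.normalizer_le_normalizer_commutator Q Q)
  have hD4 : Nat.card D ≤ 4 := hrank D (hDle.trans hQP) hDe
  have hD2 : IsPGroup 2 D := hQ2.to_le hDle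
  -- `d` fixes no nontrivial element of `P`
  have hDcard : Nat.card D = 1 ∨ Nat.card D = 4 := by
    obtain ⟨a, ha⟩ := IsPGroup.iff_card.1 hD2
    rcases a with _ | _ | _ | a
    · exact Or.inl ha
    · exfalso
      obtain ⟨z, hz⟩ := exists_prime_orderOf_dvd_card' (G := D) 2 (by rw [ha]; rfl)
      have hmem : d * z * d⁻¹ ∈ D := (Subgroup.mem_normalizer_iff.1 (hBD (Subgroup.mem_zpowers d)) z).1 z.2
      haveI := Fintype.ofFinite D
      have hall : ∀ u : D, u = 1 ∨ u = z := by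
        intro u
        by_contra hu
        push Not at hu
        have := Finset.card_le_univ ({1, z, u} : Finset D) (α := D) 
        rw [Finset.card_insert_of_notMem (by
          simp only [Finset.mem_insert, Finset.mem_singleton, not_or]
          exact ⟨fun h => by rw [← h, orderOf_one] at hz; omega, hu.1.symm⟩),
          Finset.card_pair hu.2.symm, ← Nat.card_eq_fintype_card, ha] at this
        omega
      rcases hall ⟨_, hmem⟩ with h | h
      · have h1 : (z : X) = 1 := conj_eq_one_iff.1 (congrArg Subtype.val h)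
        rw [← Subgroup.orderOf_coe, h1, orderOf_one] at hz; omega
      · have h1 : (z : X) ∈ P ⊓ Subgroup.centralizer {d} :=
          ⟨hQP (hDle z.2), Subgroup.mem_centralizer_singleton_iff.2 (mul_inv_eq_iff_eq_mul.1 (congrArg Subtype.val h)).symm⟩
        rw [hfpf, Subgroup.mem_bot] at h1
        rw [← Subgroup.orderOf_coe, h1, orderOf_one] at hz; omega
    · exact Or.inr ha
    · exfalso
      have h8 : 8 ≤ Nat.card D := by
        rw [ha, show (8 : ℕ) = 2 ^ 3 from rfl]; exact Nat.pow_le_pow_right two_pos (by omega)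
      omega
  -- the group of order nine acts freely outside `D`
  set E := Subgroup.zpowers e with hE
  have heB : e ∈ B := pow_mem (Subgroup.mem_zpowers d) _
  have hEB : E ≤ B := Subgroup.zpowers_le.2 heB
  letI : MulAction E {x : X // x ∈ Q ∧ x ∉ D} :=
    { smul := fun a x => ⟨(a : X) * x * (a : X)⁻¹, (Subgroup.mem_normalizer_iff.1 (hBQ (hEB a.2)) _).1 x.2.1,
        fun h => x.2.2 ((Subgroup.mem_normalizer_iff.1 (hBD (hEB a.2)) _).2 h)⟩
      one_smul := fun x => Subtype.ext (by show (1 : X) * x * (1 : X)⁻¹ = x; simp)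
      mul_smul := fun a b x => Subtype.ext (by
        show (a * b : X) * x * (a * b : X)⁻¹ = (a : X) * ((b : X) * x * (b : X)⁻¹) * (a : X)⁻¹
        group) }
  have hfree : ∀ x : {x : X // x ∈ Q ∧ x ∉ D}, MulAction.stabilizer E x = ⊥ := by
    intro x
    rw [Subgroup.eq_bot_iff_forall]
    rintro ⟨a, ha⟩ hax
    by_contra hne
    have hfixx : a * x * a⁻¹ = x := congrArg Subtype.val hax
    have hwa : w ∈ Subgroup.zpowers a := by
      obtain ⟨j, hj⟩ : ∃ j : ℕ, e ^ j = a := (Subgroup.mem_zpowers_iff.1 ha).elim fun z hz =>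
        ⟨(z % orderOf e).toNat, by
          rw [← zpow_natCast, Int.toNat_of_nonneg (Int.emod_nonneg _ (by rw [heo]; norm_num)), zpow_mod_orderOf, hz]⟩
      have hj9 : j % 9 ≠ 0 := fun h => hne (Subtype.ext (by
        show a = 1
        rw [← hj, ← pow_mod_orderOf, heo, h, pow_zero]))
      obtain ⟨t, ht⟩ : ∃ t : Fin 9, j % 9 * t.val % 9 = 3 ∨ j % 9 = 0 := by
        have h : ∀ r : Fin 9, ∃ t : Fin 9, r.val * t.val % 9 = 3 ∨ r.val = 0 := by decide
        exact h ⟨j % 9, Nat.mod_lt _ (by norm_num)⟩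
      refine ⟨(t.val : ℤ), ?_⟩
      show a ^ (t.val : ℤ) = w
      rw [zpow_natCast, ← hj, ← pow_mul, ← pow_mod_orderOf, heo, Nat.mul_mod, Nat.mod_eq_of_lt t.isLt,
        ht.resolve_right hj9, hw]
    refine x.2.2 (hfix _ x.2.1 ?_)
    rw [hA, Subgroup.zpowers_eq_closure, Subgroup.centralizer_closure, Subgroup.mem_centralizer_singleton_iff]
    obtain ⟨i, hi⟩ := Subgroup.mem_zpowers_iff.1 hwa
    rw [← hi]
    exact ((show Commute (x : X) a from (mul_inv_eq_iff_eq_mul.1 hfixx).symm).zpow_right i).eq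
  have h9 : 9 ∣ Nat.card {x : X // x ∈ Q ∧ x ∉ D} := by
    rw [Nat.card_congr (MulAction.selfEquivOrbitsQuotientProd hfree), Nat.card_prod]
    exact (dvd_of_eq (show 9 = Nat.card E by rw [hE, Nat.card_zpowers, heo])).trans (dvd_mul_left _ _)
  have hcardX : Nat.card {x : X // x ∈ Q ∧ x ∉ D} = Nat.card Q - Nat.card D := by
    show Nat.card ↑((Q : Set X) \ (D : Set X)) = _
    rw [Nat.card_coe_set_eq, Set.ncard_sdiff hDle (Set.toFinite _), ← Nat.card_coe_set_eq, ← Nat.card_coe_set_eq]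
    rfl
  obtain ⟨l, hl⟩ := IsPGroup.iff_card.1 hQ2
  have hlt : Nat.card D < Nat.card Q := by
    refine lt_of_le_of_ne (Subgroup.card_le_of_le hDle) fun h => ?_
    exact (CfsgLib.Solvable.commutator_self_lt (H := Q) (by haveI := hQ2.isNilpotent; infer_instance)
      (fun e => hQA (e ▸ bot_le))).ne (Subgroup.eq_of_le_of_card_ge hDle h.ge)
  rw [hcardX, hl] at h9
  rw [hl] at hlt
  rcases hDcard with h1 | h4
  · rw [h1] at h9
    have hl6 : 3 ≤ l := by
      by_contra hc
      interval_cases l <;> omega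
    have hQe : ∀ q ∈ Q, q ^ 2 = 1 := fun q hq => by
      have := hsq q hq
      rwa [(Subgroup.card_eq_one.1 h1 : D = ⊥), Subgroup.mem_bot] at this
    have h := hrank Q hQP hQe
    rw [hl] at h
    have : 2 ^ 3 ≤ 2 ^ l := Nat.pow_le_pow_right two_pos hl6
    omega
  · rw [h4] at h9 hlt
    have hl8 : 8 ≤ l := by
      by_contra hc
      interval_cases l <;> omega
    obtain ⟨y, hy, hy2⟩ := exists_involution (D.subgroupOf Q)
      (fun u hu => Subgroup.mem_center_iff.2 fun v => Subtype.ext (hDQ u hu v v.2))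
      (by rw [Nat.card_congr (Subgroup.subgroupOfEquivOfLe hDle).toEquiv, h4])
      (fun u => hsq u u.2) (fun u hu => Subtype.ext (hDe _ hu))
      (by rw [hl]; exact Nat.pow_le_pow_right two_pos hl8)
    rw [Subgroup.mem_subgroupOf] at hy
    have hy2' : (y : X) ^ 2 = 1 := congrArg Subtype.val hy2
    let V : Subgroup X :=
      { carrier := {v | v ∈ D ∨ ∃ u ∈ D, v = y * u}
        one_mem' := Or.inl D.one_mem
        mul_mem' := by
          rintro a b (ha | ⟨u, hu, rfl⟩) (hb | ⟨v, hv, rfl⟩)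
          · exact Or.inl (mul_mem ha hb)
          · exact Or.inr ⟨a * v, mul_mem ha hv, by rw [← mul_assoc, ← hDQ a ha y y.2, mul_assoc]⟩
          · exact Or.inr ⟨u * b, mul_mem hu hb, by rw [mul_assoc]⟩
          · refine Or.inl ?_
            rw [show (y : X) * u * (y * v) = y * (u * y) * v by group, ← hDQ u hu y y.2, ← mul_assoc (y : X),
              ← pow_two, hy2', one_mul]
            exact mul_mem hu hv
        inv_mem' := by
          rintro a (ha | ⟨u, hu, rfl⟩)
          · exact Or.inl (inv_mem ha)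
          · refine Or.inr ⟨u⁻¹, inv_mem hu, ?_⟩
            rw [mul_inv_rev, inv_eq_of_mul_eq_one_left (show (y : X) * y = 1 by rw [← pow_two]; exact hy2'), hDQ _ (inv_mem hu) y y.2] }
    have hV := hrank V (by
      rintro a (ha | ⟨u, hu, rfl⟩)
      · exact hQP (hDle ha)
      · exact mul_mem (hQP y.2) (hQP (hDle hu))) (by
      rintro a (ha | ⟨u, hu, rfl⟩)
      · exact hDe a ha
      · rw [(show Commute (y : X) u from hDQ u hu y y.2).mul_pow, hy2', hDe u hu, one_mul])
    have hDV : D = V := Subgroup.eq_of_le_of_card_ge (fun a ha => Or.inl ha) (by omega)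
    have hyV : (y : X) ∈ V := Or.inr ⟨1, D.one_mem, (mul_one _).symm⟩
    exact hy (hDV ▸ hyV)

end CfsgLib.PGroup.RankTwo
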