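import Cfsg.Agent.Lib.PGroup.Basic

/-!
# Subsets with trivial stabiliser for odd `p`-groups of permutations

A finite `p`-group, `p` odd, acting on a finite set has a subset whose setwise stabiliser fixes every point.
-/

set_option autoImplicit false

namespace CfsgLib.ClassFixed

open Subgroup

variable {G : Type*} [Group G] [Finite G] {p : ℕ} [hp : Fact p.Prime] {α : Type*}

theorem perm_pow_mem (f : G →* Equiv.Perm α) {x : G} {T : Finset α} (h : ∀ t ∈ T, f x t ∈ T) (i : ℕ) :
    ∀ t ∈ T, f (x ^ i) t ∈ T := by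
  induction i with
  | zero => intro t ht; simpa using ht
  | succ i ih =>
    intro t ht
    rw [pow_succ, map_mul, Equiv.Perm.mul_apply]
    exact ih _ (h t ht)

theorem perm_mem_iff (σ : Equiv.Perm α) {T : Finset α} (h : ∀ t ∈ T, σ t ∈ T) {t : α} (ht : σ t ∈ T) :
    t ∈ T := by
  classical
  have h1 : T.image σ = T := Finset.eq_of_subset_of_card_le (Finset.image_subset_iff.2 h)
    (by rw [Finset.card_image_of_injective _ σ.injective])
  rw [← h1] at ht
  obtain ⟨u, hu, he⟩ := Finset.mem_image.1 ht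
  exact σ.injective he ▸ hu

/-- An odd `p`-group of permutations has a subset whose stabiliser fixes every point. -/
theorem exists_subset_trivial_stabilizer (hp2 : p ≠ 2) (f : G →* Equiv.Perm α) :
    ∀ (P : Subgroup G), IsPGroup p P → ∀ s : Finset α, (∀ x ∈ P, ∀ y ∈ s, f x y ∈ s) →
      ∃ T ⊆ s, ∀ x ∈ P, (∀ t ∈ T, f x t ∈ T) → ∀ y ∈ s, f x y = y := by
  classical
  intro P hP s
  induction hn : s.card using Nat.strong_induction_on generalizing P s with
  | _ n ih =>
  subst hn
  intro hs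
  rcases s.eq_empty_or_nonempty with rfl | ⟨y0, hy0⟩
  · exact ⟨∅, subset_rfl, fun x _ _ y hy => absurd hy (Finset.notMem_empty y)⟩
  set o := s.filter fun y => ∃ x ∈ P, f x y0 = y with ho
  by_cases hos : o ≠ s
  · -- intransitive
    have hoinv : ∀ x ∈ P, ∀ y ∈ o, f x y ∈ o := by
      intro x hx y hy
      obtain ⟨hy1, g, hg, hgy⟩ := Finset.mem_filter.1 hy
      refine Finset.mem_filter.2 ⟨hs x hx y hy1, x * g, mul_mem hx hg, ?_⟩
      rw [map_mul, Equiv.Perm.mul_apply, hgy]
    have hcinv : ∀ x ∈ P, ∀ y ∈ s \ o, f x y ∈ s \ o := by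
      intro x hx y hy
      obtain ⟨hy1, hy2⟩ := Finset.mem_sdiff.1 hy
      exact Finset.mem_sdiff.2 ⟨hs x hx y hy1, fun h => hy2 (perm_mem_iff _ (hoinv x hx) h)⟩
    have hoss : o ⊂ s := (Finset.filter_subset _ _).ssubset_of_ne hos
    have hy0o : y0 ∈ o := Finset.mem_filter.2 ⟨hy0, 1, one_mem P, by simp⟩
    have hcss : s \ o ⊂ s := Finset.sdiff_ssubset (Finset.filter_subset _ _) ⟨y0, hy0o⟩
    obtain ⟨T1, hT1, h1⟩ := ih _ (Finset.card_lt_card hoss) P hP o rfl hoinv
    obtain ⟨T2, hT2, h2⟩ := ih _ (Finset.card_lt_card hcss) P hP (s \ o) rfl hcinv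
    refine ⟨T1 ∪ T2, Finset.union_subset (hT1.trans (Finset.filter_subset _ _))
      (hT2.trans Finset.sdiff_subset), fun x hx hT y hy => ?_⟩
    by_cases hyo : y ∈ o
    · refine h1 x hx (fun t ht => ?_) y hyo
      rcases Finset.mem_union.1 (hT t (Finset.mem_union_left _ ht)) with h | h
      · exact h
      · exact absurd (hoinv x hx t (hT1 ht)) (Finset.mem_sdiff.1 (hT2 h)).2
    · refine h2 x hx (fun t ht => ?_) y (Finset.mem_sdiff.2 ⟨hy, hyo⟩)
      rcases Finset.mem_union.1 (hT t (Finset.mem_union_right _ ht)) with h | h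
      · exact absurd (hT1 h) (Finset.mem_sdiff.1 (hcinv x hx t (hT2 ht))).2
      · exact h
  · -- transitive
    push_neg at hos
    have htrans : ∀ y ∈ s, ∃ x ∈ P, f x y0 = y := fun y hy => (Finset.mem_filter.1 (hos.ge hy)).2
    let st : Subgroup P := (MulAction.stabilizer (Equiv.Perm α) y0).comap (f.comp P.subtype)
    have hst : ∀ x : P, x ∈ st ↔ f x y0 = y0 := fun x => Iff.rfl
    rcases eq_or_ne st ⊤ with htop | htop
    · refine ⟨∅, Finset.empty_subset _, fun x hx _ y hy => ?_⟩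
      obtain ⟨g, hg, rfl⟩ := htrans y hy
      rw [(hst ⟨g, hg⟩).1 (htop ▸ mem_top _), (hst ⟨x, hx⟩).1 (htop ▸ mem_top _)]
    obtain ⟨M0, hM0, hstM⟩ := (eq_top_or_exists_le_coatom st).resolve_left htop
    have hM0n : M0.Normal := PGroup.normal_of_isCoatom hP hM0
    have hM0i : M0.index = p := PGroup.index_of_isCoatom hP hM0
    set P0 := M0.map P.subtype with hP0
    have hP0P : P0 ≤ P := map_subtype_le M0
    have hmemP0 : ∀ x (hx : x ∈ P), x ∈ P0 ↔ (⟨x, hx⟩ : P) ∈ M0 := fun x hx =>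
      ⟨by rintro ⟨y, hy, rfl⟩; exact hy, fun h => ⟨_, h, rfl⟩⟩
    set B0 := s.filter fun y => ∃ h ∈ P0, f h y0 = y with hB0
    have hB0inv : ∀ x ∈ P0, ∀ y ∈ B0, f x y ∈ B0 := by
      intro x hx y hy
      obtain ⟨hy1, g, hg, hgy⟩ := Finset.mem_filter.1 hy
      refine Finset.mem_filter.2 ⟨hs x (hP0P hx) y hy1, x * g, mul_mem hx hg, ?_⟩
      rw [map_mul, Equiv.Perm.mul_apply, hgy]
    have hcinv : ∀ x ∈ P0, ∀ y ∈ s \ B0, f x y ∈ s \ B0 := by
      intro x hx y hy
      obtain ⟨hy1, hy2⟩ := Finset.mem_sdiff.1 hy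
      exact Finset.mem_sdiff.2 ⟨hs x (hP0P hx) y hy1, fun h => hy2 (perm_mem_iff _ (hB0inv x hx) h)⟩
    -- counting
    have hcount : ∀ x ∈ P, x ∉ P0 → ∀ T ⊆ s, (∀ t ∈ T, f x t ∈ T) → T.card = p * (T ∩ B0).card := by
      intro x hx hx0 T hTs hT
      set xb : P ⧸ M0 := QuotientGroup.mk' M0 ⟨x, hx⟩ with hxb
      have hcardQ : Nat.card (P ⧸ M0) = p := by rw [← index_eq_card, hM0i]
      have hord : orderOf xb = p := ((Nat.dvd_prime hp.out).1 (hcardQ ▸ orderOf_dvd_natCard xb)).resolve_left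
        fun e => hx0 ((hmemP0 x hx).2 ((QuotientGroup.eq_one_iff _).1 (orderOf_eq_one_iff.1 e)))
      rw [← Finset.card_range p, ← Finset.card_product]
      refine (Finset.card_bij (fun it _ => f (x ^ it.1) it.2) (fun it hit => ?_) (fun a ha b hb e => ?_)
        (fun t ht => ?_)).symm
      · rw [Finset.mem_product] at hit
        exact perm_pow_mem f hT _ _ (Finset.mem_inter.1 hit.2).1
      · simp only [Finset.mem_product, Finset.mem_range, Finset.mem_inter] at ha hb
        obtain ⟨-, g, hg, hga⟩ := Finset.mem_filter.1 ha.2.2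
        obtain ⟨-, g', hg', hgb⟩ := Finset.mem_filter.1 hb.2.2
        let u : P := (⟨x, hx⟩ ^ b.1 * ⟨g', hP0P hg'⟩)⁻¹ * (⟨x, hx⟩ ^ a.1 * ⟨g, hP0P hg⟩)
        have hu : u ∈ M0 := hstM ((hst u).2 (by
          simp only [u, Subgroup.coe_mul, Subgroup.coe_inv, Subgroup.coe_pow, map_mul f, map_inv f,
            Equiv.Perm.mul_apply, hga]
          rw [Equiv.Perm.inv_eq_iff_eq, Equiv.Perm.mul_apply, hgb, e]))
        have hu' : QuotientGroup.mk' M0 u = 1 := (QuotientGroup.eq_one_iff _).2 hu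
        simp only [u, map_mul, map_inv, map_pow] at hu'
        rw [(QuotientGroup.eq_one_iff _).2 ((hmemP0 g (hP0P hg)).1 hg) |> (fun h => (h : QuotientGroup.mk' M0 _ = 1)),
          (QuotientGroup.eq_one_iff _).2 ((hmemP0 g' (hP0P hg')).1 hg') |> (fun h => (h : QuotientGroup.mk' M0 _ = 1)),
          mul_one, mul_one, inv_mul_eq_one, ← hxb] at hu'
        have hij : a.1 = b.1 := pow_injOn_Iio_orderOf (by rw [hord]; exact ha.1) (by rw [hord]; exact hb.1) hu'.symm
        rw [hij] at e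
        exact Prod.ext hij ((f (x ^ b.1)).injective e)
      · obtain ⟨g, hg, rfl⟩ := htrans t (hTs ht)
        have hz : zpowers xb = ⊤ := eq_top_of_card_eq _ (by rw [Nat.card_zpowers, hord, hcardQ])
        obtain ⟨i, hi, hgi⟩ := ((isOfFinOrder_of_finite xb).mem_zpowers_iff_mem_range_orderOf (y :=
          QuotientGroup.mk' M0 (⟨g, hg⟩ : P))).1 (hz ▸ mem_top _) |> Finset.mem_image.1
        rw [Finset.mem_range, hord] at hi
        have hh : (x ^ i)⁻¹ * g ∈ P0 := (hmemP0 _ (mul_mem (inv_mem (pow_mem hx i)) hg)).2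
          ((QuotientGroup.eq_one_iff _).1 (show QuotientGroup.mk' M0 ((⟨x, hx⟩ ^ i)⁻¹ * ⟨g, hg⟩ : P) = 1 by
            rw [map_mul, map_inv, map_pow, ← hgi, ← hxb, inv_mul_cancel]))
        have he : f (x ^ i) (f ((x ^ i)⁻¹ * g) y0) = f g y0 := by
          rw [← Equiv.Perm.mul_apply, ← map_mul, mul_inv_cancel_left]
        refine ⟨(i, f ((x ^ i)⁻¹ * g) y0), Finset.mem_product.2 ⟨Finset.mem_range.2 hi, ?_⟩, he⟩
        refine Finset.mem_inter.2 ⟨perm_mem_iff _ (perm_pow_mem f hT i) (he.symm ▸ ht), ?_⟩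
        exact Finset.mem_filter.2 ⟨hs _ (hP0P hh) y0 hy0, _, hh, rfl⟩
    obtain ⟨x0, hx0P, hx0⟩ : ∃ x ∈ P, x ∉ P0 := by
      obtain ⟨x, hx⟩ : ∃ x : P, x ∉ M0 := by
        by_contra h
        push_neg at h
        exact hM0.1 ((eq_top_iff' _).2 h)
      exact ⟨x, x.2, fun h => hx ((hmemP0 x x.2).1 h)⟩
    have hscard : s.card = p * B0.card := by
      rw [hcount x0 hx0P hx0 s subset_rfl (hs x0 hx0P), Finset.inter_eq_right.2 (Finset.filter_subset _ _)]
    have hsodd : Odd s.card := by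
      have hidx := hP.index st
      obtain ⟨k, hk⟩ := hidx
      have horb : s.card = st.index := by
        rw [index_eq_card, ← Nat.card_eq_finsetCard]
        refine (Nat.card_congr (Equiv.ofBijective (fun q : P ⧸ st => (⟨Quotient.liftOn' q
          (fun x : P => f x y0) (fun a b hab => ?_), ?_⟩ : (s : Finset α))) ⟨?_, ?_⟩)).symm
        · rw [QuotientGroup.leftRel_apply, hst] at hab
          simp only [Subgroup.coe_mul, Subgroup.coe_inv, map_mul, map_inv, Equiv.Perm.mul_apply] at hab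
          exact ((Equiv.Perm.inv_eq_iff_eq).1 hab).symm
        · induction q using QuotientGroup.induction_on with
          | _ a => exact hs a a.2 y0 hy0
        · intro q q'
          induction q using QuotientGroup.induction_on with
          | _ a =>
          induction q' using QuotientGroup.induction_on with
          | _ b =>
          intro h
          have h' : f a y0 = f b y0 := congrArg Subtype.val h
          rw [QuotientGroup.eq, hst]
          simp only [Subgroup.coe_mul, Subgroup.coe_inv, map_mul, map_inv, Equiv.Perm.mul_apply]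
          rw [Equiv.Perm.inv_eq_iff_eq, h']
        · rintro ⟨y, hy⟩
          obtain ⟨g, hg, hgy⟩ := htrans y hy
          exact ⟨QuotientGroup.mk (⟨g, hg⟩ : P), Subtype.ext hgy⟩
      rw [horb, hk]
      exact (hp.out.odd_of_ne_two hp2).pow
    have hB0odd : Odd B0.card := by
      rw [hscard] at hsodd
      exact (Nat.odd_mul.1 hsodd).2
    have hy0B : y0 ∈ B0 := Finset.mem_filter.2 ⟨hy0, 1, one_mem _, by simp⟩
    have hB0lt : B0.card < s.card := by
      rw [hscard]
      exact lt_mul_of_one_lt_left (Finset.card_pos.2 ⟨y0, hy0B⟩) hp.out.one_lt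
    have hcsd : (s \ B0).card < s.card :=
      Finset.card_lt_card (Finset.sdiff_ssubset (Finset.filter_subset _ _) ⟨y0, hy0B⟩)
    have hP0p : IsPGroup p P0 := hP.to_le hP0P
    obtain ⟨T0, hT0, h0⟩ := ih _ hB0lt P0 hP0p B0 rfl hB0inv
    obtain ⟨T1, hT1, h1⟩ := ih _ hcsd P0 hP0p (s \ B0) rfl hcinv
    obtain ⟨T2, hT2, hT2c, h2⟩ : ∃ T2 ⊆ s \ B0, T2.card ≠ (p - 1) * T0.card ∧
        ∀ x ∈ P0, (∀ t ∈ T2, f x t ∈ T2) → ∀ y ∈ s \ B0, f x y = y := by
      by_cases hc : T1.card = (p - 1) * T0.card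
      · refine ⟨(s \ B0) \ T1, Finset.sdiff_subset, fun hc' => ?_, fun x hx hT => h1 x hx fun t ht => ?_⟩
        · have e1 := Finset.card_sdiff_of_subset hT1
          have e2 := Finset.card_sdiff_of_subset (Finset.filter_subset (fun y => ∃ h ∈ P0, f h y0 = y) s)
          rw [← hB0] at e2
          have hle := Finset.card_le_card hT1
          have e3 : (p - 1) * B0.card = (p - 1) * (2 * T0.card) := by
            rw [Nat.sub_mul, one_mul, ← hscard]
            have : (p - 1) * (2 * T0.card) = (p - 1) * T0.card + (p - 1) * T0.card := by ring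
            omega
          have e4 := Nat.eq_of_mul_eq_mul_left (Nat.sub_pos_of_lt hp.out.one_lt) e3
          exact Nat.not_even_iff_odd.2 hB0odd (e4 ▸ even_two_mul _)
        · by_contra hne
          have hin : f x t ∈ (s \ B0) \ T1 := Finset.mem_sdiff.2 ⟨hcinv x hx t (hT1 ht), hne⟩
          exact (Finset.mem_sdiff.1 (perm_mem_iff _ hT hin)).2 ht
      · exact ⟨T1, hT1, hc, h1⟩
    refine ⟨T0 ∪ T2, Finset.union_subset (hT0.trans (Finset.filter_subset _ _))
      (hT2.trans Finset.sdiff_subset), fun x hx hT y hy => ?_⟩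
    by_cases hxP0 : x ∈ P0
    · by_cases hyB : y ∈ B0
      · refine h0 x hxP0 (fun t ht => ?_) y hyB
        rcases Finset.mem_union.1 (hT t (Finset.mem_union_left _ ht)) with h | h
        · exact h
        · exact absurd (hB0inv x hxP0 t (hT0 ht)) (Finset.mem_sdiff.1 (hT2 h)).2
      · refine h2 x hxP0 (fun t ht => ?_) y (Finset.mem_sdiff.2 ⟨hy, hyB⟩)
        rcases Finset.mem_union.1 (hT t (Finset.mem_union_right _ ht)) with h | h
        · exact absurd (hT0 h) (Finset.mem_sdiff.1 (hcinv x hxP0 t (hT2 ht))).2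
        · exact h
    · exfalso
      apply hT2c
      have hsub : T0 ∪ T2 ⊆ s := Finset.union_subset (hT0.trans (Finset.filter_subset _ _))
        (hT2.trans Finset.sdiff_subset)
      have hcnt := hcount x hx hxP0 _ hsub hT
      have hdisj : Disjoint T0 T2 := Finset.disjoint_left.2 fun t ht ht2 =>
        (Finset.mem_sdiff.1 (hT2 ht2)).2 (hT0 ht)
      have hint : (T0 ∪ T2) ∩ B0 = T0 := by
        ext t
        simp only [Finset.mem_inter, Finset.mem_union]
        exact ⟨fun ⟨h, hb⟩ => h.resolve_right fun h => (Finset.mem_sdiff.1 (hT2 h)).2 hb,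
          fun h => ⟨Or.inl h, hT0 h⟩⟩
      rw [hint, Finset.card_union_of_disjoint hdisj] at hcnt
      rw [Nat.sub_mul, one_mul]
      omega

end CfsgLib.ClassFixed
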