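import Cfsg.Agent.Lib.PGroup.Basic

/-!
# Power positions and ranks in `p`-groups with an element of order `p` with small centralizer

For a series `P` of a `p`-group with steps of index `p` on which an element `x` of order `p` acts
with centralizer `⟨x⟩ × P (n - 1)`, the `p`-th power moves position `i ≥ 2` to `i + p - 1`; so every
subgroup is generated by at most `p` elements.
-/

set_option autoImplicit false

namespace CfsgLib.PGroup.SmallCent

open scoped commutatorElement

variable {G : Type*} [Group G]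

/-- The difference sequence. -/
def sdiff (g : ℕ → G) : ℕ → G := fun k => (g k)⁻¹ * g (k + 1)

theorem eq_mul_sdiff (g : ℕ → G) (k : ℕ) : g (k + 1) = g k * sdiff g k := by
  rw [sdiff, mul_inv_cancel_left]

/-- Polynomial sequences of depth `k` at level `j` with respect to a filtration `Q`. -/
def FPoly (Q : ℕ → Subgroup G) : ℕ → ℕ → (ℕ → G) → Prop
  | 0, j, g => ∀ n, g n ∈ Q j
  | k + 1, j, g => (∀ n, g n ∈ Q j) ∧ FPoly Q k (j + 1) (sdiff g)

/-- A filtration compatible with commutators. -/
structure IsFiltration (Q : ℕ → Subgroup G) : Prop where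
  anti : ∀ {i j : ℕ}, i ≤ j → Q j ≤ Q i
  comm : ∀ (i j : ℕ), ∀ a ∈ Q i, ∀ b ∈ Q j, ⁅a, b⁆ ∈ Q (i + j)
  normal : ∀ i, (Q i).Normal

variable {Q : ℕ → Subgroup G}

theorem FPoly.mem : ∀ {k j : ℕ} {g : ℕ → G}, FPoly Q k j g → ∀ n, g n ∈ Q j
  | 0, _, _, h => h
  | _ + 1, _, _, h => h.1

theorem FPoly.mono_level (hQ : IsFiltration Q) : ∀ {k i j : ℕ} {g : ℕ → G}, i ≤ j →
    FPoly Q k j g → FPoly Q k i g
  | 0, _, _, _, hij, h => fun n => hQ.anti hij (h n)
  | _ + 1, _, _, _, hij, h => ⟨fun n => hQ.anti hij (h.1 n), h.2.mono_level hQ (by omega)⟩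

theorem FPoly.of_succ : ∀ {k j : ℕ} {g : ℕ → G}, FPoly Q (k + 1) j g → FPoly Q k j g
  | 0, _, _, h => h.1
  | _ + 1, _, _, h => ⟨h.1, h.2.of_succ⟩

theorem sdiff_const (c : G) : sdiff (fun _ => c) = fun _ : ℕ => (1 : G) := by
  funext n; simp [sdiff]

theorem fpoly_one : ∀ k j : ℕ, FPoly Q k j (fun _ => (1 : G))
  | 0, _ => fun _ => one_mem _
  | k + 1, j => ⟨fun _ => one_mem _, by rw [sdiff_const]; exact fpoly_one k (j + 1)⟩

theorem fpoly_const {j : ℕ} {c : G} (hc : c ∈ Q j) : ∀ k, FPoly Q k j (fun _ => c)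
  | 0 => fun _ => hc
  | k + 1 => ⟨fun _ => hc, by rw [sdiff_const]; exact fpoly_one k (j + 1)⟩

/-- Closure under products, inverses and commutators. -/
theorem fpoly_closed (hQ : IsFiltration Q) : ∀ k : ℕ,
    (∀ (j : ℕ) (g h : ℕ → G), FPoly Q k j g → FPoly Q k j h → FPoly Q k j (fun n => g n * h n)) ∧
    (∀ (j : ℕ) (g : ℕ → G), FPoly Q k j g → FPoly Q k j (fun n => (g n)⁻¹)) ∧
    (∀ (i j : ℕ) (g h : ℕ → G), FPoly Q k i g → FPoly Q k j h →
      FPoly Q k (i + j) (fun n => ⁅g n, h n⁆)) := by
  intro k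
  induction k with
  | zero =>
    exact ⟨fun j g h hg hh n => mul_mem (hg n) (hh n), fun j g hg n => inv_mem (hg n),
      fun i j g h hg hh n => hQ.comm i j _ (hg n) _ (hh n)⟩
  | succ k ih =>
    obtain ⟨M, I, C⟩ := ih
    have conjP : ∀ (i j : ℕ) (x u : ℕ → G), FPoly Q k i x → FPoly Q k j u →
        FPoly Q k j (fun n => x n * u n * (x n)⁻¹) := by
      intro i j x u hx hu
      have h := M j _ u ((C i j x u hx hu).mono_level hQ (Nat.le_add_left j i)) hu
      have he : (fun n => x n * u n * (x n)⁻¹) = fun n => ⁅x n, u n⁆ * u n := by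
        funext n; rw [commutatorElement_def]; group
      rw [he]; exact h
    refine ⟨fun j g h hg hh => ⟨fun n => mul_mem (hg.1 n) (hh.1 n), ?_⟩,
      fun j g hg => ⟨fun n => inv_mem (hg.1 n), ?_⟩,
      fun i j g h hg hh => ⟨fun n => hQ.comm i j _ (hg.1 n) _ (hh.1 n), ?_⟩⟩
    · have he : sdiff (fun n => g n * h n) =
          fun n => (h n)⁻¹ * sdiff g n * ((h n)⁻¹)⁻¹ * sdiff h n := by
        funext n; simp only [sdiff]; group
      rw [he]
      exact M _ _ _ (conjP j (j + 1) _ _ (I _ _ hh.of_succ) hg.2) hh.2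
    · have he : sdiff (fun n => (g n)⁻¹) = fun n => g n * (sdiff g n)⁻¹ * (g n)⁻¹ := by
        funext n; simp only [sdiff]; group
      rw [he]
      exact conjP j (j + 1) _ _ hg.of_succ (I _ _ hg.2)
    · set L := i + j
      set U : ℕ → G := fun n => ⁅g n, h n⁆ with hU
      have hUP : FPoly Q k L U := C i j g h hg.of_succ hh.of_succ
      set a := sdiff g with ha
      set b := sdiff h with hb
      have hga : FPoly Q k (i + 1) a := hg.2
      have hhb : FPoly Q k (j + 1) b := hh.2
      have he : sdiff U = fun n => (U n)⁻¹ *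
          (g n * (⁅a n, h n⁆ * (h n * ⁅a n, b n⁆ * (h n)⁻¹)) * (g n)⁻¹) *
          ((U n)⁻¹)⁻¹ * (h n * ⁅g n, b n⁆ * (h n)⁻¹) := by
        funext n
        show (U n)⁻¹ * U (n + 1) = _
        simp only [hU, eq_mul_sdiff g n, eq_mul_sdiff h n, ← ha, ← hb, commutatorElement_def]
        group
      rw [he]
      refine M _ _ _ (conjP L (L + 1) _ _ (I _ _ hUP)
        (conjP i (L + 1) _ _ hg.of_succ (M _ _ _ ?_ ?_))) ?_
      · exact (C (i + 1) j a h hga hh.of_succ).mono_level hQ (by omega)
      · exact conjP j (L + 1) _ _ hh.of_succ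
          ((C (i + 1) (j + 1) a b hga hhb).mono_level hQ (by omega))
      · exact conjP j (L + 1) _ _ hh.of_succ
          ((C i (j + 1) g b hg.of_succ hhb).mono_level hQ (by omega))

theorem fpoly_choose (hQ : IsFiltration Q) : ∀ (K i j : ℕ) (c : G), c ∈ Q (j + i) →
    FPoly Q K j (fun n => c ^ n.choose i) := by
  intro K
  induction K with
  | zero => exact fun i j c hc n => pow_mem (hQ.anti (Nat.le_add_right j i) hc) _
  | succ K ih =>
    intro i j c hc
    refine ⟨fun n => pow_mem (hQ.anti (Nat.le_add_right j i) hc) _, ?_⟩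
    rcases i with _ | i
    · have he : sdiff (fun n => c ^ n.choose 0) = fun _ => (1 : G) := by funext n; simp [sdiff]
      rw [he]; exact fpoly_one K _
    · have he : sdiff (fun n => c ^ n.choose (i + 1)) = fun n => c ^ n.choose i := by
        funext n
        simp only [sdiff]
        rw [Nat.choose_succ_succ, ← Nat.succ_eq_add_one, add_comm (n.choose i), pow_add,
          inv_mul_cancel_left]
      rw [he]
      exact ih i (j + 1) c (by rwa [show j + 1 + i = j + (i + 1) by omega])

/-- A sequence vanishing at the first arguments takes deep values. -/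
theorem fpoly_vanishing : ∀ (i j : ℕ) (g : ℕ → G), FPoly Q i j g →
    (∀ m < i, g m = 1) → ∀ n, g n ∈ Q (j + i) := by
  intro i
  induction i with
  | zero => exact fun j g hg _ n => hg n
  | succ i ih =>
    intro j g hg h0 n
    have hd := ih (j + 1) (sdiff g) hg.2 fun m hm => by
      rw [sdiff, h0 m (by omega), h0 (m + 1) (by omega), inv_one, one_mul]
    induction n with
    | zero => rw [h0 0 (by omega)]; exact one_mem _
    | succ n ihn =>
      rw [eq_mul_sdiff g n]
      exact mul_mem ihn (by rw [show j + (i + 1) = j + 1 + i by omega]; exact hd n)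

/-- A sequence vanishing below `d` has value at `d` equal to its `d`-th difference at `0`. -/
theorem apply_eq_iterate_sdiff : ∀ (d : ℕ) (g : ℕ → G), (∀ m < d, g m = 1) →
    g d = sdiff^[d] g 0 := by
  intro d
  induction d with
  | zero => intro g _; rfl
  | succ d ih =>
    intro g h0
    rw [Function.iterate_succ_apply, ← ih (sdiff g) fun m hm => by
      rw [sdiff, h0 m (by omega), h0 (m + 1) (by omega), inv_one, one_mul],
      eq_mul_sdiff g d, h0 d (by omega), one_mul]

/-- The `d`-th difference at `0` is multiplicative modulo level `2 j + d`. -/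
theorem iterate_sdiff_mul (hQ : IsFiltration Q) : ∀ (d j : ℕ) (g h : ℕ → G),
    FPoly Q d j g → FPoly Q d j h →
      (sdiff^[d] g 0 * sdiff^[d] h 0)⁻¹ * sdiff^[d] (fun n => g n * h n) 0 ∈ Q (2 * j + d) := by
  intro d
  induction d with
  | zero => intro j g h _ _; simp
  | succ d ih =>
    intro j g h hg hh
    obtain ⟨M, I, C⟩ := fpoly_closed hQ d
    set u : ℕ → G := fun n => ⁅(sdiff g n)⁻¹, (h n)⁻¹⁆ with hu
    have hu' : FPoly Q d (2 * j + 1) u :=
      (C _ _ _ _ (I _ _ hg.2) (I _ _ hh.of_succ)).mono_level hQ (by omega)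
    have he : sdiff (fun n => g n * h n) = fun n => (sdiff g n * u n) * sdiff h n := by
      funext n
      simp only [hu, sdiff, commutatorElement_def]
      group
    simp only [Function.iterate_succ_apply, he]
    have h1 := ih (j + 1) (fun n => sdiff g n * u n) (sdiff h)
      (M _ _ _ hg.2 (hu'.mono_level hQ (by omega))) hh.2
    have h2 := ih (j + 1) (sdiff g) u hg.2 (hu'.mono_level hQ (by omega))
    have h3 : sdiff^[d] u 0 ∈ Q (2 * j + 1 + d) := by
      have key : ∀ (d l : ℕ) (w : ℕ → G), FPoly Q d l w → ∀ n, sdiff^[d] w n ∈ Q (l + d) := by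
        intro d
        induction d with
        | zero => exact fun l w hw n => hw n
        | succ d ihd =>
          intro l w hw n
          rw [Function.iterate_succ_apply, show l + (d + 1) = l + 1 + d by omega]
          exact ihd _ _ hw.2 n
      exact key d _ u hu' 0
    have := hQ.normal (2 * j + (d + 1))
    rw [← QuotientGroup.eq]
    have hle : Q (2 * (j + 1) + d) ≤ Q (2 * j + (d + 1)) := hQ.anti (by omega)
    have e1 := QuotientGroup.eq.2 (hle h1)
    have e2 := QuotientGroup.eq.2 (hle h2)
    have e3 : ((sdiff^[d] u 0 : G) : G ⧸ Q (2 * j + (d + 1))) = 1 :=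
      (QuotientGroup.eq_one_iff _).2 (by rwa [show 2 * j + (d + 1) = 2 * j + 1 + d by omega])
    refine Eq.trans ?_ e1
    rw [QuotientGroup.mk_mul, QuotientGroup.mk_mul, ← e2, QuotientGroup.mk_mul, e3, mul_one]

theorem iterate_sdiff_choose (e : G) : ∀ (d r : ℕ), r < d →
    sdiff^[d] (fun n : ℕ => e ^ n.choose r) = fun _ => 1 := by
  intro d
  induction d with
  | zero => intro r hr; omega
  | succ d ih =>
    intro r hr
    rw [Function.iterate_succ_apply]
    rcases r with _ | r
    · have he : sdiff (fun n => e ^ n.choose 0) = fun _ => (1 : G) := by funext n; simp [sdiff]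
      rw [he]
      clear ih hr
      induction d with
      | zero => rfl
      | succ d ihd => rw [Function.iterate_succ_apply, sdiff_const, ihd]
    · have he : sdiff (fun n => e ^ n.choose (r + 1)) = fun n => e ^ n.choose r := by
        funext n
        simp only [sdiff]
        rw [Nat.choose_succ_succ, ← Nat.succ_eq_add_one, add_comm (n.choose r), pow_add,
          inv_mul_cancel_left]
      rw [he]
      exact ih r (by omega)

/-! ### The setting -/

variable {p n : ℕ} [hp : Fact p.Prime] [Finite G]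

/-- A series with steps of index `p` below a maximal subgroup `P 1` and an element `x` with central
`p`-th power outside it with centralizer in `P 1` contained in `P (n - 1)`. -/
structure Setting (p n : ℕ) (x : G) (P : ℕ → Subgroup G) : Prop where
  pgroup : IsPGroup p G
  filt : IsFiltration P
  card_top : Nat.card G = p ^ n
  card_P : ∀ i, 1 ≤ i → i ≤ n → Nat.card (P i) = p ^ (n - i)
  two : P 2 = commutator G
  step : ∀ i, 1 ≤ i → ∀ a ∈ P i, ⁅a, x⁆ ∈ P (i + 1)
  notMem : x ∉ P 1
  pow_mem_center : x ^ p ∈ Subgroup.center G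
  cent : ∀ a ∈ P 1, a * x = x * a → a ∈ P (n - 1)

variable {x : G} {P : ℕ → Subgroup G}

theorem Setting.P_eq_bot (hS : Setting p n x P) (hn : 1 ≤ n) {i : ℕ} (hi : n ≤ i) : P i = ⊥ := by
  refine le_bot_iff.1 ((hS.filt.anti hi).trans (le_of_eq ?_))
  exact Subgroup.eq_bot_of_card_eq _ (by rw [hS.card_P n hn le_rfl, Nat.sub_self, pow_zero])

/-- Every element of `P (i + 1)` is a commutator of `P i` with `x`. -/
theorem Setting.exists_commutator (hS : Setting p n x P) {i : ℕ} (hi : 1 ≤ i) (hin : i + 1 ≤ n)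
    {b : G} (hb : b ∈ P (i + 1)) : ∃ a ∈ P i, ⁅a, x⁆ = b := by
  classical
  set C := Subgroup.centralizer ({x} : Set G) with hC
  let f : P i ⧸ (C.subgroupOf (P i)) → P (i + 1) :=
    Quotient.lift (fun a : P i => (⟨⁅(a : G), x⁆, hS.step i hi a a.2⟩ : P (i + 1))) (by
      intro a b hab
      rw [← Quotient.eq_iff_equiv] at hab
      have h1 : a⁻¹ * b ∈ C.subgroupOf (P i) := QuotientGroup.eq.1 hab
      have h2 : (a : G)⁻¹ * b * x = x * ((a : G)⁻¹ * b) :=
        Subgroup.mem_centralizer_singleton_iff.1 h1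
      apply Subtype.ext
      show ⁅(a : G), x⁆ = ⁅(b : G), x⁆
      rw [commutatorElement_def, commutatorElement_def]
      have h3 : (b : G) * x * (b : G)⁻¹ = (a : G) * x * (a : G)⁻¹ := by
        calc (b : G) * x * (b : G)⁻¹ = (a : G) * ((a : G)⁻¹ * b * x) * (b : G)⁻¹ := by group
          _ = (a : G) * (x * ((a : G)⁻¹ * b)) * (b : G)⁻¹ := by rw [h2]
          _ = (a : G) * x * (a : G)⁻¹ := by group
      rw [h3])
  have hinj : Function.Injective f := by
    intro q r
    induction q using Quotient.inductionOn' with | _ a => ?_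
    induction r using Quotient.inductionOn' with | _ b => ?_
    intro hab
    refine QuotientGroup.eq.2 (Subgroup.mem_centralizer_singleton_iff.2 ?_)
    have h1 : ⁅(a : G), x⁆ = ⁅(b : G), x⁆ := congrArg Subtype.val hab
    rw [commutatorElement_def, commutatorElement_def, mul_left_inj] at h1
    show (a : G)⁻¹ * b * x = x * ((a : G)⁻¹ * b)
    calc (a : G)⁻¹ * b * x = (a : G)⁻¹ * ((b : G) * x * (b : G)⁻¹) * b := by group
      _ = (a : G)⁻¹ * ((a : G) * x * (a : G)⁻¹) * b := by rw [h1]
      _ = x * ((a : G)⁻¹ * b) := by group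
  have hle : Nat.card (P (i + 1)) ≤ Nat.card (P i ⧸ C.subgroupOf (P i)) := by
    have h1 := (C.subgroupOf (P i)).card_mul_index
    have h2 : Nat.card (C.subgroupOf (P i)) ≤ p := by
      rw [show p = Nat.card (P (n - 1)) by
        rw [hS.card_P (n - 1) (by omega) (by omega), show n - (n - 1) = 1 by omega, pow_one]]
      refine Nat.card_le_card_of_injective (fun c => (⟨((c : P i) : G),
        hS.cent _ (hS.filt.anti hi (c : P i).2)
          (Subgroup.mem_centralizer_singleton_iff.1 c.2)⟩ : P (n - 1))) fun u v huv => ?_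
      exact Subtype.ext (Subtype.ext (congrArg Subtype.val huv :))
    rw [hS.card_P i hi (by omega)] at h1
    rw [← Subgroup.index_eq_card, hS.card_P (i + 1) (by omega) hin]
    refine Nat.le_of_mul_le_mul_left ?_ hp.out.pos
    rw [← pow_succ', show n - (i + 1) + 1 = n - i by omega, ← h1]
    exact Nat.mul_le_mul_right _ h2
  obtain ⟨q, hq⟩ := (hinj.bijective_of_nat_card_le hle).2 ⟨b, hb⟩
  induction q using Quotient.inductionOn' with | _ a => ?_
  exact ⟨a, a.2, congrArg Subtype.val hq⟩

/-- Commutation with `x` lowers the position by exactly one. -/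
theorem Setting.notMem_step (hS : Setting p n x P) {i : ℕ} (hi : 1 ≤ i) (hin : i + 2 ≤ n)
    {a : G} (ha : a ∈ P i) (hax : ⁅a, x⁆ ∈ P (i + 2)) : a ∈ P (i + 1) := by
  obtain ⟨g, hg, hgx⟩ := hS.exists_commutator (i := i + 1) (by omega) (by omega) hax
  rw [commutatorElement_def, commutatorElement_def, mul_left_inj] at hgx
  have h1 : g⁻¹ * a * x = x * (g⁻¹ * a) := by
    calc g⁻¹ * a * x = g⁻¹ * (a * x * a⁻¹) * a := by group
      _ = g⁻¹ * (g * x * g⁻¹) * a := by rw [hgx]
      _ = x * (g⁻¹ * a) := by group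
  have h2 := hS.cent _ (mul_mem (inv_mem (hS.filt.anti (by omega) hg))
    (hS.filt.anti hi ha)) h1
  have h3 := mul_mem hg (hS.filt.anti (show i + 1 ≤ n - 1 by omega) h2)
  rwa [mul_inv_cancel_left] at h3

/-- Commutation with `x`, as a map. -/
def dmap (x c : G) : G := c⁻¹ * (x * c * x⁻¹)

theorem Setting.dmap_mem (hS : Setting p n x P) {i : ℕ} (hi : 1 ≤ i) {c : G} (hc : c ∈ P i) :
    dmap x c ∈ P (i + 1) := by
  have h := hS.step i hi _ (inv_mem hc)
  simpa [commutatorElement_def, dmap, mul_assoc] using h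

theorem Setting.iterate_dmap (hS : Setting p n x P) : ∀ (d i : ℕ) (c : G), 1 ≤ i → c ∈ P i →
    (dmap x)^[d] c ∈ P (i + d) ∧
      (i + d < n → c ∉ P (i + 1) → (dmap x)^[d] c ∉ P (i + d + 1)) := by
  intro d
  induction d with
  | zero => intro i c _ hc; exact ⟨hc, fun _ h => h⟩
  | succ d ih =>
    intro i c hi hc
    rw [Function.iterate_succ_apply]
    obtain ⟨h1, h2⟩ := ih (i + 1) (dmap x c) (by omega) (hS.dmap_mem hi hc)
    rw [show i + (d + 1) = i + 1 + d by omega]
    refine ⟨h1, fun hlt hcn => h2 hlt fun hd => hcn ?_⟩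
    have h3 := hS.notMem_step hi (by omega) (inv_mem hc) (by
      simpa [commutatorElement_def, dmap, mul_assoc] using hd)
    simpa using inv_mem h3

theorem Setting.fpoly_conj (hS : Setting p n x P) : ∀ (d l : ℕ) (c : G), 1 ≤ l → c ∈ P l →
    FPoly P d l (fun k => x ^ k * c * (x ^ k)⁻¹) ∧
      sdiff^[d] (fun k => x ^ k * c * (x ^ k)⁻¹) =
        fun k => x ^ k * (dmap x)^[d] c * (x ^ k)⁻¹ := by
  intro d
  induction d with
  | zero =>
    intro l c _ hc
    exact ⟨fun k => (hS.filt.normal l).conj_mem c hc _, rfl⟩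
  | succ d ih =>
    intro l c hl hc
    have he : sdiff (fun k => x ^ k * c * (x ^ k)⁻¹) =
        fun k => x ^ k * dmap x c * (x ^ k)⁻¹ := by
      funext k
      simp only [sdiff, dmap, pow_succ]
      group
    obtain ⟨h1, h2⟩ := ih (l + 1) _ (by omega) (hS.dmap_mem hl hc)
    refine ⟨⟨fun k => (hS.filt.normal l).conj_mem c hc _, by rw [he]; exact h1⟩, ?_⟩
    rw [Function.iterate_succ_apply, he, h2, Function.iterate_succ_apply]

/-- The `p`-th power of `a` is the inverse of the `(p - 1)`-fold commutator with `x`, modulo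
`P (i + p)`. -/
theorem Setting.pow_mul_iterate (hS : Setting p n x P) {i : ℕ} (hi : 2 ≤ i) {a : G}
    (ha : a ∈ P i) (hind : ∀ c ∈ P (i + 1), c ^ p ∈ P (i + p)) :
    a ^ p * (dmap x)^[p - 1] a ∈ P (i + p) := by
  rcases Nat.lt_or_ge n i with hin | hin
  · have hn : 1 ≤ n := by
      by_contra h
      have hc := hS.card_top
      rw [show n = 0 by omega, pow_zero] at hc
      have := (Nat.card_eq_one_iff_unique.1 hc).1
      exact hS.notMem (by rw [Subsingleton.elim x 1]; exact one_mem _)
    have ha1 : a = 1 := by rwa [hS.P_eq_bot hn hin.le, Subgroup.mem_bot] at ha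
    subst ha1
    have h1 : (dmap x)^[p - 1] (1 : G) = 1 := by
      induction (p - 1) with
      | zero => rfl
      | succ d ihd => rw [Function.iterate_succ_apply, show dmap x (1 : G) = 1 by simp [dmap], ihd]
    rw [h1]; simp
  have := hS.filt.normal (i + p)
  set π := QuotientGroup.mk' (P (i + p)) with hπ
  set f : ℕ → G := fun k => (a * x) ^ k * (x ^ k)⁻¹ with hf
  have hf' : sdiff f = fun k => x ^ k * a * (x ^ k)⁻¹ := by
    funext k
    simp only [hf, sdiff, pow_succ]
    group
  have hconj := fun d => hS.fpoly_conj d i a (by omega) ha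
  have hfv : ∀ k, f k ∈ P (i - 1) := by
    intro k
    induction k with
    | zero => simp [hf]
    | succ k ihk =>
      rw [eq_mul_sdiff f k]
      exact mul_mem ihk (by rw [hf']; exact hS.filt.anti (by omega) ((hconj 0).1 k))
  have hfp : ∀ d, FPoly P d (i - 1) f := by
    intro d
    rcases d with _ | d
    · exact hfv
    · exact ⟨hfv, by rw [hf', show i - 1 + 1 = i by omega]; exact (hconj d).1⟩
  -- `a x` is conjugate to `x`
  have hfp1 : f p = 1 := by
    obtain ⟨g, -, hg⟩ := hS.exists_commutator (i := i - 1) (by omega) (by omega)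
      (show a ∈ P (i - 1 + 1) by rwa [show i - 1 + 1 = i by omega])
    have h1 : a * x = g * x * g⁻¹ := by rw [← hg, commutatorElement_def]; group
    show (a * x) ^ p * (x ^ p)⁻¹ = 1
    rw [h1, conj_pow, Subgroup.mem_center_iff.1 hS.pow_mem_center g]; group
  have hfd : sdiff^[p] f 0 = (dmap x)^[p - 1] a := by
    rw [show p = p - 1 + 1 by have := hp.out.pos; omega, Function.iterate_succ_apply, hf',
      (hconj _).2, show p - 1 + 1 - 1 = p - 1 by omega]
    simp
  have key : ∀ r, 1 ≤ r → r < p → ∃ h : ℕ → G, FPoly P p (i - 1) h ∧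
      (∀ m ≤ r, h m = 1) ∧ π (h p) = (π (a ^ p))⁻¹ ∧
      π (sdiff^[p] h 0) = π ((dmap x)^[p - 1] a) := by
    obtain ⟨M, I, -⟩ := fpoly_closed hS.filt p
    have hmix : ∀ (c : G) (r : ℕ) (h : ℕ → G), r < p → c ∈ P (i - 1 + r) →
        FPoly P p (i - 1) h →
        FPoly P p (i - 1) (fun k => (c⁻¹) ^ k.choose r * h k) ∧
          π (sdiff^[p] (fun k => (c⁻¹) ^ k.choose r * h k) 0) = π (sdiff^[p] h 0) := by
      intro c r h hr hc hh
      have hu := fpoly_choose hS.filt p r (i - 1) c⁻¹ (inv_mem hc)
      refine ⟨M _ _ _ hu hh, ?_⟩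
      have h1 := iterate_sdiff_mul hS.filt p (i - 1) _ h hu hh
      rw [iterate_sdiff_choose c⁻¹ p r hr, one_mul] at h1
      exact (QuotientGroup.eq.2 (hS.filt.anti (by omega) h1)).symm
    intro r
    induction r with
    | zero => intro h; omega
    | succ r ih =>
      intro _ hrp
      rcases Nat.eq_zero_or_pos r with rfl | hr
      · obtain ⟨h1, h2⟩ := hmix a 1 f (by omega) (by rwa [show i - 1 + 1 = i by omega]) (hfp p)
        refine ⟨_, h1, fun m hm => ?_, ?_, by rw [h2, hfd]⟩
        · rcases Nat.le_one_iff_eq_zero_or_eq_one.1 hm with rfl | rfl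
          · simp [hf]
          · simp [hf]
        · simp only [Nat.choose_one_right, hfp1, mul_one, inv_pow, map_inv]
      · obtain ⟨h, hh, h0, hpv, hdv⟩ := ih hr (by omega)
        have hdown : ∀ d, FPoly P (r + 1 + d) (i - 1) h → FPoly P (r + 1) (i - 1) h := by
          intro d
          induction d with
          | zero => exact id
          | succ d ihd => exact fun H => ihd H.of_succ
        have hc1 : h (r + 1) ∈ P (i - 1 + (r + 1)) := fpoly_vanishing (r + 1) (i - 1) h
          (hdown (p - (r + 1)) (by rwa [show r + 1 + (p - (r + 1)) = p by omega]))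
          (fun m hm => h0 m (by omega)) (r + 1)
        obtain ⟨h1, h2⟩ := hmix (h (r + 1)) (r + 1) h hrp hc1 hh
        refine ⟨_, h1, fun m hm => ?_, ?_, by rw [h2, hdv]⟩
        · rcases Nat.lt_or_ge m (r + 1) with hlt | hge
          · simp only [Nat.choose_eq_zero_of_lt hlt, pow_zero, one_mul, h0 m (by omega)]
          · rw [show m = r + 1 by omega]; simp
        · obtain ⟨q, hq⟩ := hp.out.dvd_choose_self (Nat.succ_ne_zero r) hrp
          have h3 : π ((h (r + 1))⁻¹ ^ p.choose (r + 1)) = 1 := by
            rw [hq, pow_mul, map_pow, show π ((h (r + 1))⁻¹ ^ p) = 1 from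
              (QuotientGroup.eq_one_iff _).2 (hind _ (inv_mem (hS.filt.anti (by omega) hc1))),
              one_pow]
          show π ((h (r + 1))⁻¹ ^ p.choose (r + 1) * h p) = _
          rw [map_mul, h3, one_mul, hpv]
  obtain ⟨h, -, h0, hpv, hdv⟩ := key (p - 1) (by have := hp.out.two_le; omega)
    (by have := hp.out.pos; omega)
  rw [apply_eq_iterate_sdiff p h (fun m hm => h0 m (by omega)), hdv] at hpv
  refine (QuotientGroup.eq_one_iff _).1 ?_
  show π (a ^ p * (dmap x)^[p - 1] a) = 1
  rw [map_mul, hpv, mul_inv_cancel]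

/-- The `p`-th power moves position `i ≥ 2` to at least `i + p - 1`. -/
theorem Setting.pow_mem (hS : Setting p n x P) {i : ℕ} (hi : 2 ≤ i) {a : G} (ha : a ∈ P i) :
    a ^ p ∈ P (i + p - 1) := by
  have key : ∀ (m i : ℕ), n ≤ i + m → 2 ≤ i → ∀ a ∈ P i, a ^ p ∈ P (i + p - 1) := by
    intro m
    induction m with
    | zero =>
      intro i hni hi a ha
      rcases Nat.eq_zero_or_pos n with rfl | hn
      · have hc := hS.card_top
        rw [pow_zero] at hc
        have := (Nat.card_eq_one_iff_unique.1 hc).1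
        rw [Subsingleton.elim (a ^ p) 1]; exact one_mem _
      · rw [hS.P_eq_bot hn (by omega), Subgroup.mem_bot] at ha
        rw [ha, one_pow]; exact one_mem _
    | succ m ih =>
      intro i hni hi a ha
      have h1 := hS.pow_mul_iterate hi ha fun c hc => by
        have := ih (i + 1) (by omega) (by omega) c hc
        rwa [show i + 1 + p - 1 = i + p by omega] at this
      have h2 := (hS.iterate_dmap (p - 1) i a (by omega) ha).1
      have h3 := mul_mem (hS.filt.anti (show i + p - 1 ≤ i + p by omega) h1)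
        (inv_mem (by rwa [show i + (p - 1) = i + p - 1 by have := hp.out.pos; omega] at h2))
      rwa [mul_inv_cancel_right] at h3
  exact key n i (by omega) hi a ha

/-- The `p`-th power moves position `i ≥ 2` to exactly `i + p - 1`. -/
theorem Setting.pow_notMem (hS : Setting p n x P) {i : ℕ} (hi : 2 ≤ i) (hin : i + p ≤ n) {a : G}
    (ha : a ∈ P i) (han : a ∉ P (i + 1)) : a ^ p ∉ P (i + p) := by
  intro hap
  have h1 := hS.pow_mul_iterate hi ha fun c hc => by
    have := hS.pow_mem (i := i + 1) (by omega) hc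
    rwa [show i + 1 + p - 1 = i + p by omega] at this
  have h2 := (hS.iterate_dmap (p - 1) i a (by omega) ha).2
    (by have := hp.out.pos; omega) han
  refine h2 ?_
  rw [show i + (p - 1) + 1 = i + p by have := hp.out.pos; omega]
  have := mul_mem (inv_mem hap) h1
  rwa [inv_mul_cancel_left] at this

/-- A subgroup of `P 1` is generated by at most `p` elements, and by at most `p - 1` if it lies in
`P 2`. -/
theorem Setting.exists_generators_sub (hS : Setting p n x P) {K : Subgroup G} (hK : K ≤ P 1) :
    ∃ T : Finset G, T.card ≤ p ∧ (K ≤ P 2 → T.card ≤ p - 1) ∧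
      Subgroup.closure (T : Set G) = K := by
  classical
  let Lead : ℕ → Prop := fun i => ∃ a ∈ K, a ∈ P i ∧ a ∉ P (i + 1)
  choose t ht using fun i (h : Lead i) => h
  let w : ℕ → G := fun i => if h : Lead i then t i h else 1
  have hw : ∀ i, Lead i → w i ∈ K ∧ w i ∈ P i ∧ w i ∉ P (i + 1) := fun i h => by
    simp only [w, dif_pos h]; exact ht i h
  let I : Finset ℕ := (Finset.Icc 1 (n - 1)).filter Lead
  let Cov : Finset ℕ := I.filter fun i => p + 1 ≤ i ∧ Lead (i - (p - 1))
  let U : Finset ℕ := I \ Cov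
  refine ⟨U.image w, ?_, ?_, ?_⟩
  rotate_left 2
  · -- generation
    have hsub : ∀ i ∈ U, w i ∈ K := fun i hi =>
      (hw i (Finset.mem_filter.1 (Finset.mem_sdiff.1 hi).1).2).1
    refine le_antisymm ((Subgroup.closure_le _).2 fun g hg => ?_) ?_
    · obtain ⟨i, hi, rfl⟩ := Finset.mem_image.1 (Finset.mem_coe.1 hg)
      exact hsub i hi
    set H := Subgroup.closure ((U.image w : Finset G) : Set G) with hH
    have hHK : H ≤ K := (Subgroup.closure_le _).2 fun g hg => by
      obtain ⟨i, hi, rfl⟩ := Finset.mem_image.1 (Finset.mem_coe.1 hg)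
      exact hsub i hi
    -- it suffices to generate modulo the Frattini subgroup
    suffices hgen : K ≤ H ⊔ (frattini K).map K.subtype by
      have htop : H.subgroupOf K ⊔ frattini K = ⊤ := by
        apply Subgroup.map_injective K.subtype_injective
        rw [Subgroup.map_sup, Subgroup.map_subgroupOf_eq_of_le hHK, ← MonoidHom.range_eq_map,
          Subgroup.range_subtype]
        exact le_antisymm (sup_le hHK (Subgroup.map_subtype_le _)) hgen
      exact Subgroup.subgroupOf_eq_top.1 (frattini_nongenerating htop)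
    set J := H ⊔ (frattini K).map K.subtype with hJ
    have hJK : J ≤ K := sup_le hHK (Subgroup.map_subtype_le _)
    have key : ∀ m i, n ≤ i + m → 1 ≤ i → ∀ a ∈ K, a ∈ P i → a ∈ J := by
      intro m
      induction m with
      | zero =>
        intro i hni hi a _ ha
        rw [hS.P_eq_bot (by
          by_contra h
          have hc := hS.card_top
          rw [show n = 0 by omega, pow_zero] at hc
          have := (Nat.card_eq_one_iff_unique.1 hc).1
          exact hS.notMem (by rw [Subsingleton.elim x 1]; exact one_mem _)) (by omega),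
          Subgroup.mem_bot] at ha
        rw [ha]; exact one_mem _
      | succ m ih =>
        intro i hni hi a haK ha
        by_cases ha1 : a ∈ P (i + 1)
        · exact ih (i + 1) (by omega) (by omega) a haK ha1
        have hL : Lead i := ⟨a, haK, ha, ha1⟩
        have hin : i + 1 ≤ n := by
          by_contra h
          refine ha1 ?_
          rcases Nat.eq_zero_or_pos n with hn | hn
          · have hc := hS.card_top
            rw [hn, pow_zero] at hc
            have := (Nat.card_eq_one_iff_unique.1 hc).1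
            rw [Subsingleton.elim a 1]; exact one_mem _
          · rw [hS.P_eq_bot hn (show n ≤ i by omega), Subgroup.mem_bot] at ha
            rw [ha]; exact one_mem _
        have hiI : i ∈ I := Finset.mem_filter.2 ⟨Finset.mem_Icc.2 ⟨hi, by omega⟩, hL⟩
        -- an element of `J` in the same position
        obtain ⟨b, hbJ, hbi, hbn⟩ : ∃ b ∈ J, b ∈ P i ∧ b ∉ P (i + 1) := by
          by_cases hcov : i ∈ Cov
          · obtain ⟨-, hpi, hLj⟩ := Finset.mem_filter.1 hcov
            obtain ⟨hbK, hbP, hbn⟩ := hw _ hLj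
            have := hp.out.two_le
            have h1 := hS.pow_mem (i := i - (p - 1)) (by omega) hbP
            have h2 := hS.pow_notMem (i := i - (p - 1)) (by omega) (by omega) hbP hbn
            refine ⟨w (i - (p - 1)) ^ p, Subgroup.mem_sup_right ⟨⟨_, hbK⟩ ^ p,
              pow_mem_frattini (hS.pgroup.to_subgroup K) ⟨_, hbK⟩, rfl⟩,
              by rwa [show i - (p - 1) + p - 1 = i by omega] at h1,
              by rwa [show i - (p - 1) + p = i + 1 by omega] at h2⟩
          · obtain ⟨hbK, hbP, hbn⟩ := hw i hL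
            exact ⟨w i, Subgroup.mem_sup_left (Subgroup.subset_closure
              (Finset.mem_coe.2 (Finset.mem_image_of_mem w
                (Finset.mem_sdiff.2 ⟨hiI, hcov⟩)))), hbP, hbn⟩
        -- the step has order `p`
        have := hS.filt.normal (i + 1)
        have hQ : Nat.card (P i ⧸ (P (i + 1)).subgroupOf (P i)) = p := by
          have h1 := ((P (i + 1)).subgroupOf (P i)).card_mul_index
          rw [Nat.card_congr (Subgroup.subgroupOfEquivOfLe (hS.filt.anti (Nat.le_succ i))).toEquiv,
            hS.card_P i hi (by omega), hS.card_P (i + 1) (by omega) hin, Subgroup.index_eq_card,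
            show n - i = n - (i + 1) + 1 by omega, pow_succ] at h1
          exact Nat.eq_of_mul_eq_mul_left (pow_pos hp.out.pos _) h1
        have hb1 : (QuotientGroup.mk' ((P (i + 1)).subgroupOf (P i))) ⟨b, hbi⟩ ≠ 1 :=
          fun h => hbn ((QuotientGroup.eq_one_iff (N := (P (i + 1)).subgroupOf (P i)) _).1 h :)
        have hmem := mem_zpowers_of_prime_card hQ
          (g' := (QuotientGroup.mk' ((P (i + 1)).subgroupOf (P i))) ⟨a, ha⟩) hb1
        obtain ⟨k, hk⟩ := Subgroup.mem_zpowers_iff.1 hmem
        rw [← map_zpow, QuotientGroup.mk'_apply, QuotientGroup.mk'_apply, QuotientGroup.eq] at hk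
        have hk' : (b ^ k)⁻¹ * a ∈ P (i + 1) := hk
        have h3 := mul_mem (J.zpow_mem hbJ k) (ih (i + 1) (by omega) (by omega) _
          (mul_mem (inv_mem (hJK (J.zpow_mem hbJ k))) haK) hk')
        rwa [mul_inv_cancel_left] at h3
    exact fun a ha => key n 1 (by omega) le_rfl a ha (hK ha)
  all_goals
    -- counting
    have hshift : ((I.filter fun j => 2 ≤ j ∧ j + p ≤ n).image fun j => j + (p - 1)) ⊆ Cov := by
      intro i hi
      obtain ⟨j, hj, rfl⟩ := Finset.mem_image.1 hi
      obtain ⟨hjI, hj2, hjn⟩ := Finset.mem_filter.1 hj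
      have hLj := (Finset.mem_filter.1 hjI).2
      obtain ⟨hbK, hbP, hbn⟩ := hw j hLj
      have h1 := hS.pow_mem hj2 hbP
      have h2 := hS.pow_notMem hj2 hjn hbP hbn
      have := hp.out.two_le
      refine Finset.mem_filter.2 ⟨Finset.mem_filter.2 ⟨Finset.mem_Icc.2 ⟨by omega, by omega⟩,
        w j ^ p, _root_.pow_mem hbK p, by rwa [show j + (p - 1) = j + p - 1 by omega],
        by rwa [show j + (p - 1) + 1 = j + p by omega]⟩, by omega,
        by rwa [show j + (p - 1) - (p - 1) = j by omega]⟩
    have hcard : (U.image w).card ≤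
        (I.filter fun j => ¬ (2 ≤ j ∧ j + p ≤ n)).card := by
      refine Finset.card_image_le.trans ?_
      have h1 := Finset.card_le_card hshift
      rw [Finset.card_image_of_injective _ (fun a b (h : a + (p - 1) = b + (p - 1)) => by omega)]
        at h1
      have h2 : U.card = I.card - Cov.card :=
        Finset.card_sdiff_of_subset (Finset.filter_subset _ I)
      have h3 := I.card_filter_add_card_filter_not (fun j => 2 ≤ j ∧ j + p ≤ n)
      omega
  · refine hcard.trans ((Finset.card_le_card (t := insert 1 (Finset.Icc (n + 1 - p) (n - 1))) ?_).trans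
      ((Finset.card_insert_le _ _).trans ?_))
    · intro j hj
      obtain ⟨hjI, hjn⟩ := Finset.mem_filter.1 hj
      have := Finset.mem_Icc.1 (Finset.mem_filter.1 hjI).1
      rw [Finset.mem_insert, Finset.mem_Icc]
      omega
    · rw [Nat.card_Icc]; have := hp.out.two_le; omega
  · intro hK2
    refine hcard.trans ((Finset.card_le_card (t := Finset.Icc (n + 1 - p) (n - 1)) ?_).trans ?_)
    · intro j hj
      obtain ⟨hjI, hjn⟩ := Finset.mem_filter.1 hj
      obtain ⟨hjr, a, haK, haP, hanot⟩ := Finset.mem_filter.1 hjI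
      have := Finset.mem_Icc.1 hjr
      rw [Finset.mem_Icc]
      rcases Nat.lt_or_ge j 2 with hj2 | hj2
      · exact absurd (hS.filt.anti (by omega) (hK2 haK)) hanot
      · omega
    · rw [Nat.card_Icc]; have := hp.out.two_le; omega

/-- Every subgroup is generated by at most `p` elements. -/
theorem Setting.exists_generators (hS : Setting p n x P) (H : Subgroup G) :
    ∃ T : Finset G, T.card ≤ p ∧ Subgroup.closure (T : Set G) = H := by
  classical
  by_cases hH1 : H ≤ P 1
  · obtain ⟨T, h1, -, h2⟩ := hS.exists_generators_sub hH1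
    exact ⟨T, h1, h2⟩
  have hn : 1 ≤ n := by
    by_contra h
    have hc := hS.card_top
    rw [show n = 0 by omega, pow_zero] at hc
    have := (Nat.card_eq_one_iff_unique.1 hc).1
    exact hH1 (fun a _ => by rw [Subsingleton.elim a 1]; exact one_mem _)
  have hidx : (P 1).index = p := by
    have h1 := (P 1).card_mul_index
    rw [hS.card_P 1 le_rfl hn, hS.card_top, show p ^ n = p ^ (n - 1) * p by
      rw [← pow_succ]; congr 1; omega] at h1
    exact Nat.eq_of_mul_eq_mul_left (pow_pos hp.out.pos _) h1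
  have hn1 := hS.filt.normal 1
  obtain ⟨y, hy, hyM⟩ := SetLike.not_le_iff_exists.1 hH1
  have hQc : Nat.card (G ⧸ P 1) = p := by rw [← Subgroup.index_eq_card, hidx]
  by_cases hH2 : H ⊓ P 1 ≤ P 2
  · obtain ⟨T, -, h1, h2⟩ := hS.exists_generators_sub (K := H ⊓ P 1) inf_le_right
    refine ⟨insert y T, ?_, ?_⟩
    · have := h1 hH2
      have := Finset.card_insert_le y T
      have := hp.out.pos
      omega
    rw [Finset.coe_insert, Set.insert_eq, Subgroup.closure_union, h2, ← Subgroup.zpowers_eq_closure]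
    refine le_antisymm (sup_le (Subgroup.zpowers_le.2 hy) inf_le_left) fun a ha => ?_
    have hy1 : (QuotientGroup.mk' (P 1)) y ≠ 1 := fun h => hyM ((QuotientGroup.eq_one_iff _).1 h)
    have hmem := mem_zpowers_of_prime_card hQc (g' := (QuotientGroup.mk' (P 1)) a) hy1
    obtain ⟨k, hk⟩ := Subgroup.mem_zpowers_iff.1 hmem
    rw [← map_zpow, QuotientGroup.mk'_apply, QuotientGroup.mk'_apply, QuotientGroup.eq] at hk
    have h3 : (y ^ k)⁻¹ * a ∈ H ⊓ P 1 := ⟨H.mul_mem (H.inv_mem (H.zpow_mem hy k)) ha, hk⟩
    have h4 := mul_mem (Subgroup.mem_sup_left (T := H ⊓ P 1)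
      (Subgroup.zpow_mem _ (Subgroup.mem_zpowers y) k)) (Subgroup.mem_sup_right h3)
    rwa [mul_inv_cancel_left] at h4
  · obtain ⟨z, ⟨hzH, hz1⟩, hz2⟩ := SetLike.not_le_iff_exists.1 hH2
    refine ⟨{y, z}, Finset.card_le_two.trans hp.out.two_le, ?_⟩
    have hn2 : 2 ≤ n := by
      by_contra h
      refine hz2 ?_
      have h1 : Nat.card (P 1) = 1 := by
        rw [hS.card_P 1 le_rfl hn, show n - 1 = 0 by omega, pow_zero]
      have hz0 : z ∈ P 1 := hz1
      rw [Subgroup.eq_bot_of_card_eq _ h1, Subgroup.mem_bot] at hz0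
      rw [hz0]; exact one_mem _
    set H' := Subgroup.closure ((({y, z} : Finset G)) : Set G) with hH'
    have hyH' : y ∈ H' := Subgroup.subset_closure (by simp)
    have hzH' : z ∈ H' := Subgroup.subset_closure (by simp)
    have htop : H' ⊔ P 2 = ⊤ := by
      refine eq_top_iff.2 fun a _ => ?_
      have hy1 : (QuotientGroup.mk' (P 1)) y ≠ 1 :=
        fun h => hyM ((QuotientGroup.eq_one_iff _).1 h)
      obtain ⟨k, hk⟩ := Subgroup.mem_zpowers_iff.1
        (mem_zpowers_of_prime_card hQc (g' := (QuotientGroup.mk' (P 1)) a) hy1)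
      rw [← map_zpow, QuotientGroup.mk'_apply, QuotientGroup.mk'_apply, QuotientGroup.eq] at hk
      have := hS.filt.normal 2
      have hQ : Nat.card (P 1 ⧸ (P 2).subgroupOf (P 1)) = p := by
        have h1 := ((P 2).subgroupOf (P 1)).card_mul_index
        rw [Nat.card_congr (Subgroup.subgroupOfEquivOfLe (hS.filt.anti (Nat.le_succ 1))).toEquiv,
          hS.card_P 1 le_rfl hn, hS.card_P 2 (by omega) hn2, Subgroup.index_eq_card,
          show n - 1 = n - 2 + 1 by omega, pow_succ] at h1
        exact Nat.eq_of_mul_eq_mul_left (pow_pos hp.out.pos _) h1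
      have hz : (QuotientGroup.mk' ((P 2).subgroupOf (P 1))) ⟨z, hz1⟩ ≠ 1 :=
        fun h => hz2 ((QuotientGroup.eq_one_iff (N := (P 2).subgroupOf (P 1)) _).1 h :)
      obtain ⟨l, hl⟩ := Subgroup.mem_zpowers_iff.1 (mem_zpowers_of_prime_card hQ
        (g' := (QuotientGroup.mk' ((P 2).subgroupOf (P 1))) ⟨(y ^ k)⁻¹ * a, hk⟩) hz)
      rw [← map_zpow, QuotientGroup.mk'_apply, QuotientGroup.mk'_apply, QuotientGroup.eq] at hl
      have hl' : (z ^ l)⁻¹ * ((y ^ k)⁻¹ * a) ∈ P 2 := hl
      have h4 := mul_mem (Subgroup.mem_sup_left (T := P 2) (mul_mem (H'.zpow_mem hyH' k)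
        (H'.zpow_mem hzH' l))) (Subgroup.mem_sup_right hl')
      rwa [mul_assoc, mul_inv_cancel_left, mul_inv_cancel_left] at h4
    have hfr : H' ⊔ frattini G = ⊤ := eq_top_iff.2
      (htop.ge.trans (sup_le_sup_left (hS.two.le.trans (commutator_le_frattini hS.pgroup)) _))
    have htop' : H' = ⊤ := frattini_nongenerating hfr
    refine le_antisymm ((Subgroup.closure_le _).2 ?_) (le_top.trans htop'.ge)
    intro g hg
    rcases Finset.mem_insert.1 (Finset.mem_coe.1 hg) with rfl | hg
    · exact hy
    · rw [Finset.mem_singleton] at hg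
      exact hg ▸ hzH

end CfsgLib.PGroup.SmallCent
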