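import Cfsg.Agent.Lib.Transfer.CyclicMaximal

/-!
# Odd `p`-groups whose characteristic elementary abelian subgroups have order at most `p`

In such a group the elements of order dividing `p` lie in a subgroup `R` of exponent `p` with centre `Z` of
order `p` and `[G, R] ≤ Z`.
-/

set_option autoImplicit false

namespace CfsgLib.ClassFixed

open Subgroup Cfsg CfsgLib.PGroup
open scoped commutatorElement

variable {G : Type*} [Group G] [Finite G] {p : ℕ} [hp : Fact p.Prime]

/-- An element of order dividing `p` of a group of order `p` generates it. -/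
theorem le_of_mem_of_card_eq {Z K : Subgroup G} (hZ : Nat.card Z = p) {z : G} (hz : z ∈ Z) (hz1 : z ≠ 1)
    (hzK : z ∈ K) : Z ≤ K := by
  have ho : orderOf z = p :=
    ((Nat.dvd_prime hp.out).1 (hZ ▸ Subgroup.orderOf_dvd_natCard Z hz)).resolve_left
      fun e => hz1 (orderOf_eq_one_iff.1 e)
  have h : zpowers z = Z := eq_of_le_of_card_ge (zpowers_le.2 hz) (by rw [Nat.card_zpowers, ho, hZ])
  exact h ▸ zpowers_le.2 hzK

theorem prime_mul_card_le (hG : IsPGroup p G) {V V' : Subgroup G} (h : V < V') :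
    p * Nat.card V ≤ Nat.card V' := by
  obtain ⟨k, hk⟩ := (hG.to_subgroup V').index (V.subgroupOf V')
  have hk0 : k ≠ 0 := by
    rintro rfl
    rw [pow_zero, index_eq_one, subgroupOf_eq_top] at hk
    exact h.not_ge hk
  rw [← card_mul_index (V.subgroupOf V'), hk, Nat.card_congr (subgroupOfEquivOfLe h.le).toEquiv,
    mul_comm p]
  exact Nat.mul_le_mul_left _ (Nat.le_self_pow hk0 p)

/-- The structure of an odd `p`-group without large characteristic elementary abelian subgroups. -/
theorem exists_omega_symplectic (hG : IsPGroup p G) [Nontrivial G] (hp2 : p ≠ 2)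
    (hchar : ∀ B : Subgroup G, B.Characteristic → IsElementaryAbelian p B → Nat.card B ≤ p) :
    ∃ Z R : Subgroup G, Z.Characteristic ∧ Nat.card Z = p ∧ Z ≤ R ∧ Z ≤ center G ∧
      (∀ r ∈ R, r ^ p = 1) ∧ (∀ r ∈ R, ∀ x : G, ⁅x, r⁆ ∈ Z) ∧
      (∀ r ∈ R, (∀ s ∈ R, Commute r s) → r ∈ Z) ∧ ∀ a : G, a ^ p = 1 → a ∈ R := by
  classical
  let Z : Subgroup G :=
    { carrier := {z | z ∈ center G ∧ z ^ p = 1}
      one_mem' := ⟨one_mem _, one_pow _⟩
      mul_mem' := fun {a b} ha hb => ⟨mul_mem ha.1 hb.1, by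
        rw [(show Commute a b from (mem_center_iff.1 ha.1 b).symm).mul_pow, ha.2, hb.2, one_mul]⟩
      inv_mem' := fun {a} ha => ⟨inv_mem ha.1, by rw [inv_pow, ha.2, inv_one]⟩ }
  have hZc : Z ≤ center G := fun z hz => hz.1
  have hZchar : Z.Characteristic := by
    rw [characteristic_iff_map_le]
    rintro e _ ⟨z, hz, rfl⟩
    refine ⟨?_, by rw [← map_pow, hz.2, map_one]⟩
    rw [mem_center_iff]
    intro g
    obtain ⟨g, rfl⟩ := e.surjective g
    simp only [MulEquiv.coe_toMonoidHom]
    rw [← map_mul, ← map_mul, mem_center_iff.1 hz.1 g]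
  have hZab : IsElementaryAbelian p Z :=
    ⟨⟨⟨fun a b => Subtype.ext (mem_center_iff.1 b.2.1 (a : G))⟩⟩, fun a ha => ha.2⟩
  have hZcard : Nat.card Z = p := by
    refine le_antisymm (hchar Z hZchar hZab) ?_
    obtain ⟨x, hx, hox⟩ := exists_orderOf_eq hG (H := center G) (by
      have := hG.center_nontrivial
      exact (Subgroup.nontrivial_iff_ne_bot _).1 this)
    have hxZ : zpowers x ≤ Z := zpowers_le.2 ⟨hx, hox ▸ pow_orderOf_eq_one x⟩
    calc p = Nat.card (zpowers x) := by rw [Nat.card_zpowers, hox]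
      _ ≤ Nat.card Z := card_le_of_le hxZ
  let R : Subgroup G :=
    { carrier := {r | r ^ p = 1 ∧ ∀ x : G, ⁅x, r⁆ ∈ Z}
      one_mem' := ⟨one_pow _, fun x => by simp⟩
      mul_mem' := fun {a b} ha hb => ⟨by
        have h := hb.2 b
        rw [mul_pow_of_comm_mem_center (hZc (ha.2 b)) p, ha.1, hb.1, one_mul, one_mul]
        obtain ⟨k, hk⟩ := hp.out.dvd_choose_self two_ne_zero
          (lt_of_le_of_ne hp.out.two_le (Ne.symm hp2))
        rw [hk, pow_mul, (ha.2 b).2, one_pow],
        fun x => by rw [comm_mul_right (hZc (hb.2 x))]; exact mul_mem (ha.2 x) (hb.2 x)⟩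
      inv_mem' := fun {a} ha => ⟨by rw [inv_pow, ha.1, inv_one], fun x => by
        have h := comm_mul_right (a := x) (b := a⁻¹) (c := a) (hZc (ha.2 x))
        rw [inv_mul_cancel, commutatorElement_one_right] at h
        rw [eq_inv_of_mul_eq_one_left h.symm]
        exact inv_mem (ha.2 x)⟩ }
  have hZR : Z ≤ R := fun z hz => ⟨hz.2, fun x => by
    rw [commutatorElement_eq_one_iff_mul_comm.2 (mem_center_iff.1 hz.1 x)]
    exact one_mem _⟩
  have hRchar : ∀ (e : G ≃* G), ∀ r ∈ R, e r ∈ R := fun e r hr => ⟨by rw [← map_pow, hr.1, map_one], by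
    intro x
    obtain ⟨x, rfl⟩ := e.surjective x
    rw [← map_commutatorElement e x r]
    exact (characteristic_iff_map_le.1 hZchar e) ⟨_, hr.2 x, rfl⟩⟩
  let C : Subgroup G := centralizer (R : Set G)
  have hCchar : ∀ (e : G ≃* G), ∀ c ∈ C, e c ∈ C := fun e c hc => by
    rw [mem_centralizer_iff]
    intro r hr
    have h := mem_centralizer_iff.1 hc _ (hRchar e.symm r hr)
    have := congrArg e h
    rwa [map_mul, map_mul, e.apply_symm_apply] at this
  have hB : (R ⊓ C).Characteristic := by
    rw [characteristic_iff_map_le]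
    rintro e _ ⟨b, hb, rfl⟩
    exact ⟨hRchar e b hb.1, hCchar e b hb.2⟩
  have hBab : IsElementaryAbelian p (R ⊓ C) :=
    ⟨⟨⟨fun a b => Subtype.ext (mem_centralizer_iff.1 b.2.2 (a : G) a.2.1)⟩⟩, fun a ha => ha.1.1⟩
  have hBle : Nat.card ↥(R ⊓ C) ≤ p := hchar _ hB hBab
  have hZB : Z ≤ R ⊓ C := le_inf hZR fun z hz => mem_centralizer_iff.2 fun r _ => mem_center_iff.1 hz.1 r
  have hBZ : R ⊓ C = Z := (eq_of_le_of_card_ge hZB (hZcard.symm ▸ hBle)).symm
  have hCn : C.Normal := ⟨fun c hc g => hCchar (MulAut.conj g) c hc⟩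
  have hCcyc : IsCyclic C := by
    by_contra hC
    obtain ⟨A, hAC, hAn, hAe, hA⟩ := CfsgLib.Transfer.exists_normal_elemAb_sq hG hp2 hC
    have hA1 : A ⊓ center G ≠ ⊥ := inf_center_ne_bot hG A fun e => by
      rw [e, card_bot] at hA
      exact (Nat.one_lt_pow two_ne_zero hp.out.one_lt).ne hA
    obtain ⟨y, hy, hy1⟩ := (A ⊓ center G).bot_or_exists_ne_one.resolve_left hA1
    have hZA : Z ≤ A := le_of_mem_of_card_eq hZcard ⟨hy.2, hAe.2 y hy.1⟩ hy1 hy.1
    have hZn : Z.Normal := inferInstance
    set π := QuotientGroup.mk' Z with hπ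
    have hAn' : (A.map π).Normal := hAn.map π (QuotientGroup.mk'_surjective Z)
    have hcard : Nat.card (A.map π) = p := by
      rw [← relIndex_ker, QuotientGroup.ker_mk']
      have h := card_mul_index (Z.subgroupOf A)
      rw [Nat.card_congr (subgroupOfEquivOfLe hZA).toEquiv, hZcard, hA, sq] at h
      exact Nat.eq_of_mul_eq_mul_left hp.out.pos h
    have hcen := le_center_of_card_eq (hG.to_quotient Z) (A.map π) hcard
    have hAR : A ≤ R := fun a ha => ⟨hAe.2 a ha, fun x => by
      rw [← QuotientGroup.eq_one_iff, ← QuotientGroup.mk'_apply, map_commutatorElement,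
        commutatorElement_eq_one_iff_mul_comm]
      exact mem_center_iff.1 (hcen ⟨a, ha, rfl⟩) (π x)⟩
    have := (card_le_of_le (le_inf hAR hAC)).trans hBle
    rw [hA, sq] at this
    nlinarith [hp.out.two_le]
  have hCp : ∀ c ∈ C, c ^ p = 1 → c ∈ Z := by
    intro c hc hcp
    by_contra hcZ
    have := Fintype.ofFinite C
    have hle := IsCyclic.card_pow_eq_one_le (α := C) hp.out.pos
    have hsub : (insert (⟨c, hc⟩ : C)
        (Finset.univ.filter fun x : C => (x : G) ∈ Z)) ⊆ Finset.univ.filter fun x : C => x ^ p = 1 := by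
      intro x hx
      rw [Finset.mem_insert] at hx
      refine Finset.mem_filter.2 ⟨Finset.mem_univ _, Subtype.ext ?_⟩
      rcases hx with rfl | hx
      · simpa using hcp
      · simpa using (Finset.mem_filter.1 hx).2.2
    have h2 := (Finset.card_le_card hsub).trans hle
    rw [Finset.card_insert_of_notMem (by simp [hcZ])] at h2
    have h3 : (Finset.univ.filter fun x : C => (x : G) ∈ Z).card = p := by
      rw [← Fintype.card_subtype, ← Nat.card_eq_fintype_card]
      refine (Nat.card_congr ?_).trans hZcard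
      exact { toFun := fun x => ⟨x.1, x.2⟩
              invFun := fun z => ⟨⟨z, (hZB z.2).2⟩, z.2⟩
              left_inv := fun x => rfl
              right_inv := fun z => rfl }
    omega
  have hmono : ∀ (d : ℕ) (V : Subgroup G), Z ≤ V → V ≤ R → Nat.card R - Nat.card V = d →
      Nat.card ↥(centralizer (V : Set G)) * Nat.card V ≤ Nat.card C * Nat.card R := by
    intro d
    induction d using Nat.strong_induction_on with
    | _ d ih =>
      intro V hZV hVR hd
      rcases eq_or_ne V R with rfl | hne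
      · exact le_rfl
      obtain ⟨u, huR, huV⟩ := SetLike.exists_of_lt (lt_of_le_of_ne hVR hne)
      have hV' : V ⊔ zpowers u ≤ R := sup_le hVR (zpowers_le.2 huR)
      have hlt : V < V ⊔ zpowers u :=
        lt_of_le_of_ne le_sup_left fun e => huV (e ▸ mem_sup_right (mem_zpowers u))
      have hp' := prime_mul_card_le hG hlt
      have hpos : 0 < Nat.card V := Nat.card_pos
      have hge := card_le_of_le hV'
      have hlt' : Nat.card V < Nat.card ↥(V ⊔ zpowers u) := by nlinarith [hp.out.two_le]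
      have h1 := ih _ (by omega) _ (hZV.trans le_sup_left) hV' rfl
      let φ : ↥(centralizer (V : Set G)) →* Z :=
        MonoidHom.mk' (fun x => ⟨⁅(x : G), u⁆, huR.2 x⟩) (fun x y => Subtype.ext
          (comm_mul_left (hZc (huR.2 y))))
      have hker : φ.ker.map (Subgroup.subtype _) ≤ centralizer (↑(V ⊔ zpowers u) : Set G) := by
        rintro _ ⟨x, hx, rfl⟩
        rw [← le_centralizer_iff.trans zpowers_le]
        have hxu : ⁅(x : G), u⁆ = 1 := congrArg Subtype.val (MonoidHom.mem_ker.1 hx)
        refine sup_le (fun v hv => ?_) (zpowers_le.2 ?_)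
        · refine mem_centralizer_iff.2 fun y hy => ?_
          obtain ⟨k, rfl⟩ := mem_zpowers_iff.1 hy
          exact ((show Commute v ↑x from mem_centralizer_iff.1 x.2 v hv).zpow_right k).symm
        · refine mem_centralizer_iff.2 fun y hy => ?_
          obtain ⟨k, rfl⟩ := mem_zpowers_iff.1 hy
          exact ((show Commute ↑x u from commutatorElement_eq_one_iff_mul_comm.1 hxu).zpow_left k)
      have h2 := card_le_of_le hker
      rw [card_map_of_injective (Subgroup.subtype_injective _)] at h2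
      have h3 := card_mul_index φ.ker
      rw [index_ker] at h3
      have h4 : Nat.card φ.range ≤ p := hZcard ▸ card_le_card_group φ.range
      calc Nat.card ↥(centralizer (V : Set G)) * Nat.card V
          = Nat.card φ.ker * Nat.card φ.range * Nat.card V := by rw [h3]
        _ ≤ Nat.card ↥(centralizer (↑(V ⊔ zpowers u) : Set G)) * p * Nat.card V := by gcongr
        _ ≤ Nat.card ↥(centralizer (↑(V ⊔ zpowers u) : Set G)) * Nat.card ↥(V ⊔ zpowers u) := by
          rw [mul_assoc]; gcongr
        _ ≤ _ := h1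
  have hcardG : Nat.card G * p ≤ Nat.card C * Nat.card R := by
    have h := hmono _ Z le_rfl hZR rfl
    rwa [centralizer_eq_top_iff_subset.2 hZc, card_top, hZcard] at h
  let φ : R × C →* G :=
    MonoidHom.mk' (fun x => (x.1 : G) * x.2) (fun x y => by
      simp only [Prod.fst_mul, Prod.snd_mul, Subgroup.coe_mul]
      rw [mul_assoc (x.1 : G) y.1, ← mul_assoc (y.1 : G),
        mem_centralizer_iff.1 x.2.2 _ y.1.2]
      group)
  have hrange : φ.range = ⊤ := by
    refine eq_top_of_card_eq _ (le_antisymm (card_le_card_group _) ?_)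
    have h3 := card_mul_index φ.ker
    rw [index_ker, Nat.card_prod] at h3
    have hk : Nat.card φ.ker ≤ p := by
      rw [← hZcard]
      refine Nat.card_le_card_of_injective (fun x => (⟨(x.1.1 : G), ?_⟩ : Z)) ?_
      · have hx : (x.1.1 : G) * x.1.2 = 1 := MonoidHom.mem_ker.1 x.2
        rw [← hBZ]
        refine mem_inf.2 ⟨x.1.1.2, ?_⟩
        rw [eq_inv_of_mul_eq_one_left hx]
        exact inv_mem x.1.2.2
      · intro x y h
        have hx : (x.1.1 : G) * x.1.2 = 1 := MonoidHom.mem_ker.1 x.2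
        have hy : (y.1.1 : G) * y.1.2 = 1 := MonoidHom.mem_ker.1 y.2
        have h' : (x.1.1 : G) = y.1.1 := congrArg (fun z : Z => (z : G)) h
        refine Subtype.ext (Prod.ext (Subtype.ext h') (Subtype.ext ?_))
        rw [h', ← hy] at hx
        exact mul_left_cancel hx
    have h5 : Nat.card φ.ker * Nat.card φ.range ≤ p * Nat.card φ.range := Nat.mul_le_mul_right _ hk
    nlinarith [hp.out.pos]
  refine ⟨Z, R, hZchar, hZcard, hZR, hZc, fun r hr => hr.1, fun r hr => hr.2, fun r hr h => ?_,
    fun a ha => ?_⟩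
  · rw [← hBZ]
    exact ⟨hr, mem_centralizer_iff.2 fun s hs => (h s hs).symm.eq⟩
  · obtain ⟨⟨r, c⟩, rfl⟩ := MonoidHom.range_eq_top.1 hrange a
    have hcm : Commute (r : G) c := mem_centralizer_iff.1 c.2 r r.2
    have h1 : (c : G) ^ p = 1 := by
      have : ((r : G) * c) ^ p = 1 := ha
      rwa [hcm.mul_pow, r.2.1, one_mul] at this
    exact mul_mem r.2 (hZR (hCp c c.2 h1))

end CfsgLib.ClassFixed
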