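import Mathlib

/-!
The plane `(ℤ/p^n)²` with its determinant pairing: orthogonal subgroups and isotropic subgroups.
-/

set_option autoImplicit false

namespace CfsgLib.PGroup.Plane

variable {N : ℕ}

/-- The determinant pairing. -/
def det (u v : ZMod N × ZMod N) : ZMod N := u.1 * v.2 - u.2 * v.1

theorem det_self (u : ZMod N × ZMod N) : det u u = 0 := by simp [det, mul_comm]

theorem det_swap (u v : ZMod N × ZMod N) : det v u = -det u v := by simp only [det]; ring

/-- Orthogonal subgroup. -/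
def perp (U : AddSubgroup (ZMod N × ZMod N)) : AddSubgroup (ZMod N × ZMod N) where
  carrier := {v | ∀ u ∈ U, det u v = 0}
  zero_mem' := by intro u _; simp [det]
  add_mem' := by
    intro a b ha hb u hu
    have h1 := ha u hu
    have h2 := hb u hu
    simp only [det, Prod.fst_add, Prod.snd_add] at h1 h2 ⊢
    linear_combination h1 + h2
  neg_mem' := by
    intro a ha u hu
    have h1 := ha u hu
    simp only [det, Prod.fst_neg, Prod.snd_neg] at h1 ⊢
    linear_combination -h1

theorem mem_perp {U : AddSubgroup (ZMod N × ZMod N)} {v : ZMod N × ZMod N} :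
    v ∈ perp U ↔ ∀ u ∈ U, det u v = 0 := Iff.rfl

theorem card_hom_le [NeZero N] (A : Type*) [AddCommGroup A] [Finite A] :
    Nat.card (A →+ ZMod N) ≤ Nat.card A := by
  classical
  haveI := Fintype.ofFinite A
  haveI : Finite (AddChar A ℂ) := inferInstance
  refine le_trans (Nat.card_le_card_of_injective
    (fun φ : A →+ ZMod N => (ZMod.stdAddChar (N := N)).compAddMonoidHom φ) ?_) ?_
  · intro φ ψ h
    ext a
    exact ZMod.injective_stdAddChar (DFunLike.congr_fun h a)
  · rw [Nat.card_eq_fintype_card, AddChar.card_eq, Nat.card_eq_fintype_card]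

/-- The pairing as a homomorphism on a subgroup. -/
def pairing (U : AddSubgroup (ZMod N × ZMod N)) : (ZMod N × ZMod N) →+ (U →+ ZMod N) :=
  AddMonoidHom.mk' (fun v => AddMonoidHom.mk' (fun u => det (u : ZMod N × ZMod N) v) fun a b => by
      simp only [det, AddSubgroup.coe_add, Prod.fst_add, Prod.snd_add]; ring)
    fun a b => by
      ext u
      simp only [det, AddMonoidHom.add_apply, AddMonoidHom.mk'_apply, Prod.fst_add, Prod.snd_add]
      ring

theorem ker_pairing (U : AddSubgroup (ZMod N × ZMod N)) : (pairing U).ker = perp U := by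
  ext v
  simp [pairing, mem_perp, DFunLike.ext_iff, AddMonoidHom.mem_ker]

theorem card_perp [NeZero N] (U : AddSubgroup (ZMod N × ZMod N)) :
    Nat.card (perp U) * Nat.card U = N ^ 2 := by
  classical
  haveI : Finite (U →+ ZMod N) := Finite.of_injective _ DFunLike.coe_injective
  haveI : Finite ((ZMod N × ZMod N) ⧸ perp U →+ ZMod N) := Finite.of_injective _ DFunLike.coe_injective
  have hV : Nat.card (ZMod N × ZMod N) = N ^ 2 := by rw [Nat.card_prod, Nat.card_zmod, sq]
  have h1 : (perp U).index ≤ Nat.card U := by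
    refine le_trans ?_ (card_hom_le (N := N) U)
    rw [← ker_pairing, AddSubgroup.index_eq_card]
    exact Nat.card_le_card_of_injective _ (QuotientAddGroup.kerLift_injective (pairing U))
  have h2 : Nat.card U ≤ (perp U).index := by
    rw [AddSubgroup.index_eq_card]
    refine le_trans ?_ (card_hom_le (N := N) _)
    refine Nat.card_le_card_of_injective (fun u : U => QuotientAddGroup.lift (perp U)
      (AddMonoidHom.mk' (fun v => det (u : ZMod N × ZMod N) v) fun a b => by
        simp only [det, Prod.fst_add, Prod.snd_add]; ring) (fun v hv => hv u u.2)) ?_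
    intro u u' h
    have key : ∀ v, det (u : ZMod N × ZMod N) v = det (u' : ZMod N × ZMod N) v := fun v =>
      DFunLike.congr_fun h (QuotientAddGroup.mk v)
    refine Subtype.ext (Prod.ext ?_ ?_)
    · simpa [det] using key (0, 1)
    · simpa [det] using key (1, 0)
  rw [← le_antisymm h1 h2, AddSubgroup.card_mul_index, hV]

theorem perp_perp [NeZero N] (U : AddSubgroup (ZMod N × ZMod N)) : perp (perp U) = U := by
  refine (AddSubgroup.eq_of_le_of_card_ge (fun u hu v hv => ?_) ?_).symm
  · rw [det_swap, hv u hu, neg_zero]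
  · have h1 := card_perp U
    have h2 := card_perp (perp U)
    rw [← h1, mul_comm (Nat.card (perp U)) (Nat.card U)] at h2
    exact (Nat.eq_of_mul_eq_mul_right Nat.card_pos h2).le

theorem perp_anti {U W : AddSubgroup (ZMod N × ZMod N)} (h : U ≤ W) : perp W ≤ perp U :=
  fun _ hv u hu => hv u (h hu)

variable {p n : ℕ} [Fact p.Prime]

theorem neZero_pow : NeZero (p ^ n) := ⟨pow_ne_zero _ (Fact.out : p.Prime).ne_zero⟩

theorem exists_eq_mul_of_pow_smul {x : ℕ} (hx : x ≤ n) {z : ZMod (p ^ n)}
    (h : (p ^ x : ℕ) • z = 0) : ∃ y : ZMod (p ^ n), z = (p : ZMod (p ^ n)) ^ (n - x) * y := by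
  haveI := neZero_pow (p := p) (n := n)
  have h' : p ^ n ∣ p ^ x * z.val := by
    rw [← ZMod.natCast_eq_zero_iff, Nat.cast_mul, ZMod.natCast_zmod_val, ← nsmul_eq_mul]
    exact h
  have h2 : p ^ (n - x) ∣ z.val := by
    have : p ^ n = p ^ x * p ^ (n - x) := by rw [← pow_add, Nat.add_sub_cancel' hx]
    exact Nat.dvd_of_mul_dvd_mul_left (pow_pos (Fact.out : p.Prime).pos x)
      ((dvd_of_eq this.symm).trans h')
  obtain ⟨y, hy⟩ := h2
  exact ⟨y, by rw [← ZMod.natCast_zmod_val z, hy, Nat.cast_mul, Nat.cast_pow]⟩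

theorem pow_smul_eq_zero (z : ZMod (p ^ n) × ZMod (p ^ n)) : (p ^ n) • z = 0 := by
  rw [nsmul_eq_mul]
  refine Prod.ext ?_ ?_ <;>
    simp only [Prod.fst_mul, Prod.snd_mul, Prod.fst_natCast, Prod.snd_natCast, ZMod.natCast_self,
      zero_mul, Prod.fst_zero, Prod.snd_zero]

/-- A subgroup of order at most `p^n` is isotropic. -/
theorem isotropic_of_card_le (U : AddSubgroup (ZMod (p ^ n) × ZMod (p ^ n)))
    (hU : Nat.card U ≤ p ^ n) : ∀ v ∈ U, ∀ w ∈ U, det v w = 0 := by
  classical
  haveI := neZero_pow (p := p) (n := n)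
  have hp : p.Prime := Fact.out
  have hex : ∃ x, ∀ u ∈ U, (p ^ x) • u = 0 := ⟨n, fun u _ => pow_smul_eq_zero u⟩
  set x := Nat.find hex with hxdef
  have hx := Nat.find_spec hex
  rw [← hxdef] at hx
  have hxn : x ≤ n := Nat.find_le fun u _ => pow_smul_eq_zero u
  rcases Nat.eq_zero_or_pos x with h0 | h0
  · intro v hv w _
    have := hx v hv
    rw [h0, pow_zero, one_smul] at this
    simp [this, det]
  obtain ⟨u, huU, hu⟩ : ∃ u ∈ U, (p ^ (x - 1)) • u ≠ 0 := by
    by_contra hcon
    push Not at hcon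
    exact Nat.find_min hex (show x - 1 < x by omega) hcon
  have hfac : ∀ w ∈ U, ∃ g : ZMod (p ^ n) × ZMod (p ^ n),
      w.1 = (p : ZMod (p ^ n)) ^ (n - x) * g.1 ∧ w.2 = (p : ZMod (p ^ n)) ^ (n - x) * g.2 := by
    intro w hw
    have h := hx w hw
    obtain ⟨a, ha⟩ := exists_eq_mul_of_pow_smul (p := p) hxn (z := w.1) (congrArg Prod.fst h)
    obtain ⟨b, hb⟩ := exists_eq_mul_of_pow_smul (p := p) hxn (z := w.2) (congrArg Prod.snd h)
    exact ⟨(a, b), ha, hb⟩
  obtain ⟨f, hf1, hf2⟩ := hfac u huU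
  have hunit : IsUnit f.1 ∨ IsUnit f.2 := by
    by_contra hcon
    push Not at hcon
    refine hu ?_
    have key : ∀ c : ZMod (p ^ n), ¬ IsUnit c →
        (p ^ (x - 1)) • ((p : ZMod (p ^ n)) ^ (n - x) * c) = 0 := by
      intro c hc
      have hd : p ∣ c.val := by
        by_contra hd
        refine hc ?_
        rw [← ZMod.natCast_zmod_val c, ZMod.isUnit_iff_coprime]
        exact (hp.coprime_iff_not_dvd.2 hd).symm.pow_right n
      obtain ⟨d, hd⟩ := hd
      rw [← ZMod.natCast_zmod_val c, hd, nsmul_eq_mul]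
      have : ((p ^ (x - 1) * (p ^ (n - x) * (p * d)) : ℕ) : ZMod (p ^ n)) = 0 := by
        rw [show p ^ (x - 1) * (p ^ (n - x) * (p * d)) = p ^ (x - 1 + (n - x) + 1) * d by
          rw [pow_succ, pow_add]; ring, show x - 1 + (n - x) + 1 = n by omega, Nat.cast_mul,
          ZMod.natCast_self, zero_mul]
      simpa using this
    refine Prod.ext ?_ ?_
    · rw [Prod.smul_fst, hf1]; exact key _ hcon.1
    · rw [Prod.smul_snd, hf2]; exact key _ hcon.2
  -- the functional `det f` is killed by `p ^ (n - x)` on `U`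
  set h : U →+ ZMod (p ^ n) := AddMonoidHom.mk' (fun w => det f w) fun a b => by
    simp only [det, AddSubgroup.coe_add, Prod.fst_add, Prod.snd_add]; ring with hh
  have hker : p ^ x ≤ Nat.card h.ker := by
    have hmem : (⟨u, huU⟩ : U) ∈ h.ker := by
      rw [AddMonoidHom.mem_ker]
      show det f u = 0
      rw [det, hf1, hf2]; ring
    refine le_trans ?_ (Nat.le_of_dvd Nat.card_pos
      (AddSubgroup.addOrderOf_dvd_natCard (s := h.ker) hmem))
    rw [← AddSubgroup.addOrderOf_coe]
    show p ^ x ≤ addOrderOf u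
    have hord : addOrderOf u = p ^ (x - 1 + 1) :=
      addOrderOf_eq_prime_pow hu (by rw [show x - 1 + 1 = x by omega]; exact hx u huU)
    rw [hord, show x - 1 + 1 = x by omega]
  have himg : Nat.card h.range ∣ p ^ (n - x) := by
    have h1 : Nat.card h.ker * h.ker.index = Nat.card U := h.ker.card_mul_index
    rw [AddSubgroup.index_ker] at h1
    have h2 : Nat.card h.range ∣ p ^ n := by
      have := h.range.card_addSubgroup_dvd_card
      rwa [Nat.card_zmod] at this
    obtain ⟨k, -, hk⟩ := (Nat.dvd_prime_pow hp).1 h2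
    rw [hk]
    refine pow_dvd_pow p ?_
    have h3 : p ^ (x + k) ≤ p ^ n := by
      rw [pow_add, ← hk]
      exact le_trans (Nat.mul_le_mul_right _ hker) (h1.le.trans hU)
    have := (Nat.pow_le_pow_iff_right hp.one_lt).1 h3
    omega
  have hkill : ∀ w ∈ U, (p : ZMod (p ^ n)) ^ (n - x) * det f w = 0 := by
    intro w hw
    obtain ⟨k, hk⟩ := himg
    have h1 : (p ^ (n - x)) • (⟨det f w, ⟨⟨w, hw⟩, rfl⟩⟩ : h.range) = 0 := by
      rw [hk, mul_nsmul, card_nsmul_eq_zero', nsmul_zero]
    simpa [nsmul_eq_mul] using congrArg Subtype.val h1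
  intro v hv w hw
  obtain ⟨g, hg1, hg2⟩ := hfac v hv
  obtain ⟨g', hg1', hg2'⟩ := hfac w hw
  have hv0 := hkill v hv
  have hw0 := hkill w hw
  simp only [det] at hv0 hw0
  rcases hunit with hu1 | hu1 <;>
    refine (hu1.mul_right_eq_zero).1 ?_ <;>
    simp only [det] <;> rw [hg1, hg2, hg1', hg2'] at *
  · linear_combination g.1 * hw0 - g'.1 * hv0
  · linear_combination g.2 * hw0 - g'.2 * hv0

theorem isotropic_iff_card_le (U : AddSubgroup (ZMod (p ^ n) × ZMod (p ^ n))) :
    (∀ v ∈ U, ∀ w ∈ U, det v w = 0) ↔ Nat.card U ≤ p ^ n := by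
  haveI := neZero_pow (p := p) (n := n)
  refine ⟨fun h => ?_, isotropic_of_card_le U⟩
  have h1 : U ≤ perp U := fun v hv u hu => h u hu v hv
  have h2 := card_perp U
  have h3 := AddSubgroup.card_le_of_le h1
  by_contra hlt
  have h4 := Nat.mul_self_lt_mul_self (not_le.1 hlt)
  have h5 := Nat.mul_le_mul_right (Nat.card U) h3
  rw [h2] at h5
  rw [sq] at h5
  omega

/-- A non-isotropic subgroup contains all elements of order `p`. -/
theorem mem_of_card_gt (U : AddSubgroup (ZMod (p ^ n) × ZMod (p ^ n)))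
    (hU : p ^ n < Nat.card U) (z : ZMod (p ^ n) × ZMod (p ^ n)) :
    (p ^ (n - 1)) • z ∈ U := by
  haveI := neZero_pow (p := p) (n := n)
  rcases Nat.eq_zero_or_pos n with hn | hn
  · subst hn
    haveI : Subsingleton (ZMod (p ^ 0)) := by rw [pow_zero]; infer_instance
    rw [Subsingleton.elim ((p ^ (0 - 1)) • z) 0]
    exact U.zero_mem
  rw [← perp_perp U]
  intro v hv
  have hvp : (p ^ (n - 1)) • v = 0 := by
    by_contra hne
    have hord : addOrderOf v = p ^ (n - 1 + 1) :=
      addOrderOf_eq_prime_pow hne (by rw [show n - 1 + 1 = n by omega]; exact pow_smul_eq_zero v)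
    have h1 : p ^ n ≤ Nat.card (perp U) := by
      refine le_trans ?_ (Nat.le_of_dvd Nat.card_pos (AddSubgroup.addOrderOf_dvd_natCard (s := perp U) hv))
      rw [hord, show n - 1 + 1 = n by omega]
    have h2 := card_perp U
    have h4 := Nat.mul_lt_mul_of_le_of_lt h1 hU (lt_of_lt_of_le (pow_pos (Fact.out : p.Prime).pos n) h1)
    rw [h2, sq] at h4
    omega
  have h3 : det v ((p ^ (n - 1)) • z) = det ((p ^ (n - 1)) • v) z := by
    simp only [det, nsmul_eq_mul, Prod.fst_mul, Prod.snd_mul, Prod.fst_natCast, Prod.snd_natCast]; ring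
  rw [h3, hvp]
  simp [det]

end CfsgLib.PGroup.Plane
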