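import Cfsg.Agent.Lib.Fusion.UniTri
import Cfsg.Agent.Lib.Solvable.BurnsideBasis
import Mathlib.Combinatorics.SimpleGraph.Extremal.Turan

/-!
A `p`-group of upper unitriangular matrices of degree `m` is generated by `m² / 4` elements.

The positions of the first non-zero entries of the elements of the group which are not first positions of
elements of the Frattini subgroup span a triangle-free graph, so Mantel's bound applies.
-/

set_option autoImplicit false

namespace CfsgLib.PGroup.UniGen

open Matrix CfsgLib.Fusion.UniTri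
open scoped commutatorElement

variable {F : Type*} [Field F] {m : ℕ}

/-- The position `(a, b)` comes before `(i, j)`: lower level, or same level and smaller row. -/
def Before (a b i j : Fin m) : Prop :=
  (b : ℕ) + i < j + a ∨ ((b : ℕ) + i = j + a ∧ a < i)

/-- `(i, j)` is the first non-zero position of `M` above the diagonal. -/
def IsFirst (M : Matrix (Fin m) (Fin m) F) (i j : Fin m) : Prop :=
  i < j ∧ M i j ≠ 0 ∧ ∀ a b, a < b → Before a b i j → M a b = 0

theorem mul_apply_upper {M N : Matrix (Fin m) (Fin m) F} (hM : IsUni M) (hN : IsUni N) {a b : Fin m}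
    (h : a < b) :
    (M * N) a b = M a b + N a b + ∑ z ∈ Finset.univ.filter (fun z => a < z ∧ z < b), M a z * N z b := by
  classical
  have hfun : ∀ z : Fin m, M a z * N z b =
      (if z = b then M a b else 0) + (if z = a then N a b else 0) +
        (if a < z ∧ z < b then M a z * N z b else 0) := by
    intro z
    rcases eq_or_ne z b with rfl | hb
    · simp [h.ne', hN.2]
    rcases eq_or_ne z a with rfl | ha
    · simp [h.ne, hM.2]
    rcases lt_or_gt_of_ne ha with ha' | ha'
    · simp [ha, hb, hM.1 a z ha', ha'.not_gt]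
    rcases lt_or_gt_of_ne hb with hb' | hb'
    · simp [ha, hb, ha', hb']
    · simp [ha, hb, hN.1 z b hb', hb'.not_gt]
  rw [Matrix.mul_apply, Finset.sum_filter, Finset.sum_congr rfl fun z _ => hfun z]
  simp [Finset.sum_add_distrib]

theorem mul_apply_low {M N : Matrix (Fin m) (Fin m) F} (hM : IsUni M) (hN : IsUni N) {i j a b : Fin m}
    (h : a < b) (hle : Before a b i j ∨ (a = i ∧ b = j))
    (hM0 : ∀ a b, a < b → Before a b i j → M a b = 0) :
    (M * N) a b = M a b + N a b := by
  rw [mul_apply_upper hM hN h, Finset.sum_eq_zero, add_zero]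
  intro z hz
  obtain ⟨-, hz1, hz2⟩ := Finset.mem_filter.1 hz
  rw [hM0 a z hz1, zero_mul]
  unfold Before at hle ⊢
  rcases hle with h' | ⟨rfl, rfl⟩ <;> omega

theorem pow_apply_low {M : Matrix (Fin m) (Fin m) F} (hM : IsUni M) {i j : Fin m}
    (hM0 : ∀ a b, a < b → Before a b i j → M a b = 0) : ∀ (s : ℕ) {a b : Fin m}, a < b →
      (Before a b i j ∨ (a = i ∧ b = j)) → (M ^ s) a b = (s : F) * M a b
  | 0, a, b, h, _ => by rw [pow_zero, one_apply_ne h.ne, Nat.cast_zero, zero_mul]
  | s + 1, a, b, h, hle => by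
    rw [pow_succ', mul_apply_low hM (hM.pow s) h hle hM0, pow_apply_low hM hM0 s h hle, Nat.cast_succ]
    ring

/-- The commutator `C` of two elements whose first positions are `(i, j)` and `(j, l)` has first position
`(i, l)`. -/
theorem isFirst_of_mul_eq {M N C : Matrix (Fin m) (Fin m) F} (hM : IsUni M) (hN : IsUni N)
    (hC : IsUni C) (heq : M * N = N * M * C) {i j l : Fin m} (hMf : IsFirst M i j)
    (hNf : IsFirst N j l) : IsFirst C i l := by
  obtain ⟨hij, hMij, hM0⟩ := hMf
  obtain ⟨hjl, hNjl, hN0⟩ := hNf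
  have hstep : ∀ a b : Fin m, a < b → (Before a b i l ∨ (a = i ∧ b = l)) →
      (∀ z : Fin m, a < z → z < b → C z b = 0) →
      C a b = if a = i ∧ b = l then M i j * N j l else 0 := by
    intro a b hab hle hC0
    have h1 := mul_apply_upper (hN.mul hM) hC hab
    rw [← heq, mul_apply_upper hM hN hab, mul_apply_upper hN hM hab] at h1
    have e0 : ∀ z ∈ Finset.univ.filter (fun z => a < z ∧ z < b), (N * M) a z * C z b = 0 := by
      intro z hz
      obtain ⟨-, hz1, hz2⟩ := Finset.mem_filter.1 hz
      rw [hC0 z hz1 hz2, mul_zero]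
    have e1 : ∀ z ∈ Finset.univ.filter (fun z => a < z ∧ z < b), N a z * M z b = 0 := by
      intro z hz
      obtain ⟨-, hz1, hz2⟩ := Finset.mem_filter.1 hz
      by_cases hb : Before z b i j
      · rw [hM0 z b hz2 hb, mul_zero]
      · rw [hN0 a z hz1 ?_, zero_mul]
        unfold Before at hle hb ⊢
        omega
    have e2 : ∀ z ∈ Finset.univ.filter (fun z => a < z ∧ z < b),
        M a z * N z b = if z = j then (if a = i ∧ b = l then M i j * N j l else 0) else 0 := by
      intro z hz
      obtain ⟨-, hz1, hz2⟩ := Finset.mem_filter.1 hz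
      by_cases hab' : z = j ∧ a = i ∧ b = l
      · obtain ⟨rfl, rfl, rfl⟩ := hab'; simp
      · rw [show (if z = j then (if a = i ∧ b = l then M i j * N j l else 0) else 0) = 0 by
          split_ifs <;> first | rfl | exact absurd ⟨‹_›, ‹_›⟩ hab']
        by_cases hb : Before z b j l
        · rw [hN0 z b hz2 hb, mul_zero]
        · rw [hM0 a z hz1 ?_, zero_mul]
          unfold Before at hle hb ⊢
          omega
    rw [Finset.sum_eq_zero e0, Finset.sum_eq_zero e1, Finset.sum_congr rfl e2,
      Finset.sum_ite_eq'] at h1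
    by_cases hc : a = i ∧ b = l
    · obtain ⟨rfl, rfl⟩ := hc
      rw [if_pos (by simp [hij, hjl])] at h1
      linear_combination -h1
    · rw [if_neg hc] at h1
      rw [ite_self] at h1
      rw [if_neg hc]
      linear_combination -h1
  have hzero : ∀ (e : ℕ) (a b : Fin m), a < b → (b : ℕ) = a + e → Before a b i l → C a b = 0 := by
    intro e
    induction e using Nat.strong_induction_on with
    | _ e ih =>
      intro a b hab he hbe
      rw [hstep a b hab (Or.inl hbe) fun z hz1 hz2 => ?_, if_neg ?_]
      · rintro ⟨rfl, rfl⟩; unfold Before at hbe; omega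
      · refine ih ((b : ℕ) - z) (by omega) z b hz2 (by omega) ?_
        unfold Before at hbe ⊢; omega
  refine ⟨hij.trans hjl, ?_, fun a b hab hb => hzero ((b : ℕ) - a) a b hab (by omega) hb⟩
  rw [hstep i l (hij.trans hjl) (Or.inr ⟨rfl, rfl⟩) fun z hz1 hz2 =>
    hzero ((l : ℕ) - z) z l hz2 (by omega) (by unfold Before; omega), if_pos ⟨rfl, rfl⟩]
  exact mul_ne_zero hMij hNjl

theorem card_le_of_triangleFree (T : Finset (Fin m × Fin m)) (hlt : ∀ t ∈ T, t.1 < t.2)
    (htri : ∀ a b c, (a, b) ∈ T → (b, c) ∈ T → (a, c) ∉ T) : T.card ≤ m ^ 2 / 4 := by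
  classical
  let G : SimpleGraph (Fin m) := SimpleGraph.fromRel fun a b => (a, b) ∈ T
  have hadj : ∀ a b, G.Adj a b → ((a, b) ∈ T ∧ a < b) ∨ ((b, a) ∈ T ∧ b < a) := by
    intro a b h
    rcases h.2 with h | h
    · exact Or.inl ⟨h, hlt _ h⟩
    · exact Or.inr ⟨h, hlt _ h⟩
  have hcf : G.CliqueFree (2 + 1) := by
    intro s hs
    obtain ⟨a, b, c, hab, hac, hbc, -⟩ := SimpleGraph.is3Clique_iff.1 hs
    rcases hadj a b hab with ⟨h1, l1⟩ | ⟨h1, l1⟩ <;> rcases hadj a c hac with ⟨h2, l2⟩ | ⟨h2, l2⟩ <;>
      rcases hadj b c hbc with ⟨h3, l3⟩ | ⟨h3, l3⟩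
    all_goals first
      | omega
      | exact htri _ _ _ h1 h2 h3 | exact htri _ _ _ h1 h3 h2 | exact htri _ _ _ h2 h1 h3
      | exact htri _ _ _ h2 h3 h1 | exact htri _ _ _ h3 h1 h2 | exact htri _ _ _ h3 h2 h1
  have h1 := SimpleGraph.CliqueFree.card_edgeFinset_le hcf
  simp only [Fintype.card_fin] at h1
  refine le_trans ?_ (h1.trans ?_)
  · refine Finset.card_le_card_of_injOn (fun t => s(t.1, t.2)) ?_ ?_
    · intro t ht
      simp only [Finset.mem_coe, SimpleGraph.mem_edgeFinset, SimpleGraph.mem_edgeSet]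
      exact ⟨(hlt t ht).ne, Or.inl ht⟩
    · intro t ht t' ht' he
      rcases Sym2.eq_iff.1 he with ⟨h, h'⟩ | ⟨h, h'⟩
      · exact Prod.ext h h'
      · have := hlt t ht; have := hlt t' ht'; rw [h, h'] at *; omega
  · rcases Nat.mod_two_eq_zero_or_one m with h | h <;> simp [h, Nat.choose_succ_self]
    omega

variable {p : ℕ} [hp : Fact p.Prime]

/-- A `p`-group of unitriangular matrices is generated by `m² / 4` elements. -/
theorem exists_generators {K : Type*} [Group K] [Finite K] (hK : IsPGroup p K)
    (f : K →* Matrix (Fin m) (Fin m) (ZMod p)) (hf : Function.Injective f) (huni : ∀ x, IsUni (f x)) :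
    ∃ S : Finset K, S.card ≤ m ^ 2 / 4 ∧ Subgroup.closure (S : Set K) = ⊤ := by
  classical
  set T : Finset (Fin m × Fin m) := Finset.univ.filter fun t =>
    (∃ x, IsFirst (f x) t.1 t.2) ∧ ¬ ∃ x ∈ frattini K, IsFirst (f x) t.1 t.2 with hT
  have hmem : ∀ t, t ∈ T ↔ (∃ x, IsFirst (f x) t.1 t.2) ∧ ¬ ∃ x ∈ frattini K, IsFirst (f x) t.1 t.2 :=
    fun t => by simp [hT]
  have htri : ∀ a b c, (a, b) ∈ T → (b, c) ∈ T → (a, c) ∉ T := by
    intro a b c h1 h2 h3
    obtain ⟨⟨x, hx⟩, -⟩ := (hmem _).1 h1
    obtain ⟨⟨y, hy⟩, -⟩ := (hmem _).1 h2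
    refine ((hmem _).1 h3).2 ⟨(y * x)⁻¹ * (x * y), CfsgLib.PGroup.commutator_le_frattini hK ?_,
      isFirst_of_mul_eq (huni x) (huni y) (huni _) ?_ hx hy⟩
    · rw [show (y * x)⁻¹ * (x * y) = ⁅x⁻¹, y⁻¹⁆ by rw [commutatorElement_def]; group]
      exact Subgroup.commutator_mem_commutator (Subgroup.mem_top _) (Subgroup.mem_top _)
    · rw [← map_mul, ← map_mul, ← map_mul, mul_inv_cancel_left]
  let g : Fin m × Fin m → K := fun t => if h : ∃ x, IsFirst (f x) t.1 t.2 then h.choose else 1
  have hg : ∀ t ∈ T, IsFirst (f (g t)) t.1 t.2 := by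
    intro t ht
    have h := ((hmem t).1 ht).1
    simp only [g, dif_pos h]
    exact h.choose_spec
  refine ⟨T.image g, Finset.card_image_le.trans (card_le_of_triangleFree T ?_ htri), ?_⟩
  · exact fun t ht => (hg t ht).1
  refine frattini_nongenerating ?_
  set L := Subgroup.closure ((T.image g : Finset K) : Set K) ⊔ frattini K with hL
  have hrep : ∀ x i j, IsFirst (f x) i j → ∃ y ∈ L, IsFirst (f y) i j := by
    intro x i j hx
    by_cases hp' : ∃ y ∈ frattini K, IsFirst (f y) i j
    · obtain ⟨y, hy, hy'⟩ := hp'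
      exact ⟨y, Subgroup.mem_sup_right hy, hy'⟩
    · have ht : (i, j) ∈ T := (hmem _).2 ⟨⟨x, hx⟩, hp'⟩
      exact ⟨g (i, j), Subgroup.mem_sup_left (Subgroup.subset_closure
        (Finset.mem_coe.2 (Finset.mem_image.2 ⟨_, ht, rfl⟩))), hg _ ht⟩
  let key : Fin m → Fin m → ℕ := fun a b => ((b : ℕ) - a) * m + a
  have key_lt : ∀ a b, a < b → key a b < m * m + m := by
    intro a b h
    have : ((b : ℕ) - a) * m ≤ m * m := Nat.mul_le_mul_right _ (by omega)
    have := a.isLt
    show ((b : ℕ) - a) * m + a < m * m + m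
    omega
  have key_before : ∀ a b i j, a < b → i < j → (key a b < key i j ↔ Before a b i j) := by
    intro a b i j h h'
    obtain ⟨u, hu⟩ : ∃ u, (b : ℕ) = a + u := ⟨(b : ℕ) - a, by omega⟩
    obtain ⟨v, hv⟩ : ∃ v, (j : ℕ) = i + v := ⟨(j : ℕ) - i, by omega⟩
    have ha := a.isLt
    have hi := i.isLt
    show ((b : ℕ) - a) * m + a < ((j : ℕ) - i) * m + i ↔ _
    rw [show (b : ℕ) - a = u by omega, show (j : ℕ) - i = v by omega]
    unfold Before
    constructor
    · intro hk
      rcases lt_trichotomy u v with huv | huv | huv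
      · left; omega
      · subst huv; right; exact ⟨by omega, by omega⟩
      · have : (v + 1) * m ≤ u * m := Nat.mul_le_mul_right _ huv
        rw [add_mul, one_mul] at this
        omega
    · rintro (hk | ⟨hk, hk'⟩)
      · have : (u + 1) * m ≤ v * m := Nat.mul_le_mul_right _ (by omega)
        rw [add_mul, one_mul] at this
        omega
      · have : u = v := by omega
        subst this; omega
  have main : ∀ (d : ℕ) (x : K),
      (∀ a b, a < b → key a b + d < m * m + m → f x a b = 0) → x ∈ L := by
    intro d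
    induction d with
    | zero =>
      intro x hx
      have : x = 1 := hf (by
        rw [map_one]
        ext a b
        rcases lt_trichotomy a b with h | rfl | h
        · rw [hx a b h (by have := key_lt a b h; omega), one_apply_ne h.ne]
        · rw [(huni x).2, one_apply_eq]
        · rw [(huni x).1 a b h, one_apply_ne h.ne'])
      rw [this]; exact one_mem _
    | succ d ih =>
      intro x hx
      by_cases hex : ∃ i j : Fin m, i < j ∧ key i j + (d + 1) = m * m + m ∧ f x i j ≠ 0
      · obtain ⟨i, j, hij, hkey, hne⟩ := hex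
        have hxf : IsFirst (f x) i j := ⟨hij, hne, fun a b h hb =>
          hx a b h (by have := (key_before a b i j h hij).2 hb; omega)⟩
        obtain ⟨y, hyL, -, hyne, hy0⟩ := hrep x i j hxf
        set s := (-(f x i j) / f y i j).val
        have hmem' : y ^ s * x ∈ L := by
          refine ih _ fun a b h hab => ?_
          have hle : Before a b i j ∨ (a = i ∧ b = j) := by
            rcases Nat.lt_or_ge (key a b) (key i j) with hk | hk
            · exact Or.inl ((key_before a b i j h hij).1 hk)
            · right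
              have hn : ¬ Before i j a b := fun hb => by
                have := (key_before i j a b hij h).2 hb; omega
              have hn' : ¬ Before a b i j := fun hb => by
                have := (key_before a b i j h hij).2 hb; omega
              unfold Before at hn hn'
              constructor <;> (ext; omega)
          rw [map_mul, map_pow, mul_apply_low ((huni y).pow s) (huni x) h hle fun a b h hb => by
            rw [pow_apply_low (huni y) hy0 s h (Or.inl hb), hy0 a b h hb, mul_zero],
            pow_apply_low (huni y) hy0 s h hle]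
          rcases hle with hb | ⟨rfl, rfl⟩
          · rw [hy0 a b h hb, hxf.2.2 a b h hb, mul_zero, add_zero]
          · rw [ZMod.natCast_zmod_val, div_mul_cancel₀ _ hyne, neg_add_cancel]
        have := mul_mem (inv_mem (pow_mem hyL s)) hmem'
        rwa [inv_mul_cancel_left] at this
      · push Not at hex
        refine ih x fun a b h hab => ?_
        by_cases he : key a b + (d + 1) = m * m + m
        · exact hex a b h he
        · exact hx a b h (by omega)
  exact eq_top_iff.2 fun x _ => main (m * m + m) x fun a b h hk => absurd hk (by omega)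

end CfsgLib.PGroup.UniGen
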