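import Cfsg.Agent.Lib.PGroup.HallHigmanLength
import Mathlib.LinearAlgebra.Dual.Lemmas
import Mathlib.Algebra.Group.TransferInstance
import Cfsg.Agent.Lib.LocalEven.S4Section

/-!
A nonzero norm on the Frattini quotient produces a section isomorphic to `C_p ≀ C_p`.
-/

set_option autoImplicit false

namespace CfsgLib.PGroup

open Subgroup Cfsg

/-- A shift invariant space of functions on `ZMod p` containing one with nonzero sum is everything. -/
theorem shift_invariant_eq_top {p : ℕ} [hp : Fact p.Prime] (I : Submodule (ZMod p) (ZMod p → ZMod p))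
    (hI : ∀ g ∈ I, (fun j => g (j + 1)) ∈ I) {f : ZMod p → ZMod p} (hf : f ∈ I)
    (hs : ∑ j, f j ≠ 0) : I = ⊤ := by
  classical
  by_contra hne
  obtain ⟨φ, hφ, hIφ⟩ := Submodule.exists_le_ker_of_lt_top I (lt_top_iff_ne_top.2 hne)
  let a : ZMod p → ZMod p := fun j => φ (Pi.single j 1)
  have hφa : ∀ g, φ g = ∑ j, g j * a j := fun g => by
    conv_lhs => rw [pi_eq_sum_univ' g]
    rw [map_sum]
    exact Finset.sum_congr rfl fun j _ => by rw [map_smul, smul_eq_mul]
  let T : Module.End (ZMod p) (ZMod p → ZMod p) :=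
    LinearMap.funLeft (ZMod p) (ZMod p) fun j : ZMod p => j - 1
  have hTi : ∀ (i : ℕ) (b : ZMod p → ZMod p) j, (T ^ i) b j = b (j - i) := by
    intro i
    induction i with
    | zero => intro b j; simp
    | succ i ih =>
      intro b j
      rw [pow_succ', Module.End.mul_apply]
      show (T ^ i) b (j - 1) = _
      rw [ih]; push_cast; ring_nf
  have hTp : T ^ p = 1 := LinearMap.ext fun b => funext fun j => by
    rw [hTi]; simp
  haveI : CharP (Module.End (ZMod p) (ZMod p → ZMod p)) p :=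
    charP_of_injective_algebraMap (algebraMap (ZMod p) _).injective p
  have hnil : (T - 1) ^ p = 0 :=
    (sub_pow_char_of_commute p (Commute.one_right T)).trans (by rw [one_pow, hTp, sub_self])
  have ha : a ≠ 0 := fun h => hφ (LinearMap.ext fun g => by
    rw [hφa, h, LinearMap.zero_apply]; simp)
  have hex : ∃ m : ℕ, ((T - 1) ^ m) a = 0 := ⟨p, by rw [hnil, LinearMap.zero_apply]⟩
  obtain ⟨m, hm⟩ : ∃ m, Nat.find hex = m + 1 := Nat.exists_eq_succ_of_ne_zero fun h => ha (by
    have := Nat.find_spec hex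
    rwa [h, pow_zero, Module.End.one_apply] at this)
  obtain ⟨c, hc⟩ : ∃ c, c = ((T - 1) ^ m) a := ⟨_, rfl⟩
  have hc0 : c ≠ 0 := hc ▸ Nat.find_min hex (by omega)
  have hfix : T c = c := by
    have := Nat.find_spec hex
    rwa [hm, pow_succ', Module.End.mul_apply, ← hc, LinearMap.sub_apply, Module.End.one_apply,
      sub_eq_zero] at this
  have hconst : ∀ j, c j = c 0 := fun j => by
    have h1 : ∀ i : ℕ, (T ^ i) c = c := by
      intro i
      induction i with
      | zero => rfl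
      | succ i ih => rw [pow_succ, Module.End.mul_apply, hfix, ih]
    have h2 := congrFun (h1 j.val) j
    rw [hTi, ZMod.natCast_zmod_val, sub_self] at h2
    exact h2.symm
  have hann : ∀ m : ℕ, ∀ g ∈ I, ∑ j, g j * ((T - 1) ^ m) a j = 0 := by
    intro m
    induction m with
    | zero => intro g hg; rw [pow_zero]; exact (hφa g).symm.trans (hIφ hg)
    | succ m ih =>
      intro g hg
      simp only [pow_succ', Module.End.mul_apply, LinearMap.sub_apply, Module.End.one_apply,
        Pi.sub_apply, mul_sub, Finset.sum_sub_distrib, ih g hg, sub_zero]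
      rw [← Equiv.sum_comp (Equiv.addRight (1 : ZMod p))]
      refine (Finset.sum_congr rfl fun j _ => ?_).trans (ih _ (hI g hg))
      show g (j + 1) * ((T - 1) ^ m) a (j + 1 - 1) = _
      rw [add_sub_cancel_right]
  have hf0 := hann m f hf
  rw [← hc, Finset.sum_congr rfl fun j _ => by rw [hconst j], ← Finset.sum_mul] at hf0
  exact hc0 (funext fun j => (hconst j).trans ((mul_eq_zero.1 hf0).resolve_left hs))

theorem exists_dual_ne_zero {p : ℕ} [Fact p.Prime] {A : Type*} [AddCommGroup A] [Module (ZMod p) A]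
    {a : A} (ha : a ≠ 0) : ∃ φ : A →+ ZMod p, φ a ≠ 0 := by
  by_contra hcon
  push Not at hcon
  exact ha ((Module.forall_dual_apply_eq_zero_iff (ZMod p) a).1 fun φ => hcon φ.toAddMonoidHom)

/-- Outside the Frattini subgroup of a `p`-group some character of order `p` is nontrivial. -/
theorem exists_char_ne_one {R : Type*} [Group R] [Finite R] {p : ℕ} [hp : Fact p.Prime]
    (hR : IsPGroup p R) {c : R} (hc : c ∉ frattini R) :
    ∃ χ : R →* Multiplicative (ZMod p), χ c ≠ 1 := by
  letI : CommGroup (R ⧸ frattini R) :=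
    { (inferInstance : Group (R ⧸ frattini R)) with mul_comm := quotient_frattini_comm hR }
  have hexp : ∀ a : Additive (R ⧸ frattini R), p • a = 0 := fun a =>
    Additive.toMul.injective (by rw [toMul_nsmul, toMul_zero]; exact quotient_frattini_pow hR _)
  obtain ⟨φ, hφ⟩ := @exists_dual_ne_zero p hp (Additive (R ⧸ frattini R)) _
    (AddCommGroup.zmodModule hexp) (Additive.ofMul (c : R ⧸ frattini R))
    fun h => hc ((QuotientGroup.eq_one_iff c).1 (Additive.ofMul.injective (h.trans ofMul_one.symm)))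
  exact ⟨(AddMonoidHom.toMultiplicativeRight φ).comp (QuotientGroup.mk' (frattini R)),
    fun h => hφ (congrArg Multiplicative.toAdd h)⟩

/-- A finite group has a model in `Type`. -/
theorem exists_type_model (X : Type*) [Group X] [Finite X] :
    ∃ (W : Type) (_ : Group W) (_ : Finite W), Nonempty (W ≃* X) :=
  ⟨Fin (Nat.card X), (Finite.equivFin X).symm.group, inferInstance,
    ⟨(Finite.equivFin X).symm.mulEquiv⟩⟩

set_option maxHeartbeats 800000 in
/-- An element of order `p` modulo `O_p(G)` gives a section `C_p ≀ C_p` of a Sylow subgroup. -/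
theorem involves_wreath {G : Type*} [Group G] [Finite G] {p : ℕ} [hp : Fact p.Prime] (hp2 : p ≠ 2)
    (hsol : IsPSolvable p G) (hO : pPrimeCore p G = ⊥) (hnf : ¬ ∃ k : ℕ, p = 2 ^ k + 1)
    (P : Sylow p G) {x : G} (hxP : x ∈ (P : Subgroup G)) (hxR : x ∉ pCore p G)
    (hxp : x ^ p ∈ pCore p G) :
    ∃ (W : Type) (_ : Group W) (_ : Finite W),
      (∃ (B : Subgroup W) (t : W), B.Normal ∧ IsMulCommutative B ∧ (∀ b ∈ B, b ^ p = 1) ∧
        Nat.card B = p ^ p ∧ orderOf t = p ∧ t ∉ B ∧ Nat.card W = p ^ (p + 1) ∧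
        Nat.card ↥(B ⊓ Subgroup.centralizer ({t} : Set W)) = p) ∧
      Involves W ↥(P : Subgroup G) := by
  classical
  have hR0 : IsPGroup p (pCore p G) := CfsgLib.Cores.isPGroup_pCore p
  have hRP0 : pCore p G ≤ (P : Subgroup G) := CfsgLib.Cores.pCore_le_sylow P
  haveI hRn : (pCore p G).Normal := inferInstance
  set R := pCore p G with hR
  obtain ⟨r0, hr0⟩ := exists_norm_not_mem_frattini (n := 0) hp2 hsol hO (Or.inl hnf) (x := x)
    (by rwa [zero_add, pow_one]) (by rwa [pow_zero, pow_one])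
  simp only [zero_add, pow_one] at hr0
  obtain ⟨cn, hcn⟩ : ∃ cn : R, (cn : G) * x ^ p = ((r0 : G) * x) ^ p := by
    refine ⟨⟨((r0 : G) * x) ^ p * (x ^ p)⁻¹, mul_mem ?_ (inv_mem hxp)⟩, inv_mul_cancel_right _ _⟩
    rw [← QuotientGroup.eq_one_iff, QuotientGroup.mk_pow, QuotientGroup.mk_mul,
      (QuotientGroup.eq_one_iff (r0 : G)).2 r0.2, one_mul, ← QuotientGroup.mk_pow,
      QuotientGroup.eq_one_iff]
    exact hxp
  have hcnf := hr0 cn hcn
  -- a functional on the Frattini quotient not killing the norm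
  obtain ⟨χ, hχ⟩ := exists_char_ne_one hR0 hcnf
  have hχn : (χ cn).toAdd ≠ 0 := fun h => hχ (Multiplicative.toAdd.injective h)
  let cj : G → R → R := fun g r => MulAut.conjNormal g r
  have hcj : ∀ g r, ((cj g r : R) : G) = g * r * g⁻¹ := fun g r => rfl
  have hcjm : ∀ g h r, cj (g * h) r = cj g (cj h r) := fun g h r => Subtype.ext (by
    rw [hcj, hcj, hcj]; group)
  have hcjR : ∀ (v r : R), χ (cj (v : G) r) = χ r := fun v r => by
    rw [show cj (v : G) r = v * r * v⁻¹ from Subtype.ext (by rw [hcj]; rfl), map_mul, map_mul,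
      map_inv, mul_inv_cancel_comm]
  -- the coordinate map to the regular module
  obtain ⟨Ψ, hΨ⟩ : ∃ Ψ : R →* Multiplicative (ZMod p → ZMod p),
      ∀ r j, (Ψ r).toAdd j = (χ (cj (x ^ j.val) r)).toAdd :=
    ⟨{ toFun := fun r => Multiplicative.ofAdd fun j => (χ (cj (x ^ j.val) r)).toAdd
       map_one' := by
        refine congrArg Multiplicative.ofAdd (funext fun j => ?_)
        simp [cj]
       map_mul' := fun a b => by
        rw [← ofAdd_add]
        refine congrArg Multiplicative.ofAdd (funext fun j => ?_)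
        simp [cj] }, fun r j => rfl⟩
  have hper : ∀ m r, χ (cj (x ^ m) r) = χ (cj (x ^ (m % p)) r) := by
    intro m r
    conv_lhs => rw [← Nat.div_add_mod m p, pow_add, pow_mul, hcjm]
    exact hcjR ⟨(x ^ p) ^ (m / p), pow_mem hxp _⟩ _
  have hΨm : ∀ (m : ℕ) r j, (Ψ (cj (x ^ m) r)).toAdd j = (Ψ r).toAdd (j + m) := by
    intro m r j
    rw [hΨ, hΨ, ← hcjm, ← pow_add, hper, ZMod.val_add, ZMod.val_natCast, Nat.add_mod_mod]
  have hpow : ∀ (m : ℕ) (r : R), ∃ c : R, (c : G) * x ^ m = ((r : G) * x) ^ m ∧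
      ∀ j, (Ψ c).toAdd j = ∑ i ∈ Finset.range m, (Ψ r).toAdd (j + i) := by
    intro m r
    induction m with
    | zero => exact ⟨1, by simp, fun j => by simp⟩
    | succ m ih =>
      obtain ⟨c, hc1, hc2⟩ := ih
      refine ⟨c * cj (x ^ m) r, ?_, fun j => ?_⟩
      · rw [pow_succ ((r : G) * x) m, ← hc1, Subgroup.coe_mul, hcj, pow_succ]
        group
      · rw [map_mul, toAdd_mul, Pi.add_apply, hc2, hΨm, Finset.sum_range_succ]
  have hsum : ∀ (g : ZMod p → ZMod p) (j : ZMod p), ∑ i ∈ Finset.range p, g (j + i) = ∑ i, g i := by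
    intro g j
    rw [← Equiv.sum_comp (Equiv.addLeft j)]
    refine Finset.sum_bij (fun i _ => (i : ZMod p)) (fun i _ => Finset.mem_univ _) ?_ ?_ (fun i _ => rfl)
    · intro a ha b hb h
      have h1 := congrArg ZMod.val h
      rwa [ZMod.val_natCast, ZMod.val_natCast, Nat.mod_eq_of_lt (Finset.mem_range.1 ha),
        Nat.mod_eq_of_lt (Finset.mem_range.1 hb)] at h1
    · exact fun b _ => ⟨b.val, Finset.mem_range.2 (ZMod.val_lt b), ZMod.natCast_zmod_val b⟩
  have hcnsum : ∑ j, (Ψ r0).toAdd j ≠ 0 := by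
    obtain ⟨c, hc1, hc2⟩ := hpow p r0
    have : c = cn := Subtype.ext (mul_right_cancel (hc1.trans hcn.symm))
    rw [← hsum _ 0, ← hc2 0, this, hΨ, ZMod.val_zero, pow_zero,
      show cj 1 cn = cn from Subtype.ext (by rw [hcj]; group)]
    exact hχn
  have hsurj : Function.Surjective Ψ := by
    let I : Submodule (ZMod p) (ZMod p → ZMod p) :=
      AddSubgroup.toZModSubmodule p (AddMonoidHom.range (MonoidHom.toAdditiveLeft Ψ))
    have htop : I = ⊤ := shift_invariant_eq_top I (fun g hg => by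
      obtain ⟨r, rfl⟩ := hg
      refine ⟨Additive.ofMul (cj (x ^ 1) r.toMul), funext fun j => ?_⟩
      show (Ψ (cj (x ^ 1) r.toMul)).toAdd j = (Ψ r.toMul).toAdd (j + 1)
      rw [hΨm, Nat.cast_one]) (f := (Ψ r0).toAdd) ⟨Additive.ofMul r0, rfl⟩ hcnsum
    intro v
    have hv : v.toAdd ∈ I := htop ▸ Submodule.mem_top
    obtain ⟨r, hr⟩ := hv
    exact ⟨r.toMul, Multiplicative.toAdd.injective hr⟩
  -- the ambient subgroup and the kernel
  set H0 := R ⊔ zpowers x with hH0
  set N := Ψ.ker.map R.subtype with hN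
  have hH0P : H0 ≤ (P : Subgroup G) := sup_le hRP0 (zpowers_le.2 hxP)
  have hxH : x ∈ H0 := mem_sup_right (mem_zpowers x)
  have hRH : R ≤ H0 := le_sup_left
  have hNR : N ≤ R := map_subtype_le _
  have hmemN : ∀ r : R, (r : G) ∈ N ↔ Ψ r = 1 := fun r => by
    show R.subtype r ∈ Ψ.ker.map R.subtype ↔ _
    rw [mem_map_iff_mem R.subtype_injective]; rfl
  have hnorm : H0 ≤ normalizer (N : Set G) := by
    refine sup_le (le_normalizer_iff.2 fun v hv k hk => ?_) (le_normalizer_iff.2 fun v hv k hk => ?_)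
    · obtain ⟨a, h, rfl⟩ := hk
      have h1 : Ψ a = 1 := h
      refine (hmemN (cj v a)).2 ?_
      rw [show cj v a = (⟨v, hv⟩ : R) * a * (⟨v, hv⟩ : R)⁻¹ from Subtype.ext (by rw [hcj]; rfl),
        map_mul, map_mul, map_inv, h1, mul_one, mul_inv_cancel]
    · obtain ⟨a, h, rfl⟩ := hk
      have h1 : Ψ a = 1 := h
      obtain ⟨m, rfl⟩ := mem_powers_iff_mem_zpowers.2 hv
      refine (hmemN (cj (x ^ m) a)).2 (Multiplicative.toAdd.injective (funext fun j => ?_))
      rw [hΨm, h1]; rfl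
  haveI hN0 : (N.subgroupOf H0).Normal := (normal_subgroupOf_iff_le_normalizer (hNR.trans hRH)).2 hnorm
  set π := QuotientGroup.mk' (N.subgroupOf H0) with hπ
  set B0 := (R.subgroupOf H0).map π with hB0
  haveI hB0n : B0.Normal := by
    haveI : (R.subgroupOf H0).Normal := inferInstance
    exact Subgroup.Normal.map inferInstance π (QuotientGroup.mk'_surjective _)
  have hπR : ∀ r r' : R, π ⟨r, hRH r.2⟩ = π ⟨r', hRH r'.2⟩ ↔ Ψ r = Ψ r' := fun r r' => by
    rw [hπ, QuotientGroup.mk'_apply, QuotientGroup.mk'_apply, QuotientGroup.eq, mem_subgroupOf]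
    show ((r⁻¹ * r' : R) : G) ∈ N ↔ _
    rw [hmemN, map_mul, map_inv, inv_mul_eq_one]
  let β : Multiplicative (ZMod p → ZMod p) → ↥B0 := fun v =>
    ⟨π ⟨(Function.surjInv hsurj v : R), hRH (Function.surjInv hsurj v).2⟩,
      mem_map_of_mem π (mem_subgroupOf.2 (Function.surjInv hsurj v).2)⟩
  have hβ : ∀ r : R, ((β (Ψ r)) : ↥H0 ⧸ N.subgroupOf H0) = π ⟨r, hRH r.2⟩ := fun r =>
    (hπR _ r).2 (Function.surjInv_eq hsurj _)
  have hmemB : ∀ z : ↥B0, ∃ r : R, π ⟨r, hRH r.2⟩ = (z : ↥H0 ⧸ N.subgroupOf H0) := by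
    rintro ⟨z, h, hh, rfl⟩
    exact ⟨⟨h.1, mem_subgroupOf.1 hh⟩, rfl⟩
  have hβb : Function.Bijective β := by
    constructor
    · intro v v' h
      have := (hπR _ _).1 (congrArg Subtype.val h)
      rwa [Function.surjInv_eq hsurj, Function.surjInv_eq hsurj] at this
    · intro z
      obtain ⟨r, hr⟩ := hmemB z
      exact ⟨Ψ r, Subtype.ext ((hβ r).trans hr)⟩
  have hcardB : Nat.card B0 = p ^ p := by
    rw [← Nat.card_congr (Equiv.ofBijective β hβb), Nat.card_congr Multiplicative.toAdd, Nat.card_fun,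
      Nat.card_zmod]
  -- the complement
  obtain ⟨cx, hcxdef⟩ : ∃ cx : R, (cx : G) = x ^ p := ⟨⟨x ^ p, hxp⟩, rfl⟩
  have hcxfix : ∀ j, (Ψ cx).toAdd j = (Ψ cx).toAdd 0 := fun j => by
    have h := hΨm j.val cx 0
    rw [show cj (x ^ j.val) cx = cx from Subtype.ext (by rw [hcj, hcxdef]; group), zero_add,
      ZMod.natCast_zmod_val] at h
    exact h.symm
  obtain ⟨r1, hr1⟩ := hsurj (Multiplicative.ofAdd
    ((-((Ψ cx).toAdd 0) * (∑ j, (Ψ r0).toAdd j)⁻¹) • (Ψ r0).toAdd))
  obtain ⟨c1, hc11, hc12⟩ := hpow p r1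
  have hkill : Ψ (c1 * cx) = 1 := by
    refine Multiplicative.toAdd.injective (funext fun j => ?_)
    rw [map_mul, toAdd_mul, Pi.add_apply, hc12, hsum, hr1, hcxfix j, toAdd_ofAdd, toAdd_one,
      Pi.zero_apply]
    simp only [Pi.smul_apply, smul_eq_mul, ← Finset.mul_sum]
    rw [mul_assoc, inv_mul_cancel₀ hcnsum, mul_one, neg_add_cancel]
  set t0 : ↥H0 ⧸ N.subgroupOf H0 := π ⟨(r1 : G) * x, mul_mem (hRH r1.2) hxH⟩ with ht0
  have ht0B : t0 ∉ B0 := by
    intro h
    obtain ⟨r, hr⟩ := hmemB ⟨t0, h⟩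
    change π ⟨r, hRH r.2⟩ = t0 at hr
    rw [ht0, hπ, QuotientGroup.mk'_apply, QuotientGroup.mk'_apply, QuotientGroup.eq,
      mem_subgroupOf] at hr
    have h1 : (r : G)⁻¹ * ((r1 : G) * x) ∈ R := hNR hr
    refine hxR ?_
    have := mul_mem (inv_mem r1.2) (mul_mem r.2 h1)
    simpa [mul_assoc] using this
  have ht0p : t0 ^ p = 1 := by
    rw [ht0, ← map_pow, hπ, QuotientGroup.mk'_apply, QuotientGroup.eq_one_iff, mem_subgroupOf]
    show ((r1 : G) * x) ^ p ∈ N
    rw [← hc11, ← hcxdef, ← Subgroup.coe_mul]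
    exact (hmemN _).2 hkill
  have ht0o : orderOf t0 = p := orderOf_eq_prime ht0p fun h => ht0B (h ▸ one_mem _)
  have hcentB : Nat.card ↥(B0 ⊓ Subgroup.centralizer ({t0} : Set (↥H0 ⧸ N.subgroupOf H0))) = p := by
    have hfix : ∀ r : R, π ⟨r, hRH r.2⟩ * t0 = t0 * π ⟨r, hRH r.2⟩ ↔
        ∀ j, (Ψ r).toAdd j = (Ψ r).toAdd 0 := by
      intro r
      have h1 : Ψ (cj ((r1 : G) * x) r) = Ψ (cj (x ^ 1) r) := by
        rw [hcjm, pow_one, show cj (r1 : G) (cj x r) = r1 * cj x r * r1⁻¹ from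
          Subtype.ext (by rw [hcj]; rfl), map_mul, map_mul, map_inv, mul_inv_cancel_comm]
      have h2 : t0 * π ⟨r, hRH r.2⟩ = π ⟨cj ((r1 : G) * x) r, hRH (cj _ r).2⟩ * t0 := by
        rw [ht0, ← map_mul, ← map_mul]
        refine congrArg π (Subtype.ext ?_)
        show (r1 : G) * x * r = (r1 : G) * x * r * ((r1 : G) * x)⁻¹ * ((r1 : G) * x)
        group
      rw [h2, mul_left_inj, hπR, h1]
      constructor
      · intro h j
        have hstep : ∀ i : ℕ, (Ψ r).toAdd (i : ZMod p) = (Ψ r).toAdd 0 := by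
          intro i
          induction i with
          | zero => simp
          | succ i ih =>
            rw [← ih, Nat.cast_succ]
            conv_rhs => rw [h]
            rw [hΨm, Nat.cast_one]
        rw [← ZMod.natCast_zmod_val j]; exact hstep _
      · intro h
        refine Multiplicative.toAdd.injective (funext fun j => ?_)
        rw [hΨm, h j, h (j + _)]
    refine (Nat.card_congr (Equiv.ofBijective
      (fun a : ZMod p => (⟨(β (Multiplicative.ofAdd fun _ => a)).1, (β _).2, ?_⟩ :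
        ↥(B0 ⊓ Subgroup.centralizer ({t0} : Set (↥H0 ⧸ N.subgroupOf H0))))) ⟨?_, ?_⟩)).symm.trans
      (Nat.card_zmod p)
    · obtain ⟨r, hr⟩ := hsurj (Multiplicative.ofAdd fun _ => a)
      refine Subgroup.mem_centralizer_singleton_iff.2 ?_
      rw [← hr, hβ]
      exact (hfix r).2 (fun j => by rw [hr]; rfl)
    · intro a a' h
      have h1 := congrArg Subtype.val h
      exact congrFun (Multiplicative.ofAdd.injective (hβb.1 (Subtype.ext h1))) 0
    · rintro ⟨z, hz, hzc⟩
      obtain ⟨r, hr⟩ := hmemB ⟨z, hz⟩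
      refine ⟨(Ψ r).toAdd 0, Subtype.ext ?_⟩
      replace hzc := Subgroup.mem_centralizer_singleton_iff.1 hzc
      change π ⟨r, hRH r.2⟩ = z at hr
      have h3 : π ⟨r, hRH r.2⟩ * t0 = t0 * π ⟨r, hRH r.2⟩ := by
        rw [hr]; first | exact hzc | exact hzc.symm
      have h4 : (Multiplicative.ofAdd fun _ => (Ψ r).toAdd 0) = Ψ r :=
        Multiplicative.toAdd.injective (funext fun j => ((hfix r).1 h3 j).symm)
      show (β _).1 = z
      rw [h4]; exact (hβ r).trans hr
  have hcard : Nat.card (↥H0 ⧸ N.subgroupOf H0) = p ^ (p + 1) := by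
    have hq : B0.index = p := by
      have hle : (N.subgroupOf H0) ≤ R.subgroupOf H0 := subgroupOf_mono H0 hNR
      rw [hB0, index_map_eq _ (QuotientGroup.mk'_surjective _) (by rw [QuotientGroup.ker_mk']; exact hle)]
      show R.relIndex H0 = p
      rw [hH0, relIndex_sup_left, relIndex, show R.subgroupOf (zpowers x) =
        zpowers (⟨x ^ p, pow_mem (mem_zpowers x) p⟩ : zpowers x) from ?_, Subgroup.index]
      swap
      · refine le_antisymm (fun y hy => ?_) (zpowers_le.2 (mem_subgroupOf.2 hxp))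
        obtain ⟨i, hi⟩ := mem_zpowers_iff.1 y.2
        have hdvd : (p : ℤ) ∣ i := by
          by_contra hnd
          obtain ⟨u, v, huv⟩ := (Nat.prime_iff_prime_int.1 hp.out).coprime_iff_not_dvd.2 hnd
          refine hxR ?_
          have : x = (x ^ p) ^ u * (x ^ i) ^ v := by
            rw [← zpow_natCast x p, ← zpow_mul, ← zpow_mul, ← zpow_add, mul_comm (p : ℤ), mul_comm i,
              huv, zpow_one]
          rw [this]
          exact mul_mem (zpow_mem hxp u) (zpow_mem (hi ▸ mem_subgroupOf.1 hy) v)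
        obtain ⟨c, rfl⟩ := hdvd
        exact mem_zpowers_iff.2 ⟨c, Subtype.ext (by
          rw [SubgroupClass.coe_zpow, ← hi, zpow_mul, zpow_natCast])⟩
      have h1 := Subgroup.card_eq_card_quotient_mul_card_subgroup
        (zpowers (⟨x ^ p, pow_mem (mem_zpowers x) p⟩ : zpowers x))
      rw [Nat.card_zpowers, Nat.card_zpowers] at h1
      have hdvd : p ∣ orderOf x := by
        obtain ⟨a, ha⟩ := (P.2.to_le (zpowers_le.2 hxP)).exists_card_eq
        rw [Nat.card_zpowers] at ha
        rcases Nat.eq_zero_or_pos a with rfl | hpos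
        · rw [pow_zero, orderOf_eq_one_iff] at ha
          exact absurd (ha ▸ one_mem R) hxR
        · rw [ha]; exact dvd_pow_self p hpos.ne'
      rw [← orderOf_coe, orderOf_pow, Nat.gcd_eq_right hdvd] at h1
      obtain ⟨e, he⟩ := hdvd
      rw [he, Nat.mul_div_cancel_left e hp.out.pos] at h1
      have he0 : 0 < e := by
        have := orderOf_pos x
        rw [he] at this
        exact pos_of_mul_pos_right this (Nat.zero_le p) |>.trans_le le_rfl
      exact (Nat.eq_of_mul_eq_mul_right he0 h1).symm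
    rw [← B0.card_mul_index, hcardB, hq, pow_succ]
  obtain ⟨W, iW, iWf, ⟨e⟩⟩ := exists_type_model (↥H0 ⧸ N.subgroupOf H0)
  refine ⟨W, iW, iWf, ⟨B0.comap e.toMonoidHom, e.symm t0, inferInstance, ?_, ?_, ?_, ?_, ?_, ?_, ?_⟩, ?_⟩
  · refine ⟨⟨fun a b => Subtype.ext (e.injective ?_)⟩⟩
    obtain ⟨ra, hra⟩ := hmemB ⟨e a.1, a.2⟩
    obtain ⟨rb, hrb⟩ := hmemB ⟨e b.1, b.2⟩
    dsimp only at hra hrb
    show e (a.1 * b.1) = e (b.1 * a.1)
    rw [map_mul, map_mul, ← hra, ← hrb, ← map_mul, ← map_mul]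
    exact (hπR (ra * rb) (rb * ra)).2 (by rw [map_mul, map_mul, mul_comm])
  · intro b hb
    obtain ⟨r, hr⟩ := hmemB ⟨e b, hb⟩
    dsimp only at hr
    refine e.injective ?_
    rw [map_pow, map_one, ← hr, ← map_pow, show (1 : ↥H0 ⧸ N.subgroupOf H0) =
      π ⟨((1 : R) : G), hRH (1 : R).2⟩ from (map_one π).symm]
    refine (hπR (r ^ p) 1).2 ?_
    rw [map_pow, map_one]
    refine Multiplicative.toAdd.injective (funext fun j => ?_)
    simp
  · rw [← hcardB]
    exact Nat.card_congr ⟨fun a => ⟨e a.1, a.2⟩, fun b => ⟨e.symm b.1, mem_comap.2 (by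
      show e (e.symm b.1) ∈ B0
      rw [e.apply_symm_apply]; exact b.2)⟩, fun a => Subtype.ext (e.symm_apply_apply a.1),
      fun b => Subtype.ext (e.apply_symm_apply b.1)⟩
  · rw [MulEquiv.orderOf_eq, ht0o]
  · rw [mem_comap]; show e (e.symm t0) ∉ B0; rw [e.apply_symm_apply]; exact ht0B
  · rw [Nat.card_congr e.toEquiv, hcard]
  · conv_rhs => rw [← hcentB]
    refine Nat.card_congr ⟨fun a => ⟨e a.1, a.2.1, ?_⟩, fun b => ⟨e.symm b.1, mem_comap.2 ?_, ?_⟩,
      fun a => Subtype.ext (e.symm_apply_apply a.1), fun b => Subtype.ext (e.apply_symm_apply b.1)⟩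
    · have h1 := Subgroup.mem_centralizer_singleton_iff.1 a.2.2
      refine Subgroup.mem_centralizer_singleton_iff.2 ?_
      have h2 := congrArg e h1
      rwa [map_mul, map_mul, e.apply_symm_apply] at h2
    · show e (e.symm b.1) ∈ B0
      rw [e.apply_symm_apply]; exact b.2.1
    · refine Subgroup.mem_centralizer_singleton_iff.2 ?_
      rw [← map_mul, ← map_mul, Subgroup.mem_centralizer_singleton_iff.1 b.2.2]
  · have h1 : Involves W ↥H0 := CfsgLib.LocalEven.Offender.involves_of_surjective π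
      (QuotientGroup.mk'_surjective _) (CfsgLib.LocalEven.Offender.involves_of_hom ⊤
        (e.symm.toMonoidHom.comp (Subgroup.topEquiv.toMonoidHom))
        (fun y => ⟨Subgroup.topEquiv.symm (e y), by simp⟩))
    exact CfsgLib.LocalEven.Offender.involves_of_injective (Subgroup.inclusion hH0P)
      (Subgroup.inclusion_injective hH0P) h1

end CfsgLib.PGroup
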