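import Cfsg.Agent.Lib.Solvable.Basic
import Cfsg.Agent.Lib.Transfer.SubnormalJoin
import Mathlib.GroupTheory.IsSubnormal

/-!
A generalisation of Wielandt's zipper lemma: if the normal closure of `A` is the whole group and
the join of the proper subgroups generated by their conjugates of `A` is proper, then `A` lies in
a unique maximal subgroup.
-/

set_option autoImplicit false

open scoped Pointwise

namespace CfsgLib.PGroup.ZipperJoin

open CfsgLib.Solvable

/-- The combinatorial core: a finite set of points with a relation preserved by two permutations. -/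
theorem comb {X : Type*} [Finite X] (S E : Set X) (r : X → X → Prop) (A : X) (f h : X ≃ X)
    (hAS : A ∈ S) (hAE : A ∉ E) (hE : E ⊆ S)
    (h1 : ∀ c ∈ S, r c A) (h2 : ∀ c ∈ S, ∀ e ∈ E, r c e)
    (hf : ∀ c, f c ∈ S \ E ↔ c ∈ S \ E) (hh : ∀ c, h c ∈ S \ {A} ↔ c ∈ S \ {A})
    (hrf : ∀ c d, r (f c) (f d) ↔ r c d) (hrh : ∀ c d, r (h c) (h d) ↔ r c d)
    (hfA : f A ≠ A)
    (h6 : ∀ t ∈ S, t ≠ A → r A t → ¬ r A (h t)) : False := by
  classical
  have hS0 : ∀ {c}, c ∈ S → c ≠ A → c ∈ S \ ({A} : Set X) := fun hc hne => ⟨hc, hne⟩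
  set a := f A with ha
  have haS : a ∈ S \ E := (hf A).2 ⟨hAS, hAE⟩
  have hra : ∀ c ∈ S \ E, r c a := by
    intro c hc
    have h0 : f.symm c ∈ S \ E := (hf _).1 (by rwa [f.apply_symm_apply])
    have := (hrf _ _).2 (h1 _ h0.1)
    rwa [f.apply_symm_apply] at this
  have hs : h a ∈ S \ ({A} : Set X) := (hh a).2 (hS0 haS.1 hfA)
  have hsA : ¬ r A (h a) := h6 a haS.1 hfA (hra A ⟨hAS, hAE⟩)
  let Good : Set X → Prop := fun Ω => ∀ w ∈ Ω,
    w ∈ S ∧ ¬ r A w ∧ ∀ c ∈ S, ¬ r c w → c ∉ E ∧ (c = A ∨ c ∈ Ω)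
  let Ω : Set X := ⋃₀ {Ω | Good Ω}
  have hΩ : Good Ω := by
    rintro w ⟨Ω', hΩ', hw⟩
    obtain ⟨k1, k2, k3⟩ := hΩ' w hw
    exact ⟨k1, k2, fun c hc hrc => ⟨(k3 c hc hrc).1,
      (k3 c hc hrc).2.imp id fun hcΩ => ⟨Ω', hΩ', hcΩ⟩⟩⟩
  -- the basic facts about one step
  have hwE : ∀ w ∈ Ω, w ∈ S \ E ∧ w ≠ A ∧ f w ∈ S \ E ∧ f w ≠ A ∧ r A (f w) ∧
      h (f w) ∈ S \ ({A} : Set X) ∧ ¬ r A (h (f w)) := by
    intro w hw
    obtain ⟨hwS, hwA, hwD⟩ := hΩ w hw
    have w1 : w ∈ S \ E := ⟨hwS, fun he => hwA (h2 A hAS w he)⟩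
    have w2 : w ≠ A := fun he => hwA (he ▸ h1 A hAS)
    have w3 : f w ∈ S \ E := (hf w).2 w1
    have hA' : f.symm A ∈ S \ E := (hf _).1 (by rw [f.apply_symm_apply]; exact ⟨hAS, hAE⟩)
    have hrA' : r A (f.symm A) := by
      have := (hrf A (f.symm A)).1
      rw [f.apply_symm_apply] at this
      exact this (h1 _ haS.1)
    have w4 : f w ≠ A := fun he => hwA (by rwa [← f.symm_apply_apply w, he])
    have w5 : r A (f w) := by
      by_contra hcon
      have : ¬ r (f.symm A) w := fun h' => hcon (by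
        have := (hrf _ _).2 h'
        rwa [f.apply_symm_apply] at this)
      obtain ⟨-, heq | hmem⟩ := hwD _ hA'.1 this
      · exact hfA (by rw [ha]; conv_lhs => rw [← heq, f.apply_symm_apply])
      · exact (hΩ _ hmem).2.1 hrA'
    exact ⟨w1, w2, w3, w4, w5, (hh _).2 (hS0 w3.1 w4), h6 _ w3.1 w4 w5⟩
  -- enlarging
  let Ω' : Set X := Ω ∪ ({h a} ∪ (h '' E ∪ (fun w => h (f w)) '' Ω))
  have heA : ∀ e ∈ E, e ∈ S \ ({A} : Set X) := fun e he => hS0 (hE he) fun h' => hAE (h' ▸ he)
  have hqA : ∀ e ∈ E, ¬ r A (h e) := fun e he => h6 e (hE he) (heA e he).2 (h2 A hAS e he)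
  have hqE : ∀ e ∈ E, h e ∉ E := fun e he h' => hqA e he (h2 A hAS _ h')
  have hsE : h a ∉ E := fun h' => hsA (h2 A hAS _ h')
  have pull : ∀ c ∈ S, c ≠ A → ∀ d, ¬ r c (h d) →
      h.symm c ∈ S \ ({A} : Set X) ∧ ¬ r (h.symm c) d := by
    intro c hc hne d hcd
    refine ⟨(hh _).1 (by rw [h.apply_symm_apply]; exact hS0 hc hne), fun h' => hcd ?_⟩
    have := (hrh _ _).2 h'
    rwa [h.apply_symm_apply] at this
  have hΩ' : Good Ω' := by
    intro w hw
    rcases hw with hw | hw | hw | hw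
    · obtain ⟨k1, k2, k3⟩ := hΩ w hw
      exact ⟨k1, k2, fun c hc hrc => ⟨(k3 c hc hrc).1, (k3 c hc hrc).2.imp id Or.inl⟩⟩
    · rw [Set.mem_singleton_iff] at hw
      subst hw
      refine ⟨hs.1, hsA, fun c hc hrc => ?_⟩
      rcases eq_or_ne c A with rfl | hne
      · exact ⟨hAE, Or.inl rfl⟩
      obtain ⟨hc0, hc0r⟩ := pull c hc hne a hrc
      have hc0E : h.symm c ∈ E := by
        by_contra h'
        exact hc0r (hra _ ⟨hc0.1, h'⟩)
      refine ⟨?_, Or.inr (Or.inr (Or.inr (Or.inl ⟨_, hc0E, h.apply_symm_apply c⟩)))⟩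
      have := hqE _ hc0E
      rwa [h.apply_symm_apply] at this
    · obtain ⟨e, he, rfl⟩ := hw
      refine ⟨((hh e).2 (heA e he)).1, hqA e he, fun c hc hrc => ?_⟩
      rcases eq_or_ne c A with rfl | hne
      · exact ⟨hAE, Or.inl rfl⟩
      obtain ⟨hc0, hc0r⟩ := pull c hc hne e hrc
      exact absurd (h2 _ hc0.1 e he) hc0r
    · obtain ⟨r₀, hr₀, rfl⟩ := hw
      obtain ⟨r1, r2, r3, r4, r5, r6, r7⟩ := hwE r₀ hr₀
      refine ⟨r6.1, r7, fun c hc hrc => ?_⟩
      rcases eq_or_ne c A with rfl | hne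
      · exact ⟨hAE, Or.inl rfl⟩
      obtain ⟨hc0, hc0r⟩ := pull c hc hne (f r₀) hrc
      by_cases hc0E : h.symm c ∈ E
      · have := hqE _ hc0E
        rw [h.apply_symm_apply] at this
        exact ⟨this, Or.inr (Or.inr (Or.inr (Or.inl ⟨_, hc0E, h.apply_symm_apply c⟩)))⟩
      set c₁ := f.symm (h.symm c) with hc₁
      have hc₁S : c₁ ∈ S \ E := (hf _).1 (by rw [hc₁, f.apply_symm_apply]; exact ⟨hc0.1, hc0E⟩)
      have hc₁r : ¬ r c₁ r₀ := fun h' => hc0r (by
        have := (hrf _ _).2 h'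
        rwa [hc₁, f.apply_symm_apply] at this)
      have hcc : c = h (f c₁) := by rw [hc₁, f.apply_symm_apply, h.apply_symm_apply]
      obtain ⟨-, heq | hmem⟩ := (hΩ r₀ hr₀).2.2 _ hc₁S.1 hc₁r
      · have hca : c = h a := by rw [hcc, heq]
        exact ⟨hca ▸ hsE, Or.inr (Or.inr (Or.inl (Set.mem_singleton_iff.2 hca)))⟩
      · refine ⟨fun he => ?_, Or.inr (Or.inr (Or.inr (Or.inr ⟨c₁, hmem, hcc.symm⟩)))⟩
        have k1 : ¬ r a (h.symm c) := fun h' => (hΩ c₁ hmem).2.1 ((hrf A c₁).1 (by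
          rwa [hc₁, f.apply_symm_apply]))
        apply k1
        apply (hrh _ _).1
        rw [h.apply_symm_apply]
        exact h2 _ hs.1 c he
  have hsub : Ω' ⊆ Ω := fun w hw => ⟨Ω', hΩ', hw⟩
  -- a member with the largest number of points not related to it
  obtain ⟨w₀, hw₀, hmax⟩ := Set.exists_max_image Ω (fun w => {c ∈ S | ¬ r c w}.ncard)
    (Set.toFinite _) ⟨h a, hsub (Or.inr (Or.inl rfl))⟩
  obtain ⟨r1, r2, r3, r4, r5, r6, r7⟩ := hwE w₀ hw₀
  have hmem : h (f w₀) ∈ Ω := hsub (Or.inr (Or.inr (Or.inr ⟨w₀, hw₀, rfl⟩)))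
  have key : ∀ c ∈ S, ¬ r c w₀ → h (f c) ∈ S \ ({A} : Set X) ∧ ¬ r (h (f c)) (h (f w₀)) := by
    intro c hc hcw
    obtain ⟨hcE, hc'⟩ := (hΩ w₀ hw₀).2.2 c hc hcw
    refine ⟨(hh _).2 (hS0 ((hf c).2 ⟨hc, hcE⟩).1 ?_), fun h' => hcw ?_⟩
    · rcases hc' with rfl | hc'
      · exact hfA
      · exact (hwE c hc').2.2.2.1
    · exact (hrf _ _).1 ((hrh _ _).1 h')
  have hlt : {c ∈ S | ¬ r c w₀}.ncard < {c ∈ S | ¬ r c (h (f w₀))}.ncard := by
    rw [← Set.ncard_image_of_injective _ (h.injective.comp f.injective)]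
    refine Set.ncard_lt_ncard ((Set.ssubset_iff_of_subset ?_).2 ⟨A, ⟨hAS, r7⟩, ?_⟩)
      (Set.toFinite _)
    · rintro _ ⟨c, ⟨hc, hcw⟩, rfl⟩
      exact ⟨(key c hc hcw).1.1, (key c hc hcw).2⟩
    · rintro ⟨c, ⟨hc, hcw⟩, hcA⟩
      exact (key c hc hcw).1.2 hcA
  exact absurd (hmax _ hmem) (not_le.2 hlt)

variable {G : Type*} [Group G]

/-- `H` is generated by the conjugates of `A` inside it. -/
def SelfGen (A H : Subgroup G) : Prop :=
  ∀ K : Subgroup G, A ≤ K → K ≤ H → H ≤ Subgroup.normalizer (K : Set G) → K = H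

theorem selfGen_iff {A H : Subgroup G} (hAH : A ≤ H) :
    Subgroup.normalClosure ((A.subgroupOf H : Subgroup H) : Set H) = ⊤ ↔ SelfGen A H := by
  constructor
  · intro h K hAK hKH hN
    have : (K.subgroupOf H).Normal := (Subgroup.normal_subgroupOf_iff_le_normalizer hKH).2 hN
    refine le_antisymm hKH (Subgroup.subgroupOf_eq_top.1 (top_le_iff.1 ?_))
    rw [← h]
    exact Subgroup.normalClosure_le_normal fun x hx => hAK hx
  · intro h
    set C := Subgroup.normalClosure ((A.subgroupOf H : Subgroup H) : Set H) with hC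
    have hmap : C.map H.subtype = H := by
      refine h _ ?_ (Subgroup.map_subtype_le _) ?_
      · intro x hx
        exact ⟨⟨x, hAH hx⟩, Subgroup.subset_normalClosure hx, rfl⟩
      · refine (Subgroup.normal_subgroupOf_iff_le_normalizer (Subgroup.map_subtype_le _)).1 ?_
        rw [← Subgroup.comap_subtype, Subgroup.comap_map_eq_self_of_injective
          H.subtype_injective]
        infer_instance
    refine (Subgroup.eq_top_iff' C).2 fun x => ?_
    obtain ⟨y, hy, hyx⟩ := hmap.symm.le x.2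
    exact (H.subtype_injective hyx) ▸ hy

/-- The join of the proper self generated subgroups above `A`. -/
def genJoin (A : Subgroup G) : Subgroup G :=
  sSup {H : Subgroup G | A ≤ H ∧ H ≠ ⊤ ∧ SelfGen A H}

theorem conj_smul_eq_top_iff {L : Subgroup G} {g : G} : MulAut.conj g • L = ⊤ ↔ L = ⊤ := by
  constructor <;> intro h <;> refine (Subgroup.eq_top_iff' _).2 fun x => ?_
  · have := h.ge (Subgroup.mem_top (g * x * g⁻¹))
    rw [mem_conj_smul_iff] at this
    simpa [mul_assoc] using this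
  · exact mem_conj_smul_iff.2 (h ▸ Subgroup.mem_top _)

theorem inv_smul_conj (g : G) (L : Subgroup G) :
    MulAut.conj g⁻¹ • MulAut.conj g • L = L := by
  rw [conj_smul_conj_smul, inv_mul_cancel, map_one, one_smul]

theorem smul_conj_inv (g : G) (L : Subgroup G) :
    MulAut.conj g • MulAut.conj g⁻¹ • L = L := by
  rw [conj_smul_conj_smul, mul_inv_cancel, map_one, one_smul]

theorem isCoatom_conj_smul {L : Subgroup G} (hL : IsCoatom L) (g : G) :
    IsCoatom (MulAut.conj g • L) := by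
  refine ⟨fun h => hL.1 (conj_smul_eq_top_iff.1 h), fun K hK => ?_⟩
  refine conj_smul_eq_top_iff.1 (hL.2 (MulAut.conj g⁻¹ • K) (lt_of_le_of_ne ?_ ?_))
  · have := conj_smul_mono g⁻¹ hK.le
    rwa [inv_smul_conj] at this
  · intro h
    refine hK.ne ?_
    rw [h, smul_conj_inv]

theorem normalizer_conj_smul_mem {d : Subgroup G} {u y : G} :
    y ∈ Subgroup.normalizer ((MulAut.conj u • d : Subgroup G) : Set G) ↔
      u⁻¹ * y * u ∈ Subgroup.normalizer (d : Set G) := by
  rw [mem_normalizer_iff_conj_smul, mem_normalizer_iff_conj_smul,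
    conj_smul_conj_smul]
  constructor <;> intro h
  · calc MulAut.conj (u⁻¹ * y * u) • d = MulAut.conj u⁻¹ • MulAut.conj (y * u) • d := by
          rw [conj_smul_conj_smul, mul_assoc]
      _ = d := by rw [h, inv_smul_conj]
  · calc MulAut.conj (y * u) • d = MulAut.conj u • MulAut.conj (u⁻¹ * y * u) • d := by
          rw [conj_smul_conj_smul, ← mul_assoc, mul_inv_cancel_left]
      _ = MulAut.conj u • d := by rw [h]

theorem normalizer_conj_smul (d : Subgroup G) (u : G) :
    Subgroup.normalizer ((MulAut.conj u • d : Subgroup G) : Set G) =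
      MulAut.conj u • Subgroup.normalizer (d : Set G) := by
  ext y
  rw [normalizer_conj_smul_mem, mem_conj_smul_iff]

theorem le_genJoin {A H : Subgroup G} (h1 : A ≤ H) (h2 : H ≠ ⊤) (h3 : SelfGen A H) :
    H ≤ genJoin A := le_sSup ⟨h1, h2, h3⟩

theorem selfGen_self (A : Subgroup G) : SelfGen A A := fun _ h1 h2 _ => le_antisymm h2 h1

theorem le_genJoin_self {A : Subgroup G} (h : A ≠ ⊤) : A ≤ genJoin A :=
  le_genJoin le_rfl h (selfGen_self A)

theorem le_normalizer_inf_of_le {K H' H : Subgroup G} (hle : H' ≤ H)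
    (hn : H ≤ Subgroup.normalizer (K : Set G)) :
    H' ≤ Subgroup.normalizer ((K ⊓ H' : Subgroup G) : Set G) := by
  intro x hx
  rw [Subgroup.mem_normalizer_iff]
  intro y
  simp only [Subgroup.mem_inf]
  refine and_congr (Subgroup.mem_normalizer_iff.1 (hn (hle hx)) y)
    ⟨fun hy => mul_mem (mul_mem hx hy) (inv_mem hx), fun hy => ?_⟩
  have := mul_mem (mul_mem (inv_mem hx) hy) hx
  simpa [mul_assoc] using this

theorem selfGen_genJoin {A : Subgroup G} : SelfGen A (genJoin A) := by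
  intro K h1 h2 h3
  refine le_antisymm h2 (sSup_le fun H hH => ?_)
  have hle : H ≤ genJoin A := le_sSup hH
  have := hH.2.2 (K ⊓ H) (le_inf h1 hH.1) inf_le_right (le_normalizer_inf_of_le hle h3)
  exact inf_eq_right.1 this

theorem SelfGen.trans {A H₀ H : Subgroup G} (h0 : SelfGen A H₀) (hA : A ≤ H₀) (hH : H₀ ≤ H)
    (h : SelfGen H₀ H) : SelfGen A H := by
  intro K h1 h2 h3
  have := h0 (K ⊓ H₀) (le_inf h1 hA) inf_le_right (le_normalizer_inf_of_le hH h3)
  exact h K (inf_eq_right.1 this) h2 h3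

theorem SelfGen.conj {A H : Subgroup G} (h : SelfGen A H) (g : G) :
    SelfGen (MulAut.conj g • A) (MulAut.conj g • H) := by
  intro K h1 h2 h3
  have h1' := conj_smul_mono g⁻¹ h1
  have h2' := conj_smul_mono g⁻¹ h2
  have h3' := conj_smul_mono g⁻¹ h3
  rw [inv_smul_conj] at h1' h2' h3'
  rw [← normalizer_conj_smul] at h3'
  have := h _ h1' h2' h3'
  rw [← this, smul_conj_inv]

theorem normalClosure_conj_smul {A : Subgroup G}
    (hA : Subgroup.normalClosure (A : Set G) = ⊤) (g : G) :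
    Subgroup.normalClosure ((MulAut.conj g • A : Subgroup G) : Set G) = ⊤ := by
  refine top_le_iff.1 (hA ▸ Subgroup.normalClosure_le_normal fun x hx => ?_)
  have h1 : g * x * g⁻¹ ∈ MulAut.conj g • A := mem_conj_smul_iff.2 (by simpa [mul_assoc] using hx)
  have := Subgroup.Normal.conj_mem inferInstance _ (Subgroup.subset_normalClosure h1) g⁻¹
  simpa [mul_assoc] using this

theorem normalizer_ne_top_of_le {A H : Subgroup G}
    (hA : Subgroup.normalClosure (A : Set G) = ⊤) (hAH : A ≤ H) (hH : H ≠ ⊤) :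
    Subgroup.normalizer (H : Set G) ≠ ⊤ := by
  intro h
  haveI := Subgroup.normalizer_eq_top_iff.1 h
  exact hH (top_le_iff.1 (hA ▸ Subgroup.normalClosure_le_normal hAH))

/-- Subnormality of `c` inside `H`. -/
def SnIn (c H : Subgroup G) : Prop := c ≤ H ∧ (c.subgroupOf H).IsSubnormal

theorem SnIn.mono {c H H' : Subgroup G} (h : SnIn c H) (hc : c ≤ H') (hle : H' ≤ H) :
    SnIn c H' := by
  refine ⟨hc, ?_⟩
  have := h.2.comap (Subgroup.inclusion hle)
  convert this using 1
  ext y
  rfl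

theorem SnIn.conj {c H : Subgroup G} (h : SnIn c H) (g : G) :
    SnIn (MulAut.conj g • c) (MulAut.conj g • H) := by
  refine ⟨conj_smul_mono g h.1, ?_⟩
  let f : (MulAut.conj g • H : Subgroup G) →* H :=
    ((MulAut.conj g⁻¹).toMonoidHom.comp (MulAut.conj g • H : Subgroup G).subtype).codRestrict H
      fun y => by
        show g⁻¹ * (y : G) * g⁻¹⁻¹ ∈ H
        rw [inv_inv]
        exact mem_conj_smul_iff.1 y.2
  have := h.2.comap f
  convert this using 1
  ext y
  show (y : G) ∈ MulAut.conj g • c ↔ g⁻¹ * (y : G) * g⁻¹⁻¹ ∈ c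
  rw [mem_conj_smul_iff, inv_inv]

theorem SnIn.sup [Finite G] {c d H : Subgroup G} (h1 : SnIn c H) (h2 : SnIn d H) :
    SnIn (c ⊔ d) H := by
  refine ⟨sup_le h1.1 h2.1, ?_⟩
  rw [Subgroup.subgroupOf_sup h1.1 h2.1]
  exact CfsgLib.Transfer.sup_isSubnormal h1.2 h2.2

theorem snIn_sSup [Finite G] {H : Subgroup G} {𝒮 : Set (Subgroup G)} (h : ∀ c ∈ 𝒮, SnIn c H) :
    SnIn (sSup 𝒮) H := by
  induction 𝒮, (Set.toFinite 𝒮) using Set.Finite.induction_on with
  | empty =>
    rw [sSup_empty]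
    exact ⟨bot_le, by rw [Subgroup.bot_subgroupOf]; exact Subgroup.IsSubnormal.bot⟩
  | @insert c s _ _ ih =>
    rw [sSup_insert]
    exact (h c (Set.mem_insert _ _)).sup (ih fun d hd => h d (Set.mem_insert_of_mem _ hd))

/-- A self generated overgroup in which `C` is subnormal equals `C`. -/
theorem eq_of_snIn_selfGen {C H : Subgroup G} (h : SnIn C H) (hg : SelfGen C H) : C = H := by
  by_contra hne
  have hne' : C.subgroupOf H ≠ ⊤ := fun e => hne (le_antisymm h.1 (Subgroup.subgroupOf_eq_top.1 e))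
  obtain ⟨K, hK, hCK, hKlt⟩ := h.2.exists_normal_and_le_and_lt_top_of_ne hne'
  have h1 : C ≤ K.map H.subtype := fun x hx =>
    ⟨⟨x, h.1 hx⟩, hCK (Subgroup.mem_subgroupOf.2 hx), rfl⟩
  have h2 : H ≤ Subgroup.normalizer ((K.map H.subtype : Subgroup G) : Set G) := by
    refine (Subgroup.normal_subgroupOf_iff_le_normalizer (Subgroup.map_subtype_le _)).1 ?_
    rw [← Subgroup.comap_subtype, Subgroup.comap_map_eq_self_of_injective H.subtype_injective]
    exact hK
  have := hg _ h1 (Subgroup.map_subtype_le _) h2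
  refine hKlt.ne ((Subgroup.eq_top_iff' K).2 fun x => ?_)
  obtain ⟨y, hy, hyx⟩ := this.symm.le x.2
  exact (H.subtype_injective hyx) ▸ hy

/-- Above `A`: either subnormal, or a larger self generated subgroup. -/
theorem snIn_or_exists_selfGen [Finite G] {A : Subgroup G} : ∀ (n : ℕ) (H : Subgroup G),
    Nat.card H = n → A ≤ H → SnIn A H ∨ ∃ H₀ : Subgroup G, A < H₀ ∧ H₀ ≤ H ∧ SelfGen A H₀ := by
  intro n
  induction n using Nat.strong_induction_on with
  | _ n ih =>
    intro H hn hAH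
    by_cases hg : SelfGen A H
    · rcases eq_or_lt_of_le hAH with rfl | hlt
      · exact Or.inl ⟨le_rfl, by rw [Subgroup.subgroupOf_self]; exact Subgroup.IsSubnormal.top⟩
      · exact Or.inr ⟨H, hlt, le_rfl, hg⟩
    · simp only [SelfGen] at hg
      push Not at hg
      obtain ⟨K, h1, h2, h3, h4⟩ := hg
      rcases ih (Nat.card K) (hn ▸ (Subgroup.card_le_of_le h2).lt_of_ne
        (fun e => h4 (Subgroup.eq_of_le_of_card_ge h2 e.ge))) K rfl h1 with h | ⟨H₀, g1, g2, g3⟩
      · haveI := (Subgroup.normal_subgroupOf_iff_le_normalizer h2).2 h3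
        refine Or.inl ⟨hAH, ?_⟩
        refine Subgroup.IsSubnormal.trans (K := K.subgroupOf H) (fun x hx => h1 hx) ?_
          (Subgroup.Normal.isSubnormal inferInstance)
        have := h.2.comap (Subgroup.subgroupOfEquivOfLe h2).toMonoidHom
        convert this using 1
        ext y
        rfl
      · exact Or.inr ⟨H₀, g1, g2.trans h2, g3⟩

/-- A subnormal subgroup that is not normal has another conjugate normalizing it. -/
theorem exists_conj_le_normalizer [Finite G] {B : Subgroup G} : ∀ (n : ℕ) (W : Subgroup G),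
    Nat.card W = n → SnIn B W → ¬ W ≤ Subgroup.normalizer (B : Set G) →
    ∃ z ∈ W, MulAut.conj z • B ≠ B ∧
      MulAut.conj z • B ≤ W ⊓ Subgroup.normalizer (B : Set G) := by
  intro n
  induction n using Nat.strong_induction_on with
  | _ n ih =>
    intro W hn hB hW
    have hne : B.subgroupOf W ≠ ⊤ := fun e => hW ((Subgroup.subgroupOf_eq_top.1 e).trans
      Subgroup.le_normalizer)
    obtain ⟨K, hK, hBK, hKlt⟩ := hB.2.exists_normal_and_le_and_lt_top_of_ne hne
    set L := K.map W.subtype with hL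
    have hLW : L ≤ W := Subgroup.map_subtype_le _
    have hBL : B ≤ L := fun x hx => ⟨⟨x, hB.1 hx⟩, hBK (Subgroup.mem_subgroupOf.2 hx), rfl⟩
    have hLn : W ≤ Subgroup.normalizer (L : Set G) := by
      refine (Subgroup.normal_subgroupOf_iff_le_normalizer hLW).1 ?_
      rw [hL, ← Subgroup.comap_subtype,
        Subgroup.comap_map_eq_self_of_injective W.subtype_injective]
      exact hK
    by_cases hLB : L ≤ Subgroup.normalizer (B : Set G)
    · obtain ⟨z, hz, hzB⟩ : ∃ z ∈ W, MulAut.conj z • B ≠ B := by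
        by_contra hcon
        push Not at hcon
        exact hW fun z hz => mem_normalizer_iff_conj_smul.2 (hcon z hz)
      refine ⟨z, hz, hzB, ?_⟩
      have h1 : MulAut.conj z • B ≤ L := (conj_smul_mono z hBL).trans
        (conj_smul_self_of_mem_normalizer (hLn hz)).le
      exact le_inf (h1.trans hLW) (h1.trans hLB)
    · have hlt : Nat.card L < n := hn ▸ (Subgroup.card_le_of_le hLW).lt_of_ne (fun e => by
        refine hKlt.ne ((Subgroup.eq_top_iff' K).2 fun x => ?_)
        obtain ⟨y, hy, hyx⟩ := (Subgroup.eq_of_le_of_card_ge hLW e.ge).ge x.2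
        exact (W.subtype_injective hyx) ▸ hy)
      obtain ⟨z, hz, h1, h2⟩ := ih _ hlt L rfl (hB.mono hBL hLW) hLB
      exact ⟨z, hLW hz, h1, h2.trans (inf_le_inf_right _ hLW)⟩

/-- The situation of a minimal counterexample. -/
structure Ctx (A N : Subgroup G) : Prop where
  nc : Subgroup.normalClosure (A : Set G) = ⊤
  coatom : IsCoatom N
  le : A ≤ N
  normalizer_le : Subgroup.normalizer (A : Set G) ≤ N
  sn : ∀ L : Subgroup G, IsCoatom L → A ≤ L → L ≠ N → SnIn A L
  uniq : ∀ n ∈ N, ∀ L : Subgroup G, IsCoatom L → L ≠ N → A ≤ L → MulAut.conj n • A ≤ L →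
    MulAut.conj n • A = A

namespace Ctx

variable {A N : Subgroup G}

theorem normalizer_eq (c : Ctx A N) : Subgroup.normalizer (N : Set G) = N := by
  refine le_antisymm ?_ Subgroup.le_normalizer
  rcases eq_or_lt_of_le (Subgroup.le_normalizer (H := N)) with h | h
  · exact h.ge
  · exact absurd (c.coatom.2 _ h) (normalizer_ne_top_of_le c.nc c.le c.coatom.1)

theorem eq_of_conj_eq (c : Ctx A N) {g h : G} (he : MulAut.conj g • A = MulAut.conj h • A) :
    MulAut.conj g • N = MulAut.conj h • N := by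
  have h1 : h⁻¹ * g ∈ Subgroup.normalizer (A : Set G) := by
    rw [mem_normalizer_iff_conj_smul, ← conj_smul_conj_smul, he, inv_smul_conj]
  calc MulAut.conj g • N = MulAut.conj h • MulAut.conj (h⁻¹ * g) • N := by
        rw [conj_smul_conj_smul, mul_inv_cancel_left]
    _ = MulAut.conj h • N := by
        rw [conj_smul_self_of_mem_normalizer (Subgroup.le_normalizer (c.normalizer_le h1))]

theorem conj (c : Ctx A N) (g : G) : Ctx (MulAut.conj g • A) (MulAut.conj g • N) where
  nc := normalClosure_conj_smul c.nc g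
  coatom := isCoatom_conj_smul c.coatom g
  le := conj_smul_mono g c.le
  normalizer_le := by rw [normalizer_conj_smul]; exact conj_smul_mono g c.normalizer_le
  sn L hL hAL hne := by
    have h1 := conj_smul_mono g⁻¹ hAL
    rw [inv_smul_conj] at h1
    have := (c.sn _ (isCoatom_conj_smul hL g⁻¹) h1 (fun e => hne (by
      rw [← e, smul_conj_inv]))).conj g
    rwa [smul_conj_inv] at this
  uniq n hn L hL hne hAL hnL := by
    have h1 := conj_smul_mono g⁻¹ hAL
    rw [inv_smul_conj] at h1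
    have h2 := conj_smul_mono g⁻¹ hnL
    rw [conj_smul_conj_smul, conj_smul_conj_smul] at h2
    have := c.uniq (g⁻¹ * n * g) (mem_conj_smul_iff.1 hn) _ (isCoatom_conj_smul hL g⁻¹)
      (fun e => hne (by rw [← e, smul_conj_inv])) h1 h2
    calc MulAut.conj n • MulAut.conj g • A = MulAut.conj g • MulAut.conj (g⁻¹ * n * g) • A := by
          rw [conj_smul_conj_smul, conj_smul_conj_smul]
          congr 2
          group
      _ = MulAut.conj g • A := by rw [this]

/-- Two conjugates with the same special maximal subgroup in another maximal subgroup coincide. -/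
theorem eq_of_le_coatom (c : Ctx A N) {g h : G} {L : Subgroup G} (hL : IsCoatom L)
    (hN : MulAut.conj g • N = MulAut.conj h • N) (hne : L ≠ MulAut.conj g • N)
    (hg : MulAut.conj g • A ≤ L) (hh : MulAut.conj h • A ≤ L) :
    MulAut.conj g • A = MulAut.conj h • A := by
  have h1 : h * g⁻¹ ∈ MulAut.conj g • N := by
    have : g⁻¹ * h ∈ N := by
      rw [← c.normalizer_eq, mem_normalizer_iff_conj_smul, ← conj_smul_conj_smul, ← hN,
        inv_smul_conj]
    exact mem_conj_smul_iff.2 (by simpa [mul_assoc] using this)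
  have h2 : MulAut.conj (h * g⁻¹) • MulAut.conj g • A = MulAut.conj h • A := by
    rw [conj_smul_conj_smul, inv_mul_cancel_right]
  have := (c.conj g).uniq _ h1 L hL hne hg (by rwa [h2])
  rw [h2] at this
  exact this.symm

/-- The intersection with the special maximal subgroup normalizes. -/
theorem inf_le_normalizer (c : Ctx A N) {g : G} {L : Subgroup G} (hL : IsCoatom L)
    (hne : L ≠ MulAut.conj g • N) (hg : MulAut.conj g • A ≤ L) :
    L ⊓ MulAut.conj g • N ≤ Subgroup.normalizer ((MulAut.conj g • A : Subgroup G) : Set G) :=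
  fun y hy => mem_normalizer_iff_conj_smul.2 ((c.conj g).uniq y hy.2 L hL hne hg
    ((conj_smul_mono y hg).trans (conj_smul_self_of_mem_normalizer
      (Subgroup.le_normalizer hy.1)).le))

/-- The key property of moving elements. -/
theorem not_le_normalizer_conj (c : Ctx A N) {g k u : G} (hu : u ∈ MulAut.conj g • N)
    (hmv : MulAut.conj u • MulAut.conj g • A ≠ MulAut.conj g • A)
    (hk : MulAut.conj k • N ≠ MulAut.conj g • N)
    (h : MulAut.conj g • A ≤ Subgroup.normalizer ((MulAut.conj k • A : Subgroup G) : Set G)) :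
    ¬ MulAut.conj g • A ≤
      Subgroup.normalizer ((MulAut.conj u • MulAut.conj k • A : Subgroup G) : Set G) := by
  intro h'
  have hW : MulAut.conj u • MulAut.conj g • N = MulAut.conj g • N :=
    conj_smul_self_of_mem_normalizer (Subgroup.le_normalizer hu)
  have hne : MulAut.conj u • MulAut.conj k • N ≠ MulAut.conj g • N := by
    intro e
    rw [← hW] at e
    have := congrArg (fun X => MulAut.conj u⁻¹ • X) e
    simp only [inv_smul_conj] at this
    exact hk this
  refine hmv ?_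
  rw [conj_smul_conj_smul] at h' hne ⊢
  have hL := c.conj (u * k)
  have hle : Subgroup.normalizer ((MulAut.conj (u * k) • A : Subgroup G) : Set G) ≤
      MulAut.conj (u * k) • N := hL.normalizer_le
  refine (c.eq_of_le_coatom hL.coatom ?_ hne (h'.trans hle) ?_).symm
  · rw [← conj_smul_conj_smul u g, hW]
  · refine le_trans ?_ hle
    rw [← conj_smul_conj_smul u g, ← conj_smul_conj_smul u k, normalizer_conj_smul]
    exact conj_smul_mono u h

/-- The set of conjugates of `A` inside `T`. -/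
def conjSet (A T : Subgroup G) : Set (Subgroup G) :=
  {d | ∃ g : G, d = MulAut.conj g • A ∧ d ≤ T}

theorem conj_smul_sSup_le {z : G} {𝒮 : Set (Subgroup G)} {B : Subgroup G}
    (h : ∀ d ∈ 𝒮, MulAut.conj z • d ≤ B) : MulAut.conj z • sSup 𝒮 ≤ B := by
  have hs : sSup 𝒮 ≤ MulAut.conj z⁻¹ • B := sSup_le fun d hd => by
    have := conj_smul_mono z⁻¹ (h d hd)
    rwa [inv_smul_conj] at this
  have := conj_smul_mono z hs
  rwa [smul_conj_inv] at this

theorem exists_permuting [Finite G] {T W : Subgroup G} (hTW : T ≤ W) (hne : T ≠ W)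
    {𝒮 : Set (Subgroup G)} (hsn : ∀ d ∈ 𝒮, SnIn d W) (hleT : ∀ d ∈ 𝒮, d ≤ T)
    (hcl : ∀ z ∈ W, ∀ d ∈ 𝒮, MulAut.conj z • d ≤ T → MulAut.conj z • d ∈ 𝒮) :
    ∃ z ∈ W, z ∉ T ∧ ∀ d, MulAut.conj z • d ∈ 𝒮 ↔ d ∈ 𝒮 := by
  set B := sSup 𝒮 with hB
  have hBT : B ≤ T := sSup_le hleT
  obtain ⟨z, hzW, hzT, hzB⟩ : ∃ z ∈ W, z ∉ T ∧ z ∈ Subgroup.normalizer (B : Set G) := by
    by_contra hcon
    push Not at hcon
    have hWB : ¬ W ≤ Subgroup.normalizer (B : Set G) := fun h => hne (le_antisymm hTW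
      fun x hx => by_contra fun hxT => hcon x hx hxT (h hx))
    obtain ⟨z, hz, h1, h2⟩ := exists_conj_le_normalizer _ W rfl (snIn_sSup hsn) hWB
    refine h1 (conj_smul_eq_of_le ?_ le_rfl)
    refine conj_smul_sSup_le fun d hd => ?_
    have hd' : MulAut.conj z • d ≤ T := fun x hx => by
      have := h2 (conj_smul_mono z (le_sSup hd) hx)
      exact by_contra fun hxT => hcon x this.1 hxT this.2
    exact le_sSup (hcl z hz d hd hd')
  refine ⟨z, hzW, hzT, fun d => ?_⟩
  have hmaps : Set.MapsTo (fun d => MulAut.conj z • d) 𝒮 𝒮 := fun d hd => hcl z hzW d hd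
    ((conj_smul_mono z (le_sSup hd)).trans ((conj_smul_self_of_mem_normalizer hzB).trans_le hBT))
  refine ⟨fun hd => ?_, fun hd => hmaps hd⟩
  obtain ⟨d', hd', he⟩ := ((Set.toFinite 𝒮).injOn_iff_bijOn_of_mapsTo hmaps).1
    (MulAction.injective _).injOn |>.surjOn hd
  exact (MulAction.injective (MulAut.conj z) he) ▸ hd'

/-- A maximal subgroup containing `A` other than `N` does not exist. -/
theorem eq_of_coatom [Finite G] (c : Ctx A N) {L₀ : Subgroup G} (hL₀ : IsCoatom L₀)
    (hAL₀ : A ≤ L₀) : L₀ = N := by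
  classical
  by_contra hne₀
  obtain ⟨M, ⟨hM, hAM, hMN⟩, hmax⟩ := Set.exists_max_image
    {L : Subgroup G | IsCoatom L ∧ A ≤ L ∧ L ≠ N} (fun L => Nat.card (L ⊓ N : Subgroup G))
    (Set.toFinite _) ⟨L₀, hL₀, hAL₀, hne₀⟩
  set T := M ⊓ N with hT
  have hAT : A ≤ T := le_inf hAM c.le
  have one : ∀ X : Subgroup G, MulAut.conj (1 : G) • X = X := fun X => by simp
  have hTA : T ≤ Subgroup.normalizer (A : Set G) := by
    have := c.inf_le_normalizer (g := 1) hM (by rwa [one]) (by rwa [one])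
    simpa only [one] using this
  have hTM : T ≠ M := fun e => by
    rcases eq_or_lt_of_le (e.ge.trans inf_le_right : M ≤ N) with h | h
    · exact hMN h
    · exact c.coatom.1 (hM.2 _ h)
  have hTN : T ≠ N := fun e => by
    rcases eq_or_lt_of_le (e.ge.trans inf_le_left : N ≤ M) with h | h
    · exact hMN h.symm
    · exact hM.1 (c.coatom.2 _ h)
  set S := conjSet A T with hS
  have hAS : A ∈ S := ⟨1, (one A).symm, hAT⟩
  set E : Set (Subgroup G) := {d | ∃ g : G, d = MulAut.conj g • A ∧ d ≤ T ∧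
    MulAut.conj g • N = M} with hE
  have hES : E ⊆ S := fun d ⟨g, h1, h2, _⟩ => ⟨g, h1, h2⟩
  have hAE : A ∉ E := by
    rintro ⟨g, h1, -, h3⟩
    exact hMN (by rw [← h3, ← c.eq_of_conj_eq (g := 1) (h := g) (by rw [one]; exact h1), one])
  have hS0 : ∀ g : G, MulAut.conj g • A ≤ T → MulAut.conj g • A ≠ A →
      MulAut.conj g • N ≠ N := by
    intro g hg hne he
    have := c.eq_of_le_coatom (g := g) (h := 1) hM (by rw [one]; exact he)
      (by rw [he]; exact hMN) (hg.trans inf_le_left) (by rw [one]; exact hAM)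
    exact hne (this.trans (one A))
  have hS1 : ∀ g : G, MulAut.conj g • A ≤ T → MulAut.conj g • A ∉ E →
      MulAut.conj g • N ≠ M := fun g hg hne he => hne ⟨g, rfl, hg, he⟩
  -- the two moving elements
  obtain ⟨u, huN, huT, hu⟩ := exists_permuting (T := T) (W := N) inf_le_right hTN
    (𝒮 := S \ {A})
    (by
      rintro d ⟨⟨g, rfl, hgT⟩, hgA⟩
      exact (c.conj g).sn N c.coatom (hgT.trans inf_le_right) (hS0 g hgT hgA).symm)
    (fun d hd => by obtain ⟨⟨g, -, h⟩, -⟩ := hd; exact h)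
    (by
      rintro z hz d ⟨⟨g, rfl, hgT⟩, hgA⟩ hz'
      refine ⟨⟨z * g, conj_smul_conj_smul _ _ _, hz'⟩, fun e => hS0 g hgT hgA ?_⟩
      rw [Set.mem_singleton_iff, conj_smul_conj_smul] at e
      have := c.eq_of_conj_eq (g := z * g) (h := 1) (by rw [one]; exact e)
      rw [one, ← conj_smul_conj_smul] at this
      calc MulAut.conj g • N = MulAut.conj z⁻¹ • MulAut.conj z • MulAut.conj g • N :=
            (inv_smul_conj _ _).symm
        _ = MulAut.conj z⁻¹ • N := by rw [this]
        _ = N := conj_smul_self_of_mem_normalizer (Subgroup.le_normalizer (inv_mem hz)))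
  obtain ⟨x, hxM, hxT, hx⟩ := exists_permuting (T := T) (W := M) inf_le_left hTM
    (𝒮 := S \ E)
    (by
      rintro d ⟨⟨g, rfl, hgT⟩, hgE⟩
      exact (c.conj g).sn M hM (hgT.trans inf_le_left) (hS1 g hgT hgE).symm)
    (fun d hd => by obtain ⟨⟨g, -, h⟩, -⟩ := hd; exact h)
    (by
      rintro z hz d ⟨⟨g, rfl, hgT⟩, hgE⟩ hz'
      refine ⟨⟨z * g, conj_smul_conj_smul _ _ _, hz'⟩, fun ⟨g', e1, _, e3⟩ => hS1 g hgT hgE ?_⟩
      rw [conj_smul_conj_smul] at e1
      have := c.eq_of_conj_eq e1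
      rw [e3, ← conj_smul_conj_smul] at this
      calc MulAut.conj g • N = MulAut.conj z⁻¹ • MulAut.conj z • MulAut.conj g • N :=
            (inv_smul_conj _ _).symm
        _ = MulAut.conj z⁻¹ • M := by rw [this]
        _ = M := conj_smul_self_of_mem_normalizer (Subgroup.le_normalizer (inv_mem hz)))
  let r : Subgroup G → Subgroup G → Prop := fun a b => a ≤ Subgroup.normalizer (b : Set G)
  let P : G → Subgroup G ≃ Subgroup G := fun z => MulAction.toPerm (MulAut.conj z)
  have hr : ∀ z a b, r (P z a) (P z b) ↔ r a b := by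
    intro z a b
    show MulAut.conj z • a ≤ Subgroup.normalizer ((MulAut.conj z • b : Subgroup G) : Set G) ↔ _
    rw [normalizer_conj_smul]
    exact Subgroup.pointwise_smul_le_pointwise_smul_iff
  have h1 : ∀ d ∈ S, r d A := fun d ⟨g, _, hd⟩ => hd.trans hTA
  have hTe : ∀ e ∈ E, T ≤ Subgroup.normalizer (e : Set G) := by
    rintro _ ⟨g, rfl, he, hgM⟩
    refine le_trans ?_ (c.inf_le_normalizer (g := g) c.coatom (by rw [hgM]; exact hMN.symm)
      (he.trans inf_le_right))
    rw [hgM, inf_comm]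
  have h2 : ∀ d ∈ S, ∀ e ∈ E, r d e := fun d ⟨g, _, hd⟩ e he => hd.trans (hTe e he)
  by_cases hcaseA : MulAut.conj x • A = A
  · refine hxT ⟨hxM, c.normalizer_le (mem_normalizer_iff_conj_smul.2 hcaseA)⟩
  by_cases hu' : MulAut.conj u • A = A
  swap
  · refine comb S E r A (P x) (P u) hAS hAE hES h1 h2 hx hu (hr x) (hr u) hcaseA ?_
    rintro t ⟨k, rfl, hkT⟩ htA hrt
    have h := c.not_le_normalizer_conj (g := 1) (k := k) (u := u)
    rw [one, one] at h
    exact h huN hu' (hS0 k hkT htA) hrt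
  by_cases hx' : ∀ e ∈ E, MulAut.conj x • e = e
  · -- both moving elements permute all of `S`
    set J := sSup S with hJ
    have hJT : J ≤ T := sSup_le fun d ⟨g, _, hd⟩ => hd
    have hperm : ∀ z : G, (∀ d ∈ S, MulAut.conj z • d ∈ S) →
        z ∈ Subgroup.normalizer (J : Set G) := by
      intro z hz
      rw [mem_normalizer_iff_conj_smul]
      refine conj_smul_eq_of_le ?_ le_rfl
      exact conj_smul_sSup_le fun d hd => le_sSup (hz d hd)
    have huJ : u ∈ Subgroup.normalizer (J : Set G) := hperm u fun d hd => by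
      by_cases hdA : d = A
      · rw [hdA, hu']; exact hAS
      · exact ((hu d).2 ⟨hd, hdA⟩).1
    have hxJ : x ∈ Subgroup.normalizer (J : Set G) := hperm x fun d hd => by
      by_cases hdE : d ∈ E
      · rw [hx' d hdE]; exact hd
      · exact ((hx d).2 ⟨hd, hdE⟩).1
    have hTJ : T ≤ Subgroup.normalizer (J : Set G) := fun t ht => hperm t fun d ⟨g, hg, hd⟩ =>
      ⟨t * g, by rw [hg, conj_smul_conj_smul], (conj_smul_mono t hd).trans
        (conj_smul_self_of_mem_normalizer (Subgroup.le_normalizer ht)).le⟩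
    have hAJ : A ≤ J := le_sSup hAS
    have hJne : J ≠ ⊤ := fun e => hM.1 (top_le_iff.1 (e.ge.trans (hJT.trans inf_le_left)))
    obtain ⟨K, hK, hJK⟩ := (eq_top_or_exists_le_coatom _).resolve_left
      (normalizer_ne_top_of_le c.nc hAJ hJne)
    by_cases hKN : K = N
    · exact hxT ⟨hxM, hKN ▸ hJK hxJ⟩
    · have hle : T ≤ K ⊓ N := le_inf (hTJ.trans hJK) inf_le_right
      have := Subgroup.eq_of_le_of_card_ge hle (hmax K ⟨hK, hAT.trans (hTJ.trans hJK), hKN⟩)
      exact huT (this ▸ (⟨hJK huJ, huN⟩ : u ∈ K ⊓ N))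
  · -- the roles of the two maximal subgroups are exchanged
    push Not at hx'
    obtain ⟨e, heE, hex⟩ := hx'
    have huniqE : ∀ d ∈ E, d = e := by
      rintro _ ⟨g, rfl, hgT, hgM⟩
      obtain ⟨g', rfl, hg'T, hg'M⟩ := heE
      exact c.eq_of_le_coatom c.coatom (hgM.trans hg'M.symm) (by rw [hgM]; exact hMN.symm)
        (hgT.trans inf_le_right) (hg'T.trans inf_le_right)
    have hE1 : ∀ d, d ∈ S \ ({e} : Set _) ↔ d ∈ S \ E := fun d =>
      ⟨fun h => ⟨h.1, fun hd => h.2 (huniqE d hd)⟩,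
        fun h => ⟨h.1, fun hd => h.2 (Set.mem_singleton_iff.1 hd ▸ heE)⟩⟩
    have hue : MulAut.conj u • e ≠ e := fun he => by
      obtain ⟨g, rfl, hgT, hgM⟩ := heE
      have := (c.conj g).normalizer_le (mem_normalizer_iff_conj_smul.2 he)
      rw [hgM] at this
      exact huT ⟨this, huN⟩
    refine comb S {A} r e (P u) (P x) (hES heE) (fun h => hAE (Set.mem_singleton_iff.1 h ▸ heE))
      (Set.singleton_subset_iff.2 hAS) (fun d hd => h2 d hd e heE)
      (fun d hd a ha => (Set.mem_singleton_iff.1 ha).symm ▸ h1 d hd) hu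
      (fun d => by rw [hE1, hE1]; exact hx d) (hr u) (hr x) hue ?_
    rintro t ⟨k, rfl, hkT⟩ hte hrt
    obtain ⟨g, rfl, hgT, hgM⟩ := heE
    exact c.not_le_normalizer_conj (by rw [hgM]; exact hxM) hex
      (by rw [hgM]; exact hS1 k hkT fun h => hte (huniqE _ h)) hrt

end Ctx

/-- The main theorem. -/
theorem unique_coatom [Finite G] : ∀ (n : ℕ) (A : Subgroup G), A.index = n →
    Subgroup.normalClosure (A : Set G) = ⊤ → genJoin A ≠ ⊤ →
    ∀ M₁ M₂ : Subgroup G, IsCoatom M₁ → IsCoatom M₂ → A ≤ M₁ → A ≤ M₂ → M₁ = M₂ := by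
  intro n
  induction n using Nat.strong_induction_on with
  | _ n ih =>
    intro A hn hA hY M₁ M₂ hM₁ hM₂ hA₁ hA₂
    have hAt : A ≠ ⊤ := fun e => hM₁.1 (top_le_iff.1 (e.ge.trans hA₁))
    have hAY : A ≤ genJoin A := le_genJoin_self hAt
    obtain ⟨N, hN, hYN⟩ := (eq_top_or_exists_le_coatom _).resolve_left
      (normalizer_ne_top_of_le hA hAY hY)
    have hYN' : genJoin A ≤ N := Subgroup.le_normalizer.trans hYN
    have hAN : A ≤ N := hAY.trans hYN'
    have hR : Subgroup.normalizer (A : Set G) ≤ N := by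
      refine le_trans (fun g hg => ?_) hYN
      rw [mem_normalizer_iff_conj_smul]
      refine conj_smul_eq_of_le (le_genJoin ?_ ?_ ?_) le_rfl
      · calc A = MulAut.conj g • A := (conj_smul_self_of_mem_normalizer hg).symm
          _ ≤ _ := conj_smul_mono g hAY
      · exact fun e => hY (conj_smul_eq_top_iff.1 e)
      · have := (selfGen_genJoin (A := A)).conj g
        rwa [conj_smul_self_of_mem_normalizer hg] at this
    have hnc : ∀ H : Subgroup G, A ≤ H → Subgroup.normalClosure (H : Set G) = ⊤ := fun H hH =>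
      top_le_iff.1 (hA ▸ Subgroup.normalClosure_mono hH)
    -- a larger self generated proper subgroup lies in `N` only
    have hbig : ∀ H₀ L : Subgroup G, A < H₀ → H₀ ≠ ⊤ → SelfGen A H₀ → IsCoatom L → H₀ ≤ L →
        L = N := by
      intro H₀ L hlt hne hg hL hle
      refine ih _ (hn ▸ Subgroup.index_strictAnti hlt) H₀ rfl (hnc H₀ hlt.le) ?_ L N hL hN hle
        ((le_genJoin hlt.le hne hg).trans hYN')
      exact fun e => hY (top_le_iff.1 (e.ge.trans (sSup_le fun H hH =>
        le_genJoin (hlt.le.trans hH.1) hH.2.1 (hg.trans hlt.le hH.1 hH.2.2))))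
    have hsn : ∀ L : Subgroup G, L ≠ ⊤ → A ≤ L → ¬ L ≤ N → SnIn A L := by
      intro L hL hAL hLN
      rcases snIn_or_exists_selfGen _ L rfl hAL with h | ⟨H₀, h1, h2, h3⟩
      · exact h
      · obtain ⟨L', hL', hLL'⟩ := (eq_top_or_exists_le_coatom L).resolve_left hL
        exact absurd (hLL'.trans (hbig H₀ L' h1 (fun e => hL (top_le_iff.1 (e.ge.trans h2))) h3
          hL' (h2.trans hLL')).le) hLN
    have c : Ctx A N :=
    { nc := hA
      coatom := hN
      le := hAN
      normalizer_le := hR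
      sn := fun L hL hAL hne => hsn L hL.1 hAL fun h => by
        rcases eq_or_lt_of_le h with h' | h'
        · exact hne h'
        · exact hN.1 (hL.2 _ h')
      uniq := by
        intro m hm L hL hne hAL hmL
        by_contra hmA
        set C := A ⊔ MulAut.conj m • A with hC
        have hlt : A < C := lt_of_le_of_ne le_sup_left fun e =>
          hmA (conj_smul_eq_of_le (le_sup_right.trans e.ge) le_rfl)
        have hmm : MulAut.conj m • N = N :=
          conj_smul_self_of_mem_normalizer (Subgroup.le_normalizer hm)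
        have hmN : MulAut.conj m • A ≤ N := (conj_smul_mono m hAN).trans hmm.le
        have hCN : C ≤ N := sup_le hAN hmN
        have hYC : genJoin C ≠ ⊤ := by
          refine fun e => hN.1 (top_le_iff.1 (e.ge.trans (sSup_le ?_)))
          rintro H ⟨hCH, hH, hg⟩
          by_contra hHN
          have h1 := hsn H hH (le_sup_left.trans hCH) hHN
          have h2 : SnIn (MulAut.conj m • A) H := by
            have hHm : MulAut.conj m⁻¹ • H ≠ ⊤ := fun e => hH (conj_smul_eq_top_iff.1 e)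
            have hAH : A ≤ MulAut.conj m⁻¹ • H := by
              have := conj_smul_mono m⁻¹ (le_sup_right.trans hCH)
              rwa [inv_smul_conj] at this
            have hHN' : ¬ MulAut.conj m⁻¹ • H ≤ N := fun h => hHN (by
              have := conj_smul_mono m h
              rwa [smul_conj_inv, hmm] at this)
            have := (hsn _ hHm hAH hHN').conj m
            rwa [smul_conj_inv] at this
          have := eq_of_snIn_selfGen (h1.sup h2) hg
          exact hHN (this ▸ hCN)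
        exact hne (ih _ (hn ▸ Subgroup.index_strictAnti hlt) C rfl (hnc C le_sup_left) hYC L N hL
          hN (sup_le hAL hmL) hCN) }
    rw [c.eq_of_coatom hM₁ hA₁, c.eq_of_coatom hM₂ hA₂]

end CfsgLib.PGroup.ZipperJoin
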